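import Mathlib.Algebra.Category.ModuleCat.InjectiveDimension
import Mathlib.Algebra.Category.ModuleCat.Ext.Finite
import Mathlib.Algebra.Category.ModuleCat.Ext.Basic
import Mathlib.RingTheory.Ideal.AssociatedPrime.Finiteness
import Mathlib.RingTheory.Support
import Mathlib.RingTheory.Nakayama
import Mathlib.RingTheory.Regular.Category
import Mathlib.RingTheory.LocalRing.ResidueField.Basic
import Mathlib.Tactic

set_option autoImplicit false
universe u

namespace Groth.Agent.Lib.Helper4.InjDim

open CategoryTheory CategoryTheory.Abelian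

variable {R : Type u} [CommRing R]

theorem ext_eq_zero_of_subsingleton_left {X Y : ModuleCat.{u} R} [Subsingleton X] {n : ℕ}
    (x : Ext X Y n) : x = 0 := by
  have h0 : 𝟙 X = 0 := by
    ext a
    exact Subsingleton.elim _ _
  have : x = (Ext.mk₀ (𝟙 X)).comp x (zero_add n) := by simp
  rw [this, h0]
  simp

theorem ext_subsingleton_of_iso {X X' Y : ModuleCat.{u} R} (e : X ≅ X') {n : ℕ}
    (h : Subsingleton (Ext X' Y n)) : Subsingleton (Ext X Y n) := by
  refine ⟨fun a b => ?_⟩
  suffices h : ∀ x : Ext X Y n, x = 0 by rw [h a, h b]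
  intro x
  have : x = (Ext.mk₀ e.hom).comp ((Ext.mk₀ e.inv).comp x (zero_add n)) (zero_add n) := by
    rw [← Ext.comp_assoc_of_second_deg_zero, Ext.mk₀_comp_mk₀, e.hom_inv_id]
    simp
  rw [this, Subsingleton.elim ((Ext.mk₀ e.inv).comp x (zero_add n)) 0, Ext.comp_zero]

theorem ext_subsingleton_of_iso_right {X Y Y' : ModuleCat.{u} R} (e : Y ≅ Y') {n : ℕ}
    (h : Subsingleton (Ext X Y' n)) : Subsingleton (Ext X Y n) := by
  refine ⟨fun a b => ?_⟩
  suffices h : ∀ x : Ext X Y n, x = 0 by rw [h a, h b]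
  intro x
  have : x = (x.comp (Ext.mk₀ e.hom) (add_zero n)).comp (Ext.mk₀ e.inv) (add_zero n) := by
    rw [Ext.comp_assoc_of_third_deg_zero, Ext.mk₀_comp_mk₀, e.hom_inv_id]
    simp
  rw [this, Subsingleton.elim (x.comp (Ext.mk₀ e.hom) (add_zero n)) 0, Ext.zero_comp]

theorem injective_of_ext_one_quotient (M : ModuleCat.{u} R)
    (h : ∀ I : Ideal R, Subsingleton (Ext (ModuleCat.of R (R ⧸ I)) M 1)) : Injective M := by
  have hB : Module.Baer R M := by
    intro I g
    let S : ShortComplex (ModuleCat.{u} R) :=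
      ModuleCat.shortComplexOfCompEqZero I.subtype (Submodule.mkQ I)
        (by ext x; simpa using Ideal.Quotient.eq_zero_iff_mem.mpr x.2)
    have hS : S.ShortExact := by
      refine ModuleCat.shortComplex_shortExact S ?_ ?_ ?_
      · intro x
        change (Submodule.mkQ I) x = 0 ↔ x ∈ Set.range I.subtype
        simpa using Ideal.Quotient.eq_zero_iff_mem
      · exact Subtype.val_injective
      · exact Submodule.mkQ_surjective I
    have h1 : hS.extClass.comp (Ext.mk₀ (ModuleCat.ofHom g)) (add_zero 1) = 0 := by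
      have := h I
      exact Subsingleton.elim (α := Ext (ModuleCat.of R (R ⧸ I)) M 1) _ _
    obtain ⟨x₂, hx₂⟩ := Ext.contravariant_sequence_exact₁ hS M (Ext.mk₀ (ModuleCat.ofHom g))
      (add_zero 1) h1
    obtain ⟨g', rfl⟩ := (Ext.mk₀_bijective _ _).2 x₂
    rw [Ext.mk₀_comp_mk₀] at hx₂
    have h2 := (Ext.mk₀_bijective _ _).1 hx₂
    refine ⟨g'.hom, fun x hx => ?_⟩
    have h3 := congrArg (fun t => t.hom ⟨x, hx⟩) h2
    simpa [S] using h3
  have := hB.injective
  exact (Module.injective_iff_injective_object R M).mp this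

theorem hasInjectiveDimensionLT_of_ext_quotient (n : ℕ) (M : ModuleCat.{u} R)
    (h : ∀ I : Ideal R, Subsingleton (Ext (ModuleCat.of R (R ⧸ I)) M (n + 1))) :
    HasInjectiveDimensionLT M (n + 1) := by
  induction n generalizing M with
  | zero =>
    have := injective_of_ext_one_quotient M h
    infer_instance
  | succ n ih =>
    let ⟨I, _, f, _⟩ := EnoughInjectives.presentation M
    have injf : Function.Injective f.hom := (ModuleCat.mono_iff_injective f).mp ‹_›
    let S : ShortComplex (ModuleCat.{u} R) :=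
      ModuleCat.shortComplexOfCompEqZero _ _ f.hom.exact_map_mkQ_range.linearMap_comp_eq_zero
    have exactS : S.ShortExact := ModuleCat.shortComplex_shortExact S
      f.hom.exact_map_mkQ_range injf (Submodule.mkQ_surjective _)
    have hI : Injective S.X₂ := ‹Injective I›
    refine (exactS.hasInjectiveDimensionLT_X₃_iff n hI).mp ?_
    apply ih
    intro J
    refine ⟨fun a b => ?_⟩
    suffices h : ∀ x : Ext (ModuleCat.of R (R ⧸ J)) S.X₃ (n + 1), x = 0 by rw [h a, h b]
    intro x
    obtain ⟨x₂, hx₂⟩ := Ext.covariant_sequence_exact₃ _ exactS x rfl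
      (Subsingleton.elim (h := h J) _ _)
    rw [← hx₂, Ext.eq_zero_of_injective x₂, Ext.zero_comp]

theorem ext_subsingleton_of_support [IsNoetherianRing R] (M : ModuleCat.{u} R) (n : ℕ)
    (N : Type u) [AddCommGroup N] [Module R N] [Module.Finite R N]
    (h : ∀ q ∈ Module.support R N,
      Subsingleton (Ext (ModuleCat.of R (R ⧸ q.asIdeal)) M n)) :
    Subsingleton (Ext (ModuleCat.of R N) M n) := by
  induction ‹Module.Finite R N› using
    IsNoetherianRing.induction_on_isQuotientEquivQuotientPrime R with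
  | subsingleton N =>
    exact ⟨fun a b => by
      rw [ext_eq_zero_of_subsingleton_left (X := ModuleCat.of R N) a,
        ext_eq_zero_of_subsingleton_left (X := ModuleCat.of R N) b]⟩
  | quotient N p f =>
    refine ext_subsingleton_of_iso f.toModuleIso (h p ?_)
    rw [f.support_eq, Module.support_eq_zeroLocus, Ideal.annihilator_quotient]
    exact (PrimeSpectrum.mem_zeroLocus _ _).mpr (le_refl _)
  | exact N₁ N₂ N₃ f g hf hg hfg h₁ h₃ =>
    have hsupp := Module.support_of_exact hfg hf hg
    have s1 := h₁ (fun q hq => h q (by rw [hsupp]; exact Or.inl hq))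
    have s3 := h₃ (fun q hq => h q (by rw [hsupp]; exact Or.inr hq))
    let S : ShortComplex (ModuleCat.{u} R) :=
      ModuleCat.shortComplexOfCompEqZero f g hfg.linearMap_comp_eq_zero
    have hS : S.ShortExact := ModuleCat.shortComplex_shortExact S hfg hf hg
    refine ⟨fun a b => ?_⟩
    suffices h : ∀ x : Ext (ModuleCat.of R N₂) M n, x = 0 by rw [h a, h b]
    intro x
    obtain ⟨x₁, hx₁⟩ := Ext.contravariant_sequence_exact₂ hS M x (Subsingleton.elim (h := s1) _ _)
    rw [← hx₁, Subsingleton.elim (h := s3) x₁ 0, Ext.comp_zero]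

theorem isSMulRegular_quotient_prime (p : Ideal R) [p.IsPrime] {x : R} (hx : x ∉ p) :
    IsSMulRegular (R ⧸ p) x := by
  intro a b hab
  obtain ⟨a, rfl⟩ := Ideal.Quotient.mk_surjective a
  obtain ⟨b, rfl⟩ := Ideal.Quotient.mk_surjective b
  simp only [smul_eq_mul, Algebra.smul_def, Ideal.Quotient.algebraMap_eq, ← map_mul] at hab
  rw [Ideal.Quotient.eq] at hab ⊢
  rw [← mul_sub] at hab
  exact (Ideal.IsPrime.mem_or_mem ‹_› hab).resolve_left hx

theorem ext_quotient_prime_subsingleton [IsNoetherianRing R] [IsLocalRing R]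
    (M : ModuleCat.{u} R) [Module.Finite R M] (p : Ideal R) [p.IsPrime]
    (hp : p ≠ IsLocalRing.maximalIdeal R) (i : ℕ)
    (h : ∀ q : Ideal R, q.IsPrime → p < q →
      Subsingleton (Ext (ModuleCat.of R (R ⧸ q)) M (i + 1))) :
    Subsingleton (Ext (ModuleCat.of R (R ⧸ p)) M i) := by
  obtain ⟨x, hxm, hxp⟩ : ∃ x ∈ IsLocalRing.maximalIdeal R, x ∉ p := by
    by_contra hcon
    push Not at hcon
    exact hp (le_antisymm (IsLocalRing.le_maximalIdeal (Ideal.IsPrime.ne_top ‹_›)) hcon)
  have hreg : IsSMulRegular (R ⧸ p) x := isSMulRegular_quotient_prime p hxp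
  let S := (ModuleCat.of R (R ⧸ p)).smulShortComplex x
  have hS : S.ShortExact := hreg.smulShortComplex_shortExact
  have h3 : Subsingleton (Ext S.X₃ M (i + 1)) := by
    apply ext_subsingleton_of_support M (i + 1) (QuotSMulTop x (R ⧸ p))
    intro q hq
    rw [Module.support_quotSMulTop, Module.support_eq_zeroLocus, Ideal.annihilator_quotient] at hq
    obtain ⟨hq1, hq2⟩ := hq
    rw [PrimeSpectrum.mem_zeroLocus] at hq1 hq2
    refine h q.asIdeal q.2 (lt_of_le_of_ne hq1 ?_)
    intro heq
    apply hxp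
    rw [heq]
    exact hq2 (Set.mem_singleton x)
  let E := Ext (ModuleCat.of R (R ⧸ p)) M i
  have hle : (⊤ : Submodule R E) ≤ IsLocalRing.maximalIdeal R • (⊤ : Submodule R E) := by
    intro e _
    obtain ⟨e₂, he₂⟩ := Ext.contravariant_sequence_exact₁ hS M e (add_comm 1 i)
      (Subsingleton.elim (h := h3) _ _)
    have : e = x • e₂ := by
      rw [← he₂]
      change (Ext.mk₀ (x • 𝟙 (ModuleCat.of R (R ⧸ p)))).comp e₂ (zero_add i) = x • e₂
      simp [Ext.mk₀_smul]
      rfl
    rw [this]
    exact Submodule.smul_mem_smul hxm Submodule.mem_top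
  have hbot := Submodule.eq_bot_of_le_smul_of_le_jacobson_bot (IsLocalRing.maximalIdeal R)
    (⊤ : Submodule R E) Module.Finite.fg_top hle
    (by rw [IsLocalRing.jacobson_eq_maximalIdeal ⊥ bot_ne_top])
  refine ⟨fun a b => ?_⟩
  have ha : a ∈ (⊤ : Submodule R E) := Submodule.mem_top
  have hb : b ∈ (⊤ : Submodule R E) := Submodule.mem_top
  rw [hbot, Submodule.mem_bot] at ha hb
  rw [ha, hb]

theorem ext_quotient_prime_subsingleton_of_maximal [IsNoetherianRing R] [IsLocalRing R]
    (M : ModuleCat.{u} R) [Module.Finite R M] (N : ℕ)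
    (h : ∀ i : ℕ, N ≤ i →
      Subsingleton (Ext (ModuleCat.of R (R ⧸ IsLocalRing.maximalIdeal R)) M i))
    (p : Ideal R) [hp : p.IsPrime] (i : ℕ) (hi : N ≤ i) :
    Subsingleton (Ext (ModuleCat.of R (R ⧸ p)) M i) := by
  suffices H : ∀ p : Ideal R, p.IsPrime → ∀ i : ℕ, N ≤ i →
      Subsingleton (Ext (ModuleCat.of R (R ⧸ p)) M i) from H p hp i hi
  intro p
  induction p using WellFoundedGT.induction with
  | ind p ih =>
    intro hp i hi
    by_cases hpm : p = IsLocalRing.maximalIdeal R
    · subst hpm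
      exact h i hi
    · exact ext_quotient_prime_subsingleton M p hpm i
        (fun q hq hpq => ih q hpq hq (i + 1) (by omega))

theorem hasInjectiveDimensionLT_of_ext_residue [IsNoetherianRing R] [IsLocalRing R]
    (M : ModuleCat.{u} R) [Module.Finite R M] (N : ℕ)
    (h : ∀ i : ℕ, N ≤ i →
      Subsingleton (Ext (ModuleCat.of R (R ⧸ IsLocalRing.maximalIdeal R)) M i)) :
    HasInjectiveDimensionLT M (N + 1) := by
  apply hasInjectiveDimensionLT_of_ext_quotient
  intro I
  apply ext_subsingleton_of_support M (N + 1) (R ⧸ I)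
  intro q _
  exact ext_quotient_prime_subsingleton_of_maximal M N h q.asIdeal (N + 1) (by omega)

theorem ext_subsingleton_of_ext_residue [IsNoetherianRing R] [IsLocalRing R]
    (M : ModuleCat.{u} R) [Module.Finite R M] (N : ℕ)
    (h : ∀ i : ℕ, N ≤ i →
      Subsingleton (Ext (ModuleCat.of R (R ⧸ IsLocalRing.maximalIdeal R)) M i))
    (X : Type u) [AddCommGroup X] [Module R X] [Module.Finite R X] (i : ℕ) (hi : N ≤ i) :
    Subsingleton (Ext (ModuleCat.of R X) M i) := by
  apply ext_subsingleton_of_support M i X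
  intro q _
  exact ext_quotient_prime_subsingleton_of_maximal M N h q.asIdeal i hi

theorem hasInjectiveDimensionLT_of_ext_residue' [IsNoetherianRing R] [IsLocalRing R]
    (M : ModuleCat.{u} R) [Module.Finite R M] (n : ℕ)
    (h : ∀ i : ℕ, n + 1 ≤ i →
      Subsingleton (Ext (ModuleCat.of R (R ⧸ IsLocalRing.maximalIdeal R)) M i)) :
    HasInjectiveDimensionLT M (n + 1) := by
  apply hasInjectiveDimensionLT_of_ext_quotient
  intro I
  apply ext_subsingleton_of_support M (n + 1) (R ⧸ I)
  intro q _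
  exact ext_quotient_prime_subsingleton_of_maximal M (n + 1) h q.asIdeal (n + 1) le_rfl

end Groth.Agent.Lib.Helper4.InjDim
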