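import Mathlib.Algebra.Homology.DerivedCategory.Ext.ExactSequences
import Mathlib.Algebra.Homology.DerivedCategory.Ext.EnoughInjectives
import Mathlib.Algebra.Homology.DerivedCategory.Ext.Map
import Mathlib.CategoryTheory.Adjunction.Basic

set_option autoImplicit false
universe w w' v v' u u'
open CategoryTheory CategoryTheory.Limits

namespace Groth.Agent.Lib.Helper4.ExtAdj
open Abelian

section InjSC

variable {B : Type u} [Category.{v} B] [Abelian B] [EnoughInjectives B]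

noncomputable def injSC (F : B) : ShortComplex B :=
  ShortComplex.mk (Injective.ι F) (cokernel.π (Injective.ι F)) (cokernel.condition _)

theorem injSC_shortExact (F : B) : (injSC F).ShortExact := by
  have : Mono (injSC F).f := inferInstanceAs (Mono (Injective.ι F))
  have : Epi (injSC F).g := inferInstanceAs (Epi (cokernel.π (Injective.ι F)))
  exact ShortComplex.ShortExact.mk (ShortComplex.exact_of_g_is_cokernel _ (cokernelIsCokernel _))

instance (F : B) : Injective (injSC F).X₂ := inferInstanceAs (Injective (Injective.under F))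

end InjSC

section Adj

variable {A : Type u} [Category.{v} A] [Abelian A] [HasExt.{w} A]
  {B : Type u'} [Category.{v'} B] [Abelian B] [HasExt.{w'} B] [EnoughInjectives B]
  {L : A ⥤ B} {R : B ⥤ A} (adj : L ⊣ R) [R.Additive] [PreservesFiniteLimits R]
  [PreservesFiniteColimits R]

noncomputable def Θ (A₀ : A) (F : B) (n : ℕ) (e : Ext.{w'} (L.obj A₀) F n) : Ext.{w} A₀ (R.obj F) n :=
  (Ext.mk₀ (adj.unit.app A₀)).comp (e.mapExactFunctor R) (zero_add n)

theorem Θ_add (A₀ : A) (F : B) (n : ℕ) (e e' : Ext.{w'} (L.obj A₀) F n) :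
    Θ adj A₀ F n (e + e') = Θ adj A₀ F n e + Θ adj A₀ F n e' := by
  unfold Θ
  rw [Ext.mapExactFunctor_add, Ext.comp_add]

noncomputable def ΘHom (A₀ : A) (F : B) (n : ℕ) :
    Ext.{w'} (L.obj A₀) F n →+ Ext.{w} A₀ (R.obj F) n :=
  AddMonoidHom.mk' (Θ adj A₀ F n) (Θ_add adj A₀ F n)

theorem Θ_zero_deg (A₀ : A) (F : B) (φ : L.obj A₀ ⟶ F) :
    Θ adj A₀ F 0 (Ext.mk₀ φ) = Ext.mk₀ (adj.homEquiv A₀ F φ) := by
  unfold Θ
  rw [Ext.mapExactFunctor_mk₀, Ext.mk₀_comp_mk₀, Adjunction.homEquiv_unit]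

theorem Θ_comp_mk₀ (A₀ : A) {F G : B} (φ : F ⟶ G) (n : ℕ) (e : Ext.{w'} (L.obj A₀) F n) :
    Θ adj A₀ G n (e.comp (Ext.mk₀ φ) (add_zero n)) =
      (Θ adj A₀ F n e).comp (Ext.mk₀ (R.map φ)) (add_zero n) := by
  unfold Θ
  rw [Ext.mapExactFunctor_comp, Ext.mapExactFunctor_mk₀, Ext.comp_assoc_of_third_deg_zero]

theorem Θ_comp_extClass (A₀ : A) (S : ShortComplex B) (hS : S.ShortExact) (n : ℕ)
    (e : Ext.{w'} (L.obj A₀) S.X₃ n) :
    Θ adj A₀ S.X₁ (n + 1) (e.comp hS.extClass rfl) =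
      (Θ adj A₀ S.X₃ n e).comp (hS.map_of_exact R).extClass rfl := by
  unfold Θ
  rw [Ext.mapExactFunctor_comp, Ext.mapExactFunctor_extClass]
  exact (Ext.comp_assoc _ _ _ (zero_add n) rfl (by omega)).symm

theorem Θ_mk₀_comp (A₀ A₁ : A) (ψ : A₁ ⟶ A₀) (F : B) (n : ℕ) (e : Ext.{w'} (L.obj A₀) F n) :
    Θ adj A₁ F n ((Ext.mk₀ (L.map ψ)).comp e (zero_add n)) =
      (Ext.mk₀ ψ).comp (Θ adj A₀ F n e) (zero_add n) := by
  unfold Θ
  rw [Ext.mapExactFunctor_comp, Ext.mapExactFunctor_mk₀]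
  rw [← Ext.comp_assoc_of_second_deg_zero, ← Ext.comp_assoc_of_second_deg_zero]
  rw [Ext.mk₀_comp_mk₀, Ext.mk₀_comp_mk₀]
  congr 2
  exact (adj.unit.naturality ψ).symm

theorem Θ_zero_bijective (A₀ : A) (F : B) : Function.Bijective (Θ adj A₀ F 0) := by
  constructor
  · intro x x' h
    obtain ⟨g, rfl⟩ := (Ext.mk₀_bijective _ _).2 x
    obtain ⟨g', rfl⟩ := (Ext.mk₀_bijective _ _).2 x'
    rw [Θ_zero_deg, Θ_zero_deg] at h
    rw [(adj.homEquiv A₀ F).injective ((Ext.mk₀_bijective _ _).1 h)]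
  · intro y
    obtain ⟨k, rfl⟩ := (Ext.mk₀_bijective _ _).2 y
    refine ⟨Ext.mk₀ ((adj.homEquiv A₀ F).symm k), ?_⟩
    rw [Θ_zero_deg, Equiv.apply_symm_apply]

theorem Θ_map_zero (A₀ : A) (F : B) (n : ℕ) : Θ adj A₀ F n 0 = 0 := by
  unfold Θ
  rw [Ext.mapExactFunctor_zero, Ext.comp_zero]

theorem Θ_succ_bijective (hinj : ∀ I : B, Injective I → Injective (R.obj I)) (A₀ : A) (n : ℕ)
    (IH : ∀ G : B, Function.Bijective (Θ adj A₀ G n)) (F : B) :
    Function.Bijective (Θ adj A₀ F (n + 1)) := by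
  let S := injSC F
  have hS : S.ShortExact := injSC_shortExact F
  have hS' : (S.map R).ShortExact := hS.map_of_exact R
  have hI := IH S.X₂
  have hQ := IH S.X₃
  have hinjI : Injective ((S.map R).X₂) := hinj S.X₂ inferInstance
  constructor
  · change Function.Injective (ΘHom adj A₀ F (n + 1))
    rw [injective_iff_map_eq_zero]
    intro x hx
    change Θ adj A₀ F (n + 1) x = 0 at hx
    have hx0 : x.comp (Ext.mk₀ S.f) (add_zero (n + 1)) = 0 := Ext.eq_zero_of_injective _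
    obtain ⟨z', hz'⟩ := Ext.covariant_sequence_exact₁ _ hS x hx0 rfl
    have h1 : (Θ adj A₀ S.X₃ n z').comp hS'.extClass rfl = 0 := by
      rw [← Θ_comp_extClass adj A₀ S hS n z', hz']
      exact hx
    obtain ⟨w, hw⟩ := Ext.covariant_sequence_exact₃ _ hS' (Θ adj A₀ S.X₃ n z') rfl h1
    obtain ⟨w', rfl⟩ := hI.2 w
    have h2 : z' = w'.comp (Ext.mk₀ S.g) (add_zero n) := by
      apply hQ.1
      rw [← hw]
      exact (Θ_comp_mk₀ adj A₀ S.g n w').symm
    rw [← hz', h2, Ext.comp_assoc_of_second_deg_zero]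
    exact (congrArg (fun e => Ext.comp w' e rfl) hS.comp_extClass).trans
      (Ext.comp_zero _ _ _ _ _)
  · intro y
    have hy0 : y.comp (Ext.mk₀ (S.map R).f) (add_zero (n + 1)) = 0 := Ext.eq_zero_of_injective _
    obtain ⟨z, hz⟩ := Ext.covariant_sequence_exact₁ _ hS' y hy0 rfl
    obtain ⟨z', rfl⟩ := hQ.2 z
    exact ⟨z'.comp hS.extClass rfl, (Θ_comp_extClass adj A₀ S hS n z').trans hz⟩

theorem Θ_bijective (hinj : ∀ I : B, Injective I → Injective (R.obj I)) (A₀ : A) (n : ℕ) (F : B) :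
    Function.Bijective (Θ adj A₀ F n) := by
  induction n generalizing F with
  | zero => exact Θ_zero_bijective adj A₀ F
  | succ n IH => exact Θ_succ_bijective adj hinj A₀ n IH F

noncomputable def ΘEquiv (hinj : ∀ I : B, Injective I → Injective (R.obj I)) (A₀ : A) (F : B)
    (n : ℕ) : Ext.{w'} (L.obj A₀) F n ≃+ Ext.{w} A₀ (R.obj F) n :=
  AddEquiv.ofBijective (ΘHom adj A₀ F n) (Θ_bijective adj hinj A₀ n F)

theorem ΘEquiv_apply (hinj : ∀ I : B, Injective I → Injective (R.obj I)) (A₀ : A) (F : B)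
    (n : ℕ) (e : Ext.{w'} (L.obj A₀) F n) : ΘEquiv adj hinj A₀ F n e = Θ adj A₀ F n e := rfl

end Adj

section Nat

variable {A : Type u} [Category.{v} A] [Abelian A] [HasExt.{w} A] [EnoughInjectives A]
  {B : Type u'} [Category.{v'} B] [Abelian B] [HasExt.{w'} B]
  {C : Type*} [Category C] [Abelian C] [HasExt.{w'} C]
  (G₁ : A ⥤ B) [G₁.Additive] [PreservesFiniteLimits G₁] [PreservesFiniteColimits G₁]
  (G₃ : B ⥤ C) [G₃.Additive] [PreservesFiniteLimits G₃] [PreservesFiniteColimits G₃]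
  (G₄ : A ⥤ C) [G₄.Additive] [PreservesFiniteLimits G₄] [PreservesFiniteColimits G₄]
  (τ : G₁ ⋙ G₃ ⟶ G₄)

noncomputable def natSC (S : ShortComplex A) : (S.map G₁).map G₃ ⟶ S.map G₄ where
  τ₁ := τ.app S.X₁
  τ₂ := τ.app S.X₂
  τ₃ := τ.app S.X₃
  comm₁₂ := (τ.naturality S.f).symm
  comm₂₃ := (τ.naturality S.g).symm

theorem mapExactFunctor_comp_nat_step (A₀ : A) (n : ℕ) (S : ShortComplex A) (hS : S.ShortExact)
    (z : Ext.{w} A₀ S.X₃ n)
    (IH : ((z.mapExactFunctor G₁).mapExactFunctor G₃).comp (Ext.mk₀ (τ.app S.X₃)) (add_zero n) =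
      (Ext.mk₀ (τ.app A₀)).comp (z.mapExactFunctor G₄) (zero_add n)) :
    (((z.comp hS.extClass rfl).mapExactFunctor G₁).mapExactFunctor G₃).comp
        (Ext.mk₀ (τ.app S.X₁)) (add_zero (n + 1)) =
      (Ext.mk₀ (τ.app A₀)).comp ((z.comp hS.extClass rfl).mapExactFunctor G₄)
        (zero_add (n + 1)) := by
  have hS₁ : ((S.map G₁).map G₃).ShortExact := (hS.map_of_exact G₁).map_of_exact G₃
  have hS₄ : (S.map G₄).ShortExact := hS.map_of_exact G₄
  have hnat := ShortComplex.ShortExact.extClass_naturality hS₁ hS₄ (natSC G₁ G₃ G₄ τ S)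
  have e1 : ((z.comp hS.extClass rfl).mapExactFunctor G₁).mapExactFunctor G₃ =
      ((z.mapExactFunctor G₁).mapExactFunctor G₃).comp hS₁.extClass rfl := by
    rw [Ext.mapExactFunctor_comp, Ext.mapExactFunctor_extClass]
    erw [Ext.mapExactFunctor_comp, Ext.mapExactFunctor_extClass]
    rfl
  have e4 : (z.comp hS.extClass rfl).mapExactFunctor G₄ =
      (z.mapExactFunctor G₄).comp hS₄.extClass rfl := by
    rw [Ext.mapExactFunctor_comp, Ext.mapExactFunctor_extClass]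
    rfl
  have h1 : hS₁.extClass.comp (Ext.mk₀ (τ.app S.X₁)) (add_zero 1) =
      (Ext.mk₀ (τ.app S.X₃)).comp hS₄.extClass (zero_add 1) := hnat
  have step1 : (((z.mapExactFunctor G₁).mapExactFunctor G₃).comp hS₁.extClass rfl).comp
      (Ext.mk₀ (τ.app S.X₁)) (add_zero (n + 1)) =
      ((z.mapExactFunctor G₁).mapExactFunctor G₃).comp
        (hS₁.extClass.comp (Ext.mk₀ (τ.app S.X₁)) (add_zero 1)) rfl :=
    Ext.comp_assoc_of_third_deg_zero _ _ _ _
  have step2 : ((z.mapExactFunctor G₁).mapExactFunctor G₃).comp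
      ((Ext.mk₀ (τ.app S.X₃)).comp hS₄.extClass (zero_add 1)) rfl =
      (((z.mapExactFunctor G₁).mapExactFunctor G₃).comp (Ext.mk₀ (τ.app S.X₃))
        (add_zero n)).comp hS₄.extClass rfl :=
    (Ext.comp_assoc_of_second_deg_zero _ _ _ _).symm
  have step3 : ((Ext.mk₀ (τ.app A₀)).comp (z.mapExactFunctor G₄) (zero_add n)).comp
      hS₄.extClass rfl =
      (Ext.mk₀ (τ.app A₀)).comp ((z.mapExactFunctor G₄).comp hS₄.extClass rfl)
        (zero_add (n + 1)) :=
    Ext.comp_assoc _ _ _ (zero_add n) rfl (by omega)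
  rw [e1, e4]
  exact step1.trans ((congrArg
    (fun t => Ext.comp ((z.mapExactFunctor G₁).mapExactFunctor G₃) t rfl) h1).trans
    (step2.trans ((congrArg (fun t => Ext.comp t hS₄.extClass rfl) IH).trans step3)))

theorem mapExactFunctor_comp_nat (A₀ : A) (n : ℕ) (F : A) (e : Ext.{w} A₀ F n) :
    ((e.mapExactFunctor G₁).mapExactFunctor G₃).comp (Ext.mk₀ (τ.app F)) (add_zero n) =
      (Ext.mk₀ (τ.app A₀)).comp (e.mapExactFunctor G₄) (zero_add n) := by
  induction n generalizing F with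
  | zero =>
    obtain ⟨φ, rfl⟩ := (Ext.mk₀_bijective _ _).2 e
    rw [Ext.mapExactFunctor_mk₀, Ext.mapExactFunctor_mk₀, Ext.mapExactFunctor_mk₀,
      Ext.mk₀_comp_mk₀, Ext.mk₀_comp_mk₀]
    congr 1
    exact τ.naturality φ
  | succ n IH =>
    let S := injSC F
    have hS : S.ShortExact := injSC_shortExact F
    have he0 : e.comp (Ext.mk₀ S.f) (add_zero (n + 1)) = 0 := Ext.eq_zero_of_injective _
    obtain ⟨z, hz⟩ := Ext.covariant_sequence_exact₁ _ hS e he0 rfl
    have key := mapExactFunctor_comp_nat_step G₁ G₃ G₄ τ A₀ n S hS z (IH S.X₃ z)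
    rw [hz] at key
    exact key

end Nat

end Groth.Agent.Lib.Helper4.ExtAdj
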