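import Groth.Agent.Lib.Helper4.Gor
import Groth.Agent.Lib.Helper67.CM
import Mathlib.RingTheory.KrullDimension.Regular
import Mathlib.RingTheory.KrullDimension.Module
import Mathlib.RingTheory.Ideal.AssociatedPrime.Localization
import Groth.Agent.Lib.Helper76.ExtDetect
import Mathlib.RingTheory.Regular.ProjectiveDimension
import Mathlib.Tactic

set_option autoImplicit false
universe u

namespace Groth.Agent.Lib.Helper4.GorCM

open CategoryTheory CategoryTheory.Abelian Groth.Agent.Lib.Helper4.InjDim
  Groth.Agent.Lib.Helper4.Rees Groth.Agent.Lib.Helper4.Gor Groth.Agent.Lib.Helper67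
  RingTheory.Sequence

open scoped Pointwise

section DepthQuot

variable (A : Type u) [CommRing A] [IsLocalRing A]

theorem depth_quotient (I : Ideal A) [IsLocalRing (A ⧸ I)] :
    LocCoh.depth (A ⧸ I) (A ⧸ I) = LocCoh.depth A (A ⧸ I) := by
  have hloc : IsLocalHom (Ideal.Quotient.mk I) :=
    Function.Surjective.isLocalHom _ Ideal.Quotient.mk_surjective
  have hmem : ∀ r : A, r ∈ IsLocalRing.maximalIdeal A ↔
      Ideal.Quotient.mk I r ∈ IsLocalRing.maximalIdeal (A ⧸ I) := by
    intro r
    rw [IsLocalRing.mem_maximalIdeal, IsLocalRing.mem_maximalIdeal, mem_nonunits_iff,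
      mem_nonunits_iff, isUnit_map_iff]
  have key : ∀ n : ℕ, (n : ℕ∞) ≤ LocCoh.depth (A ⧸ I) (A ⧸ I) ↔
      (n : ℕ∞) ≤ LocCoh.depth A (A ⧸ I) := by
    intro n
    rw [LocCoh.depth, LocCoh.depth, le_idealDepth_iff, le_idealDepth_iff]
    have h1 := maximalIdeal_smul_top_ne_top (R := A ⧸ I) (A ⧸ I)
    have h2 := maximalIdeal_smul_top_ne_top (R := A) (A ⧸ I)
    simp only [h1, h2, false_or]
    constructor
    · rintro ⟨rs', hlen, hreg, hmem'⟩
      refine ⟨rs'.map (Function.surjInv Ideal.Quotient.mk_surjective), by simpa using hlen, ?_, ?_⟩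
      · rw [← isWeaklyRegular_map_algebraMap_iff (A ⧸ I) (A ⧸ I)]
        have : (rs'.map (Function.surjInv Ideal.Quotient.mk_surjective)).map
            (algebraMap A (A ⧸ I)) = rs' := by
          rw [List.map_map]
          conv_rhs => rw [← List.map_id rs']
          apply List.map_congr_left
          intro b _
          exact Function.surjInv_eq Ideal.Quotient.mk_surjective b
        rw [this]
        exact hreg
      · intro r hr
        obtain ⟨b, hb, rfl⟩ := List.mem_map.mp hr
        rw [hmem, Function.surjInv_eq Ideal.Quotient.mk_surjective b]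
        exact hmem' b hb
    · rintro ⟨rs, hlen, hreg, hmem'⟩
      refine ⟨rs.map (algebraMap A (A ⧸ I)), by simpa using hlen, ?_, ?_⟩
      · rw [isWeaklyRegular_map_algebraMap_iff (A ⧸ I) (A ⧸ I)]
        exact hreg
      · intro b hb
        obtain ⟨r, hr, rfl⟩ := List.mem_map.mp hb
        exact (hmem r).mp (hmem' r hr)
  apply le_antisymm
  · exact ENat.forall_natCast_le_iff_le.mp fun n hn => (key n).mp hn
  · exact ENat.forall_natCast_le_iff_le.mp fun n hn => (key n).mpr hn

variable [IsNoetherianRing A]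

theorem depth_quot_add_one (f : A) (hfm : f ∈ IsLocalRing.maximalIdeal A)
    (hf : IsSMulRegular A f) [IsLocalRing (A ⧸ Ideal.span {f})] :
    LocCoh.depth (A ⧸ Ideal.span {f}) (A ⧸ Ideal.span {f}) + 1 = LocCoh.depth A A := by
  rw [depth_quotient A (Ideal.span {f}), ← depth_quotSMulTop_add_one A hfm hf]
  congr 1
  apply depth_congr
  exact Submodule.quotEquivOfEq (Ideal.span {f}) (f • (⊤ : Submodule A A))
    (by simp [← Submodule.ideal_span_singleton_smul])

end DepthQuot

section Base

variable (A : Type u) [CommRing A] [IsNoetherianRing A]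

theorem exists_injective_of_mem_associatedPrimes (p : Ideal A) (M : Type u) [AddCommGroup M]
    [Module A M] (hp : p ∈ associatedPrimes A M) :
    ∃ ι : (A ⧸ p) →ₗ[A] M, Function.Injective ι := by
  obtain ⟨_, x, hx⟩ := isAssociatedPrime_iff.mp hp
  have hker : LinearMap.ker (LinearMap.toSpanSingleton A M x) = p := by
    ext r
    rw [hx, LinearMap.mem_ker, LinearMap.toSpanSingleton_apply, Submodule.mem_colon_singleton,
      Submodule.mem_bot]
  refine ⟨Submodule.liftQ p (LinearMap.toSpanSingleton A M x) hker.ge, ?_⟩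
  rw [← LinearMap.ker_eq_bot, Submodule.ker_liftQ, hker]
  simp

variable [IsLocalRing A]

theorem ext_residue_subsingleton_of_depth_zero (hd : LocCoh.depth A A = 0) (k : ℕ)
    (h : HasInjectiveDimensionLT (ModuleCat.of A A) (k + 2)) :
    Subsingleton (Ext (ModuleCat.of A (A ⧸ IsLocalRing.maximalIdeal A)) (ModuleCat.of A A)
      (k + 1)) := by
  have hass := (depth_eq_zero_iff A).mp hd
  obtain ⟨ι, hι⟩ := exists_injective_of_mem_associatedPrimes A _ A hass
  let S : ShortComplex (ModuleCat.{u} A) :=
    ModuleCat.shortComplexOfCompEqZero _ _ ι.exact_map_mkQ_range.linearMap_comp_eq_zero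
  have hS : S.ShortExact := ModuleCat.shortComplex_shortExact S
    ι.exact_map_mkQ_range hι (Submodule.mkQ_surjective _)
  have hproj : Projective S.X₂ := inferInstanceAs (Projective (ModuleCat.of A A))
  refine ⟨fun a b => ?_⟩
  suffices H : ∀ x : Ext S.X₁ (ModuleCat.of A A) (k + 1), x = 0 by exact (H a).trans (H b).symm
  intro x
  obtain ⟨x₂, hx₂⟩ := Ext.contravariant_sequence_exact₁ hS (ModuleCat.of A A) x
    (add_comm 1 (k + 1)) (Ext.eq_zero_of_hasInjectiveDimensionLT _ (k + 2) le_rfl)
  rw [← hx₂, Ext.eq_zero_of_projective x₂, Ext.comp_zero]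

theorem hasInjectiveDimensionLT_one_of_depth_zero
    (hG : ∃ n, HasInjectiveDimensionLT (ModuleCat.of A A) n) (hd : LocCoh.depth A A = 0) :
    HasInjectiveDimensionLT (ModuleCat.of A A) 1 := by
  have step : ∀ k : ℕ, HasInjectiveDimensionLT (ModuleCat.of A A) (k + 2) →
      HasInjectiveDimensionLT (ModuleCat.of A A) (k + 1) := by
    intro k hk
    apply hasInjectiveDimensionLT_of_ext_residue' (ModuleCat.of A A) k
    intro i hi
    rcases Nat.eq_or_lt_of_le hi with rfl | hlt
    · exact ext_residue_subsingleton_of_depth_zero A hd k hk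
    · exact HasInjectiveDimensionLT.subsingleton _ (k + 2) i hlt _
  have desc : ∀ k : ℕ, HasInjectiveDimensionLT (ModuleCat.of A A) (k + 1) →
      HasInjectiveDimensionLT (ModuleCat.of A A) 1 := by
    intro k
    induction k with
    | zero => exact id
    | succ k ih => exact fun hk => ih (step k hk)
  obtain ⟨n, hn⟩ := hG
  exact desc n (hasInjectiveDimensionLT_of_ge _ n (n + 1) (by omega))

theorem ringKrullDim_eq_zero_of_injective
    (h : HasInjectiveDimensionLT (ModuleCat.of A A) 1) : ringKrullDim A = 0 := by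
  have hK : Ring.KrullDimLE 0 A := by
    rw [Ring.krullDimLE_zero_iff_forall_minimalPrimes_isMaximal]
    intro I hI
    have hIp : I.IsPrime := hI.1.1
    have hann : Module.annihilator A A = ⊥ := by
      rw [eq_bot_iff]
      intro r hr
      have := Module.mem_annihilator.mp hr 1
      simpa using this
    have hass : I ∈ associatedPrimes A A := by
      apply Module.associatedPrimes.minimalPrimes_annihilator_subset_associatedPrimes A A
      rw [hann]
      exact hI
    suffices hIm : I = IsLocalRing.maximalIdeal A by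
      rw [hIm]
      exact IsLocalRing.maximalIdeal.isMaximal A
    by_contra hne
    have hsub : Subsingleton (Ext (ModuleCat.of A (A ⧸ I)) (ModuleCat.of A A) 0) :=
      ext_quotient_prime_subsingleton (ModuleCat.of A A) I hne 0
        (fun q _ _ => HasInjectiveDimensionLT.subsingleton _ 1 1 le_rfl _)
    obtain ⟨ι, hι⟩ := exists_injective_of_mem_associatedPrimes A I A hass
    have h0 : Ext.mk₀ (ModuleCat.ofHom ι) = Ext.mk₀ (0 : ModuleCat.of A (A ⧸ I) ⟶ ModuleCat.of A A) :=
      Subsingleton.elim _ _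
    have h1 := (Ext.mk₀_bijective _ _).1 h0
    have h2 : ι 1 = 0 := by
      have := congrArg (fun t => t.hom (1 : A ⧸ I)) h1
      simpa using this
    have h3 : (1 : A ⧸ I) = 0 := hι (by rw [h2, map_zero])
    have : Nontrivial (A ⧸ I) := Ideal.Quotient.nontrivial_iff.mpr hIp.ne_top
    exact one_ne_zero h3
  apply le_antisymm
  · have := hK.krullDim_le
    simpa [ringKrullDim] using this
  · exact ringKrullDim_nonneg_of_nontrivial

end Base

section Main

theorem gor_main (d : ℕ) : ∀ (A : Type u) [CommRing A] [IsLocalRing A] [IsNoetherianRing A],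
    (∃ n, HasInjectiveDimensionLT (ModuleCat.of A A) n) → LocCoh.depth A A = d →
    ringKrullDim A = d ∧ HasInjectiveDimensionLT (ModuleCat.of A A) (d + 1) := by
  induction d with
  | zero =>
    intro A _ _ _ hG hd
    have hd0 : LocCoh.depth A A = 0 := by simpa using hd
    have h1 := hasInjectiveDimensionLT_one_of_depth_zero A hG hd0
    exact ⟨by simpa using ringKrullDim_eq_zero_of_injective A h1, h1⟩
  | succ d ih =>
    intro A _ _ _ hG hd
    have h1 : (1 : ℕ∞) ≤ LocCoh.idealDepth (IsLocalRing.maximalIdeal A) A := by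
      change (1 : ℕ∞) ≤ LocCoh.depth A A
      rw [hd]
      exact_mod_cast Nat.succ_le_succ (Nat.zero_le d)
    rcases (one_le_idealDepth_iff _ _).mp h1 with h | ⟨f, hfm, hf⟩
    · exact absurd h (maximalIdeal_smul_top_ne_top A)
    · have hloc : IsLocalRing (A ⧸ Ideal.span {f}) := quot_isLocalRing f hfm
      obtain ⟨n, hn⟩ := hG
      have hn2 : HasInjectiveDimensionLT (ModuleCat.of A A) (n + 2) :=
        hasInjectiveDimensionLT_of_ge _ n (n + 2) (by omega)
      have hB := hasInjectiveDimensionLT_quot_of_succ f hf n hn2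
      have hdB : LocCoh.depth (A ⧸ Ideal.span {f}) (A ⧸ Ideal.span {f}) = d := by
        have := depth_quot_add_one A f hfm hf
        rw [hd] at this
        have h2 : LocCoh.depth (A ⧸ Ideal.span {f}) (A ⧸ Ideal.span {f}) + 1 =
            ((d : ℕ∞) + 1) := by rw [this]; push_cast; rfl
        exact (ENat.add_left_injective_of_ne_top ENat.one_ne_top) h2
      obtain ⟨hdim, hinj⟩ := ih (A ⧸ Ideal.span {f}) ⟨n + 1, hB⟩ hdB
      refine ⟨?_, hasInjectiveDimensionLT_succ_of_quot f hfm hf d hinj⟩
      rw [← ringKrullDim_quotient_span_singleton_succ_eq_ringKrullDim hf hfm, hdim]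
      push_cast
      rfl

theorem isCohenMacaulayLocalRing_of_gorenstein (A : Type u) [CommRing A]
    [LocCoh.IsGorensteinLocalRing A] : LocCoh.IsCohenMacaulayLocalRing A := by
  have hne : LocCoh.depth A A ≠ ⊤ := depth_ne_top A
  obtain ⟨d, hd⟩ := ENat.ne_top_iff_exists.mp hne
  obtain ⟨hdim, _⟩ := gor_main d A
    (LocCoh.IsGorensteinLocalRing.exists_hasInjectiveDimensionLT) hd.symm
  refine { supportDim_eq_depth := ?_ }
  rw [Module.supportDim_self_eq_ringKrullDim, hdim, ← hd]
  rfl

theorem gorenstein_dim (A : Type u) [CommRing A] [LocCoh.IsGorensteinLocalRing A] :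
    ∃ d : ℕ, ringKrullDim A = d ∧ LocCoh.depth A A = d ∧
      HasInjectiveDimensionLT (ModuleCat.of A A) (d + 1) := by
  have hne : LocCoh.depth A A ≠ ⊤ := depth_ne_top A
  obtain ⟨d, hd⟩ := ENat.ne_top_iff_exists.mp hne
  obtain ⟨hdim, hinj⟩ := gor_main d A
    (LocCoh.IsGorensteinLocalRing.exists_hasInjectiveDimensionLT) hd.symm
  exact ⟨d, hdim, hd.symm, hinj⟩

end Main

section DepthLe

theorem depth_le_of_hasInjectiveDimensionLT (R : Type u) [CommRing R] [IsLocalRing R]
    [IsNoetherianRing R] (m : ℕ) (h : HasInjectiveDimensionLT (ModuleCat.of R R) (m + 1)) :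
    LocCoh.depth R R ≤ m := by
  by_contra hcon
  rw [not_le] at hcon
  have hle : ((m + 1 : ℕ) : ℕ∞) ≤ LocCoh.depth R R := by
    push_cast
    exact Order.add_one_le_of_lt hcon
  obtain ⟨rs, hlen, hreg, _⟩ := exists_isRegular_of_le_depth (R := R) R (m + 1) hle
  have hpd := ModuleCat.projectiveDimension_quotient_eq_length.{u} rs hreg
  rw [hlen] at hpd
  have h1 : HasProjectiveDimensionLT
      (ModuleCat.of R (Shrink.{u} (R ⧸ Ideal.ofList rs))) (m + 1 + 1) := by
    have : projectiveDimension (ModuleCat.of R (Shrink.{u} (R ⧸ Ideal.ofList rs))) ≤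
        ((m + 1 : ℕ) : WithBot ℕ∞) := by rw [hpd]
    exact (projectiveDimension_le_iff _ _).mp this
  have h2 : ¬ HasProjectiveDimensionLT
      (ModuleCat.of R (Shrink.{u} (R ⧸ Ideal.ofList rs))) (m + 1) := by
    rw [← projectiveDimension_ge_iff, hpd]
  have hfin : Module.Finite R (Shrink.{u} (R ⧸ Ideal.ofList rs)) :=
    Module.Finite.equiv (Shrink.linearEquiv R (R ⧸ Ideal.ofList rs)).symm
  have hnt := Groth.Agent.Lib.Helper76.ext_self_nontrivial_of_projectiveDimension
    (Shrink.{u} (R ⧸ Ideal.ofList rs)) (m + 1) h1 h2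
  have hsub := HasInjectiveDimensionLT.subsingleton (ModuleCat.of R R) (m + 1) (m + 1) le_rfl
    (ModuleCat.of R (Shrink.{u} (R ⧸ Ideal.ofList rs)))
  exact not_subsingleton _ hsub

end DepthLe

section Residue

theorem nat_of_ringKrullDim_eq {R : Type u} [CommRing R] {d n : ℕ}
    (h1 : ringKrullDim R = d) (h2 : ringKrullDim R = n) : d = n := by
  rw [h1] at h2
  exact_mod_cast h2

theorem ext_residue_nontrivial (R : Type u) [CommRing R] [LocCoh.IsGorensteinLocalRing R]
    (n : ℕ) (hn : ringKrullDim R = n) :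
    Nontrivial (Ext (ModuleCat.of R (R ⧸ IsLocalRing.maximalIdeal R)) (ModuleCat.of R R) n) := by
  obtain ⟨d, hdim, hdepth, hinj⟩ := gorenstein_dim R
  obtain rfl := nat_of_ringKrullDim_eq hdim hn
  by_contra hnt
  rw [not_nontrivial_iff_subsingleton] at hnt
  rcases Nat.eq_zero_or_pos d with rfl | hpos
  · have hd0 : LocCoh.depth R R = 0 := by simpa using hdepth
    have hass := (depth_eq_zero_iff R).mp hd0
    obtain ⟨ι, hι⟩ := exists_injective_of_mem_associatedPrimes R _ R hass
    have h0 : Ext.mk₀ (ModuleCat.ofHom ι) =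
        Ext.mk₀ (0 : ModuleCat.of R (R ⧸ IsLocalRing.maximalIdeal R) ⟶ ModuleCat.of R R) :=
      Subsingleton.elim _ _
    have h1 := (Ext.mk₀_bijective _ _).1 h0
    have h2 : ι 1 = 0 := by
      have := congrArg (fun t => t.hom (1 : R ⧸ IsLocalRing.maximalIdeal R)) h1
      simpa using this
    have h3 : (1 : R ⧸ IsLocalRing.maximalIdeal R) = 0 := hι (by rw [h2, map_zero])
    have : Nontrivial (R ⧸ IsLocalRing.maximalIdeal R) :=
      Ideal.Quotient.nontrivial_iff.mpr (IsLocalRing.maximalIdeal.isMaximal R).ne_top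
    exact one_ne_zero h3
  · obtain ⟨k, rfl⟩ : ∃ k, d = k + 1 := ⟨d - 1, by omega⟩
    have hk : HasInjectiveDimensionLT (ModuleCat.of R R) (k + 1) := by
      apply hasInjectiveDimensionLT_of_ext_residue' (ModuleCat.of R R) k
      intro i hi
      rcases Nat.eq_or_lt_of_le hi with rfl | hlt
      · exact hnt
      · exact HasInjectiveDimensionLT.subsingleton _ (k + 1 + 1) i hlt _
    have := depth_le_of_hasInjectiveDimensionLT R k hk
    rw [hdepth] at this
    have : k + 1 ≤ k := by exact_mod_cast this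
    omega

end Residue

end Groth.Agent.Lib.Helper4.GorCM
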