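import Mathlib.RingTheory.Henselian
import Mathlib.FieldTheory.IsSepClosed
import Mathlib.FieldTheory.Separable
import Mathlib.Algebra.Polynomial.Lifts
import Mathlib.RingTheory.LocalRing.ResidueField.Basic
import Mathlib.Algebra.Category.Ring.FilteredColimits
import Mathlib.CategoryTheory.Limits.ConcreteCategory.Basic

set_option autoImplicit false
open Polynomial
universe u v w u'

namespace Groth.Agent.Lib.Helper4.StrictHens

section Alg

variable {R : Type u} [CommRing R] {Ω : Type v} [Field Ω] (ε : R →+* Ω)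
  (hU : ∀ a : R, ε a ≠ 0 → IsUnit a)

include hU in
theorem isUnit_iff (a : R) : IsUnit a ↔ ε a ≠ 0 :=
  ⟨fun h => (h.map ε).ne_zero, hU a⟩

include hU in
theorem isLocalRing : IsLocalRing R := by
  have : Nontrivial R := ⟨⟨0, 1, fun h => by
    have := congrArg ε h
    rw [map_zero, map_one] at this
    exact zero_ne_one this⟩⟩
  apply IsLocalRing.of_nonunits_add
  intro a b ha hb
  rw [mem_nonunits_iff, isUnit_iff ε hU, not_not] at ha hb ⊢
  rw [map_add, ha, hb, add_zero]

include hU in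
theorem mem_maximalIdeal_iff [IsLocalRing R] (a : R) :
    a ∈ IsLocalRing.maximalIdeal R ↔ ε a = 0 := by
  rw [IsLocalRing.mem_maximalIdeal, mem_nonunits_iff, isUnit_iff ε hU, not_not]

variable (hK : ∀ (P : R[X]) (ω : Ω), P.Monic → P.eval₂ ε ω = 0 → P.derivative.eval₂ ε ω ≠ 0 →
    ∃ a : R, P.eval a = 0 ∧ ε a = ω)

include hU hK in
theorem henselianLocalRing : HenselianLocalRing R := by
  have hloc : IsLocalRing R := isLocalRing ε hU
  refine { toIsLocalRing := hloc, is_henselian := ?_ }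
  intro f hf a₀ h₁ h₂
  have e1 : f.eval₂ ε (ε a₀) = 0 := by
    rw [Polynomial.eval₂_at_apply]
    exact (mem_maximalIdeal_iff ε hU _).1 h₁
  have e2 : f.derivative.eval₂ ε (ε a₀) ≠ 0 := by
    rw [Polynomial.eval₂_at_apply]
    exact (isUnit_iff ε hU _).1 h₂
  obtain ⟨a, ha, hε⟩ := hK f (ε a₀) hf e1 e2
  refine ⟨a, ha, ?_⟩
  rw [mem_maximalIdeal_iff ε hU, map_sub, hε, sub_self]

include hU hK in
theorem isSepClosed_residueField [IsLocalRing R] [IsSepClosed Ω] :
    IsSepClosed (IsLocalRing.ResidueField R) := by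
  have hlh : IsLocalHom ε := ⟨fun a ha => hU a ha.ne_zero⟩
  let εb : IsLocalRing.ResidueField R →+* Ω := IsLocalRing.ResidueField.lift ε
  have hεb : εb.comp (IsLocalRing.residue R) = ε := IsLocalRing.ResidueField.lift_comp_residue ε
  apply IsSepClosed.of_exists_root
  intro p hpm hpi hps
  have hl : p ∈ Polynomial.lifts (IsLocalRing.residue R) := by
    rw [Polynomial.lifts_iff_coeff_lifts]
    intro n
    exact IsLocalRing.residue_surjective _
  obtain ⟨P, hP, -, hPm⟩ := Polynomial.lifts_and_degree_eq_and_monic hl hpm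
  have hdeg : (p.map εb).degree ≠ 0 := by
    rw [Polynomial.degree_map]
    exact (Polynomial.degree_pos_of_irreducible hpi).ne'
  obtain ⟨ω, hω⟩ := IsSepClosed.exists_root (p.map εb) hdeg hps.map
  have hmap : P.map ε = p.map εb := by
    rw [← hP, Polynomial.map_map, hεb]
  have e1 : P.eval₂ ε ω = 0 := by
    rw [← Polynomial.eval_map, hmap]
    exact hω
  have e2 : P.derivative.eval₂ ε ω ≠ 0 := by
    rw [← Polynomial.eval_map, ← Polynomial.derivative_map, hmap, Polynomial.derivative_map,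
      Polynomial.eval_map]
    apply hps.eval₂_derivative_ne_zero
    rw [← Polynomial.eval_map]
    exact hω
  obtain ⟨a, ha, -⟩ := hK P ω hPm e1 e2
  refine ⟨IsLocalRing.residue R a, ?_⟩
  rw [← hP, Polynomial.eval_map, Polynomial.eval₂_at_apply, ha, map_zero]

end Alg

section Colim
open CategoryTheory CategoryTheory.Limits

variable {J : Type v} [Category.{w} J] [IsFiltered J] (D : J ⥤ CommRingCat.{u}) (c : Cocone D)
  (hc : IsColimit c) [PreservesColimit D (forget CommRingCat.{u})]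

theorem ι_comp_apply {j j' : J} (f : j ⟶ j') (y : D.obj j) :
    (c.ι.app j').hom ((D.map f).hom y) = (c.ι.app j).hom y := by
  have := c.w f
  rw [← this]
  rfl

theorem lifts_mono {j j' : J} (f : j ⟶ j') (P : (c.pt : Type u)[X])
    (h : P ∈ Polynomial.lifts (c.ι.app j).hom) : P ∈ Polynomial.lifts (c.ι.app j').hom := by
  rw [Polynomial.lifts_iff_coeff_lifts] at h ⊢
  intro n
  obtain ⟨y, hy⟩ := h n
  exact ⟨(D.map f).hom y, (ι_comp_apply D c f y).trans hy⟩

include hc in
theorem exists_mem_lifts (P : (c.pt : Type u)[X]) :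
    ∃ j : J, P ∈ Polynomial.lifts (c.ι.app j).hom := by
  induction P using Polynomial.induction_on with
  | C a =>
    obtain ⟨j, y, hy⟩ := Concrete.isColimit_exists_rep D hc a
    exact ⟨j, (Polynomial.lifts (c.ι.app j).hom).mem_carrier.2
      ⟨Polynomial.C y, by rw [Polynomial.coe_mapRingHom, Polynomial.map_C]; exact congrArg _ hy⟩⟩
  | add p q hp hq =>
    obtain ⟨j₁, h₁⟩ := hp
    obtain ⟨j₂, h₂⟩ := hq
    exact ⟨IsFiltered.max j₁ j₂, (Polynomial.lifts _).add_mem
      (lifts_mono D c (IsFiltered.leftToMax j₁ j₂) _ h₁)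
      (lifts_mono D c (IsFiltered.rightToMax j₁ j₂) _ h₂)⟩
  | monomial n a h =>
    obtain ⟨j, hj⟩ := h
    refine ⟨j, ?_⟩
    rw [pow_succ, ← mul_assoc]
    exact (Polynomial.lifts _).mul_mem hj (Polynomial.X_mem_lifts _)

variable {Ω : Type u'} [Field Ω] (ε : (c.pt : Type u) →+* Ω)
  (H1 : ∀ (j : J) (s : D.obj j), ε ((c.ι.app j).hom s) ≠ 0 →
    ∃ (j' : J) (f : j ⟶ j'), IsUnit ((D.map f).hom s))
  (H2 : ∀ (j : J) (P₀ : (D.obj j : Type u)[X]) (ω : Ω), P₀.Monic →
    P₀.eval₂ (ε.comp (c.ι.app j).hom) ω = 0 →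
    P₀.derivative.eval₂ (ε.comp (c.ι.app j).hom) ω ≠ 0 →
    ∃ (j' : J) (f : j ⟶ j') (r : D.obj j'), P₀.eval₂ (D.map f).hom r = 0 ∧
      ε ((c.ι.app j').hom r) = ω)

include hc H1 in
theorem hU_of_colimit (a : c.pt) (ha : ε a ≠ 0) : IsUnit a := by
  obtain ⟨j, s, rfl⟩ := Concrete.isColimit_exists_rep D hc a
  obtain ⟨j', f, hf⟩ := H1 j s ha
  have h1 : (c.ι.app j).hom s = (c.ι.app j').hom ((D.map f).hom s) := (ι_comp_apply D c f s).symm
  change IsUnit ((c.ι.app j).hom s)
  rw [h1]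
  exact hf.map _

include hc H2 in
theorem hK_of_colimit (P : (c.pt : Type u)[X]) (ω : Ω) (hP : P.Monic)
    (h0 : P.eval₂ ε ω = 0) (h1 : P.derivative.eval₂ ε ω ≠ 0) :
    ∃ a : c.pt, P.eval a = 0 ∧ ε a = ω := by
  obtain ⟨j, hj⟩ := exists_mem_lifts D c hc P
  obtain ⟨P₀, hP₀, -, hm⟩ := Polynomial.lifts_and_natDegree_eq_and_monic hj hP
  have e0 : P₀.eval₂ (ε.comp (c.ι.app j).hom) ω = 0 := by
    rw [← Polynomial.eval₂_map, hP₀]
    exact h0
  have e1 : P₀.derivative.eval₂ (ε.comp (c.ι.app j).hom) ω ≠ 0 := by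
    rw [← Polynomial.eval₂_map, ← Polynomial.derivative_map, hP₀]
    exact h1
  obtain ⟨j', f, r, hr, hε⟩ := H2 j P₀ ω hm e0 e1
  refine ⟨(c.ι.app j').hom r, ?_, hε⟩
  have e2 : P = (P₀.map (D.map f).hom).map (c.ι.app j').hom := by
    rw [Polynomial.map_map, ← hP₀]
    congr 1
    ext y
    exact (ι_comp_apply D c f y).symm
  rw [e2, Polynomial.eval_map, Polynomial.eval₂_at_apply, Polynomial.eval_map, hr, map_zero]

end Colim

end Groth.Agent.Lib.Helper4.StrictHens
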