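import Mathlib.AlgebraicGeometry.Sites.EtalePoint
import Mathlib.Algebra.Category.Grp.AB
import Mathlib.Algebra.Homology.ShortComplex.Ab
import Mathlib.Algebra.Homology.ShortComplex.ExactFunctor
import Mathlib.CategoryTheory.Abelian.GrothendieckAxioms.Types
import Groth.Prelude.Def_AlgSpOX3

set_option autoImplicit false
set_option backward.isDefEq.respectTransparency false

universe u

open CategoryTheory CategoryTheory.Limits AlgebraicGeometry Opposite

namespace Groth.Agent.Lib.Helper4.EtPt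

open AlgSp

variable {S : Scheme.{u}} {X : AlgSp.Sp S} (p : AlgSp.FieldPt X)

theorem liftsTo_ext {E : EtOver X} (a b : (FieldPt.liftsTo p).obj E) (h : a.1 = b.1) : a = b :=
  Subtype.ext h

theorem liftsTo_prod_ext (E₁ E₂ : EtOver X) (a b : (FieldPt.liftsTo p).obj (EtOver.prodObj E₁ E₂))
    (h₁ : (FieldPt.liftsTo p).map (EtOver.prodFst E₁ E₂) a = (FieldPt.liftsTo p).map (EtOver.prodFst E₁ E₂) b)
    (h₂ : (FieldPt.liftsTo p).map (EtOver.prodSnd E₁ E₂) a = (FieldPt.liftsTo p).map (EtOver.prodSnd E₁ E₂) b) :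
    a = b := by
  apply Subtype.ext
  have e₁ := congrArg Subtype.val h₁
  have e₂ := congrArg Subtype.val h₂
  rw [FieldPt.liftsTo_map_coe, FieldPt.liftsTo_map_coe] at e₁ e₂
  exact Functor.relativelyRepresentable.hom_ext' _ e₂ e₁

theorem exists_lift_prod (E₁ E₂ : EtOver X) (u₁ : (FieldPt.liftsTo p).obj E₁)
    (u₂ : (FieldPt.liftsTo p).obj E₂) :
    ∃ w : (FieldPt.liftsTo p).obj (EtOver.prodObj E₁ E₂),
      (FieldPt.liftsTo p).map (EtOver.prodFst E₁ E₂) w = u₁ ∧
      (FieldPt.liftsTo p).map (EtOver.prodSnd E₁ E₂) w = u₂ := by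
  have hw : (yon S).map u₂.1 ≫ E₂.obj.hom = (yon S).map u₁.1 ≫ E₁.obj.hom := by
    rw [u₁.2, u₂.2]
  refine ⟨⟨E₂.property.1.lift' u₂.1 u₁.1 hw, ?_⟩, ?_, ?_⟩
  · change (yon S).map _ ≫ (yon S).map _ ≫ E₁.obj.hom = p.toHom
    rw [← Category.assoc, ← Functor.map_comp, Functor.relativelyRepresentable.lift'_snd]
    exact u₁.2
  · apply Subtype.ext
    rw [FieldPt.liftsTo_map_coe]
    exact Functor.relativelyRepresentable.lift'_snd _ _ _ _
  · apply Subtype.ext
    rw [FieldPt.liftsTo_map_coe]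
    exact Functor.relativelyRepresentable.lift'_fst _ _ _ _

theorem exists_lift_pullback {E₁ E₂ E₀ : EtOver X} (g₁ : E₁ ⟶ E₀) (g₂ : E₂ ⟶ E₀)
    (u₁ : (FieldPt.liftsTo p).obj E₁) (u₂ : (FieldPt.liftsTo p).obj E₂)
    (h : (FieldPt.liftsTo p).map g₁ u₁ = (FieldPt.liftsTo p).map g₂ u₂) :
    ∃ w : (FieldPt.liftsTo p).obj (EtOver.pullbackObj g₁ g₂),
      (FieldPt.liftsTo p).map (EtOver.pullbackFst g₁ g₂) w = u₁ ∧
      (FieldPt.liftsTo p).map (EtOver.pullbackSnd g₁ g₂) w = u₂ := by
  have h' : u₁.1 ≫ g₁.hom.left = u₂.1 ≫ g₂.hom.left := congrArg Subtype.val h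
  refine ⟨⟨pullback.lift u₁.1 u₂.1 h', ?_⟩, ?_, ?_⟩
  · change (yon S).map _ ≫ (yon S).map _ ≫ E₁.obj.hom = p.toHom
    rw [← Category.assoc, ← Functor.map_comp, pullback.lift_fst]
    exact u₁.2
  · apply Subtype.ext
    rw [FieldPt.liftsTo_map_coe]
    exact pullback.lift_fst _ _ _
  · apply Subtype.ext
    rw [FieldPt.liftsTo_map_coe]
    exact pullback.lift_snd _ _ _

instance isCofilteredOrEmpty_etNbhd : IsCofilteredOrEmpty (EtNbhd p) where
  cone_objs := by
    rintro ⟨E₁, u₁⟩ ⟨E₂, u₂⟩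
    obtain ⟨w, h₁, h₂⟩ := exists_lift_prod p E₁ E₂ u₁ u₂
    exact ⟨⟨EtOver.prodObj E₁ E₂, w⟩, ⟨EtOver.prodFst E₁ E₂, h₁⟩, ⟨EtOver.prodSnd E₁ E₂, h₂⟩, trivial⟩
  cone_maps := by
    rintro ⟨E, u⟩ ⟨E', u'⟩ ⟨f, hf⟩ ⟨g, hg⟩
    let P := EtOver.prodObj E' E'
    let hP := EtOver.prodIsLimit E' E'
    let a : E ⟶ P := hP.lift (BinaryFan.mk f g)
    let d : E' ⟶ P := hP.lift (BinaryFan.mk (𝟙 E') (𝟙 E'))
    have ha₁ : a ≫ EtOver.prodFst E' E' = f := hP.fac (BinaryFan.mk f g) ⟨WalkingPair.left⟩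
    have ha₂ : a ≫ EtOver.prodSnd E' E' = g := hP.fac (BinaryFan.mk f g) ⟨WalkingPair.right⟩
    have hd₁ : d ≫ EtOver.prodFst E' E' = 𝟙 E' := hP.fac (BinaryFan.mk (𝟙 E') (𝟙 E')) ⟨WalkingPair.left⟩
    have hd₂ : d ≫ EtOver.prodSnd E' E' = 𝟙 E' := hP.fac (BinaryFan.mk (𝟙 E') (𝟙 E')) ⟨WalkingPair.right⟩
    have hu : (FieldPt.liftsTo p).map a u = (FieldPt.liftsTo p).map d u' := by
      apply liftsTo_prod_ext
      · rw [← FunctorToTypes.map_comp_apply, ← FunctorToTypes.map_comp_apply, ha₁, hd₁,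
          FunctorToTypes.map_id_apply]
        exact hf
      · rw [← FunctorToTypes.map_comp_apply, ← FunctorToTypes.map_comp_apply, ha₂, hd₂,
          FunctorToTypes.map_id_apply]
        exact hg
    obtain ⟨w, h₁, h₂⟩ := exists_lift_pullback p a d u u' hu
    refine ⟨⟨EtOver.pullbackObj a d, w⟩, ⟨EtOver.pullbackFst a d, h₁⟩, ?_⟩
    apply Subtype.ext
    change EtOver.pullbackFst a d ≫ f = EtOver.pullbackFst a d ≫ g
    have hc := EtOver.pullback_condition a d
    have e₁ : EtOver.pullbackFst a d ≫ f = EtOver.pullbackSnd a d := by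
      rw [← ha₁, ← Category.assoc, hc, Category.assoc, hd₁, Category.comp_id]
    have e₂ : EtOver.pullbackFst a d ≫ g = EtOver.pullbackSnd a d := by
      rw [← ha₂, ← Category.assoc, hc, Category.assoc, hd₂, Category.comp_id]
    rw [e₁, e₂]

theorem exists_section_of_etale_surjective (hp : p.IsGeometric) {V : Over S} (snd : V ⟶ p.pt)
    (het : Etale snd.left) (v : ↥V.left) :
    ∃ l : p.pt ⟶ V, l ≫ snd = 𝟙 _ ∧ l.left (default : ↥(Spec (CommRingCat.of p.K))) = v := by
  have : IsAlgClosed p.K := hp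
  obtain ⟨l, hl, hlv⟩ := Scheme.exists_fac_of_etale_of_isSepClosed snd.left
    (𝟙 (Spec (CommRingCat.of p.K))) v
    (Subsingleton.elim (α := ↥(Spec (CommRingCat.of p.K))) _ _)
  have hw : l ≫ V.hom = p.pt.hom := by
    rw [← Over.w snd, ← Category.assoc, hl]
    exact Category.id_comp _
  refine ⟨Over.homMk l hw, ?_, hlv⟩
  apply Over.OverMorphism.ext
  exact hl

theorem exists_lift_of_mem_range (hp : p.IsGeometric) {E E' : EtOver X} (g : E ⟶ E')
    (u' : (FieldPt.liftsTo p).obj E') (y : ↥E.obj.left.left)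
    (hy : g.hom.left.left y = u'.1.left (default : ↥(Spec (CommRingCat.of p.K)))) :
    ∃ u : (FieldPt.liftsTo p).obj E, (FieldPt.liftsTo p).map g u = u' ∧
      u.1.left (default : ↥(Spec (CommRingCat.of p.K))) = y := by
  have : IsAlgClosed p.K := hp
  have : Etale g.hom.left.left := EtOver.etale_left g
  obtain ⟨l, hl, hlv⟩ := Scheme.exists_fac_of_etale_of_isSepClosed g.hom.left.left u'.1.left y hy
  have hw : l ≫ E.obj.left.hom = p.pt.hom := by
    rw [← Over.w g.hom.left, ← Category.assoc, hl]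
    exact Over.w u'.1
  have hc : Over.homMk l hw ≫ g.hom.left = u'.1 := Over.OverMorphism.ext hl
  refine ⟨⟨Over.homMk l hw, ?_⟩, ?_, hlv⟩
  · rw [← EtOver.w g, ← Category.assoc, ← Functor.map_comp, hc]
    exact u'.2
  · apply Subtype.ext
    rw [FieldPt.liftsTo_map_coe]
    exact hc

theorem exists_lift_of_mem_etPre (hp : p.IsGeometric) (N : EtNbhd p) {ι : Type*}
    (Ui : ι → EtOver X) (g : ∀ i, Ui i ⟶ N.1)
    (hcov : Presieve.ofArrows Ui g ∈ etPre X N.1) :
    ∃ (i : ι) (ui : (FieldPt.liftsTo p).obj (Ui i)), (FieldPt.liftsTo p).map (g i) ui = N.2 := by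
  obtain ⟨i, y, hy⟩ := (ofArrows_mem_etPre_iff Ui g).1 hcov
    (N.2.1.left (default : ↥(Spec (CommRingCat.of p.K))))
  obtain ⟨u, hu, -⟩ := exists_lift_of_mem_range p hp (g i) N.2 y hy
  exact ⟨i, u, hu⟩

theorem nonempty_etNbhd (hX : IsAlgSpace X) (hp : p.IsGeometric) : Nonempty (EtNbhd p) := by
  obtain ⟨U, a, ha, hs⟩ := hX.atlas
  let V := ha.1.pullback p.toHom
  let snd : V ⟶ p.pt := ha.1.snd p.toHom
  let fst' : V ⟶ U := ha.1.fst' p.toHom
  have sq : IsPullback ((yon S).map fst') ((yon S).map snd) a p.toHom := ha.1.isPullback' p.toHom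
  have het : Etale snd.left := ha.2 p.toHom _ snd sq
  have hsurj : Surjective snd.left := hs.2 p.toHom _ snd sq
  obtain ⟨v, -⟩ := hsurj.surj (default : ↥(Spec (CommRingCat.of p.K)))
  obtain ⟨l, hl, -⟩ := exists_section_of_etale_surjective p hp snd het v
  refine ⟨⟨EtOver.mk a ha, ⟨l ≫ fst', ?_⟩⟩⟩
  change (yon S).map (l ≫ fst') ≫ a = p.toHom
  rw [Functor.map_comp, Category.assoc, sq.w, ← Category.assoc, ← Functor.map_comp, hl,
    CategoryTheory.Functor.map_id, Category.id_comp]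

theorem isCofiltered_etNbhd (hX : IsAlgSpace X) (hp : p.IsGeometric) : IsCofiltered (EtNbhd p) :=
  { isCofilteredOrEmpty_etNbhd p with nonempty := nonempty_etNbhd p hX hp }

section ULiftElements

universe w v₁ u₁

variable {C : Type u₁} [Category.{v₁} C] (F : C ⥤ Type u)

def elementsULift : F.Elements ⥤ (F ⋙ uliftFunctor.{w, u}).Elements where
  obj x := ⟨x.1, ULift.up x.2⟩
  map {x y} f := ⟨f.1, by
    change ULift.up (F.map f.1 x.2) = ULift.up y.2
    rw [f.2]⟩
  map_id x := Subtype.ext rfl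
  map_comp f g := Subtype.ext rfl

instance : (elementsULift.{u, w} F).Faithful where
  map_injective {x y} f g h := Subtype.ext (by
    have := congrArg (fun k => k.1) h
    exact this)

instance : (elementsULift.{u, w} F).Full where
  map_surjective {x y} f := ⟨⟨f.1, by
    have := congrArg ULift.down f.2
    exact this⟩, Subtype.ext rfl⟩

instance : (elementsULift.{u, w} F).EssSurj where
  mem_essImage y := ⟨⟨y.1, y.2.down⟩, ⟨Iso.refl _⟩⟩

instance : (elementsULift.{u, w} F).IsEquivalence where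

theorem elementsULift_comp_π :
    elementsULift.{u, w} F ⋙ CategoryOfElements.π (F ⋙ uliftFunctor.{w, u}) = CategoryOfElements.π F :=
  rfl

end ULiftElements

section Point

variable (hX : IsAlgSpace X) (hp : p.IsGeometric)

noncomputable def point : GrothendieckTopology.Point.{u + 1} (etTop X) where
  fiber := FieldPt.liftsTo p ⋙ uliftFunctor.{u + 1, u}
  isCofiltered :=
    have := isCofiltered_etNbhd p hX hp
    IsCofiltered.of_equivalence (elementsULift.{u, u + 1} (FieldPt.liftsTo p)).asEquivalence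
  initiallySmall := initiallySmall_of_essentiallySmall _
  jointly_surjective {E} R hR x := by
    obtain ⟨R', hR', hle⟩ := Precoverage.mem_toGrothendieck_iff_of_isStableUnderComposition.1 hR
    obtain ⟨ι, Ui, g, rfl⟩ := R'.exists_eq_ofArrows
    obtain ⟨i, ui, hi⟩ := exists_lift_of_mem_etPre p hp ⟨E, x.down⟩ Ui g hR'
    exact ⟨Ui i, g i, hle _ _ (Presieve.ofArrows.mk i), ULift.up ui, congrArg ULift.up hi⟩

end Point

section Stalk

universe v' u'

variable (hX : IsAlgSpace X) (hp : p.IsGeometric)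
variable (A : Type u') [Category.{v'} A] [HasColimitsOfSize.{u + 1, u + 1} A]
  [HasColimitsOfShape (EtNbhd p)ᵒᵖ A]

noncomputable def presheafFiberIso :
    stalkEtPshFunctor A p ≅ (point p hX hp).presheafFiber (A := A) :=
  have : HasColimitsOfShape (FieldPt.liftsTo p ⋙ uliftFunctor.{u + 1, u}).Elementsᵒᵖ A :=
    inferInstanceAs (HasColimitsOfShape (point p hX hp).fiber.Elementsᵒᵖ A)
  Functor.isoWhiskerLeft
    ((Functor.whiskeringLeft _ _ _).obj (CategoryOfElements.π (point p hX hp).fiber).op)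
    (Functor.Final.colimIso (elementsULift.{u, u + 1} (FieldPt.liftsTo p)).op)

noncomputable def sheafFiberIso :
    stalkEtFunctor A p ≅ (point p hX hp).sheafFiber (A := A) :=
  Functor.isoWhiskerLeft (sheafToPresheaf (etTop X) A) (presheafFiberIso p hX hp A)

end Stalk

section Exact

universe v' u'

variable (hX : IsAlgSpace X) (hp : p.IsGeometric)
variable (A : Type u') [Category.{v'} A] [HasColimitsOfSize.{u + 1, u + 1} A]
  [HasColimitsOfShape (EtNbhd p)ᵒᵖ A]

include hX hp in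
theorem preservesFiniteLimits_stalkEtFunctor [HasFiniteLimits A] [AB5OfSize.{u + 1, u + 1} A] :
    PreservesFiniteLimits (stalkEtFunctor A p) :=
  preservesFiniteLimits_of_natIso (sheafFiberIso p hX hp A).symm

include hX hp in
theorem preservesFiniteColimits_stalkEtFunctor [HasProducts.{u + 1} A] :
    PreservesFiniteColimits (stalkEtFunctor A p) :=
  preservesFiniteColimits_of_natIso (sheafFiberIso p hX hp A).symm

end Exact

section GeomPt

variable {F : AlgSp.Sp S}

noncomputable def ofSpec {T : Over S} (g : (yon S).obj T ⟶ F) (K : Type u) [Field K]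
    (ξ : Spec (CommRingCat.of K) ⟶ T.left) : FieldPt F where
  K := K
  str := ξ ≫ T.hom
  val := g.hom.app (op (Over.mk (ξ ≫ T.hom))) ⟨Over.homMk ξ rfl⟩

theorem toHom_ofSpec {T : Over S} (g : (yon S).obj T ⟶ F) (K : Type u) [Field K]
    (ξ : Spec (CommRingCat.of K) ⟶ T.left) :
    (ofSpec g K ξ).toHom = (yon S).map (Over.homMk ξ rfl) ≫ g := by
  apply (J S).uliftYonedaEquiv.injective
  rw [FieldPt.uliftYonedaEquiv_toHom, GrothendieckTopology.uliftYonedaEquiv_comp,
    GrothendieckTopology.uliftYonedaEquiv_uliftYoneda_map]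
  rfl

noncomputable def geomPt (E : EtOver X) (e : ↥E.obj.left.left) : FieldPt X :=
  ofSpec E.obj.hom (AlgebraicClosure ↥(E.obj.left.left.residueField e))
    (Spec.map (CommRingCat.ofHom (algebraMap ↥(E.obj.left.left.residueField e)
      (AlgebraicClosure ↥(E.obj.left.left.residueField e)))) ≫
      E.obj.left.left.fromSpecResidueField e)

theorem geomPt_isGeometric (E : EtOver X) (e : ↥E.obj.left.left) : (geomPt E e).IsGeometric :=
  inferInstanceAs (IsAlgClosed (AlgebraicClosure ↥(E.obj.left.left.residueField e)))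

noncomputable def geomPtLift (E : EtOver X) (e : ↥E.obj.left.left) :
    (FieldPt.liftsTo (geomPt E e)).obj E :=
  ⟨Over.homMk (Spec.map (CommRingCat.ofHom (algebraMap ↥(E.obj.left.left.residueField e)
      (AlgebraicClosure ↥(E.obj.left.left.residueField e)))) ≫
      E.obj.left.left.fromSpecResidueField e) rfl, (toHom_ofSpec _ _ _).symm⟩

theorem geomPtLift_apply (E : EtOver X) (e : ↥E.obj.left.left)
    (z : ↥(Spec (CommRingCat.of (geomPt E e).K))) :
    (geomPtLift E e).1.left z = e := by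
  change (Spec.map _ ≫ E.obj.left.left.fromSpecResidueField e) z = e
  rw [Scheme.Hom.comp_apply]
  exact Scheme.fromSpecResidueField_apply _ _

theorem mem_etTop_of_forall_lifts {E : EtOver X} (R : Sieve E)
    (h : ∀ (q : FieldPt X) (_ : q.IsGeometric) (x : (FieldPt.liftsTo q).obj E),
      ∃ (Y : EtOver X) (g : Y ⟶ E) (_ : R g) (y : (FieldPt.liftsTo q).obj Y),
        (FieldPt.liftsTo q).map g y = x) : R ∈ etTop X E := by
  choose Y g hg y hy using fun e : ↥E.obj.left.left =>
    h (geomPt E e) (geomPt_isGeometric E e) (geomPtLift E e)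
  refine (etTop X).superset_covering ?_ (ofArrows_mem_etTop Y g ?_)
  · rw [Sieve.generate_le_iff]
    rintro _ _ ⟨e⟩
    exact hg e
  · intro e
    refine ⟨e, (y e).1.left (default : ↥(Spec (CommRingCat.of (geomPt E e).K))), ?_⟩
    have h1 := congrArg (fun k => k.1.left (default : ↥(Spec (CommRingCat.of (geomPt E e).K)))) (hy e)
    simp only [FieldPt.liftsTo_map_coe] at h1
    rw [geomPtLift_apply] at h1
    exact h1

end GeomPt

section Conservative

variable (hX : IsAlgSpace X)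

noncomputable def geomPoints : ObjectProperty (GrothendieckTopology.Point.{u + 1} (etTop X)) :=
  ObjectProperty.ofObj (fun q : {q : FieldPt X // q.IsGeometric} => point q.1 hX q.2)

theorem isConservative_geomPoints : (geomPoints hX).IsConservativeFamilyOfPoints :=
  .mk' (fun E R hR => mem_etTop_of_forall_lifts R (fun q hq x => by
    obtain ⟨Y, g, hg, y, hy⟩ := hR ⟨_, ⟨⟨q, hq⟩⟩⟩ (ULift.up x)
    exact ⟨Y, g, hg, y.down, congrArg ULift.down hy⟩))

end Conservative

section Reflect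

theorem mono_map_iff_of_natIso {C D : Type*} [Category C] [Category D] {F G : C ⥤ D} (e : F ≅ G)
    {Y Z : C} (f : Y ⟶ Z) : Mono (F.map f) ↔ Mono (G.map f) :=
  (MorphismProperty.monomorphisms D).arrow_mk_iso_iff
    (((Functor.mapArrowFunctor _ _).mapIso e).app (Arrow.mk f))

theorem epi_map_iff_of_natIso {C D : Type*} [Category C] [Category D] {F G : C ⥤ D} (e : F ≅ G)
    {Y Z : C} (f : Y ⟶ Z) : Epi (F.map f) ↔ Epi (G.map f) :=
  (MorphismProperty.epimorphisms D).arrow_mk_iso_iff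
    (((Functor.mapArrowFunctor _ _).mapIso e).app (Arrow.mk f))

theorem isIso_map_iff_of_natIso {C D : Type*} [Category C] [Category D] {F G : C ⥤ D} (e : F ≅ G)
    {Y Z : C} (f : Y ⟶ Z) : IsIso (F.map f) ↔ IsIso (G.map f) :=
  (MorphismProperty.isomorphisms D).arrow_mk_iso_iff
    (((Functor.mapArrowFunctor _ _).mapIso e).app (Arrow.mk f))

universe v' u'

variable (hX : IsAlgSpace X)
variable (A : Type u') [Category.{v'} A] [HasColimitsOfSize.{u + 1, u + 1} A]
  [∀ q : FieldPt X, HasColimitsOfShape (EtNbhd q)ᵒᵖ A]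
  {FC : A → A → Type*} {CC : A → Type (u + 1)}
  [∀ (Y Z : A), FunLike (FC Y Z) (CC Y) (CC Z)]
  [ConcreteCategory.{u + 1} A FC]
  [(forget A).ReflectsIsomorphisms]
  [PreservesFilteredColimitsOfSize.{u + 1, u + 1} (forget A)]
  [hJ : (etTop X).HasSheafCompose (forget A)]

include hX hJ in
theorem isIso_iff_stalk {F G : EtSh X A} (a : F ⟶ G) :
    IsIso a ↔ ∀ q : FieldPt X, q.IsGeometric → IsIso ((stalkEtFunctor A q).map a) := by
  rw [((isConservative_geomPoints hX).jointlyReflectIsomorphisms A).isIso_iff]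
  constructor
  · intro h q hq
    exact (isIso_map_iff_of_natIso (sheafFiberIso q hX hq A) a).2 (h ⟨_, ⟨⟨q, hq⟩⟩⟩)
  · rintro h ⟨_, ⟨q, hq⟩⟩
    exact (isIso_map_iff_of_natIso (sheafFiberIso q hX hq A) a).1 (h q hq)

include hX hJ in
theorem mono_iff_stalk [AB5OfSize.{u + 1, u + 1} A] [HasFiniteLimits A] {F G : EtSh X A} (a : F ⟶ G) :
    Mono a ↔ ∀ q : FieldPt X, q.IsGeometric → Mono ((stalkEtFunctor A q).map a) := by
  rw [((isConservative_geomPoints hX).jointlyReflectMonomorphisms A).mono_iff]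
  constructor
  · intro h q hq
    exact (mono_map_iff_of_natIso (sheafFiberIso q hX hq A) a).2 (h ⟨_, ⟨⟨q, hq⟩⟩⟩)
  · rintro h ⟨_, ⟨q, hq⟩⟩
    exact (mono_map_iff_of_natIso (sheafFiberIso q hX hq A) a).1 (h q hq)

include hX hJ in
theorem epi_iff_stalk [HasWeakSheafify (etTop X) A] [HasProducts.{u + 1} A] {F G : EtSh X A}
    (a : F ⟶ G) :
    Epi a ↔ ∀ q : FieldPt X, q.IsGeometric → Epi ((stalkEtFunctor A q).map a) := by
  rw [((isConservative_geomPoints hX).jointlyReflectEpimorphisms A).epi_iff]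
  constructor
  · intro h q hq
    exact (epi_map_iff_of_natIso (sheafFiberIso q hX hq A) a).2 (h ⟨_, ⟨⟨q, hq⟩⟩⟩)
  · rintro h ⟨_, ⟨q, hq⟩⟩
    exact (epi_map_iff_of_natIso (sheafFiberIso q hX hq A) a).1 (h q hq)

end Reflect

section AbExact

variable (hX : IsAlgSpace X)

open ZeroObject

include hX in
theorem preservesZeroMorphisms_stalkEtFunctor_ab (q : FieldPt X) (hq : q.IsGeometric) :
    (stalkEtFunctor AddCommGrpCat.{u + 1} q).PreservesZeroMorphisms :=
  have : ((point q hX hq).sheafFiber (A := AddCommGrpCat.{u + 1})).PreservesZeroMorphisms :=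
    inferInstance
  Functor.preservesZeroMorphisms_of_iso (sheafFiberIso q hX hq AddCommGrpCat.{u + 1}).symm

include hX in
theorem isZero_iff_stalk_ab (F : EtSh X AddCommGrpCat.{u + 1}) :
    IsZero F ↔ ∀ q : FieldPt X, q.IsGeometric →
      IsZero ((stalkEtFunctor AddCommGrpCat.{u + 1} q).obj F) := by
  constructor
  · intro h q hq
    have := preservesZeroMorphisms_stalkEtFunctor_ab hX q hq
    exact Functor.map_isZero _ h
  · intro h
    let f : F ⟶ 0 := (isZero_zero (EtSh X AddCommGrpCat.{u + 1})).from_ F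
    have : IsIso f := by
      rw [isIso_iff_stalk hX AddCommGrpCat.{u + 1} f]
      intro q hq
      have := preservesZeroMorphisms_stalkEtFunctor_ab hX q hq
      exact isIso_of_source_target_iso_zero _ (h q hq).isoZero
        ((stalkEtFunctor AddCommGrpCat.{u + 1} q).map_isZero (isZero_zero _)).isoZero
    exact (isZero_zero _).of_iso (asIso f)

include hX in
theorem exact_iff_stalk_ab (C : ShortComplex (EtSh X AddCommGrpCat.{u + 1})) :
    C.Exact ↔ ∀ q : FieldPt X, q.IsGeometric →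
      ∀ y : ↥((stalkEtFunctor AddCommGrpCat.{u + 1} q).obj C.X₂),
        ((stalkEtFunctor AddCommGrpCat.{u + 1} q).map C.g) y = 0 →
          ∃ x : ↥((stalkEtFunctor AddCommGrpCat.{u + 1} q).obj C.X₁),
            ((stalkEtFunctor AddCommGrpCat.{u + 1} q).map C.f) x = y := by
  have key : ∀ (q : FieldPt X) (hq : q.IsGeometric),
      IsZero ((stalkEtFunctor AddCommGrpCat.{u + 1} q).obj C.homology) ↔
      ∀ y : ↥((stalkEtFunctor AddCommGrpCat.{u + 1} q).obj C.X₂),
        ((stalkEtFunctor AddCommGrpCat.{u + 1} q).map C.g) y = 0 →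
          ∃ x : ↥((stalkEtFunctor AddCommGrpCat.{u + 1} q).obj C.X₁),
            ((stalkEtFunctor AddCommGrpCat.{u + 1} q).map C.f) x = y := by
    intro q hq
    have := preservesZeroMorphisms_stalkEtFunctor_ab hX q hq
    have := preservesFiniteLimits_stalkEtFunctor q hX hq AddCommGrpCat.{u + 1}
    have := preservesFiniteColimits_stalkEtFunctor q hX hq AddCommGrpCat.{u + 1}
    have := Functor.preservesHomologyOfExact (stalkEtFunctor AddCommGrpCat.{u + 1} q)
    rw [← (ShortComplex.mapHomologyIso C (stalkEtFunctor AddCommGrpCat.{u + 1} q)).isZero_iff,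
      ← ShortComplex.exact_iff_isZero_homology, ShortComplex.ab_exact_iff]
    rfl
  rw [ShortComplex.exact_iff_isZero_homology, isZero_iff_stalk_ab hX]
  exact forall_congr' fun q => forall_congr' fun hq => key q hq

end AbExact

end Groth.Agent.Lib.Helper4.EtPt
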