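import Groth.Agent.Lib.Helper4.StrictHensGeom
import Groth.Agent.Lib.Helper4.EtPt

set_option autoImplicit false
set_option backward.isDefEq.respectTransparency false
open CategoryTheory CategoryTheory.Limits AlgebraicGeometry Opposite Polynomial
universe u

namespace Groth.Agent.Lib.Helper4.StrictHensAlgSp
open AlgSp

variable {S : Scheme.{u}} {X : AlgSp.Sp S} (p : AlgSp.FieldPt X)

theorem exists_etNbhd (E : EtOver X) (x : (FieldPt.liftsTo p).obj E)
    (P₀ : StandardEtalePair Γ(E.obj.left.left, ⊤)) (ω : p.K)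
    (h0 : P₀.f.eval₂ (x.1.left.appTop ≫ (Scheme.ΓSpecIso (CommRingCat.of p.K)).hom).hom ω = 0)
    (h1 : P₀.g.eval₂ (x.1.left.appTop ≫ (Scheme.ΓSpecIso (CommRingCat.of p.K)).hom).hom ω ≠ 0) :
    ∃ (T : EtOver X) (g : T ⟶ E) (t : (FieldPt.liftsTo p).obj T) (r : Γ(T.obj.left.left, ⊤)),
      (FieldPt.liftsTo p).map g t = x ∧ P₀.f.eval₂ g.hom.left.left.appTop.hom r = 0 ∧
      IsUnit (P₀.g.eval₂ g.hom.left.left.appTop.hom r) ∧
      (t.1.left.appTop ≫ (Scheme.ΓSpecIso (CommRingCat.of p.K)).hom).hom r = ω := by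
  let U₀ : E.obj.left.left.Etale := Scheme.Etale.mk (𝟙 E.obj.left.left)
  obtain ⟨T₀, g₀, t₀, r, ht, hr, hu, hω⟩ := StrictHensGeom.exists_etale_nbhd_geom U₀ x.1.left P₀ ω h0 h1
  have hg₀ : g₀.left = T₀.hom := by
    have := Over.w g₀.hom
    exact (Category.comp_id _).symm.trans this
  let T : EtOver X := (EtOver.ofChart E.obj.hom E.property).obj T₀
  let g : T ⟶ E := EtOver.homMk (EtOver.homOfEtale T₀) rfl
  have hw : t₀ ≫ T₀.hom ≫ E.obj.left.hom = p.pt.hom := by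
    rw [← hg₀, ← Category.assoc, ht]
    exact Over.w x.1
  let t' : p.pt ⟶ T.obj.left := Over.homMk t₀ hw
  have htg : t' ≫ EtOver.homOfEtale T₀ = x.1 := by
    apply Over.OverMorphism.ext
    change t₀ ≫ T₀.hom = x.1.left
    rw [← hg₀, ht]
  have ht' : (yon S).map t' ≫ T.obj.hom = p.toHom := by
    change (yon S).map t' ≫ (yon S).map (EtOver.homOfEtale T₀) ≫ E.obj.hom = p.toHom
    rw [← Category.assoc, ← Functor.map_comp, htg]
    exact x.2
  refine ⟨T, g, ⟨t', ht'⟩, r, ?_, ?_, ?_, hω⟩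
  · apply Subtype.ext
    exact htg
  · change P₀.f.eval₂ T₀.hom.appTop.hom r = 0
    rw [← hg₀]
    exact hr
  · change IsUnit (P₀.g.eval₂ T₀.hom.appTop.hom r)
    rw [← hg₀]
    exact hu

end Groth.Agent.Lib.Helper4.StrictHensAlgSp
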