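import Groth.Prelude.Def_EtBase
import Mathlib.CategoryTheory.Sites.Point.Comap

set_option autoImplicit false
open CategoryTheory CategoryTheory.Limits AlgebraicGeometry Opposite
universe u

namespace Groth.Agent.Lib.Helper4.EtStalkPull

variable {X Y : Scheme.{u}} (f : X ⟶ Y) {Ω : Type u} [Field Ω] [IsSepClosed Ω]
  (ξ : Spec (CommRingCat.of Ω) ⟶ X)

noncomputable def fiberIso :
    EtCoh.bc f ⋙ (Scheme.pointSmallEtale ξ).fiber ≅ (Scheme.pointSmallEtale (ξ ≫ f)).fiber :=
  NatIso.ofComponents (fun V => Equiv.toIso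
    (((Over.mapPullbackAdj f).homEquiv (Over.mk ξ) ((Scheme.Etale.forget Y).obj V)).symm)) (by
    intro V W g
    ext a
    exact (Over.mapPullbackAdj f).homEquiv_naturality_right_symm a ((Scheme.Etale.forget Y).map g))

section
variable {C : Type*} [Category C] {F₁ F₂ : C ⥤ Type u} (e : F₁ ≅ F₂)

instance : (CategoryOfElements.map e.hom).Faithful where
  map_injective {x y} f g h := Subtype.ext (by
    have := congrArg (fun k => k.1) h
    exact this)

instance : (CategoryOfElements.map e.hom).Full where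
  map_surjective {x y} f := ⟨⟨f.1, by
    have h1 := f.2
    have h2 : e.hom.app y.1 (F₁.map f.1 x.2) = e.hom.app y.1 y.2 :=
      (NatTrans.naturality_apply e.hom f.1 x.2).trans h1
    have h3 := congrArg (e.inv.app y.1) h2
    have h4 : ∀ z : F₁.obj y.1, e.inv.app y.1 (e.hom.app y.1 z) = z := fun z =>
      ConcreteCategory.congr_hom (e.hom_inv_id_app y.1) z
    exact (h4 _).symm.trans (h3.trans (h4 _))⟩, Subtype.ext rfl⟩

instance : (CategoryOfElements.map e.hom).EssSurj where
  mem_essImage y := ⟨⟨y.1, e.inv.app y.1 y.2⟩, ⟨eqToIso (by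
    refine Sigma.ext rfl ?_
    refine heq_of_eq ?_
    exact ConcreteCategory.congr_hom (e.inv_hom_id_app y.1) y.2)⟩⟩

instance : (CategoryOfElements.map e.hom).IsEquivalence where

end

instance initiallySmall_bc :
    InitiallySmall.{u} (EtCoh.bc f ⋙ (Scheme.pointSmallEtale ξ).fiber).Elements :=
  initiallySmall_of_initial_of_initiallySmall
    (CategoryOfElements.map (fiberIso f ξ).symm.hom)

noncomputable abbrev comapPt : Y.smallEtaleTopology.Point :=
  (Scheme.pointSmallEtale ξ).comap (EtCoh.bc f) (EtCoh.coverPreserving_bc f)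

noncomputable def ptHom : comapPt f ξ ⟶ Scheme.pointSmallEtale (ξ ≫ f) :=
  ⟨(fiberIso f ξ).inv⟩

noncomputable def ptInv : Scheme.pointSmallEtale (ξ ≫ f) ⟶ comapPt f ξ :=
  ⟨(fiberIso f ξ).hom⟩

noncomputable def ptIso : comapPt f ξ ≅ Scheme.pointSmallEtale (ξ ≫ f) where
  hom := ptHom f ξ
  inv := ptInv f ξ
  hom_inv_id := by
    apply GrothendieckTopology.Point.hom_ext
    exact (fiberIso f ξ).hom_inv_id
  inv_hom_id := by
    apply GrothendieckTopology.Point.hom_ext
    exact (fiberIso f ξ).inv_hom_id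

noncomputable def sheafFiberIso :
    (Scheme.pointSmallEtale (ξ ≫ f)).sheafFiber (A := AddCommGrpCat.{u+1}) ≅
      (comapPt f ξ).sheafFiber where
  hom := GrothendieckTopology.Point.Hom.sheafFiber (ptIso f ξ).hom
  inv := GrothendieckTopology.Point.Hom.sheafFiber (ptIso f ξ).inv
  hom_inv_id := by
    rw [← GrothendieckTopology.Point.Hom.sheafFiber_comp, Iso.inv_hom_id,
      GrothendieckTopology.Point.Hom.sheafFiber_id]
  inv_hom_id := by
    rw [← GrothendieckTopology.Point.Hom.sheafFiber_comp, Iso.hom_inv_id,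
      GrothendieckTopology.Point.Hom.sheafFiber_id]

noncomputable def stalkPullIso [EtCoh.BCCont f] :
    EtCoh.pull f ⋙ EtCoh.stalk ξ ≅ EtCoh.stalk (ξ ≫ f) :=
  (GrothendieckTopology.Point.sheafFiberComapIso (Scheme.pointSmallEtale ξ)
    (EtCoh.bc f) (EtCoh.coverPreserving_bc f) AddCommGrpCat.{u+1}).symm ≪≫ (sheafFiberIso f ξ).symm

end Groth.Agent.Lib.Helper4.EtStalkPull
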