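import Mathlib.CategoryTheory.Sites.Point.Conservative
import Mathlib.CategoryTheory.Limits.Final
import Mathlib.Algebra.Homology.ShortComplex.ExactFunctor
import Mathlib.CategoryTheory.Sites.Abelian

set_option autoImplicit false

universe w w' v u v' u'

open CategoryTheory CategoryTheory.Limits Opposite

namespace Groth.Agent.Lib.Helper4.PointULift

section Elements

variable {C : Type u} [Category.{v} C] (F : C ⥤ Type w)

def elementsULift : F.Elements ⥤ (F ⋙ uliftFunctor.{w', w}).Elements where
  obj x := ⟨x.1, ULift.up x.2⟩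
  map {x y} f := ⟨f.1, by
    change ULift.up (F.map f.1 x.2) = ULift.up y.2
    rw [f.2]⟩
  map_id x := Subtype.ext rfl
  map_comp f g := Subtype.ext rfl

instance : (elementsULift.{w, w'} F).Faithful where
  map_injective {x y} f g h := Subtype.ext (by
    have := congrArg (fun k => k.1) h
    exact this)

instance : (elementsULift.{w, w'} F).Full where
  map_surjective {x y} f := ⟨⟨f.1, by
    have := congrArg ULift.down f.2
    exact this⟩, Subtype.ext rfl⟩

instance : (elementsULift.{w, w'} F).EssSurj where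
  mem_essImage y := ⟨⟨y.1, y.2.down⟩, ⟨Iso.refl _⟩⟩

instance : (elementsULift.{w, w'} F).IsEquivalence where

end Elements

variable {C : Type u} [Category.{v} C] {J : GrothendieckTopology C}

section Point

variable (Φ : GrothendieckTopology.Point.{w} J)

theorem initiallySmall_elementsULift :
    InitiallySmall.{max w w'} (Φ.fiber ⋙ uliftFunctor.{w', w}).Elements := by
  have : EssentiallySmall.{max w w'} (InitialModel.{w} Φ.fiber.Elements) :=
    essentiallySmall_of_small_of_locallySmall _
  exact initiallySmall_of_initial_of_essentiallySmall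
    (fromInitialModel.{w} Φ.fiber.Elements ⋙ elementsULift.{w, w'} Φ.fiber)

noncomputable def ulift : GrothendieckTopology.Point.{max w w'} J where
  fiber := Φ.fiber ⋙ uliftFunctor.{w', w}
  isCofiltered := IsCofiltered.of_equivalence (elementsULift.{w, w'} Φ.fiber).asEquivalence
  initiallySmall := initiallySmall_elementsULift.{w, w'} Φ
  jointly_surjective R hR x := by
    obtain ⟨Y, f, hf, y, hy⟩ := Φ.jointly_surjective R hR x.down
    exact ⟨Y, f, hf, ULift.up y, congrArg ULift.up hy⟩

variable (A : Type u') [Category.{v'} A] [HasColimitsOfSize.{w, w} A]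
  [HasColimitsOfSize.{max w w', max w w'} A]

noncomputable def presheafFiberULiftIso :
    Φ.presheafFiber (A := A) ≅ (ulift.{w, w'} Φ).presheafFiber (A := A) :=
  have : HasColimitsOfShape (Φ.fiber ⋙ uliftFunctor.{w', w}).Elementsᵒᵖ A :=
    inferInstanceAs (HasColimitsOfShape (ulift.{w, w'} Φ).fiber.Elementsᵒᵖ A)
  Functor.isoWhiskerLeft
    ((Functor.whiskeringLeft _ _ _).obj (CategoryOfElements.π (ulift.{w, w'} Φ).fiber).op)
    (Functor.Final.colimIso (elementsULift.{w, w'} Φ.fiber).op)

noncomputable def sheafFiberULiftIso :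
    Φ.sheafFiber (A := A) ≅ (ulift.{w, w'} Φ).sheafFiber (A := A) :=
  Functor.isoWhiskerLeft (sheafToPresheaf J A) (presheafFiberULiftIso.{w, w'} Φ A)

end Point

theorem locallySmall_max_of_locallySmall [LocallySmall.{w} C] : LocallySmall.{max w w'} C :=
  ⟨fun X Y => (small_lift (X ⟶ Y) : Small.{max w w'} (X ⟶ Y))⟩

section Exact

variable (Φ : GrothendieckTopology.Point.{w} J) (A : Type u') [Category.{v'} A]
  [HasColimitsOfSize.{w, w} A] [HasColimitsOfSize.{max w w', max w w'} A]

theorem preservesFiniteLimits_sheafFiber [LocallySmall.{w} C] [HasFiniteLimits A]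
    [AB5OfSize.{max w w', max w w'} A] : PreservesFiniteLimits (Φ.sheafFiber (A := A)) :=
  have : LocallySmall.{max w w'} C := locallySmall_max_of_locallySmall.{w, w'}
  preservesFiniteLimits_of_natIso (sheafFiberULiftIso.{w, w'} Φ A).symm

theorem preservesFiniteLimits_presheafFiber [LocallySmall.{w} C] [HasFiniteLimits A]
    [AB5OfSize.{max w w', max w w'} A] : PreservesFiniteLimits (Φ.presheafFiber (A := A)) :=
  have : LocallySmall.{max w w'} C := locallySmall_max_of_locallySmall.{w, w'}
  preservesFiniteLimits_of_natIso (presheafFiberULiftIso.{w, w'} Φ A).symm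

end Exact

section Conservative

variable (P : ObjectProperty (GrothendieckTopology.Point.{w} J))

def uliftFamily : ObjectProperty (GrothendieckTopology.Point.{max w w'} J) :=
  ObjectProperty.ofObj (fun Φ : P.FullSubcategory => ulift.{w, w'} Φ.obj)

theorem isConservative_uliftFamily (hP : P.IsConservativeFamilyOfPoints)
    [ObjectProperty.Small.{w} P] [HasSheafify J (Type w)] [J.WEqualsLocallyBijective (Type w)]
    [HasSheafify J (Type (max w w'))] [LocallySmall.{w} C] :
    (uliftFamily.{w, w'} P).IsConservativeFamilyOfPoints :=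
  have : LocallySmall.{max w w'} C := locallySmall_max_of_locallySmall.{w, w'}
  .mk' (fun X S hS => by
    let ι : Type _ := Σ Y : C, {g : Y ⟶ X // S g}
    let Y : ι → C := fun i => i.1
    let f : ∀ i : ι, Y i ⟶ X := fun i => i.2.1
    have hle : Sieve.ofArrows Y f ≤ S := by
      rw [Sieve.ofArrows, Sieve.generate_le_iff]
      rintro _ _ ⟨i⟩
      exact i.2.2
    refine J.superset_covering hle ?_
    rw [hP.jointly_reflect_ofArrows_mem_of_small f]
    intro Φ x
    obtain ⟨Y', g, hg, y, hy⟩ := hS ⟨_, ⟨Φ⟩⟩ (ULift.up x)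
    exact ⟨⟨Y', g, hg⟩, y.down, congrArg ULift.down hy⟩)

end Conservative

section Reflect

theorem mono_map_iff_of_natIso {C D : Type*} [Category C] [Category D] {F G : C ⥤ D} (e : F ≅ G)
    {Y Z : C} (f : Y ⟶ Z) : Mono (F.map f) ↔ Mono (G.map f) :=
  (MorphismProperty.monomorphisms D).arrow_mk_iso_iff
    (((Functor.mapArrowFunctor _ _).mapIso e).app (Arrow.mk f))

theorem epi_map_iff_of_natIso {C D : Type*} [Category C] [Category D] {F G : C ⥤ D} (e : F ≅ G)
    {Y Z : C} (f : Y ⟶ Z) : Epi (F.map f) ↔ Epi (G.map f) :=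
  (MorphismProperty.epimorphisms D).arrow_mk_iso_iff
    (((Functor.mapArrowFunctor _ _).mapIso e).app (Arrow.mk f))

theorem isIso_map_iff_of_natIso {C D : Type*} [Category C] [Category D] {F G : C ⥤ D} (e : F ≅ G)
    {Y Z : C} (f : Y ⟶ Z) : IsIso (F.map f) ↔ IsIso (G.map f) :=
  (MorphismProperty.isomorphisms D).arrow_mk_iso_iff
    (((Functor.mapArrowFunctor _ _).mapIso e).app (Arrow.mk f))

variable {P : ObjectProperty (GrothendieckTopology.Point.{w} J)}
  (hP : P.IsConservativeFamilyOfPoints)
  [ObjectProperty.Small.{w} P] [HasSheafify J (Type w)] [J.WEqualsLocallyBijective (Type w)]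
  [HasSheafify J (Type (max w w'))] [LocallySmall.{w} C]
  (A : Type u') [Category.{v'} A] [HasColimitsOfSize.{w, w} A]
  [HasColimitsOfSize.{max w w', max w w'} A]
  {FC : A → A → Type*} {CC : A → Type (max w w')}
  [∀ (Y Z : A), FunLike (FC Y Z) (CC Y) (CC Z)]
  [ConcreteCategory.{max w w'} A FC]
  [(forget A).ReflectsIsomorphisms]
  [PreservesFilteredColimitsOfSize.{max w w', max w w'} (forget A)]
  [hJ : J.HasSheafCompose (forget A)]

include hP hJ in
theorem isIso_iff_sheafFiber {F G : Sheaf J A} (a : F ⟶ G) :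
    IsIso a ↔ ∀ Φ : P.FullSubcategory, IsIso ((Φ.obj.sheafFiber (A := A)).map a) := by
  have : LocallySmall.{max w w'} C := locallySmall_max_of_locallySmall.{w, w'}
  rw [((isConservative_uliftFamily.{w, w'} P hP).jointlyReflectIsomorphisms A).isIso_iff]
  constructor
  · intro h Φ
    exact (isIso_map_iff_of_natIso (sheafFiberULiftIso.{w, w'} Φ.obj A) a).2 (h ⟨_, ⟨Φ⟩⟩)
  · rintro h ⟨_, ⟨Φ⟩⟩
    exact (isIso_map_iff_of_natIso (sheafFiberULiftIso.{w, w'} Φ.obj A) a).1 (h Φ)

include hP hJ in
theorem mono_iff_sheafFiber [AB5OfSize.{max w w', max w w'} A] [HasFiniteLimits A]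
    {F G : Sheaf J A} (a : F ⟶ G) :
    Mono a ↔ ∀ Φ : P.FullSubcategory, Mono ((Φ.obj.sheafFiber (A := A)).map a) := by
  have : LocallySmall.{max w w'} C := locallySmall_max_of_locallySmall.{w, w'}
  rw [((isConservative_uliftFamily.{w, w'} P hP).jointlyReflectMonomorphisms A).mono_iff]
  constructor
  · intro h Φ
    exact (mono_map_iff_of_natIso (sheafFiberULiftIso.{w, w'} Φ.obj A) a).2 (h ⟨_, ⟨Φ⟩⟩)
  · rintro h ⟨_, ⟨Φ⟩⟩
    exact (mono_map_iff_of_natIso (sheafFiberULiftIso.{w, w'} Φ.obj A) a).1 (h Φ)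

include hP hJ in
theorem epi_iff_sheafFiber [HasWeakSheafify J A] [HasProducts.{max w w'} A]
    {F G : Sheaf J A} (a : F ⟶ G) :
    Epi a ↔ ∀ Φ : P.FullSubcategory, Epi ((Φ.obj.sheafFiber (A := A)).map a) := by
  have : LocallySmall.{max w w'} C := locallySmall_max_of_locallySmall.{w, w'}
  rw [((isConservative_uliftFamily.{w, w'} P hP).jointlyReflectEpimorphisms A).epi_iff]
  constructor
  · intro h Φ
    exact (epi_map_iff_of_natIso (sheafFiberULiftIso.{w, w'} Φ.obj A) a).2 (h ⟨_, ⟨Φ⟩⟩)
  · rintro h ⟨_, ⟨Φ⟩⟩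
    exact (epi_map_iff_of_natIso (sheafFiberULiftIso.{w, w'} Φ.obj A) a).1 (h Φ)

section Abelian

open ZeroObject

variable [Abelian A] [HasSheafify J A]
  [∀ Φ : P.FullSubcategory, (Φ.obj.sheafFiber (A := A)).PreservesZeroMorphisms]

include hP hJ in
theorem isZero_iff_sheafFiber (F : Sheaf J A) :
    IsZero F ↔ ∀ Φ : P.FullSubcategory, IsZero ((Φ.obj.sheafFiber (A := A)).obj F) := by
  constructor
  · intro h Φ
    exact Functor.map_isZero _ h
  · intro h
    let f : F ⟶ 0 := (isZero_zero (Sheaf J A)).from_ F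
    have : IsIso f := by
      rw [isIso_iff_sheafFiber.{w, w'} hP A f]
      intro Φ
      exact isIso_of_source_target_iso_zero _ (h Φ).isoZero
        ((Φ.obj.sheafFiber (A := A)).map_isZero (isZero_zero _)).isoZero
    exact (isZero_zero _).of_iso (asIso f)

include hP hJ in
theorem exact_iff_sheafFiber
    [∀ Φ : P.FullSubcategory, PreservesFiniteLimits (Φ.obj.sheafFiber (A := A))]
    [∀ Φ : P.FullSubcategory, PreservesFiniteColimits (Φ.obj.sheafFiber (A := A))]
    (S : ShortComplex (Sheaf J A)) :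
    S.Exact ↔ ∀ Φ : P.FullSubcategory, (S.map (Φ.obj.sheafFiber (A := A))).Exact := by
  rw [ShortComplex.exact_iff_isZero_homology, isZero_iff_sheafFiber.{w, w'} hP A]
  refine forall_congr' fun Φ => ?_
  have := Functor.preservesHomologyOfExact (Φ.obj.sheafFiber (A := A))
  rw [ShortComplex.exact_iff_isZero_homology]
  exact (ShortComplex.mapHomologyIso S (Φ.obj.sheafFiber (A := A))).symm.isZero_iff

end Abelian

end Reflect

end Groth.Agent.Lib.Helper4.PointULift
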