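import Groth.Prelude.Def_EtBase
import Groth.Agent.Lib.Helper4.PointULift
import Groth.Agent.Lib.Helper4.EtStalkPull

set_option autoImplicit false
open CategoryTheory CategoryTheory.Limits AlgebraicGeometry Opposite
universe u

namespace Groth.Agent.Lib.Helper4.EtStalk

open Groth.Agent.Lib.Helper4

instance pfl {X : Scheme.{u}} {Ω : Type u} [Field Ω] [IsSepClosed Ω]
    (ξ : Spec (CommRingCat.of Ω) ⟶ X) : PreservesFiniteLimits (EtCoh.stalk ξ) :=
  PointULift.preservesFiniteLimits_sheafFiber.{u, u + 1}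
    (Scheme.pointSmallEtale ξ) AddCommGrpCat.{u + 1}

instance pfc {X : Scheme.{u}} {Ω : Type u} [Field Ω] [IsSepClosed Ω]
    (ξ : Spec (CommRingCat.of Ω) ⟶ X) : PreservesFiniteColimits (EtCoh.stalk ξ) :=
  inferInstance

noncomputable abbrev geomPtAt (X : Scheme.{u}) (s : X) :
    Spec (CommRingCat.of (SeparableClosure (X.residueField s))) ⟶ X :=
  (Scheme.SpecToEquivOfField (SeparableClosure (X.residueField s)) _).2
    ⟨s, CommRingCat.ofHom (algebraMap (X.residueField s) _)⟩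

abbrev fam (X : Scheme.{u}) : ObjectProperty (X.smallEtaleTopology.Point) :=
  ObjectProperty.ofObj (fun (s : X) ↦ Scheme.pointSmallEtale (geomPtAt X s))

theorem hfam (X : Scheme.{u}) : (fam X).IsConservativeFamilyOfPoints :=
  Scheme.isConservativeFamilyOfPoints_pointSmallEtale' X

theorem isIso_iff_stalk {X : Scheme.{u}} {F G : EtCoh.Ab X} (a : F ⟶ G) :
    IsIso a ↔ ∀ (Ω : Type u) [Field Ω] [IsSepClosed Ω] (ξ : Spec (CommRingCat.of Ω) ⟶ X),
      IsIso ((EtCoh.stalk ξ).map a) := by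
  constructor
  · intro h Ω _ _ ξ
    infer_instance
  · intro h
    rw [PointULift.isIso_iff_sheafFiber.{u, u + 1} (hfam X) AddCommGrpCat.{u + 1} a]
    rintro ⟨_, ⟨s⟩⟩
    exact h _ _

theorem mono_iff_stalk {X : Scheme.{u}} {F G : EtCoh.Ab X} (a : F ⟶ G) :
    Mono a ↔ ∀ (Ω : Type u) [Field Ω] [IsSepClosed Ω] (ξ : Spec (CommRingCat.of Ω) ⟶ X),
      Mono ((EtCoh.stalk ξ).map a) := by
  constructor
  · intro h Ω _ _ ξ
    infer_instance
  · intro h
    rw [PointULift.mono_iff_sheafFiber.{u, u + 1} (hfam X) AddCommGrpCat.{u + 1} a]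
    rintro ⟨_, ⟨s⟩⟩
    exact h _ _

theorem epi_iff_stalk {X : Scheme.{u}} {F G : EtCoh.Ab X} (a : F ⟶ G) :
    Epi a ↔ ∀ (Ω : Type u) [Field Ω] [IsSepClosed Ω] (ξ : Spec (CommRingCat.of Ω) ⟶ X),
      Epi ((EtCoh.stalk ξ).map a) := by
  constructor
  · intro h Ω _ _ ξ
    infer_instance
  · intro h
    rw [PointULift.epi_iff_sheafFiber.{u, u + 1} (hfam X) AddCommGrpCat.{u + 1} a]
    rintro ⟨_, ⟨s⟩⟩
    exact h _ _

theorem isZero_iff_stalk {X : Scheme.{u}} (F : EtCoh.Ab X) :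
    IsZero F ↔ ∀ (Ω : Type u) [Field Ω] [IsSepClosed Ω] (ξ : Spec (CommRingCat.of Ω) ⟶ X),
      IsZero ((EtCoh.stalk ξ).obj F) := by
  constructor
  · intro h Ω _ _ ξ
    exact Functor.map_isZero _ h
  · intro h
    rw [PointULift.isZero_iff_sheafFiber.{u, u + 1} (hfam X) AddCommGrpCat.{u + 1} F]
    rintro ⟨_, ⟨s⟩⟩
    exact h _ _

theorem exact_iff_stalk {X : Scheme.{u}} (S : ShortComplex (EtCoh.Ab X)) :
    S.Exact ↔ ∀ (Ω : Type u) [Field Ω] [IsSepClosed Ω] (ξ : Spec (CommRingCat.of Ω) ⟶ X),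
      (S.map (EtCoh.stalk ξ)).Exact := by
  have hfl : ∀ Φ : (fam X).FullSubcategory,
      PreservesFiniteLimits (Φ.obj.sheafFiber (A := AddCommGrpCat.{u + 1})) := fun Φ =>
    PointULift.preservesFiniteLimits_sheafFiber.{u, u + 1} Φ.obj AddCommGrpCat.{u + 1}
  constructor
  · intro h Ω _ _ ξ
    have := Functor.preservesHomologyOfExact (EtCoh.stalk ξ)
    exact h.map (EtCoh.stalk ξ)
  · intro h
    rw [PointULift.exact_iff_sheafFiber.{u, u + 1} (hfam X) AddCommGrpCat.{u + 1} S]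
    rintro ⟨_, ⟨s⟩⟩
    exact h _ _

theorem preservesFiniteLimits_of_stalk {X : Scheme.{u}} {D : Type*} [Category D] [HasFiniteLimits D]
    (G : D ⥤ EtCoh.Ab X)
    (h : ∀ (Ω : Type u) [Field Ω] [IsSepClosed Ω] (ξ : Spec (CommRingCat.of Ω) ⟶ X),
      PreservesFiniteLimits (G ⋙ EtCoh.stalk ξ)) : PreservesFiniteLimits G := by
  constructor
  intro J _ _
  constructor
  intro K
  have : IsIso (limit.post K G) := by
    rw [isIso_iff_stalk]
    intro Ω _ _ ξ
    have := h Ω ξ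
    have e : (EtCoh.stalk ξ).map (limit.post K G) ≫ limit.post (K ⋙ G) (EtCoh.stalk ξ) =
        limit.post K (G ⋙ EtCoh.stalk ξ) := limit.post_post K G (EtCoh.stalk ξ)
    exact IsIso.of_isIso_fac_right e
  exact preservesLimit_of_isIso_post G K

theorem preservesFiniteColimits_of_stalk {X : Scheme.{u}} {D : Type*} [Category D]
    [HasFiniteColimits D] (G : D ⥤ EtCoh.Ab X)
    (h : ∀ (Ω : Type u) [Field Ω] [IsSepClosed Ω] (ξ : Spec (CommRingCat.of Ω) ⟶ X),
      PreservesFiniteColimits (G ⋙ EtCoh.stalk ξ)) : PreservesFiniteColimits G := by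
  constructor
  intro J _ _
  constructor
  intro K
  have : IsIso (colimit.post K G) := by
    rw [isIso_iff_stalk]
    intro Ω _ _ ξ
    have := h Ω ξ
    have e : colimit.post (K ⋙ G) (EtCoh.stalk ξ) ≫ (EtCoh.stalk ξ).map (colimit.post K G) =
        colimit.post K (G ⋙ EtCoh.stalk ξ) := colimit.post_post K G (EtCoh.stalk ξ)
    exact IsIso.of_isIso_fac_left e
  exact preservesColimit_of_isIso_post G K

theorem preservesFiniteLimits_pull {X Y : Scheme.{u}} (f : X ⟶ Y) [EtCoh.BCCont f] :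
    PreservesFiniteLimits (EtCoh.pull f) :=
  preservesFiniteLimits_of_stalk _ fun _ _ _ ξ =>
    preservesFiniteLimits_of_natIso (EtStalkPull.stalkPullIso f ξ).symm

end Groth.Agent.Lib.Helper4.EtStalk
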