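import Groth.Prelude.Def_EtShriek2
import Groth.Agent.Lib.Helper4.EtStalk
import Mathlib.CategoryTheory.Sites.Point.Skyscraper

set_option autoImplicit false
set_option linter.unusedSectionVars false
open CategoryTheory CategoryTheory.Limits AlgebraicGeometry Opposite
universe u v' u'

noncomputable section

namespace Groth.Agent.Lib.Helper4.ExtZero

variable {U X : Scheme.{u}} (j : U ⟶ X) [Etale j] {Ω : Type u} [Field Ω] [IsSepClosed Ω]
  (ξ : Spec (CommRingCat.of Ω) ⟶ X)

abbrev T : Type u := {u : Spec (CommRingCat.of Ω) ⟶ U // u ≫ j = ξ}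

variable {j ξ}

abbrev Ψ (t : T j ξ) : U.smallEtaleTopology.Point := Scheme.pointSmallEtale t.1

def toT {V : U.Etale}
    (x : (Scheme.pointSmallEtale ξ).fiber.obj ((EtShriek.compEtale j).obj V)) : T j ξ :=
  ⟨(x : Over.mk ξ ⟶ (Scheme.Etale.forget X).obj _).left ≫ V.hom, by
    have := Over.w (x : Over.mk ξ ⟶ (Scheme.Etale.forget X).obj _)
    exact (Category.assoc _ _ _).trans this⟩

def dec {V : U.Etale}
    (x : (Scheme.pointSmallEtale ξ).fiber.obj ((EtShriek.compEtale j).obj V)) :
    (Ψ (toT x)).fiber.obj V :=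
  (Over.homMk (x : Over.mk ξ ⟶ (Scheme.Etale.forget X).obj _).left rfl :
    Over.mk (toT x).1 ⟶ (Scheme.Etale.forget U).obj V)

def inc {V : U.Etale} (t : T j ξ) (x' : (Ψ t).fiber.obj V) :
    (Scheme.pointSmallEtale ξ).fiber.obj ((EtShriek.compEtale j).obj V) :=
  (Over.homMk (x' : Over.mk t.1 ⟶ (Scheme.Etale.forget U).obj V).left (by
    have := Over.w (x' : Over.mk t.1 ⟶ (Scheme.Etale.forget U).obj V)
    have h2 := t.2
    exact ((Category.assoc _ _ _).symm.trans (congrArg (· ≫ j) this)).trans h2) :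
    Over.mk ξ ⟶ (Scheme.Etale.forget X).obj ((EtShriek.compEtale j).obj V))

theorem toT_inc {V : U.Etale} (t : T j ξ) (x' : (Ψ t).fiber.obj V) : toT (inc t x') = t :=
  Subtype.ext (Over.w (x' : Over.mk t.1 ⟶ (Scheme.Etale.forget U).obj V))

variable {A : Type u'} [Category.{v'} A] [HasColimitsOfSize.{u, u} A] [HasProducts.{u} A]
  [HasCoproducts.{u} A]

@[reassoc]
theorem key (P : U.Etaleᵒᵖ ⥤ A) {V : U.Etale} (t t' : T j ξ) (x' : (Ψ t).fiber.obj V)
    (x'' : (Ψ t').fiber.obj V)
    (h : (x' : Over.mk t.1 ⟶ (Scheme.Etale.forget U).obj V).left =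
      (x'' : Over.mk t'.1 ⟶ (Scheme.Etale.forget U).obj V).left) :
    (Ψ t).toPresheafFiber V x' P ≫ Sigma.ι (fun t : T j ξ => (Ψ t).presheafFiber.obj P) t =
      (Ψ t').toPresheafFiber V x'' P ≫
        Sigma.ι (fun t : T j ξ => (Ψ t).presheafFiber.obj P) t' := by
  have e : t = t' := by
    apply Subtype.ext
    have h1 := Over.w (x' : Over.mk t.1 ⟶ (Scheme.Etale.forget U).obj V)
    have h2 := Over.w (x'' : Over.mk t'.1 ⟶ (Scheme.Etale.forget U).obj V)
    dsimp at h1 h2
    rw [← h1, ← h2, h]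
  subst e
  have : x' = x'' := Over.OverMorphism.ext h
  rw [this]

variable (j ξ) in
abbrev S (P : U.Etaleᵒᵖ ⥤ A) : A := ∐ fun t : T j ξ => (Ψ t).presheafFiber.obj P

variable (j ξ) in
abbrev R (M : A) : U.Etaleᵒᵖ ⥤ A :=
  (EtShriek.compEtale j).op ⋙ (Scheme.pointSmallEtale ξ).skyscraperPresheaf M

set_option backward.defeqAttrib.useBackward true in
set_option backward.isDefEq.respectTransparency false in
def homEquiv (P : U.Etaleᵒᵖ ⥤ A) (M : A) : (S j ξ P ⟶ M) ≃ (P ⟶ R j ξ M) where
  toFun f :=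
    { app V := Pi.lift (fun x => (Ψ (toT x)).toPresheafFiber V.unop (dec x) P ≫
        Sigma.ι (fun t : T j ξ => (Ψ t).presheafFiber.obj P) (toT x) ≫ f)
      naturality := by
        intro V V' g
        dsimp
        ext x
        simp
        have h1 := (Ψ (toT x)).toPresheafFiber_w g.unop (dec x) P
        rw [Quiver.Hom.op_unop] at h1
        rw [reassoc_of% h1]
        refine key_assoc P (toT x) (toT _) _ (dec _) ?_ f
        rfl }
  invFun g := Sigma.desc (fun t => (Ψ t).presheafFiberDesc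
    (fun V x' => g.app (op V) ≫ Pi.π _ (inc t x')) (by
      intro V V' f x'
      have h := g.naturality f.op
      dsimp at h
      rw [reassoc_of% h]
      simp
      rfl))
  left_inv f := by
    apply Sigma.hom_ext
    intro t
    apply (Ψ t).presheafFiber_hom_ext
    intro V x'
    simp
    exact key_assoc P (toT (inc t x')) t (dec (inc t x')) x' rfl f
  right_inv g := by
    ext V
    dsimp
    ext x
    simp
    rfl

variable (j ξ A) in
def SPre : (U.Etaleᵒᵖ ⥤ A) ⥤ A where
  obj P := S j ξ P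
  map f := Limits.Sigma.map (fun t => (Ψ t).presheafFiber.map f)

set_option backward.defeqAttrib.useBackward true in
set_option backward.isDefEq.respectTransparency false in
theorem homEquiv_naturality_left_symm {P Q : U.Etaleᵒᵖ ⥤ A} {M : A} (f : P ⟶ Q)
    (g : Q ⟶ R j ξ M) :
    (homEquiv P M).symm (f ≫ g) = (SPre j ξ A).map f ≫ (homEquiv Q M).symm g := by
  apply Sigma.hom_ext
  intro t
  apply (Ψ t).presheafFiber_hom_ext
  intro V x'
  simp [homEquiv, SPre]

set_option backward.defeqAttrib.useBackward true in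
set_option backward.isDefEq.respectTransparency false in
theorem homEquiv_naturality_right {P : U.Etaleᵒᵖ ⥤ A} {M N : A} (f : S j ξ P ⟶ M)
    (g : M ⟶ N) :
    homEquiv P N (f ≫ g) = homEquiv P M f ≫
      Functor.whiskerLeft (EtShriek.compEtale j).op
        ((Scheme.pointSmallEtale ξ).skyscraperPresheafFunctor.map g) := by
  ext V
  dsimp [homEquiv]
  ext x
  simp

variable (j ξ A) in
def SSh : Sheaf U.smallEtaleTopology A ⥤ A := sheafToPresheaf _ _ ⋙ SPre j ξ A

variable (j ξ A) in
def RSh [EtShriek.JCont j] : A ⥤ Sheaf U.smallEtaleTopology A :=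
  (Scheme.pointSmallEtale ξ).skyscraperSheafFunctor ⋙
    (EtShriek.compEtale j).sheafPushforwardContinuous A U.smallEtaleTopology X.smallEtaleTopology

variable (j ξ A) in
def adj [EtShriek.JCont j] : SSh j ξ A ⊣ RSh j ξ A :=
  Adjunction.mkOfHomEquiv
    { homEquiv F M := (homEquiv F.obj M).trans
        ((fullyFaithfulSheafToPresheaf _ _).homEquiv (Y := (RSh j ξ A).obj M)).symm
      homEquiv_naturality_left_symm f g := homEquiv_naturality_left_symm f.hom g.hom
      homEquiv_naturality_right f g := by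
        ext : 1
        exact homEquiv_naturality_right f g }

variable (j ξ A) in
def stalkExtZeroIso [EtShriek.JCont j]
    [((EtShriek.compEtale j).sheafPushforwardContinuous A U.smallEtaleTopology
      X.smallEtaleTopology).IsRightAdjoint] :
    (EtShriek.compEtale j).sheafPullback A U.smallEtaleTopology X.smallEtaleTopology ⋙
      (Scheme.pointSmallEtale ξ).sheafFiber ≅ SSh j ξ A :=
  (((EtShriek.compEtale j).sheafAdjunctionContinuous A U.smallEtaleTopology
    X.smallEtaleTopology).comp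
      (Scheme.pointSmallEtale ξ).skyscraperSheafAdjunction).leftAdjointUniq (adj j ξ A)

variable (j ξ A) in
abbrev DPre : (U.Etaleᵒᵖ ⥤ A) ⥤ (Discrete (T j ξ) ⥤ A) :=
  (Discrete.functor (fun t : T j ξ => (Ψ t).presheafFiber (A := A))).flip

variable (j ξ) in
def sPreIsoApp (P : U.Etaleᵒᵖ ⥤ A) : S j ξ P ≅ colimit ((DPre j ξ A).obj P) :=
  HasColimit.isoOfNatIso (Discrete.natIso (fun _ => Iso.refl _))

@[reassoc]
theorem ι_sPreIsoApp (P : U.Etaleᵒᵖ ⥤ A) (t : T j ξ) :
    Sigma.ι (fun t : T j ξ => (Ψ t).presheafFiber.obj P) t ≫ (sPreIsoApp j ξ P).hom =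
      colimit.ι ((DPre j ξ A).obj P) ⟨t⟩ := by
  refine (HasColimit.isoOfNatIso_ι_hom _ _).trans ?_
  exact Category.id_comp _

variable (j ξ A) in
def sPreIso : SPre j ξ A ≅ DPre j ξ A ⋙ colim :=
  NatIso.ofComponents (fun P => sPreIsoApp j ξ P) (by
    intro P Q f
    apply Sigma.hom_ext
    intro t
    dsimp [SPre]
    rw [ι_sPreIsoApp_assoc, Sigma.ι_map_assoc, ι_sPreIsoApp]
    erw [ι_colimMap]
    rfl)

theorem preservesFiniteLimits_DPre [HasFiniteLimits A]
    [∀ t : T j ξ, PreservesFiniteLimits ((Ψ t).presheafFiber (A := A))] :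
    PreservesFiniteLimits (DPre j ξ A) := by
  constructor
  intro J _ _
  apply preservesLimitsOfShape_of_evaluation
  rintro ⟨t⟩
  exact (inferInstance : PreservesLimitsOfShape J ((Ψ t).presheafFiber (A := A)))

theorem preservesFiniteLimits_SPre [HasFiniteLimits A]
    [HasExactColimitsOfShape (Discrete (T j ξ)) A]
    [∀ t : T j ξ, PreservesFiniteLimits ((Ψ t).presheafFiber (A := A))] :
    PreservesFiniteLimits (SPre j ξ A) := by
  have := preservesFiniteLimits_DPre (j := j) (ξ := ξ) (A := A)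
  have : PreservesFiniteLimits (DPre j ξ A ⋙ colim) := comp_preservesFiniteLimits _ _
  exact preservesFiniteLimits_of_natIso (sPreIso j ξ A).symm

theorem preservesFiniteLimits_SSh [HasFiniteLimits A]
    [HasExactColimitsOfShape (Discrete (T j ξ)) A]
    [∀ t : T j ξ, PreservesFiniteLimits ((Ψ t).presheafFiber (A := A))] :
    PreservesFiniteLimits (SSh j ξ A) := by
  have := preservesFiniteLimits_SPre (j := j) (ξ := ξ) (A := A)
  exact comp_preservesFiniteLimits _ _

section Ab

variable (j ξ)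

theorem preservesFiniteLimits_SSh_ab : PreservesFiniteLimits (SSh j ξ AddCommGrpCat.{u + 1}) := by
  have : AB4OfSize.{u} AddCommGrpCat.{u + 1} := AB4OfSize_shrink.{u, u + 1} _
  have : ∀ t : T j ξ, PreservesFiniteLimits ((Ψ t).presheafFiber (A := AddCommGrpCat.{u + 1})) :=
    fun t => PointULift.preservesFiniteLimits_presheafFiber.{u, u + 1} (Ψ t) AddCommGrpCat.{u + 1}
  exact preservesFiniteLimits_SSh

def stalkExtZeroIsoAb [EtShriek.JCont j] :
    EtShriek.extZero j ⋙ EtCoh.stalk ξ ≅ SSh j ξ AddCommGrpCat.{u + 1} :=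
  stalkExtZeroIso j ξ AddCommGrpCat.{u + 1}

theorem preservesFiniteLimits_extZero [EtShriek.JCont j] :
    PreservesFiniteLimits (EtShriek.extZero j) := by
  refine EtStalk.preservesFiniteLimits_of_stalk _ ?_
  intro Ω _ _ ξ
  have := preservesFiniteLimits_SSh_ab j ξ
  exact preservesFiniteLimits_of_natIso (stalkExtZeroIsoAb j ξ).symm

theorem stalk_extZero_iso [EtShriek.JCont j] (F : EtCoh.Ab U) :
    Nonempty ((EtCoh.stalk ξ).obj ((EtShriek.extZero j).obj F) ≅
      ∐ fun u : {u : Spec (CommRingCat.of Ω) ⟶ U // u ≫ j = ξ} => (EtCoh.stalk u.1).obj F) :=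
  ⟨(stalkExtZeroIsoAb j ξ).app F⟩

end Ab

end Groth.Agent.Lib.Helper4.ExtZero
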