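import Groth.Agent.Lib.Helper4.EtRestr
import Groth.Agent.Lib.Helper4.ExtZero

set_option autoImplicit false
open CategoryTheory CategoryTheory.Limits AlgebraicGeometry Opposite
universe u

namespace Groth.Agent.Lib.Helper4.ExtZeroOpen
open Groth.Agent.Lib.Helper4

theorem isIso_restr_counit {U X : Scheme.{u}} (j : U ⟶ X) [IsOpenImmersion j]
    [AlgebraicGeometry.Etale j] [EtShriek.JCont j] (G : EtCoh.Ab X) :
    IsIso ((EtShriek.restrAlong j).map ((EtShriek.extZeroAdj j).counit.app G)) := by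
  have := EtRestr.isIso_extZeroAdj_unit j
  have h := (EtShriek.extZeroAdj j).right_triangle_components G
  exact IsIso.of_isIso_fac_left h

theorem isIso_stalk_counit_of_lift {U X : Scheme.{u}} (j : U ⟶ X) [IsOpenImmersion j]
    [AlgebraicGeometry.Etale j] [EtShriek.JCont j] (G : EtCoh.Ab X)
    {Ω : Type u} [Field Ω] [IsSepClosed Ω] (v : Spec (CommRingCat.of Ω) ⟶ U) :
    IsIso ((EtCoh.stalk (v ≫ j)).map ((EtShriek.extZeroAdj j).counit.app G)) := by
  have h1 := isIso_restr_counit j G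
  have h2 : IsIso ((EtCoh.pull j).map ((EtShriek.extZeroAdj j).counit.app G)) :=
    (PointULift.isIso_map_iff_of_natIso (EtRestr.restrPullIso j) _).1 h1
  have h3 : IsIso ((EtCoh.pull j ⋙ EtCoh.stalk v).map ((EtShriek.extZeroAdj j).counit.app G)) := by
    dsimp only [Functor.comp_map]
    infer_instance
  exact (PointULift.isIso_map_iff_of_natIso (EtStalkPull.stalkPullIso j v) _).1 h3

theorem isZero_stalk_extZero_of_not_mem {U X : Scheme.{u}} (j : U ⟶ X)
    [AlgebraicGeometry.Etale j] [EtShriek.JCont j] (F : EtCoh.Ab U)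
    {Ω : Type u} [Field Ω] [IsSepClosed Ω] (ξ : Spec (CommRingCat.of Ω) ⟶ X)
    (hx : ξ.base default ∉ Set.range j.base) :
    IsZero ((EtCoh.stalk ξ).obj ((EtShriek.extZero j).obj F)) := by
  obtain ⟨i⟩ := ExtZero.stalk_extZero_iso j ξ F
  have hE : IsEmpty {u : Spec (CommRingCat.of Ω) ⟶ U // u ≫ j = ξ} := by
    constructor
    rintro ⟨v, hv⟩
    apply hx
    rw [← hv]
    exact ⟨v.base default, rfl⟩
  refine IsZero.of_iso ?_ i
  have : IsEmpty (Discrete {u : Spec (CommRingCat.of Ω) ⟶ U // u ≫ j = ξ}) :=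
    ⟨fun x => hE.false x.as⟩
  exact ((isColimitEquivIsInitialOfIsEmpty _ (colimit.cocone _)) (colimit.isColimit _)).isZero

theorem main {U X : Scheme.{u}} (j : U ⟶ X) [IsOpenImmersion j]
    [AlgebraicGeometry.Etale j] [EtShriek.JCont j] (F : EtCoh.Ab U) (G : EtCoh.Ab X)
    (hres : Nonempty ((EtShriek.restrAlong j).obj G ≅ F))
    (hzero : ∀ (Ω : Type u) [Field Ω] [IsSepClosed Ω] (ξ : Spec (CommRingCat.of Ω) ⟶ X),
      Set.range ξ.base ⊆ (Set.range j.base)ᶜ → IsZero ((EtCoh.stalk ξ).obj G)) :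
    Nonempty (G ≅ (EtShriek.extZero j).obj F) := by
  obtain ⟨e⟩ := hres
  have hc : IsIso ((EtShriek.extZeroAdj j).counit.app G) := by
    rw [EtStalk.isIso_iff_stalk]
    intro Ω _ _ ξ
    by_cases hx : ξ.base default ∈ Set.range j.base
    · have hr : Set.range ξ.base ⊆ Set.range j.base := by
        rintro _ ⟨a, rfl⟩
        rwa [Subsingleton.elim a default]
      have hl := IsOpenImmersion.lift_fac j ξ hr
      rw [← hl]
      exact isIso_stalk_counit_of_lift j G _
    · have hr : Set.range ξ.base ⊆ (Set.range j.base)ᶜ := by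
        rintro _ ⟨a, rfl⟩
        rwa [Subsingleton.elim a default]
      have hz1 := hzero Ω ξ hr
      obtain ⟨i⟩ := ExtZero.stalk_extZero_iso j ξ ((EtShriek.restrAlong j).obj G)
      have hE : IsEmpty {u : Spec (CommRingCat.of Ω) ⟶ U // u ≫ j = ξ} := by
        constructor
        rintro ⟨v, hv⟩
        apply hx
        rw [← hv]
        exact ⟨v.base default, rfl⟩
      have hz2 : IsZero ((EtCoh.stalk ξ).obj
          ((EtShriek.extZero j).obj ((EtShriek.restrAlong j).obj G))) := by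
        refine IsZero.of_iso ?_ i
        have : IsEmpty (Discrete {u : Spec (CommRingCat.of Ω) ⟶ U // u ≫ j = ξ}) :=
          ⟨fun x => hE.false x.as⟩
        exact ((isColimitEquivIsInitialOfIsEmpty _ (colimit.cocone _)) (colimit.isColimit _)).isZero
      exact isIso_of_source_target_iso_zero _ hz2.isoZero hz1.isoZero
  exact ⟨(asIso ((EtShriek.extZeroAdj j).counit.app G)).symm ≪≫ (EtShriek.extZero j).mapIso e⟩

end Groth.Agent.Lib.Helper4.ExtZeroOpen
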