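import Groth.Agent.Lib.Helper4.ClosedStalk
import Groth.Agent.Lib.Helper4.ExtZeroOpen
import Groth.Agent.S0069

set_option autoImplicit false
open CategoryTheory CategoryTheory.Limits AlgebraicGeometry Opposite
universe u

namespace Groth.Agent.Lib.Helper4.ClosedRecoll

theorem eq_zero_of_stalk {X : Scheme.{u}} {F G : EtCoh.Ab X} (a : F ⟶ G)
    (h : ∀ (Ω : Type u) [Field Ω] [IsSepClosed Ω] (ξ : Spec (CommRingCat.of Ω) ⟶ X),
      (EtCoh.stalk ξ).map a = 0) : a = 0 := by
  let S : ShortComplex (EtCoh.Ab X) := ShortComplex.mk (kernel.ι a) a (kernel.condition a)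
  have hS : S.Exact := S.exact_of_f_is_kernel (kernelIsKernel a)
  have : Epi (kernel.ι a) := (EtStalk.epi_iff_stalk _).2 fun Ω _ _ ξ =>
    ((S.map (EtCoh.stalk ξ)).exact_iff_epi (h Ω ξ)).1 ((EtStalk.exact_iff_stalk S).1 hS Ω ξ)
  exact eq_zero_of_epi_kernel a

variable {Z X : Scheme.{u}} (i : Z ⟶ X) [IsClosedImmersion i]

theorem exists_lift_geomPt {Ω : Type u} [Field Ω] [IsSepClosed Ω]
    (ξ : Spec (CommRingCat.of Ω) ⟶ X) (h : Set.range ξ.base ⊆ Set.range i.base) :
    ∃ ζ : Spec (CommRingCat.of Ω) ⟶ Z, ζ ≫ i = ξ := by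
  let p := pullback.fst ξ i
  have : IsClosedImmersion p := inferInstance
  have : Surjective p := ⟨by
    intro a
    have hr := Scheme.Pullback.range_fst ξ i
    have ha : a ∈ Set.range (pullback.fst ξ i).base := by
      rw [hr]
      exact h ⟨a, rfl⟩
    exact ha⟩
  have : IsIso p := isIso_of_isClosedImmersion_of_surjective p
  exact ⟨inv p ≫ pullback.snd ξ i, by
    rw [Category.assoc, ← pullback.condition, IsIso.inv_hom_id_assoc]⟩

theorem isIso_pull_unit (F : EtCoh.Ab X) :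
    IsIso ((EtCoh.pull i).map ((EtCoh.pullPushAdj i).unit.app F)) := by
  have h := (EtCoh.pullPushAdj i).left_triangle_components F
  have : IsIso ((EtCoh.pullPushAdj i).counit.app ((EtCoh.pull i).obj F)) :=
    ClosedStalk.isIso_counit_app i _
  have h2 : IsIso ((EtCoh.pull i).map ((EtCoh.pullPushAdj i).unit.app F) ≫
      (EtCoh.pullPushAdj i).counit.app ((EtCoh.pull i).obj F)) := by
    rw [h]
    exact IsIso.id _
  exact IsIso.of_isIso_comp_right _ ((EtCoh.pullPushAdj i).counit.app ((EtCoh.pull i).obj F))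

theorem isIso_stalk_unit (F : EtCoh.Ab X) {Ω : Type u} [Field Ω] [IsSepClosed Ω]
    (ζ : Spec (CommRingCat.of Ω) ⟶ Z) :
    IsIso ((EtCoh.stalk (ζ ≫ i)).map ((EtCoh.pullPushAdj i).unit.app F)) := by
  have h2 := isIso_pull_unit i F
  have h3 : IsIso ((EtCoh.pull i ⋙ EtCoh.stalk ζ).map ((EtCoh.pullPushAdj i).unit.app F)) := by
    dsimp only [Functor.comp_map]
    infer_instance
  exact (PointULift.isIso_map_iff_of_natIso (EtStalkPull.stalkPullIso i ζ) _).1 h3

theorem isZero_stalk_of_vanishing (F : EtCoh.Ab X)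
    (hF : ∀ U : X.Etale, Disjoint (Set.range U.hom.base) (Set.range i.base) →
      IsZero (F.obj.obj (op U)))
    {Ω : Type u} [Field Ω] [IsSepClosed Ω] (ξ : Spec (CommRingCat.of Ω) ⟶ X)
    (hξ : Disjoint (Set.range ξ.base) (Set.range i.base)) :
    IsZero ((EtCoh.stalk ξ).obj F) := by
  set Φ := Scheme.pointSmallEtale ξ with hΦ
  set P : (X.Etale)ᵒᵖ ⥤ AddCommGrpCat.{u+1} := F.obj with hP
  change IsZero (Φ.presheafFiber.obj P)
  rw [IsZero.iff_id_eq_zero]
  apply Φ.presheafFiber_hom_ext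
  intro U u
  rw [Category.comp_id, comp_zero]
  cases U with | _ Y f
  obtain ⟨v, hv, rfl⟩ := Over.homMk_surjective u
  dsimp at v hv
  let W : X.Opens := ⟨(Set.range i.base)ᶜ, i.isClosedEmbedding.isClosed_range.isOpen_compl⟩
  let W' : Y.Opens := f ⁻¹ᵁ W
  let U' : X.Etale := Scheme.Etale.mk (W'.ι ≫ f)
  let j : U' ⟶ Scheme.Etale.mk f := MorphismProperty.Over.homMk W'.ι rfl
  have hrange : Set.range v.base ⊆ Set.range W'.ι.base := by
    rintro _ ⟨a, rfl⟩
    rw [Scheme.Opens.range_ι]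
    change f.base (v.base a) ∈ (Set.range i.base)ᶜ
    have : f.base (v.base a) = ξ.base a := by
      rw [← hv]; rfl
    rw [this]
    exact Set.disjoint_left.1 hξ ⟨a, rfl⟩
  let l : Spec (CommRingCat.of Ω) ⟶ W'.toScheme := IsOpenImmersion.lift W'.ι v hrange
  have hl : l ≫ W'.ι = v := IsOpenImmersion.lift_fac _ _ _
  let u' : Φ.fiber.obj U' := Over.homMk l (by
    change l ≫ W'.ι ≫ f = ξ
    rw [← Category.assoc, hl, hv])
  have hu' : Φ.fiber.map j u' = Over.homMk v hv := by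
    apply Over.OverMorphism.ext
    exact hl
  have hz : IsZero (P.obj (op U')) := hF U' (by
    rw [Set.disjoint_left]
    rintro _ ⟨a, rfl⟩
    change f.base (W'.ι.base a) ∈ (Set.range i.base)ᶜ
    exact a.2)
  rw [← hu', ← Φ.toPresheafFiber_w j u' P]
  rw [hz.eq_of_tgt (P.map j.op) 0, zero_comp]

end Groth.Agent.Lib.Helper4.ClosedRecoll
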