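import Groth.Prelude.Def_EtCore

set_option autoImplicit false
open CategoryTheory CategoryTheory.Limits AlgebraicGeometry Opposite
universe u

namespace Groth.Agent.Lib.Helper4.PullConstComp
open EtCore

section
variable {X Y : Scheme.{u}} (f : X ⟶ Y)

noncomputable def σ (G : EtCoh.Ab Y) : (gsec Y).obj G ⟶ (gsec X).obj ((EtCoh.pull f).obj G) :=
  (gsec Y).map ((EtCoh.pullPushAdj f).unit.app G) ≫ (pushGsecIso f).hom.app ((EtCoh.pull f).obj G)

theorem σ_naturality {G G' : EtCoh.Ab Y} (φ : G ⟶ G') :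
    (gsec Y).map φ ≫ σ f G' = σ f G ≫ (gsec X).map ((EtCoh.pull f).map φ) := by
  unfold σ
  have h1 := (EtCoh.pullPushAdj f).unit.naturality φ
  have h2 := (pushGsecIso f).hom.naturality ((EtCoh.pull f).map φ)
  simp only [Functor.id_map, Functor.comp_map] at h1 h2
  rw [← Category.assoc, ← Functor.map_comp, h1, Functor.map_comp, Category.assoc, Category.assoc, h2]

noncomputable abbrev α :
    constantSheaf Y.smallEtaleTopology AddCommGrpCat.{u+1} ⋙ EtCoh.pull f ⊣ gsec X :=
  ((constAdj Y).comp (EtCoh.pullPushAdj f)).ofNatIsoRight (pushGsecIso f)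

theorem α_unit (M : AddCommGrpCat.{u+1}) :
    (α f).unit.app M = (constAdj Y).unit.app M ≫
      σ f ((constantSheaf Y.smallEtaleTopology AddCommGrpCat.{u+1}).obj M) := by
  unfold σ
  simp [α]

theorem pullConstIso_char (M : AddCommGrpCat.{u+1}) :
    (constAdj Y).unit.app M ≫ σ f ((constantSheaf Y.smallEtaleTopology AddCommGrpCat.{u+1}).obj M) ≫
      (gsec X).map ((pullConstIso f).hom.app M) = (constAdj X).unit.app M := by
  have := Adjunction.unit_leftAdjointUniq_hom_app (α f) (constAdj X) M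
  rw [α_unit, Category.assoc] at this
  exact this

end

section Comp
variable {W U X : Scheme.{u}} (k : W ⟶ U) (j : U ⟶ X)

theorem gamma_comp (H : EtCoh.Ab W) :
    (gsec X).map ((EtCoh.pushComp j k).hom.app H) ≫ (pushGsecIso (k ≫ j)).hom.app H =
      (pushGsecIso j).hom.app ((EtCoh.push k).obj H) ≫ (pushGsecIso k).hom.app H := by
  have hterm : IsTerminal ((EtCoh.bc k).obj ((EtCoh.bc j).obj (EtCoh.top X))) :=
    IsTerminal.isTerminalObj (EtCoh.bc k) _ (bcTopIsTerminal j)
  change H.obj.map _ ≫ H.obj.map _ = H.obj.map _ ≫ H.obj.map _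
  rw [← H.obj.map_comp, ← H.obj.map_comp]
  congr 1
  apply Quiver.Hom.unop_inj
  exact hterm.hom_ext _ _

theorem pullComp_char (G : EtCoh.Ab X) :
    (EtCoh.pullPushAdj (k ≫ j)).unit.app G ≫
        (EtCoh.push (k ≫ j)).map ((pullComp k j).hom.app G) =
      (EtCoh.pullPushAdj j).unit.app G ≫
        (EtCoh.push j).map ((EtCoh.pullPushAdj k).unit.app ((EtCoh.pull j).obj G)) ≫
        (EtCoh.pushComp j k).hom.app ((EtCoh.pull k).obj ((EtCoh.pull j).obj G)) := by
  have := Adjunction.unit_leftAdjointUniq_hom_app (EtCoh.pullPushAdj (k ≫ j))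
    (((EtCoh.pullPushAdj j).comp (EtCoh.pullPushAdj k)).ofNatIsoRight (EtCoh.pushComp j k)) G
  refine this.trans ?_
  simp

theorem σ_comp (G : EtCoh.Ab X) :
    σ (k ≫ j) G ≫ (gsec W).map ((pullComp k j).hom.app G) =
      σ j G ≫ σ k ((EtCoh.pull j).obj G) := by
  unfold σ
  have h1 := (pushGsecIso (k ≫ j)).hom.naturality ((pullComp k j).hom.app G)
  have h2 := (pushGsecIso j).hom.naturality
    ((EtCoh.pullPushAdj k).unit.app ((EtCoh.pull j).obj G))
  have g := gamma_comp k j ((EtCoh.pull k).obj ((EtCoh.pull j).obj G))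
  simp only [Functor.comp_map] at h1 h2
  rw [Category.assoc, ← h1, ← Category.assoc, ← Functor.map_comp, pullComp_char,
    Functor.map_comp, Functor.map_comp, Category.assoc, Category.assoc]
  dsimp only [Functor.comp_obj, Functor.id_obj] at h1 h2 ⊢
  rw [g, Category.assoc]
  congr 1
  rw [← Category.assoc, h2, Category.assoc]

theorem pullConstIso_comp (M : AddCommGrpCat.{u+1}) :
    (pullComp k j).hom.app ((constantSheaf X.smallEtaleTopology AddCommGrpCat.{u+1}).obj M) ≫
        (EtCoh.pull k).map ((pullConstIso j).hom.app M) ≫ (pullConstIso k).hom.app M =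
      (pullConstIso (k ≫ j)).hom.app M := by
  apply ((α (k ≫ j)).homEquiv M _).injective
  rw [Adjunction.homEquiv_unit, Adjunction.homEquiv_unit]
  have hR : (α (k ≫ j)).unit.app M ≫ (gsec W).map ((pullConstIso (k ≫ j)).hom.app M) =
      (constAdj W).unit.app M :=
    Adjunction.unit_leftAdjointUniq_hom_app (α (k ≫ j)) (constAdj W) M
  rw [hR, α_unit, Functor.map_comp, Functor.map_comp, Category.assoc]
  have h1 := σ_comp k j ((constantSheaf X.smallEtaleTopology AddCommGrpCat.{u+1}).obj M)
  have h2 := σ_naturality k ((pullConstIso j).hom.app M)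
  have h3 := pullConstIso_char j M
  have h4 := pullConstIso_char k M
  dsimp only [Functor.comp_obj] at h1 h2 h3 h4 ⊢
  rw [reassoc_of% h1, ← reassoc_of% h2, reassoc_of% h3]
  exact h4

theorem pullConst_inv_comp (M : Type) [AddCommGroup M] :
    (pullConst k M).inv ≫ (EtCoh.pull k).map (pullConst j M).inv ≫
        (pullComp k j).inv.app (EtCoh.const X M) = (pullConst (k ≫ j) M).inv := by
  have h := pullConstIso_comp k j (AddCommGrpCat.of (ULift.{u+1} M))
  rw [← cancel_mono ((pullConstIso (k ≫ j)).hom.app (AddCommGrpCat.of (ULift.{u+1} M)))]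
  change _ = (pullConst (k ≫ j) M).inv ≫ (pullConst (k ≫ j) M).hom
  rw [Iso.inv_hom_id, ← h]
  change ((pullConst k M).inv ≫ (EtCoh.pull k).map (pullConst j M).inv ≫
    (pullComp k j).inv.app (EtCoh.const X M)) ≫ (pullComp k j).hom.app (EtCoh.const X M) ≫
      (EtCoh.pull k).map (pullConst j M).hom ≫ (pullConst k M).hom = _
  simp only [Category.assoc]
  rw [← NatTrans.comp_app_assoc, Iso.inv_hom_id, NatTrans.id_app, Category.id_comp,
    ← Functor.map_comp_assoc, Iso.inv_hom_id, CategoryTheory.Functor.map_id, Category.id_comp,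
    Iso.inv_hom_id]

theorem pullConst_inv_via {j₀ : W ⟶ X} (w : k ≫ j = j₀) (M : Type) [AddCommGroup M] :
    (pullConst k M).inv ≫ (EtCoh.pull k).map (pullConst j M).inv ≫
        (((pullComp k j).symm ≪≫ pullCongr w).app (EtCoh.const X M)).hom =
      (pullConst j₀ M).inv := by
  subst w
  have h := pullConst_inv_comp k j M
  rw [← h]
  congr 2

end Comp

end Groth.Agent.Lib.Helper4.PullConstComp
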