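import Groth.Prelude.Def_EtShriek2
import Mathlib.CategoryTheory.Adjunction.Triple

set_option autoImplicit false
open CategoryTheory CategoryTheory.Limits AlgebraicGeometry Opposite
universe u

noncomputable section

namespace Groth.Agent.Lib.Helper4.EtRestr

variable {U X : Scheme.{u}} (j : U ⟶ X) [hj : Etale j]

def adjSite : EtShriek.compEtale j ⊣ EtCoh.bc j :=
  MorphismProperty.Over.mapPullbackAdj EtCoh.etaleMP.{u} ⊤ j hj trivial

variable [EtShriek.JCont j]

def restrPushAdj : EtShriek.restrAlong j ⊣ EtCoh.push j :=
  (adjSite j).sheafPushforwardContinuous (E := AddCommGrpCat.{u + 1}) U.smallEtaleTopology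
    X.smallEtaleTopology

def restrPullIso : EtShriek.restrAlong j ≅ EtCoh.pull j :=
  (restrPushAdj j).leftAdjointUniq (EtCoh.pullPushAdj j)

def triple : Adjunction.Triple (EtShriek.extZero j) (EtShriek.restrAlong j) (EtCoh.push j) :=
  ⟨EtShriek.extZeroAdj j, restrPushAdj j⟩

theorem isIso_restrPushAdj_counit_app [Mono j] (F : EtCoh.Ab U) :
    IsIso ((restrPushAdj j).counit.app F) := by
  have : IsIso ((sheafToPresheaf _ _).map ((restrPushAdj j).counit.app F)) := by
    refine @NatIso.isIso_of_isIso_app _ _ _ _ _ _ _ ?_
    intro V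
    have h : IsIso ((adjSite j).unit.app V.unop) := inferInstance
    have : ((sheafToPresheaf _ _).map ((restrPushAdj j).counit.app F)).app V =
        F.obj.map ((adjSite j).unit.app V.unop).op := by
      simp [restrPushAdj] <;> rfl
    rw [this]
    have h2 : IsIso ((adjSite j).unit.app V.unop).op := inferInstance
    exact Functor.map_isIso _ _
  exact isIso_of_reflects_iso _ (sheafToPresheaf _ _)

theorem isIso_restrPushAdj_counit [Mono j] : IsIso (restrPushAdj j).counit := by
  have := isIso_restrPushAdj_counit_app j
  exact NatIso.isIso_of_isIso_app _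

theorem isIso_extZeroAdj_unit [Mono j] : IsIso (EtShriek.extZeroAdj j).unit := by
  have := isIso_restrPushAdj_counit j
  exact (triple j).isIso_unit_iff_isIso_counit.2 this

theorem isIso_pullPushAdj_counit_app [Mono j] (F : EtCoh.Ab U) :
    IsIso ((EtCoh.pullPushAdj j).counit.app F) := by
  have h := Adjunction.leftAdjointUniq_hom_app_counit (restrPushAdj j) (EtCoh.pullPushAdj j) F
  have := isIso_restrPushAdj_counit_app j F
  have h2 : (EtCoh.pullPushAdj j).counit.app F =
      ((restrPushAdj j).leftAdjointUniq (EtCoh.pullPushAdj j)).inv.app _ ≫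
        (restrPushAdj j).counit.app F := by
    rw [← h, ← Category.assoc, ← NatTrans.comp_app, Iso.inv_hom_id, NatTrans.id_app,
      Category.id_comp]
  rw [h2]
  infer_instance

end Groth.Agent.Lib.Helper4.EtRestr
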