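import Groth.Agent.Lib.Helper4.JContEtale
import Groth.Agent.Lib.Helper4.ExtZero
import Groth.Agent.Lib.Helper4.EtRestr
import Mathlib.CategoryTheory.Preadditive.Injective.Basic
import Mathlib.Algebra.Homology.DerivedCategory.Ext.EnoughInjectives

set_option autoImplicit false
open CategoryTheory CategoryTheory.Limits AlgebraicGeometry Opposite
universe u

namespace Groth.Agent.Lib.Helper4.InjPull

variable {U X : Scheme.{u}}

theorem injective_restrAlong (j : U ⟶ X) [Etale j] (I : EtCoh.Ab X) [Injective I] :
    Injective ((EtShriek.restrAlong j).obj I) := by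
  have : PreservesFiniteLimits (EtShriek.extZero j) := ExtZero.preservesFiniteLimits_extZero j
  exact Injective.injective_of_adjoint (EtShriek.extZeroAdj j) I

theorem injective_pull (j : U ⟶ X) [Etale j] (I : EtCoh.Ab X) [Injective I] :
    Injective ((EtCoh.pull j).obj I) := by
  have := injective_restrAlong j I
  exact Injective.of_iso ((EtRestr.restrPullIso j).app I) this

theorem injective_push {X Y : Scheme.{u}} (f : X ⟶ Y) (I : EtCoh.Ab X) [Injective I] :
    Injective ((EtCoh.push f).obj I) := by
  have : PreservesFiniteLimits (EtCoh.pull f) := EtStalk.preservesFiniteLimits_pull f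
  exact Injective.injective_of_adjoint (EtCoh.pullPushAdj f) I

theorem subsingleton_H_of_injective (X : Scheme.{u}) (I : EtCoh.Ab X) [Injective I] (q : ℕ)
    (hq : 1 ≤ q) : Subsingleton (EtCoh.H X I q) := by
  obtain ⟨n, rfl⟩ : ∃ n, q = n + 1 := ⟨q - 1, by omega⟩
  refine ⟨fun a b => ?_⟩
  have ha : a = 0 := Abelian.Ext.eq_zero_of_injective a
  have hb : b = 0 := Abelian.Ext.eq_zero_of_injective b
  rw [ha, hb]

end Groth.Agent.Lib.Helper4.InjPull
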