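import Groth.Prelude.Def_EtCore
import Groth.Agent.Lib.Helper4.ExtAdj
import Groth.Agent.Lib.Helper4.InjPull
import Groth.Agent.Lib.Helper4.PullConstComp
import Groth.Agent.Lib.Helper4.ExtZeroOpen

set_option autoImplicit false
open CategoryTheory CategoryTheory.Limits AlgebraicGeometry Opposite
universe u

namespace Groth.Agent.Lib.Helper4.EtExtShriek
open EtCore Abelian

section One
variable {U X : Scheme.{u}} (j : U ⟶ X) [Etale j]

noncomputable def adjP : EtShriek.extZero j ⊣ EtCoh.pull j :=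
  (EtShriek.extZeroAdj j).ofNatIsoRight (EtRestr.restrPullIso j)

theorem hinj (I : EtCoh.Ab X) (hI : Injective I) : Injective ((EtCoh.pull j).obj I) :=
  InjPull.injective_pull j I

noncomputable abbrev ZU : EtCoh.Ab U := EtCoh.const U ℤ

noncomputable abbrev AU : EtCoh.Ab X := (EtShriek.extZero j).obj (EtCoh.const U ℤ)

noncomputable def cU : AU j ⟶ EtCoh.const X ℤ :=
  ((adjP j).homEquiv _ _).symm (pullConst j ℤ).inv

theorem unit_cU : (adjP j).unit.app (EtCoh.const U ℤ) ≫ (EtCoh.pull j).map (cU j) =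
    (pullConst j ℤ).inv := by
  have h := (Adjunction.homEquiv_unit (adj := adjP j) (f := cU j)).symm
  exact h.trans (Equiv.apply_symm_apply _ _)

variable [PreservesFiniteLimits (EtCoh.pull j)]

noncomputable def ΘE (F : EtCoh.Ab X) (n : ℕ) :
    Ext (AU j) F n ≃+ EtCoh.H U ((EtCoh.pull j).obj F) n :=
  ExtAdj.ΘEquiv (adjP j) (hinj j) (EtCoh.const U ℤ) F n

theorem ΘE_apply (F : EtCoh.Ab X) (n : ℕ) (e : Ext (AU j) F n) :
    ΘE j F n e = (Ext.mk₀ ((adjP j).unit.app (EtCoh.const U ℤ))).comp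
      (e.mapExactFunctor (EtCoh.pull j)) (zero_add n) := rfl

theorem Hpull_eq (F : EtCoh.Ab X) (n : ℕ) (e : EtCoh.H X F n) :
    Hpull j F n e = ΘE j F n ((Ext.mk₀ (cU j)).comp e (zero_add n)) := by
  rw [ΘE_apply, Ext.mapExactFunctor_comp, Ext.mapExactFunctor_mk₀,
    ← Ext.comp_assoc_of_second_deg_zero, Ext.mk₀_comp_mk₀, unit_cU]
  rfl

end One

section Two
variable {W U X : Scheme.{u}} (k : W ⟶ U) (j : U ⟶ X) (j₀ : W ⟶ X) (w : k ≫ j = j₀)
  [Etale j] [Etale j₀]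

noncomputable abbrev viaIso : EtCoh.pull j ⋙ EtCoh.pull k ≅ EtCoh.pull j₀ :=
  (pullComp k j).symm ≪≫ pullCongr w

noncomputable def mU : EtCoh.const W ℤ ⟶ (EtCoh.pull j₀).obj (AU j) :=
  (pullConst k ℤ).inv ≫ (EtCoh.pull k).map ((adjP j).unit.app (EtCoh.const U ℤ)) ≫
    (viaIso k j j₀ w).hom.app (AU j)

noncomputable def aU : AU j₀ ⟶ AU j :=
  ((adjP j₀).homEquiv _ _).symm (mU k j j₀ w)

theorem unit_aU : (adjP j₀).unit.app (EtCoh.const W ℤ) ≫ (EtCoh.pull j₀).map (aU k j j₀ w) =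
    mU k j j₀ w := by
  have h := (Adjunction.homEquiv_unit (adj := adjP j₀) (f := aU k j j₀ w)).symm
  exact h.trans (Equiv.apply_symm_apply _ _)

theorem aU_cU : aU k j j₀ w ≫ cU j = cU j₀ := by
  apply ((adjP j₀).homEquiv _ _).injective
  rw [Adjunction.homEquiv_unit, Adjunction.homEquiv_unit, Functor.map_comp,
    ← Category.assoc, unit_aU, unit_cU]
  unfold mU
  have hn := (viaIso k j j₀ w).hom.naturality (cU j)
  simp only [Functor.comp_map] at hn
  rw [Category.assoc, Category.assoc, ← hn, ← Functor.map_comp_assoc, unit_cU]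
  exact PullConstComp.pullConst_inv_via k j w ℤ

variable [PreservesFiniteLimits (EtCoh.pull j)] [PreservesFiniteLimits (EtCoh.pull j₀)]
  [PreservesFiniteLimits (EtCoh.pull k)]

theorem HpullVia_eq (F : EtCoh.Ab X) (n : ℕ) (e : Ext (AU j) F n) :
    HpullVia k j j₀ w F n (ΘE j F n e) = ΘE j₀ F n ((Ext.mk₀ (aU k j j₀ w)).comp e (zero_add n)) := by
  have hL : HpullVia k j j₀ w F n (ΘE j F n e) =
      ((Ext.mk₀ (pullConst k ℤ).inv).comp ((ΘE j F n e).mapExactFunctor (EtCoh.pull k))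
        (zero_add n)).comp (Ext.mk₀ ((viaIso k j j₀ w).hom.app F)) (add_zero n) := rfl
  rw [hL, ΘE_apply, ΘE_apply, Ext.mapExactFunctor_comp, Ext.mapExactFunctor_mk₀,
    Ext.mapExactFunctor_comp, Ext.mapExactFunctor_mk₀]
  have hnat := ExtAdj.mapExactFunctor_comp_nat (EtCoh.pull j) (EtCoh.pull k) (EtCoh.pull j₀)
    (viaIso k j j₀ w).hom (AU j) n F e
  rw [Ext.comp_assoc_of_third_deg_zero, Ext.comp_assoc_of_third_deg_zero, hnat,
    ← Ext.comp_assoc_of_second_deg_zero, ← Ext.comp_assoc_of_second_deg_zero,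
    ← Ext.comp_assoc_of_second_deg_zero, Ext.mk₀_comp_mk₀, Ext.mk₀_comp_mk₀, Ext.mk₀_comp_mk₀,
    unit_aU]
  rfl

end Two

end Groth.Agent.Lib.Helper4.EtExtShriek
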