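import Groth.Prelude.Def_EtCore
import Groth.Agent.Lib.Helper4.EtStalk
import Groth.Agent.Lib.Helper4.EtRestr
import Groth.Agent.Lib.Helper4.JContEtale
import Mathlib.CategoryTheory.Sites.SheafCohomology.Basic
import Mathlib.Algebra.Homology.DerivedCategory.Ext.ExactSequences

set_option autoImplicit false
open CategoryTheory CategoryTheory.Limits AlgebraicGeometry Opposite
universe u

namespace Groth.Agent.Lib.Helper4.FlasqueSurj
open EtCore Abelian

theorem surjective_gsec_of_H1 {Y : Scheme.{u}} (S : ShortComplex (EtCoh.Ab Y)) (hS : S.ShortExact)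
    (h1 : Subsingleton (EtCoh.H Y S.X₁ 1)) :
    Function.Surjective (S.g.hom.app (op (EtCoh.top Y))) := by
  intro y
  have hT := topIsTerminal Y
  let x₃ : EtCoh.H Y S.X₃ 0 := (Sheaf.H.equiv₀ S.X₃ hT).symm y
  obtain ⟨x₂, hx₂⟩ := Ext.covariant_sequence_exact₃ _ hS x₃ (rfl : 0 + 1 = 1)
    (Subsingleton.elim _ _)
  refine ⟨Sheaf.H.equiv₀ S.X₂ hT x₂, ?_⟩
  have hn := Sheaf.H.equiv₀_naturality (hT := hT) S.g x₂
  rw [hn]
  have : Sheaf.H.map S.g 0 x₂ = x₃ := hx₂
  rw [this]
  exact (Sheaf.H.equiv₀ S.X₃ hT).apply_symm_apply y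


theorem surjective_restr_of_H1 {X : Scheme.{u}} (S : ShortComplex (EtCoh.Ab X)) (hS : S.ShortExact)
    {Y : Scheme.{u}} (j : Y ⟶ X) [Etale j]
    (h1 : Subsingleton (EtCoh.H Y ((EtCoh.pull j).obj S.X₁) 1)) :
    Function.Surjective
      (S.g.hom.app (op ((EtShriek.compEtale j).obj (EtCoh.top Y)))) := by
  have : PreservesFiniteLimits (EtCoh.pull j) := EtStalk.preservesFiniteLimits_pull j
  have hS' : (S.map (EtCoh.pull j)).ShortExact := hS.map_of_exact (EtCoh.pull j)
  have surj1 : Function.Surjective (((EtCoh.pull j).map S.g).hom.app (op (EtCoh.top Y))) :=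
    surjective_gsec_of_H1 (S.map (EtCoh.pull j)) hS' h1
  intro y'
  let e := EtRestr.restrPullIso j
  obtain ⟨z, hz⟩ := surj1 ((e.hom.app S.X₃).hom.app (op (EtCoh.top Y)) y')
  refine ⟨(e.inv.app S.X₂).hom.app (op (EtCoh.top Y)) z, ?_⟩
  have hnat : e.inv.app S.X₂ ≫ (EtShriek.restrAlong j).map S.g =
      (EtCoh.pull j).map S.g ≫ e.inv.app S.X₃ := (e.inv.naturality S.g).symm
  have h2 : ((EtShriek.restrAlong j).map S.g).hom.app (op (EtCoh.top Y))
      ((e.inv.app S.X₂).hom.app (op (EtCoh.top Y)) z) =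
      (e.inv.app S.X₃).hom.app (op (EtCoh.top Y))
        (((EtCoh.pull j).map S.g).hom.app (op (EtCoh.top Y)) z) :=
    congrArg (fun φ => (ConcreteCategory.hom (φ.hom.app (op (EtCoh.top Y)))) z) hnat
  refine h2.trans ?_
  rw [hz]
  have h4 : e.hom.app S.X₃ ≫ e.inv.app S.X₃ = 𝟙 _ := by
    rw [← NatTrans.comp_app, Iso.hom_inv_id, NatTrans.id_app]
  exact congrArg (fun φ => (ConcreteCategory.hom (φ.hom.app (op (EtCoh.top Y)))) y') h4


set_option backward.isDefEq.respectTransparency.types false in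
noncomputable def topIso {X : Scheme.{u}} (W : X.Etale) :
    (EtShriek.compEtale W.hom).obj (EtCoh.top W.left) ≅ W :=
  MorphismProperty.Over.isoMk (Iso.refl _) (by
    change 𝟙 _ ≫ W.hom = 𝟙 _ ≫ W.hom
    rfl)

theorem surjective_sections_of_H1 {X : Scheme.{u}} (S : ShortComplex (EtCoh.Ab X))
    (hS : S.ShortExact) (W : X.Etale)
    (h1 : Subsingleton (EtCoh.H W.left ((EtCoh.pull W.hom).obj S.X₁) 1)) :
    Function.Surjective (S.g.hom.app (op W)) := by
  have h : Function.Surjective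
      (S.g.hom.app (op ((EtShriek.compEtale W.hom).obj (EtCoh.top W.left)))) :=
    surjective_restr_of_H1 S hS W.hom h1
  intro y
  obtain ⟨z, hz⟩ := h (S.X₃.obj.map (topIso W).hom.op y)
  refine ⟨S.X₂.obj.map (topIso W).inv.op z, ?_⟩
  have hn := S.g.hom.naturality (topIso W).inv.op
  have h2 := congrArg (fun φ => (ConcreteCategory.hom φ) z) hn
  simp only [ConcreteCategory.comp_apply] at h2
  refine h2.trans ?_
  rw [hz, ← ConcreteCategory.comp_apply, ← Functor.map_comp, ← op_comp, Iso.inv_hom_id]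
  simp


section Sections
variable {X : Scheme.{u}}

noncomputable abbrev secF (T : X.Etale) : EtCoh.Ab X ⥤ AddCommGrpCat.{u+1} :=
  (sheafSections X.smallEtaleTopology AddCommGrpCat.{u+1}).obj (op T)

instance (T : X.Etale) : (secF T).Additive where

instance (T : X.Etale) : PreservesLimits (secF T) := by
  have h : secF T = sheafToPresheaf _ _ ⋙ (evaluation _ _).obj (op T) := rfl
  rw [h]
  infer_instance

theorem sections_exact (S : ShortComplex (EtCoh.Ab X)) (hS : S.ShortExact) (T : X.Etale)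
    (x : S.X₂.obj.obj (op T)) (hx : S.g.hom.app (op T) x = 0) :
    ∃ y : S.X₁.obj.obj (op T), S.f.hom.app (op T) y = x := by
  have hex : (S.map (secF T)).Exact :=
    hS.exact.map_of_mono_of_preservesKernel (secF T) hS.mono_f inferInstance
  exact (ShortComplex.ab_exact_iff _).1 hex x hx

theorem sections_injective {F G : EtCoh.Ab X} (φ : F ⟶ G) [Mono φ] (T : X.Etale) :
    Function.Injective (φ.hom.app (op T)) := by
  have : Mono ((secF T).map φ) := inferInstance
  exact (AddCommGrpCat.mono_iff_injective _).1 this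

end Sections

end Groth.Agent.Lib.Helper4.FlasqueSurj
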