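import Groth.Prelude.Def_EtCore
import Groth.Agent.Lib.Helper4.FlasqueSurj
import Groth.Agent.Lib.Helper4.InjPull
import Mathlib.CategoryTheory.Sites.LocallySurjective

set_option autoImplicit false
open CategoryTheory CategoryTheory.Limits AlgebraicGeometry Opposite
universe u

namespace Groth.Agent.Lib.Helper4.FlasquePush
open EtCore Abelian

def Flasque {X : Scheme.{u}} (F : EtCoh.Ab X) : Prop :=
  ∀ (W : X.Etale) (q : ℕ), 0 < q →
    Subsingleton (EtCoh.H W.left ((EtCoh.pull W.hom).obj F) q)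

theorem subsingleton_H_pull_of_injective {X Y : Scheme.{u}} (j : Y ⟶ X) [Etale j]
    (I : EtCoh.Ab X) [Injective I] (q : ℕ) (hq : 0 < q) :
    Subsingleton (EtCoh.H Y ((EtCoh.pull j).obj I) q) := by
  have := InjPull.injective_pull j I
  exact InjPull.subsingleton_H_of_injective _ _ q hq

theorem flasque_of_injective {X : Scheme.{u}} (I : EtCoh.Ab X) [Injective I] : Flasque I := by
  intro W q hq
  have : Etale W.hom := W.prop
  exact subsingleton_H_pull_of_injective W.hom I q hq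

theorem subsingleton_H_X₃ {X Y : Scheme.{u}} (S : ShortComplex (EtCoh.Ab X)) (hS : S.ShortExact)
    (j : Y ⟶ X) [Etale j] [Injective S.X₂] (q : ℕ) (hq : 0 < q)
    (h3 : Subsingleton (EtCoh.H Y ((EtCoh.pull j).obj S.X₁) (q + 1))) :
    Subsingleton (EtCoh.H Y ((EtCoh.pull j).obj S.X₃) q) := by
  have : PreservesFiniteLimits (EtCoh.pull j) := EtStalk.preservesFiniteLimits_pull j
  have hS' : (S.map (EtCoh.pull j)).ShortExact := hS.map_of_exact (EtCoh.pull j)
  have h2 : Subsingleton (EtCoh.H Y ((EtCoh.pull j).obj S.X₂) q) :=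
    subsingleton_H_pull_of_injective j S.X₂ q hq
  suffices h : ∀ a : EtCoh.H Y ((EtCoh.pull j).obj S.X₃) q, a = 0 from
    ⟨fun a b => (h a).trans (h b).symm⟩
  intro x₃
  obtain ⟨x₂, hx₂⟩ := Ext.covariant_sequence_exact₃ _ hS' x₃ (rfl : q + 1 = q + 1)
    (h3.elim _ _)
  have : x₂ = 0 := h2.elim _ _
  rw [← hx₂, this, Ext.zero_comp]
  rfl

theorem flasque_X₃ {X : Scheme.{u}} (S : ShortComplex (EtCoh.Ab X)) (hS : S.ShortExact)
    (h1 : Flasque S.X₁) [Injective S.X₂] : Flasque S.X₃ := by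
  intro W q hq
  have : Etale W.hom := W.prop
  exact subsingleton_H_X₃ S hS W.hom q hq (h1 W (q + 1) (Nat.succ_pos q))


theorem epi_of_surjective_sections {Y : Scheme.{u}} {F G : EtCoh.Ab Y} (φ : F ⟶ G)
    (h : ∀ V : Y.Etale, Function.Surjective (φ.hom.app (op V))) : Epi φ := by
  have : Sheaf.IsLocallySurjective φ :=
    Presheaf.isLocallySurjective_of_surjective _ _ (fun U => h U.unop)
  exact Sheaf.epi_of_isLocallySurjective φ

theorem shortExact_push {X Y : Scheme.{u}} (f : X ⟶ Y) (S : ShortComplex (EtCoh.Ab X))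
    (hS : S.ShortExact)
    (h1 : ∀ W : X.Etale, Subsingleton (EtCoh.H W.left ((EtCoh.pull W.hom).obj S.X₁) 1)) :
    (S.map (EtCoh.push f)).ShortExact := by
  have := hS.mono_f
  have hex : (S.map (EtCoh.push f)).Exact :=
    hS.exact.map_of_mono_of_preservesKernel (EtCoh.push f) hS.mono_f inferInstance
  have hm : Mono (S.map (EtCoh.push f)).f := by
    change Mono ((EtCoh.push f).map S.f)
    infer_instance
  have he : Epi (S.map (EtCoh.push f)).g := by
    apply epi_of_surjective_sections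
    intro V
    exact FlasqueSurj.surjective_sections_of_H1 S hS ((EtCoh.bc f).obj V) (h1 _)
  exact { exact := hex, mono_f := hm, epi_g := he }

theorem subsingleton_H1_of_surjective_gsec {Y : Scheme.{u}} (T : ShortComplex (EtCoh.Ab Y))
    (hT : T.ShortExact) (h2 : Subsingleton (EtCoh.H Y T.X₂ 1))
    (hsurj : Function.Surjective (T.g.hom.app (op (EtCoh.top Y)))) :
    Subsingleton (EtCoh.H Y T.X₁ 1) := by
  suffices h : ∀ a : EtCoh.H Y T.X₁ 1, a = 0 from ⟨fun a b => (h a).trans (h b).symm⟩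
  intro x₁
  have hTop := topIsTerminal Y
  obtain ⟨x₃, hx₃⟩ := Ext.covariant_sequence_exact₁ _ hT x₁ (h2.elim _ _) (rfl : 0 + 1 = 1)
  obtain ⟨z, hz⟩ := hsurj (Sheaf.H.equiv₀ T.X₃ hTop x₃)
  let x₂ : EtCoh.H Y T.X₂ 0 := (Sheaf.H.equiv₀ T.X₂ hTop).symm z
  have hx₂ : Sheaf.H.map T.g 0 x₂ = x₃ := by
    apply (Sheaf.H.equiv₀ T.X₃ hTop).injective
    have hn := Sheaf.H.equiv₀_naturality (hT := hTop) T.g x₂
    rw [← hn]
    have : Sheaf.H.equiv₀ T.X₂ hTop x₂ = z := (Sheaf.H.equiv₀ T.X₂ hTop).apply_symm_apply z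
    rw [this]
    exact hz
  have hx₂' : x₂.comp (Ext.mk₀ T.g) (add_zero 0) = x₃ := hx₂
  rw [← hx₃, ← hx₂', Ext.comp_assoc_of_second_deg_zero, ShortComplex.ShortExact.comp_extClass,
    Ext.comp_zero]


theorem surjective_pull_gsec_of_surjective {Y Z : Scheme.{u}} (T : ShortComplex (EtCoh.Ab Y))
    (j : Z ⟶ Y) [Etale j]
    (hsurj : Function.Surjective
      (T.g.hom.app (op ((EtShriek.compEtale j).obj (EtCoh.top Z))))) :
    Function.Surjective (((EtCoh.pull j).map T.g).hom.app (op (EtCoh.top Z))) := by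
  let e := EtRestr.restrPullIso j
  intro y
  obtain ⟨z, hz⟩ := hsurj ((e.inv.app T.X₃).hom.app (op (EtCoh.top Z)) y)
  refine ⟨(e.hom.app T.X₂).hom.app (op (EtCoh.top Z)) z, ?_⟩
  have hnat : e.hom.app T.X₂ ≫ (EtCoh.pull j).map T.g =
      (EtShriek.restrAlong j).map T.g ≫ e.hom.app T.X₃ := (e.hom.naturality T.g).symm
  have h2 : ((EtCoh.pull j).map T.g).hom.app (op (EtCoh.top Z))
      ((e.hom.app T.X₂).hom.app (op (EtCoh.top Z)) z) =
      (e.hom.app T.X₃).hom.app (op (EtCoh.top Z))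
        (((EtShriek.restrAlong j).map T.g).hom.app (op (EtCoh.top Z)) z) :=
    congrArg (fun φ => (ConcreteCategory.hom (φ.hom.app (op (EtCoh.top Z)))) z) hnat
  refine h2.trans ?_
  have h3 : ((EtShriek.restrAlong j).map T.g).hom.app (op (EtCoh.top Z)) z =
      (e.inv.app T.X₃).hom.app (op (EtCoh.top Z)) y := hz
  rw [h3]
  have h4 : e.inv.app T.X₃ ≫ e.hom.app T.X₃ = 𝟙 _ := by
    rw [← NatTrans.comp_app, Iso.inv_hom_id, NatTrans.id_app]
  exact congrArg (fun φ => (ConcreteCategory.hom (φ.hom.app (op (EtCoh.top Z)))) y) h4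

theorem subsingleton_H1_pull_of_surjective {Y Z : Scheme.{u}} (T : ShortComplex (EtCoh.Ab Y))
    (hT : T.ShortExact) (j : Z ⟶ Y) [Etale j] [Injective T.X₂]
    (hsurj : Function.Surjective
      (T.g.hom.app (op ((EtShriek.compEtale j).obj (EtCoh.top Z))))) :
    Subsingleton (EtCoh.H Z ((EtCoh.pull j).obj T.X₁) 1) := by
  have : PreservesFiniteLimits (EtCoh.pull j) := EtStalk.preservesFiniteLimits_pull j
  have hT' : (T.map (EtCoh.pull j)).ShortExact := hT.map_of_exact (EtCoh.pull j)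
  exact subsingleton_H1_of_surjective_gsec (T.map (EtCoh.pull j)) hT'
    (subsingleton_H_pull_of_injective j T.X₂ 1 Nat.one_pos)
    (surjective_pull_gsec_of_surjective T j hsurj)

theorem subsingleton_H_succ_pull {Y Z : Scheme.{u}} (T : ShortComplex (EtCoh.Ab Y))
    (hT : T.ShortExact) (j : Z ⟶ Y) [Etale j] [Injective T.X₂] (q : ℕ) (hq : 0 < q)
    (h3 : Subsingleton (EtCoh.H Z ((EtCoh.pull j).obj T.X₃) q)) :
    Subsingleton (EtCoh.H Z ((EtCoh.pull j).obj T.X₁) (q + 1)) := by
  have : PreservesFiniteLimits (EtCoh.pull j) := EtStalk.preservesFiniteLimits_pull j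
  have hT' : (T.map (EtCoh.pull j)).ShortExact := hT.map_of_exact (EtCoh.pull j)
  have h2 : Subsingleton (EtCoh.H Z ((EtCoh.pull j).obj T.X₂) (q + 1)) :=
    subsingleton_H_pull_of_injective j T.X₂ (q + 1) (Nat.succ_pos q)
  suffices h : ∀ a : EtCoh.H Z ((EtCoh.pull j).obj T.X₁) (q + 1), a = 0 from
    ⟨fun a b => (h a).trans (h b).symm⟩
  intro x₁
  obtain ⟨x₃, hx₃⟩ := Ext.covariant_sequence_exact₁ _ hT' x₁ (h2.elim _ _)
    (rfl : q + 1 = q + 1)
  have : x₃ = 0 := h3.elim _ _
  rw [← hx₃, this, Ext.zero_comp]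
  rfl

noncomputable def injSC {X : Scheme.{u}} (F : EtCoh.Ab X) : ShortComplex (EtCoh.Ab X) :=
  ShortComplex.mk (Injective.ι F) (cokernel.π (Injective.ι F)) (cokernel.condition _)

theorem injSC_shortExact {X : Scheme.{u}} (F : EtCoh.Ab X) : (injSC F).ShortExact := by
  have : Mono (injSC F).f := inferInstanceAs (Mono (Injective.ι F))
  have : Epi (injSC F).g := inferInstanceAs (Epi (cokernel.π (Injective.ι F)))
  exact ShortComplex.ShortExact.mk (ShortComplex.exact_of_g_is_cokernel _ (cokernelIsCokernel _))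

instance {X : Scheme.{u}} (F : EtCoh.Ab X) : Injective (injSC F).X₂ :=
  inferInstanceAs (Injective (Injective.under F))

theorem flasque_push {X Y : Scheme.{u}} (f : X ⟶ Y) (q : ℕ) (hq : 0 < q) :
    ∀ (F : EtCoh.Ab X), Flasque F → ∀ (W' : Y.Etale),
      Subsingleton (EtCoh.H W'.left ((EtCoh.pull W'.hom).obj ((EtCoh.push f).obj F)) q) := by
  induction q, hq using Nat.le_induction with
  | base =>
    intro F hF W'
    have : Etale W'.hom := W'.prop
    have hS := injSC_shortExact F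
    have hT : ((injSC F).map (EtCoh.push f)).ShortExact :=
      shortExact_push f (injSC F) hS (fun W => hF W 1 Nat.one_pos)
    have : Injective ((injSC F).map (EtCoh.push f)).X₂ :=
      InjPull.injective_push f (injSC F).X₂
    refine subsingleton_H1_pull_of_surjective ((injSC F).map (EtCoh.push f)) hT W'.hom ?_
    exact FlasqueSurj.surjective_sections_of_H1 (injSC F) hS
      ((EtCoh.bc f).obj ((EtShriek.compEtale W'.hom).obj (EtCoh.top W'.left)))
      (hF _ 1 Nat.one_pos)
  | succ q hq ih =>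
    intro F hF W'
    have : Etale W'.hom := W'.prop
    have hS := injSC_shortExact F
    have hT : ((injSC F).map (EtCoh.push f)).ShortExact :=
      shortExact_push f (injSC F) hS (fun W => hF W 1 Nat.one_pos)
    have : Injective ((injSC F).map (EtCoh.push f)).X₂ :=
      InjPull.injective_push f (injSC F).X₂
    have hQ : Flasque (injSC F).X₃ := flasque_X₃ (injSC F) hS hF
    exact subsingleton_H_succ_pull ((injSC F).map (EtCoh.push f)) hT W'.hom q hq (ih _ hQ W')

end Groth.Agent.Lib.Helper4.FlasquePush
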