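import Mathlib.CategoryTheory.Sites.Sheafification
import Mathlib.CategoryTheory.Sites.LeftExact
import Mathlib.CategoryTheory.Adjunction.Whiskering
import Mathlib.Algebra.Category.Grp.Adjunctions
import Mathlib.CategoryTheory.Preadditive.Injective.Basic
import Mathlib.CategoryTheory.Yoneda

set_option autoImplicit false
open CategoryTheory CategoryTheory.Limits Opposite
universe w v u

namespace Groth.Agent.Lib.Helper4.FreeRep

variable {C : Type u} [Category.{v} C] (J : GrothendieckTopology C)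
  [HasSheafify J AddCommGrpCat.{max w v}]

noncomputable abbrev W : (Cᵒᵖ ⥤ Type (max w v)) ⥤ (Cᵒᵖ ⥤ AddCommGrpCat.{max w v}) :=
  (Functor.whiskeringRight Cᵒᵖ _ _).obj AddCommGrpCat.free

noncomputable abbrev A (U : C) : Cᵒᵖ ⥤ AddCommGrpCat.{max w v} :=
  W.{w}.obj (uliftYoneda.{w}.obj U)

noncomputable abbrev Amap {U V : C} (g : V ⟶ U) : A.{w} V ⟶ A.{w} U :=
  W.{w}.map (uliftYoneda.{w}.map g)

noncomputable abbrev P (U : C) : Sheaf J AddCommGrpCat.{max w v} :=
  (presheafToSheaf J AddCommGrpCat.{max w v}).obj (A.{w} U)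

noncomputable abbrev Pmap {U V : C} (g : V ⟶ U) : P.{w} J V ⟶ P.{w} J U :=
  (presheafToSheaf J AddCommGrpCat.{max w v}).map (Amap.{w} g)

theorem mono_Amap {U V : C} (g : V ⟶ U) [Mono g] : Mono (Amap.{w} g) := by
  apply (config := { allowSynthFailures := true }) NatTrans.mono_of_mono_app
  intro T
  have h1 : Mono ((uliftYoneda.{w}.map g).app T) := by
    rw [mono_iff_injective]
    rintro ⟨a⟩ ⟨b⟩ h
    have h' : a ≫ g = b ≫ g := congrArg ULift.down h
    exact congrArg ULift.up ((cancel_mono g).1 h')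
  exact inferInstanceAs (Mono (AddCommGrpCat.free.map ((uliftYoneda.{w}.map g).app T)))

theorem mono_Pmap {U V : C} (g : V ⟶ U) [Mono g] : Mono (Pmap.{w} J g) := by
  have := mono_Amap.{w} g
  exact (presheafToSheaf J AddCommGrpCat.{max w v}).map_mono _

noncomputable def E (U : C) (I : Sheaf J AddCommGrpCat.{max w v}) :
    (P.{w} J U ⟶ I) ≃ (I.obj ⋙ forget AddCommGrpCat).obj (op U) :=
  ((sheafificationAdjunction J AddCommGrpCat.{max w v}).homEquiv (A.{w} U) I).trans
    (((AddCommGrpCat.adj.whiskerRight Cᵒᵖ).homEquiv (uliftYoneda.{w}.obj U) I.obj).trans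
      uliftYonedaEquiv.{w})

theorem E_naturality {U V : C} (g : V ⟶ U) (I : Sheaf J AddCommGrpCat.{max w v})
    (ψ : P.{w} J U ⟶ I) :
    E.{w} J V I (Pmap.{w} J g ≫ ψ) = (I.obj ⋙ forget AddCommGrpCat).map g.op (E.{w} J U I ψ) := by
  have h1 := Adjunction.homEquiv_naturality_left (sheafificationAdjunction J AddCommGrpCat.{max w v})
    (Amap.{w} g) ψ
  have h2 := Adjunction.homEquiv_naturality_left (AddCommGrpCat.adj.whiskerRight Cᵒᵖ)
    (uliftYoneda.{w}.map g)
    (((sheafificationAdjunction J AddCommGrpCat.{max w v}).homEquiv (A.{w} U) I) ψ)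
  have h3 := uliftYonedaEquiv_naturality.{w}
    (((AddCommGrpCat.adj.whiskerRight Cᵒᵖ).homEquiv (uliftYoneda.{w}.obj U) I.obj)
      (((sheafificationAdjunction J AddCommGrpCat.{max w v}).homEquiv (A.{w} U) I) ψ)) g.op
  change uliftYonedaEquiv.{w} (((AddCommGrpCat.adj.whiskerRight Cᵒᵖ).homEquiv _ _)
    (((sheafificationAdjunction J AddCommGrpCat.{max w v}).homEquiv _ _) (Pmap.{w} J g ≫ ψ))) = _
  rw [h1, h2]
  exact h3.symm

theorem surjective_map_of_injective {U V : C} (g : V ⟶ U) [Mono g]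
    (I : Sheaf J AddCommGrpCat.{max w v}) [Injective I] :
    Function.Surjective ((I.obj ⋙ forget AddCommGrpCat).map g.op) := by
  intro t
  have := mono_Pmap.{w} J g
  let φ : P.{w} J V ⟶ I := (E.{w} J V I).symm t
  refine ⟨E.{w} J U I (Injective.factorThru φ (Pmap.{w} J g)), ?_⟩
  rw [← E_naturality, Injective.comp_factorThru]
  exact (E.{w} J V I).apply_symm_apply t

end Groth.Agent.Lib.Helper4.FreeRep
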