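import Groth.Prelude.Def_EtCore
import Groth.Agent.S0102
import Mathlib.AlgebraicGeometry.Limits

set_option autoImplicit false
open CategoryTheory CategoryTheory.Limits AlgebraicGeometry Opposite
universe u

namespace Groth.Agent.Lib.Helper4.PushoutGlue

variable {A B : Scheme.{u}} (g : A ⟶ B) [IsOpenImmersion g]

example : HasPushout g g := inferInstance

noncomputable abbrev Sc : Scheme.{u} := pushout g g

instance : IsOpenImmersion (pushout.inl g g) :=
  inferInstanceAs (IsOpenImmersion (colimit.ι (span g g) WalkingSpan.left))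

instance : IsOpenImmersion (pushout.inr g g) :=
  inferInstanceAs (IsOpenImmersion (colimit.ι (span g g) WalkingSpan.right))

theorem jointly_surj (x : Sc g) : (∃ y, (pushout.inl g g).base y = x) ∨ (∃ y, (pushout.inr g g).base y = x) := by
  obtain ⟨i, xi, h⟩ := Scheme.IsLocallyDirected.ι_jointly_surjective (span g g) x
  rcases i with _ | _ | _
  · left
    refine ⟨g.base xi, ?_⟩
    rw [← h, ← Scheme.Hom.comp_apply]
    have : g ≫ pushout.inl g g = colimit.ι (span g g) WalkingSpan.zero :=
      colimit.w (span g g) WalkingSpan.Hom.fst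
    rw [this]
    rfl
  · left; exact ⟨xi, h⟩
  · right; exact ⟨xi, h⟩

theorem inl_eq_inr_iff (a b : B) (h : (pushout.inl g g).base a = (pushout.inr g g).base b) :
    ∃ z : A, g.base z = a ∧ g.base z = b := by
  have h' : (colimit.ι (span g g) WalkingSpan.left).base a = (colimit.ι (span g g) WalkingSpan.right).base b := h
  obtain ⟨k, fi, fj, z, h1, h2⟩ := (Scheme.IsLocallyDirected.ι_eq_ι_iff (F := span g g)).mp h'
  rcases k with _ | _ | _
  · cases fi
    cases fj
    exact ⟨z, h1, h2⟩
  · cases fj
  · cases fi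


section Et
variable {X : Scheme.{u}} {U V : X.Etale} (g : V ⟶ U) [IsOpenImmersion g.left]

noncomputable def hSc : Sc g.left ⟶ X := pushout.desc U.hom U.hom rfl

theorem inl_hSc : pushout.inl g.left g.left ≫ hSc g = U.hom := pushout.inl_desc _ _ _
theorem inr_hSc : pushout.inr g.left g.left ≫ hSc g = U.hom := pushout.inr_desc _ _ _

instance etale_hSc : Etale (hSc g) := by
  rw [IsZariskiLocalAtSource.iff_of_openCover (P := @Etale)
    (Scheme.IsLocallyDirected.openCover (span g.left g.left))]
  intro i
  rcases i with _ | _ | _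
  · have h1 : colimit.ι (span g.left g.left) none = g.left ≫ pushout.inl g.left g.left :=
      (colimit.w (span g.left g.left) WalkingSpan.Hom.fst).symm
    have h2 : colimit.ι (span g.left g.left) none ≫ hSc g = V.hom := by
      rw [h1]
      exact (Category.assoc _ _ _).trans ((congrArg (fun t => g.left ≫ t) (inl_hSc g)).trans
        (MorphismProperty.Over.w g))
    change Etale (colimit.ι (span g.left g.left) none ≫ hSc g)
    rw [h2]
    exact V.prop
  · change Etale (pushout.inl g.left g.left ≫ hSc g)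
    rw [inl_hSc]; exact U.prop
  · change Etale (pushout.inr g.left g.left ≫ hSc g)
    rw [inr_hSc]; exact U.prop

noncomputable def W : X.Etale := Scheme.Etale.mk (hSc g)

noncomputable def iL : U ⟶ W g := MorphismProperty.Over.homMk (pushout.inl g.left g.left) (inl_hSc g)
noncomputable def iR : U ⟶ W g := MorphismProperty.Over.homMk (pushout.inr g.left g.left) (inr_hSc g)

theorem g_iL_eq : g ≫ iL g = g ≫ iR g := by
  apply MorphismProperty.Over.Hom.ext
  exact pushout.condition

theorem mono_of_left {A B : X.Etale} (k : A ⟶ B) [Mono k.left] : Mono k := by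
  constructor
  intro T a b h
  apply MorphismProperty.Over.Hom.ext
  have h' : a.left ≫ k.left = b.left ≫ k.left := congrArg (fun t => t.left) h
  exact (cancel_mono k.left).1 h'

instance mono_g : Mono g := mono_of_left g

instance mono_iL : Mono (iL g) :=
  have : Mono (iL g).left := inferInstanceAs (Mono (pushout.inl g.left g.left))
  mono_of_left _

instance mono_iR : Mono (iR g) :=
  have : Mono (iR g).left := inferInstanceAs (Mono (pushout.inr g.left g.left))
  mono_of_left _

noncomputable def arr (b : Bool) : U ⟶ W g := cond b (iL g) (iR g)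

theorem cover_mem : Sieve.generate (Presieve.ofArrows (fun _ : Bool => U) (arr g)) ∈
    X.smallEtaleTopology (W g) := by
  apply Groth.Agent.S0102.mem_of_forall_exists
  intro x
  rcases jointly_surj g.left x with ⟨y, hy⟩ | ⟨y, hy⟩
  · exact ⟨U, iL g, y, ⟨U, 𝟙 U, iL g, Presieve.ofArrows.mk (f := arr g) true, Category.id_comp _⟩, hy⟩
  · exact ⟨U, iR g, y, ⟨U, 𝟙 U, iR g, Presieve.ofArrows.mk (f := arr g) false, Category.id_comp _⟩, hy⟩

theorem factor {T : X.Etale} (p q : T ⟶ U) (h : p ≫ iL g = q ≫ iR g) :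
    ∃ r : T ⟶ V, r ≫ g = p ∧ r ≫ g = q := by
  have hl : p.left ≫ pushout.inl g.left g.left = q.left ≫ pushout.inr g.left g.left :=
    congrArg (fun t => t.left) h
  have hrange : Set.range p.left.base ⊆ Set.range g.left.base := by
    rintro _ ⟨t, rfl⟩
    have ht : (pushout.inl g.left g.left).base (p.left.base t) =
        (pushout.inr g.left g.left).base (q.left.base t) := by
      rw [← Scheme.Hom.comp_apply, ← Scheme.Hom.comp_apply, hl]
    obtain ⟨z, hz, -⟩ := inl_eq_inr_iff g.left _ _ ht
    exact ⟨z, hz⟩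
  let r0 : T.left ⟶ V.left := IsOpenImmersion.lift g.left p.left hrange
  have hr0 : r0 ≫ g.left = p.left := IsOpenImmersion.lift_fac _ _ _
  have hr0X : r0 ≫ V.hom = T.hom := by
    have h1 : g.left ≫ U.hom = V.hom := MorphismProperty.Over.w g
    have h2 : p.left ≫ U.hom = T.hom := MorphismProperty.Over.w p
    rw [← h1, ← Category.assoc, hr0, h2]
  let r : T ⟶ V := MorphismProperty.Over.homMk r0 hr0X
  have hrp : r ≫ g = p := MorphismProperty.Over.Hom.ext hr0
  refine ⟨r, hrp, ?_⟩
  have h3 : (r ≫ g) ≫ iR g = q ≫ iR g := by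
    rw [Category.assoc, ← g_iL_eq, ← Category.assoc, hrp, h]
  exact (cancel_mono (iR g)).1 h3

theorem glue (Q : EtCoh.Ab X) (a₁ a₂ : (Q.obj ⋙ forget AddCommGrpCat).obj (op U))
    (h : (Q.obj ⋙ forget AddCommGrpCat).map g.op a₁ = (Q.obj ⋙ forget AddCommGrpCat).map g.op a₂) :
    ∃ q : (Q.obj ⋙ forget AddCommGrpCat).obj (op (W g)),
      (Q.obj ⋙ forget AddCommGrpCat).map (iL g).op q = a₁ ∧
      (Q.obj ⋙ forget AddCommGrpCat).map (iR g).op q = a₂ := by
  have hsh0 : Presheaf.IsSheaf X.smallEtaleTopology (Q.obj ⋙ forget AddCommGrpCat) :=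
    (Presheaf.isSheaf_iff_isSheaf_forget _ _ (forget AddCommGrpCat)).1 Q.cond
  have hsh : Presieve.IsSheaf X.smallEtaleTopology (Q.obj ⋙ forget AddCommGrpCat) :=
    (isSheaf_iff_isSheaf_of_type _ _).1 hsh0
  have hfor := (Presieve.isSheafFor_iff_generate _).2 (hsh _ (cover_mem g))
  rw [Presieve.isSheafFor_arrows_iff] at hfor
  let x : (b : Bool) → (Q.obj ⋙ forget AddCommGrpCat).obj (op U) := fun b => cond b a₁ a₂
  have hx : Presieve.Arrows.Compatible (Q.obj ⋙ forget AddCommGrpCat) (arr g) x := by
    intro i j Z gi gj hij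
    have key : ∀ (p q : Z ⟶ U), p ≫ iL g = q ≫ iR g →
        (Q.obj ⋙ forget AddCommGrpCat).map p.op a₁ = (Q.obj ⋙ forget AddCommGrpCat).map q.op a₂ := by
      intro p q hpq
      obtain ⟨r, hr1, hr2⟩ := factor g p q hpq
      rw [← hr1, ← hr2, op_comp, Functor.map_comp]
      exact congrArg ((Q.obj ⋙ forget AddCommGrpCat).map r.op) h
    cases i <;> cases j
    · have : gi = gj := (cancel_mono (iR g)).1 hij
      rw [this]
    · exact (key gj gi hij.symm).symm
    · exact key gi gj hij
    · have : gi = gj := (cancel_mono (iL g)).1 hij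
      rw [this]
  obtain ⟨t, ht, -⟩ := hfor x hx
  exact ⟨t, ht true, ht false⟩

end Et

end Groth.Agent.Lib.Helper4.PushoutGlue
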