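import Mathlib.Algebra.Homology.ShortComplex.SnakeLemma
import Mathlib.CategoryTheory.Abelian.RightDerived
import Groth.Agent.Lib.Helper68.RightDerivedLES

set_option autoImplicit false
open CategoryTheory CategoryTheory.Limits

namespace Groth.Agent.Lib.Helper4.SnakeCoker

universe v u v' u'

section Snake
variable {C : Type u} [Category.{v} C] [Abelian C]
  {L₁ L₂ : ShortComplex C} (v : L₁ ⟶ L₂)

noncomputable def snakeOfHom (h₁ : L₁.Exact) [Epi L₁.g] (h₂ : L₂.Exact) [Mono L₂.f] :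
    ShortComplex.SnakeInput C where
  L₀ :=
    { f := kernel.map v.τ₁ v.τ₂ L₁.f L₂.f v.comm₁₂
      g := kernel.map v.τ₂ v.τ₃ L₁.g L₂.g v.comm₂₃
      zero := by
        apply (cancel_mono (kernel.ι v.τ₃)).1
        simp }
  L₁ := L₁
  L₂ := L₂
  L₃ :=
    { f := cokernel.map v.τ₁ v.τ₂ L₁.f L₂.f v.comm₁₂
      g := cokernel.map v.τ₂ v.τ₃ L₁.g L₂.g v.comm₂₃
      zero := by
        apply (cancel_epi (cokernel.π v.τ₁)).1
        simp }
  v₀₁ :=
    { τ₁ := kernel.ι v.τ₁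
      τ₂ := kernel.ι v.τ₂
      τ₃ := kernel.ι v.τ₃ }
  v₁₂ := v
  v₂₃ :=
    { τ₁ := cokernel.π v.τ₁
      τ₂ := cokernel.π v.τ₂
      τ₃ := cokernel.π v.τ₃ }
  h₀ := by
    apply ShortComplex.isLimitOfIsLimitπ <;>
      apply (KernelFork.isLimitMapConeEquiv _ _).2 <;>
      exact kernelIsKernel _
  h₃ := by
    apply ShortComplex.isColimitOfIsColimitπ <;>
      apply (CokernelCofork.isColimitMapCoconeEquiv _ _).2 <;>
      exact cokernelIsCokernel _
  epi_L₁_g := inferInstance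
  mono_L₂_f := inferInstance
  L₁_exact := h₁
  L₂_exact := h₂

noncomputable def cokerKernelMapIso (h₁ : L₁.Exact) [Epi L₁.g] (h₂ : L₂.Exact) [Mono L₂.f]
    [Epi v.τ₂] :
    cokernel (kernel.map v.τ₂ v.τ₃ L₁.g L₂.g v.comm₂₃) ≅ cokernel v.τ₁ := by
  let S := snakeOfHom v h₁ h₂
  have hz : IsZero S.L₃.X₂ := isZero_cokernel_of_epi v.τ₂
  have : Epi S.δ := S.epi_δ hz
  have hex : S.L₁'.Exact := S.L₁'_exact
  have : Epi S.L₁'.g := inferInstanceAs (Epi S.δ)
  exact IsColimit.coconePointUniqueUpToIso (cokernelIsCokernel _) hex.gIsCokernel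

end Snake


section RD
open Groth.Agent.Lib.Helper68
variable {C : Type u} [Category.{v} C] [Abelian C] [HasInjectiveResolutions C]
  {D : Type u'} [Category.{v'} D] [Abelian D] (Γ : C ⥤ D) [Γ.Additive]
  {S : ShortComplex C} (hS : S.ShortExact) [Injective S.X₂]

noncomputable def succIso (n : ℕ) :
    (Γ.rightDerived (n + 1)).obj S.X₃ ≅ (Γ.rightDerived (n + 2)).obj S.X₁ :=
  have := RightDerivedLES.isIso_δ Γ hS (n + 1)
    (Functor.isZero_rightDerived_obj_injective_succ Γ n S.X₂)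
    (Functor.isZero_rightDerived_obj_injective_succ Γ (n + 1) S.X₂)
  asIso (RightDerivedLES.δ Γ hS (n + 1))

noncomputable def oneIso [PreservesFiniteLimits Γ] :
    (Γ.rightDerived 1).obj S.X₁ ≅ cokernel (Γ.map S.g) := by
  have hex := RightDerivedLES.exact₃ Γ hS 0
  have hepi : Epi (RightDerivedLES.δ Γ hS 0) :=
    RightDerivedLES.epi_δ Γ hS 0 (Functor.isZero_rightDerived_obj_injective_succ Γ 0 S.X₂)
  have : Epi (ShortComplex.mk ((Γ.rightDerived 0).map S.g) (RightDerivedLES.δ Γ hS 0)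
      (RightDerivedLES.map_g_δ Γ hS 0)).g := hepi
  let e1 : cokernel ((Γ.rightDerived 0).map S.g) ≅ (Γ.rightDerived 1).obj S.X₁ :=
    IsColimit.coconePointUniqueUpToIso (cokernelIsCokernel _) hex.gIsCokernel
  let e2 : cokernel ((Γ.rightDerived 0).map S.g) ≅ cokernel (Γ.map S.g) :=
    cokernel.mapIso _ _ (Γ.rightDerivedZeroIsoSelf.app S.X₂) (Γ.rightDerivedZeroIsoSelf.app S.X₃)
      (Γ.rightDerivedZeroIsoSelf.hom.naturality S.g)
  exact e1.symm ≪≫ e2

end RD

end Groth.Agent.Lib.Helper4.SnakeCoker
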