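import Groth.Prelude.Def_EtDual
import Groth.Agent.Lib.Helper4.SnakeCoker
import Groth.Agent.Lib.Helper4.FlasquePush
import Groth.Agent.Lib.Helper4.FreeRep
import Groth.Agent.Lib.Helper4.PushoutGlue
import Mathlib.CategoryTheory.Abelian.Exact

set_option autoImplicit false
open CategoryTheory CategoryTheory.Limits AlgebraicGeometry Opposite
universe u

namespace Groth.Agent.Lib.Helper4.LocCoh

variable {X U : Scheme.{u}} (j : U ⟶ X)

theorem secSupp_map_ι {F G : EtCoh.Ab X} (f : F ⟶ G) :
    (EtDual.secSupp j).map f ≫ kernel.ι (EtDual.unitApp j G) =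
      kernel.ι (EtDual.unitApp j F) ≫ f :=
  kernel.lift_ι _ _ _

instance : PreservesFiniteLimits (EtCoh.pull j ⋙ EtCoh.push j) := by
  have : PreservesFiniteLimits (EtCoh.pull j) := EtStalk.preservesFiniteLimits_pull j
  infer_instance

theorem preservesFiniteLimits_secSupp : PreservesFiniteLimits (EtDual.secSupp j) := by
  rw [Functor.preservesFiniteLimits_iff_forall_exact_map_and_mono]
  intro S hS
  have := hS.mono_f
  have hmono : Mono ((EtDual.secSupp j).map S.f) := by
    have h : Mono ((EtDual.secSupp j).map S.f ≫ kernel.ι (EtDual.unitApp j S.X₂)) := by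
      rw [secSupp_map_ι]
      infer_instance
    exact mono_of_mono _ (kernel.ι (EtDual.unitApp j S.X₂))
  refine ⟨?_, hmono⟩
  have hΨ : Mono ((EtCoh.push j).map ((EtCoh.pull j).map S.f)) := by
    have : Mono ((EtCoh.pull j ⋙ EtCoh.push j).map S.f) := inferInstance
    exact this
  have hmono' : Mono (S.map (EtDual.secSupp j)).f := hmono
  refine ShortComplex.exact_of_f_is_kernel _
    (KernelFork.IsLimit.ofι' (S.map (EtDual.secSupp j)).f (S.map (EtDual.secSupp j)).zero ?_)
  intro A k₀ hk
  let k : A ⟶ kernel (EtDual.unitApp j S.X₂) := k₀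
  have hk' : k ≫ (EtDual.secSupp j).map S.g = 0 := hk
  have ha : (k ≫ kernel.ι (EtDual.unitApp j S.X₂)) ≫ S.g = 0 := by
    rw [Category.assoc, ← secSupp_map_ι, ← Category.assoc, hk', zero_comp]
  let l₀ : A ⟶ S.X₁ := hS.exact.lift _ ha
  have hl₀ : l₀ ≫ S.f = k ≫ kernel.ι (EtDual.unitApp j S.X₂) := hS.exact.lift_f _ ha
  have hnat : S.f ≫ EtDual.unitApp j S.X₂ =
      EtDual.unitApp j S.X₁ ≫ (EtCoh.push j).map ((EtCoh.pull j).map S.f) :=
    (EtCoh.pullPushAdj j).unit.naturality S.f
  have hl₀u : l₀ ≫ EtDual.unitApp j S.X₁ = 0 := by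
    apply (cancel_mono ((EtCoh.push j).map ((EtCoh.pull j).map S.f))).1
    rw [Category.assoc, ← hnat, ← Category.assoc, hl₀, Category.assoc, kernel.condition,
      comp_zero, zero_comp]
  refine ⟨kernel.lift _ l₀ hl₀u, ?_⟩
  have : (kernel.lift _ l₀ hl₀u ≫ (EtDual.secSupp j).map S.f) ≫
      kernel.ι (EtDual.unitApp j S.X₂) = k ≫ kernel.ι (EtDual.unitApp j S.X₂) := by
    rw [Category.assoc, secSupp_map_ι, ← Category.assoc, kernel.lift_ι, hl₀]
  exact (cancel_mono (kernel.ι (EtDual.unitApp j S.X₂))).1 this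


section Epi
variable [IsOpenImmersion j]

theorem mono_adjSite_counit (V : X.Etale) : Mono ((EtRestr.adjSite j).counit.app V) := by
  have : Mono ((EtRestr.adjSite j).counit.app V).left := by
    have h : ((EtRestr.adjSite j).counit.app V).left = pullback.fst V.hom j := by
      simp [EtRestr.adjSite, MorphismProperty.Over.mapPullbackAdj]
    rw [h]
    have : Mono j := inferInstance
    exact inferInstanceAs (Mono (pullback.fst (V.hom : V.left ⟶ X) j))
  exact PushoutGlue.mono_of_left _

theorem restrPushAdj_unit_app (F : EtCoh.Ab X) (V : X.Etaleᵒᵖ) :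
    ((EtRestr.restrPushAdj j).unit.app F).hom.app V =
      F.obj.map ((EtRestr.adjSite j).counit.app V.unop).op := by
  simp [EtRestr.restrPushAdj] <;> rfl

theorem epi_restrPushAdj_unit (I : EtCoh.Ab X) [Injective I] :
    Epi ((EtRestr.restrPushAdj j).unit.app I) := by
  apply FlasquePush.epi_of_surjective_sections
  intro V
  rw [restrPushAdj_unit_app]
  have := mono_adjSite_counit j V
  exact FreeRep.surjective_map_of_injective.{u+1} X.smallEtaleTopology
    ((EtRestr.adjSite j).counit.app V) I

theorem epi_unitApp (I : EtCoh.Ab X) [Injective I] : Epi (EtDual.unitApp j I) := by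
  have h := Adjunction.unit_leftAdjointUniq_hom_app (EtRestr.restrPushAdj j)
    (EtCoh.pullPushAdj j) I
  have := epi_restrPushAdj_unit j I
  have h2 : EtDual.unitApp j I = (EtRestr.restrPushAdj j).unit.app I ≫
      (EtCoh.push j).map (((EtRestr.restrPushAdj j).leftAdjointUniq
        (EtCoh.pullPushAdj j)).hom.app I) := h.symm
  rw [h2]
  infer_instance

end Epi

end Groth.Agent.Lib.Helper4.LocCoh
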