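import Mathlib.Topology.Constructible
import Mathlib.Topology.QuasiSeparated

set_option autoImplicit false
open Topology Set

namespace Groth.Agent.Lib.Helper4.CIn

variable {X : Type*} [TopologicalSpace X]

def CIn (S A : Set X) : Prop := IsConstructible ((Subtype.val : S → X) ⁻¹' A)

theorem CIn.inter {S A B : Set X} (hA : CIn S A) (hB : CIn S B) : CIn S (A ∩ B) := by
  unfold CIn
  rw [preimage_inter]
  exact IsConstructible.inter hA hB

theorem CIn.compl {S A : Set X} (hA : CIn S A) : CIn S Aᶜ := by
  unfold CIn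
  rw [preimage_compl]
  exact IsConstructible.compl hA

theorem cin_of_isOpen_isCompact {S A : Set X} (hS : IsOpen S) (hQ : IsQuasiSeparated S)
    (hA : IsOpen A) (hAc : IsCompact A) (hAS : A ⊆ S) : CIn S A := by
  have : QuasiSeparatedSpace S := (isQuasiSeparated_iff_quasiSeparatedSpace S hS).1 hQ
  have h1 : IsOpen ((Subtype.val : S → X) ⁻¹' A) := hA.preimage continuous_subtype_val
  have h2 : IsCompact ((Subtype.val : S → X) ⁻¹' A) := by
    rw [Subtype.isCompact_iff, image_preimage_eq_inter_range, Subtype.range_coe,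
      inter_eq_left.2 hAS]
    exact hAc
  exact h2.isConstructible h1

theorem cin_mono {S₂ S A : Set X} (hS : IsOpen S) (hQ : IsQuasiSeparated S)
    (hS₂ : IsOpen S₂) (hS₂c : IsCompact S₂) (hS₂S : S₂ ⊆ S) (hAS : A ⊆ S₂) (hA : CIn S₂ A) :
    CIn S A := by
  have : QuasiSeparatedSpace S := (isQuasiSeparated_iff_quasiSeparatedSpace S hS).1 hQ
  let ι : S₂ → S := Set.inclusion hS₂S
  have hι : IsOpenEmbedding ι := by
    refine ⟨Topology.IsEmbedding.inclusion hS₂S, ?_⟩
    rw [range_inclusion]
    exact hS₂.preimage continuous_subtype_val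
  have hr : IsRetrocompact (range ι) := by
    rw [range_inclusion]
    have h1 : IsOpen {x : S | (x : X) ∈ S₂} := hS₂.preimage continuous_subtype_val
    have h2 : IsCompact {x : S | (x : X) ∈ S₂} := by
      rw [Subtype.isCompact_iff]
      have : (Subtype.val : S → X) '' {x : S | (x : X) ∈ S₂} = S₂ := by
        ext x
        constructor
        · rintro ⟨y, hy, rfl⟩
          exact hy
        · intro hx
          exact ⟨⟨x, hS₂S hx⟩, hx, rfl⟩
      rw [this]
      exact hS₂c
    exact h2.isRetrocompact h1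
  have h3 := IsConstructible.image_of_isOpenEmbedding hι hr hA
  have h4 : ι '' ((Subtype.val : S₂ → X) ⁻¹' A) = (Subtype.val : S → X) ⁻¹' A := by
    ext x
    constructor
    · rintro ⟨y, hy, rfl⟩
      exact hy
    · intro hx
      exact ⟨⟨x.1, hAS hx⟩, hx, rfl⟩
  unfold CIn
  rw [← h4]
  exact h3

theorem cin_image_of_isEmbedding {Y : Type*} [TopologicalSpace Y] {j : Y → X} (hj : IsEmbedding j)
    {S A : Set Y} (hA : CIn S A) : CIn (j '' S) (j '' A) := by
  let h : S → j '' S := fun x => ⟨j x.1, mem_image_of_mem j x.2⟩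
  have hh : IsEmbedding h := by
    have hc : Continuous h :=
      (hj.continuous.comp continuous_subtype_val).subtype_mk _
    refine IsEmbedding.of_comp hc continuous_subtype_val ?_
    exact hj.comp IsEmbedding.subtypeVal
  have hsurj : Function.Surjective h := by
    rintro ⟨_, x, hx, rfl⟩
    exact ⟨⟨x, hx⟩, rfl⟩
  let e : S ≃ₜ j '' S := (hh.toHomeomorphOfSurjective hsurj)
  have h1 : (Subtype.val : j '' S → X) ⁻¹' (j '' A) = e.symm ⁻¹' ((Subtype.val : S → Y) ⁻¹' A) := by
    ext x
    obtain ⟨y, rfl⟩ := e.surjective x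
    rw [mem_preimage, mem_preimage, mem_preimage, e.symm_apply_apply]
    change j y.1 ∈ j '' A ↔ y.1 ∈ A
    exact hj.injective.mem_set_image
  unfold CIn
  rw [h1]
  exact IsConstructible.preimage_of_isOpenEmbedding e.symm.isOpenEmbedding hA

end Groth.Agent.Lib.Helper4.CIn
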