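import Mathlib.Topology.Spectral.ConstructibleTopology
import Mathlib.Topology.Constructible
import Mathlib.Topology.QuasiSeparated
import Groth.Agent.Lib.Helper4.CIn

set_option autoImplicit false
open Topology Set

namespace Groth.Agent.Lib.Helper4.CIn

variable {X : Type*} [TopologicalSpace X]

theorem isOpen_cT_of_isConstructible [CompactSpace X] {s : Set X} (hs : IsConstructible s) :
    IsOpen[constructibleTopology X] s ∧ IsOpen[constructibleTopology X] sᶜ := by
  induction hs using IsConstructible.empty_union_induction with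
  | open_retrocompact U hUopen hUcomp =>
    have hc : IsCompact U := hUcomp.isCompact
    refine ⟨hc.isOpen_constructibleTopology_of_isOpen hUopen, ?_⟩
    exact IsCompact.isOpen_constructibleTopology_of_isClosed (by rwa [compl_compl])
      hUopen.isClosed_compl
  | union s hs t ht hs' ht' =>
    refine ⟨@IsOpen.union X s t (constructibleTopology X) hs'.1 ht'.1, ?_⟩
    rw [compl_union]
    exact @IsOpen.inter X (constructibleTopology X) _ _ hs'.2 ht'.2
  | compl s hs hs' =>
    refine ⟨hs'.2, ?_⟩
    rw [compl_compl]
    exact hs'.1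

theorem exists_finite_subcover_of_isConstructible [CompactSpace X] [QuasiSober X]
    [PrespectralSpace X] [QuasiSeparatedSpace X] {ι : Type*} (C : ι → Set X)
    (hC : ∀ i, IsConstructible (C i)) (hcov : (⋃ i, C i) = univ) :
    ∃ t : Finset ι, (⋃ i ∈ t, C i) = univ := by
  have hcomp : IsCompact (univ : Set (WithConstructibleTopology X)) := isCompact_univ
  obtain ⟨t, ht⟩ := hcomp.elim_finite_subcover
    (fun i => WithTopology.ofTopology ⁻¹' (C i)) (fun i => by
      rw [WithConstructibleTopology.isOpen_iff]
      exact (isOpen_cT_of_isConstructible (hC i)).1) (by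
      intro x _
      have : WithTopology.ofTopology x ∈ ⋃ i, C i := by rw [hcov]; trivial
      obtain ⟨i, hi⟩ := mem_iUnion.1 this
      exact mem_iUnion.2 ⟨i, hi⟩)
  refine ⟨t, ?_⟩
  apply eq_univ_of_forall
  intro x
  have := ht (mem_univ (WithTopology.toTopology _ x))
  obtain ⟨i, hi⟩ := mem_iUnion.1 this
  obtain ⟨hit, hx⟩ := mem_iUnion.1 hi
  exact mem_iUnion₂.2 ⟨i, hit, hx⟩

theorem isCompact_of_isConstructible [CompactSpace X] {s : Set X}
    (hs : IsConstructible s) : IsCompact s := by
  induction s, hs using BooleanSubalgebra.closure_sdiff_sup_induction with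
  | isSublattice =>
    exact ⟨fun s hs t ht ↦ ⟨hs.1.union ht.1, hs.2.union ht.2⟩,
      fun s hs t ht ↦ ⟨hs.1.inter ht.1, hs.2.inter_isOpen ht.2 ht.1⟩⟩
  | bot_mem => exact ⟨isOpen_empty, .empty⟩
  | top_mem => exact ⟨isOpen_univ, .univ⟩
  | sdiff U hU V hV =>
    rw [diff_eq]
    exact hU.2.isCompact.inter_right hV.1.isClosed_compl
  | sup s _ t _ hs' ht' => exact hs'.union ht'

theorem isConstructible_image_val [CompactSpace X] [QuasiSeparatedSpace X] [PrespectralSpace X]
    {R : Set X} (hR : IsConstructible R) {A : Set R} (hA : IsConstructible A) :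
    IsConstructible ((Subtype.val : R → X) '' A) := by
  have : CompactSpace R := isCompact_iff_compactSpace.1 (isCompact_of_isConstructible hR)
  induction hA using IsConstructible.empty_union_induction with
  | open_retrocompact U hUopen hUcomp =>
    have hc : IsCompact U := hUcomp.isCompact
    obtain ⟨O, hO, hOU⟩ := isOpen_induced_iff.1 hUopen
    have hK : IsCompact ((Subtype.val : R → X) '' U) := hc.image continuous_subtype_val
    have hKO : (Subtype.val : R → X) '' U ⊆ O := by
      rintro _ ⟨y, hy, rfl⟩
      rw [← hOU] at hy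
      exact hy
    obtain ⟨W, hWc, hWo, hKW, hWO⟩ :=
      PrespectralSpace.exists_isCompact_and_isOpen_between hK hO hKO
    have heq : (Subtype.val : R → X) '' U = W ∩ R := by
      apply Subset.antisymm
      · rintro _ ⟨y, hy, rfl⟩
        exact ⟨hKW ⟨y, hy, rfl⟩, y.2⟩
      · rintro x ⟨hxW, hxR⟩
        refine ⟨⟨x, hxR⟩, ?_, rfl⟩
        rw [← hOU]
        exact hWO hxW
    rw [heq]
    exact (hWc.isConstructible hWo).inter hR
  | union s hs t ht hs' ht' =>
    rw [image_union]
    exact hs'.union ht'
  | compl s hs hs' =>
    rw [image_compl_eq_range_diff_image Subtype.val_injective, Subtype.range_coe]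
    exact hR.sdiff hs'

theorem isConstructible_of_cin [CompactSpace X] [QuasiSeparatedSpace X] [PrespectralSpace X]
    {R A : Set X} (hR : IsConstructible R) (hAR : A ⊆ R) (hA : CIn R A) : IsConstructible A := by
  have := isConstructible_image_val hR hA
  rwa [image_preimage_eq_inter_range, Subtype.range_coe, inter_eq_left.2 hAR] at this

theorem cin_univ_of_isConstructible {A : Set X} (hA : IsConstructible A) : CIn univ A :=
  IsConstructible.preimage_of_isOpenEmbedding isOpen_univ.isOpenEmbedding_subtypeVal hA

end Groth.Agent.Lib.Helper4.CIn
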