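import Groth.Agent.Lib.Helper4.StrataPull
import Groth.Agent.Lib.Helper4.ConsTop

set_option autoImplicit false
open CategoryTheory CategoryTheory.Limits AlgebraicGeometry Opposite Topology
universe u

noncomputable section

namespace Groth.Agent.Lib.Helper4.Strata
open Groth.Agent.Lib.Helper4.CIn

variable {X : Scheme.{u}}

def AStrata (F : EtCoh.Ab X) (S : Set X) : Prop :=
  ∃ (κ : Type) (_ : Finite κ) (T : κ → Scheme.{u}) (g : ∀ i, T i ⟶ X),
    (∀ i, IsImmersion (g i)) ∧
    (∀ i, IsConstructible (Set.range (g i))) ∧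
    Pairwise (fun i j => Disjoint (Set.range (g i)) (Set.range (g j))) ∧
    (⋃ i, Set.range (g i)) = S ∧
    ∀ i, EtCoh.IsFiniteLocallyConstant ((EtCoh.pull (g i)).obj F)

theorem astrata_empty (F : EtCoh.Ab X) : AStrata F ∅ :=
  ⟨Empty, inferInstance, fun i => i.elim, fun i => i.elim, fun i => i.elim, fun i => i.elim,
    fun i => i.elim, by simp, fun i => i.elim⟩

theorem astrata_of_strata [CompactSpace X] [QuasiSeparatedSpace X] (F : EtCoh.Ab X) {R : Set X}
    (hR : IsConstructible R) (h : Strata F R) : AStrata F R := by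
  obtain ⟨κ, hκ, T, g, a1, a2, a3, a4, a5⟩ := h
  refine ⟨κ, hκ, T, g, a1, fun i => ?_, a3, a4, a5⟩
  have hsub : Set.range (g i) ⊆ R := by
    rw [← a4]
    exact Set.subset_iUnion (fun i => Set.range (g i)) i
  exact isConstructible_of_cin hR hsub (a2 i)

theorem strata_univ_of_astrata (F : EtCoh.Ab X) (h : AStrata F Set.univ) : Strata F Set.univ := by
  obtain ⟨κ, hκ, T, g, a1, a2, a3, a4, a5⟩ := h
  exact ⟨κ, hκ, T, g, a1, fun i => cin_univ_of_isConstructible (a2 i), a3, a4, a5⟩

theorem astrata_disjoint_union (F : EtCoh.Ab X) {A B : Set X} (hA : AStrata F A) (hB : AStrata F B)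
    (hAB : Disjoint A B) : AStrata F (A ∪ B) := by
  obtain ⟨κ₁, hκ₁, T₁, g₁, a1, a2, a3, a4, a5⟩ := hA
  obtain ⟨κ₂, hκ₂, T₂, g₂, b1, b2, b3, b4, b5⟩ := hB
  have hr₁ : ∀ i, Set.range (g₁ i) ⊆ A := fun i => by
    rw [← a4]; exact Set.subset_iUnion (fun i => Set.range (g₁ i)) i
  have hr₂ : ∀ i, Set.range (g₂ i) ⊆ B := fun i => by
    rw [← b4]; exact Set.subset_iUnion (fun i => Set.range (g₂ i)) i
  let T : κ₁ ⊕ κ₂ → Scheme.{u} := Sum.elim T₁ T₂
  let g : ∀ k, T k ⟶ X := fun k => match k with
    | Sum.inl i => g₁ i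
    | Sum.inr j => g₂ j
  refine ⟨κ₁ ⊕ κ₂, inferInstance, T, g, ?_, ?_, ?_, ?_, ?_⟩
  · rintro (i | j)
    · exact a1 i
    · exact b1 j
  · rintro (i | j)
    · exact a2 i
    · exact b2 j
  · rintro (i | j) (i' | j') hne
    · exact a3 (fun h => hne (congrArg Sum.inl h))
    · exact Set.disjoint_of_subset (hr₁ i) (hr₂ j') hAB
    · exact Set.disjoint_of_subset (hr₂ j) (hr₁ i') hAB.symm
    · exact b3 (fun h => hne (congrArg Sum.inr h))
  · rw [← a4, ← b4]
    ext x
    simp only [Set.mem_iUnion, Sum.exists, Set.mem_union]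
    rfl
  · rintro (i | j)
    · exact a5 i
    · exact b5 j

theorem astrata_inter_open [QuasiSeparatedSpace X] (F : EtCoh.Ab X) {S : Set X} (U : Set X)
    (hUo : IsOpen U) (hUc : IsCompact U) (h : AStrata F S) :
    AStrata F (S ∩ U) ∧ AStrata F (S \ U) := by
  obtain ⟨κ, hκ, T, g, a1, a2, a3, a4, a5⟩ := h
  have hUcons : IsConstructible U := hUc.isConstructible hUo
  constructor
  · let V : ∀ i, (T i).Opens := fun i => (g i) ⁻¹ᵁ ⟨U, hUo⟩
    have hrange : ∀ i, Set.range ((V i).ι ≫ g i) = Set.range (g i) ∩ U := by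
      intro i
      rw [Scheme.Hom.comp_base, TopCat.coe_comp, Set.range_comp, Scheme.Opens.range_ι]
      change (g i) '' ((g i) ⁻¹' U) = _
      rw [Set.image_preimage_eq_inter_range, Set.inter_comm]
    refine ⟨κ, hκ, fun i => (V i).toScheme, fun i => (V i).ι ≫ g i, ?_, ?_, ?_, ?_, ?_⟩
    · intro i
      have := a1 i
      infer_instance
    · intro i
      rw [hrange]
      exact (a2 i).inter hUcons
    · intro i j hij
      change Disjoint (Set.range ((V i).ι ≫ g i)) (Set.range ((V j).ι ≫ g j))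
      rw [hrange, hrange]
      exact Set.disjoint_of_subset Set.inter_subset_left Set.inter_subset_left (a3 hij)
    · rw [← a4, Set.iUnion_inter]
      exact Set.iUnion_congr hrange
    · intro i
      exact flc_comp F _ _ (a5 i)
  · have hC : IsClosed Uᶜ := hUo.isClosed_compl
    refine ⟨κ, hκ, fun i => restrObj (g i) Uᶜ hC, fun i => restrι (g i) Uᶜ hC ≫ g i, ?_, ?_, ?_, ?_, ?_⟩
    · intro i
      have := a1 i
      infer_instance
    · intro i
      rw [range_restrι_comp]
      exact (a2 i).inter hUcons.compl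
    · intro i j hij
      change Disjoint (Set.range (restrι (g i) Uᶜ hC ≫ g i)) (Set.range (restrι (g j) Uᶜ hC ≫ g j))
      rw [range_restrι_comp, range_restrι_comp]
      exact Set.disjoint_of_subset Set.inter_subset_left Set.inter_subset_left (a3 hij)
    · rw [← a4, Set.diff_eq, Set.iUnion_inter]
      exact Set.iUnion_congr (fun i => range_restrι_comp (g i) Uᶜ hC)
    · intro i
      exact flc_comp F _ _ (a5 i)

theorem astrata_inter_constructible [CompactSpace X] [QuasiSeparatedSpace X] (F : EtCoh.Ab X)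
    {C : Set X} (hC : IsConstructible C) :
    ∀ S : Set X, AStrata F S → AStrata F (S ∩ C) ∧ AStrata F (S \ C) := by
  induction hC using IsConstructible.empty_union_induction with
  | open_retrocompact U hUopen hUcomp =>
    intro S hS
    exact astrata_inter_open F U hUopen hUcomp.isCompact hS
  | union s hs t ht hs' ht' =>
    intro S hS
    constructor
    · have h1 := (hs' S hS).1
      have h2 := (ht' (S \ s) (hs' S hS).2).1
      have heq : S ∩ (s ∪ t) = (S ∩ s) ∪ ((S \ s) ∩ t) := by
        ext x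
        simp only [Set.mem_inter_iff, Set.mem_union, Set.mem_diff]
        tauto
      rw [heq]
      refine astrata_disjoint_union F h1 h2 ?_
      rw [Set.disjoint_left]
      rintro x ⟨-, hxs⟩ ⟨⟨-, hxs'⟩, -⟩
      exact hxs' hxs
    · have h2 := (ht' (S \ s) (hs' S hS).2).2
      have heq : S \ (s ∪ t) = (S \ s) \ t := by
        ext x
        simp only [Set.mem_diff, Set.mem_union]
        tauto
      rw [heq]
      exact h2
  | compl s hs hs' =>
    intro S hS
    have heq1 : S ∩ sᶜ = S \ s := rfl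
    have heq2 : S \ sᶜ = S ∩ s := by
      ext x
      simp only [Set.mem_diff, Set.mem_compl_iff, not_not, Set.mem_inter_iff]
    rw [heq1, heq2]
    exact ⟨(hs' S hS).2, (hs' S hS).1⟩

theorem astrata_biUnion [CompactSpace X] [QuasiSeparatedSpace X] (F : EtCoh.Ab X) {ι : Type*}
    (t : Finset ι) (R : ι → Set X) (h : ∀ i ∈ t, IsConstructible (R i) ∧ AStrata F (R i)) :
    AStrata F (⋃ i ∈ t, R i) := by
  classical
  induction t using Finset.induction_on with
  | empty =>
    simp only [Finset.notMem_empty, Set.iUnion_of_empty, Set.iUnion_empty]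
    exact astrata_empty F
  | insert b t hb ih =>
    have ht : ∀ i ∈ t, IsConstructible (R i) ∧ AStrata F (R i) :=
      fun i hi => h i (Finset.mem_insert_of_mem hi)
    obtain ⟨hb1, hb2⟩ := h b (Finset.mem_insert_self b t)
    have hcons : IsConstructible (⋃ i ∈ t, R i) :=
      IsConstructible.biUnion t.finite_toSet fun i hi => (ht i hi).1
    have hU : (⋃ i ∈ insert b t, R i) = (⋃ i ∈ t, R i) ∪ (R b \ ⋃ i ∈ t, R i) := by
      rw [Finset.set_biUnion_insert, Set.union_diff_self, Set.union_comm]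
    rw [hU]
    refine astrata_disjoint_union F (ih ht) (astrata_inter_constructible F hcons _ hb2).2 ?_
    exact Set.disjoint_sdiff_right

end Groth.Agent.Lib.Helper4.Strata
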