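import Mathlib
import Groth.Prelude.Def_DCoh2
import Groth.Prelude.Def_FlatMod2

set_option autoImplicit false

universe u

open CategoryTheory CategoryTheory.Limits AlgebraicGeometry

attribute [local instance] HasDerivedCategory.standard

namespace Groth.Agent.Lib.Helper4.AffKTA

section

variable {A B : Type (u + 1)} [Category.{u} A] [Abelian A] [Category.{u} B] [Abelian B]

noncomputable def etaIso (Φ : A ⥤ B) (Ψ : B ⥤ A) [Φ.Additive] [Ψ.Additive] (η : 𝟭 A ≅ Φ ⋙ Ψ)
    (E : CochainComplex A ℤ) :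
    E ≅ (Ψ.mapHomologicalComplex (ComplexShape.up ℤ)).obj
      ((Φ.mapHomologicalComplex (ComplexShape.up ℤ)).obj E) :=
  HomologicalComplex.Hom.isoOfComponents (fun i => η.app (E.X i)) (by
    intro i j _
    exact (η.hom.naturality (E.d i j)).symm)

lemma etaIso_naturality (Φ : A ⥤ B) (Ψ : B ⥤ A) [Φ.Additive] [Ψ.Additive] (η : 𝟭 A ≅ Φ ⋙ Ψ)
    {E F : CochainComplex A ℤ} (g : E ⟶ F) :
    (etaIso Φ Ψ η E).hom ≫ (Ψ.mapHomologicalComplex (ComplexShape.up ℤ)).map
      ((Φ.mapHomologicalComplex (ComplexShape.up ℤ)).map g) = g ≫ (etaIso Φ Ψ η F).hom := by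
  ext i
  exact (η.hom.naturality (g.f i)).symm

lemma Q_map_eq_of_Q_map_eq (Ψ : B ⥤ A) [Ψ.Additive] [PreservesFiniteLimits Ψ]
    [PreservesFiniteColimits Ψ] {K L : CochainComplex B ℤ} (x y : K ⟶ L)
    (h : DerivedCategory.Q.map x = DerivedCategory.Q.map y) :
    DerivedCategory.Q.map ((Ψ.mapHomologicalComplex (ComplexShape.up ℤ)).map x) =
      DerivedCategory.Q.map ((Ψ.mapHomologicalComplex (ComplexShape.up ℤ)).map y) := by
  have h1 := Ψ.mapDerivedCategoryFactors_hom_naturality x
  have h2 := Ψ.mapDerivedCategoryFactors_hom_naturality y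
  rw [h] at h1
  rw [← cancel_epi (Ψ.mapDerivedCategoryFactors.hom.app K), ← h1, ← h2]

lemma Q_map_eq_iff_Qh (C : Type (u + 1)) [Category.{u} C] [Abelian C] {K L : CochainComplex C ℤ}
    (x y : K ⟶ L) :
    DerivedCategory.Q.map x = DerivedCategory.Q.map y ↔
      DerivedCategory.Qh.map ((HomotopyCategory.quotient C (ComplexShape.up ℤ)).map x) =
        DerivedCategory.Qh.map ((HomotopyCategory.quotient C (ComplexShape.up ℤ)).map y) := by
  have h1 := DerivedCategory.quotientCompQhIso_hom_naturality x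
  have h2 := DerivedCategory.quotientCompQhIso_hom_naturality y
  constructor
  · intro h
    rw [← cancel_mono ((DerivedCategory.quotientCompQhIso C).hom.app L), h1, h2, h]
  · intro h
    rw [← cancel_epi ((DerivedCategory.quotientCompQhIso C).hom.app K), ← h1, ← h2, h]

end

theorem bijective_Qh_of_retract {A B : Type (u + 1)} [Category.{u} A] [Abelian A]
    [Category.{u} B] [Abelian B] (Φ : A ⥤ B) (Ψ : B ⥤ A) [Φ.Additive] [Ψ.Additive]
    [PreservesFiniteLimits Φ] [PreservesFiniteColimits Φ] [PreservesFiniteLimits Ψ]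
    [PreservesFiniteColimits Ψ] (η : 𝟭 A ≅ Φ ⋙ Ψ) (E F : CochainComplex A ℤ)
    (h : Function.Bijective (fun φ : (HomotopyCategory.quotient B (ComplexShape.up ℤ)).obj
        ((Φ.mapHomologicalComplex (ComplexShape.up ℤ)).obj E) ⟶
        (HomotopyCategory.quotient B (ComplexShape.up ℤ)).obj
          ((Φ.mapHomologicalComplex (ComplexShape.up ℤ)).obj F) =>
        (DerivedCategory.Qh (C := B)).map φ)) :
    Function.Bijective (fun φ : (HomotopyCategory.quotient A (ComplexShape.up ℤ)).obj E ⟶
        (HomotopyCategory.quotient A (ComplexShape.up ℤ)).obj F =>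
        (DerivedCategory.Qh (C := A)).map φ) := by
  constructor
  · intro φ₁ φ₂ hφ
    obtain ⟨g₁, rfl⟩ := (HomotopyCategory.quotient A (ComplexShape.up ℤ)).map_surjective φ₁
    obtain ⟨g₂, rfl⟩ := (HomotopyCategory.quotient A (ComplexShape.up ℤ)).map_surjective φ₂
    have hQ : DerivedCategory.Q.map g₁ = DerivedCategory.Q.map g₂ :=
      (Q_map_eq_iff_Qh A g₁ g₂).2 hφ
    have hQB := Q_map_eq_of_Q_map_eq Φ g₁ g₂ hQ
    have hB := h.1 ((Q_map_eq_iff_Qh B _ _).1 hQB)
    have hom1 : Homotopy ((Φ.mapHomologicalComplex (ComplexShape.up ℤ)).map g₁)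
        ((Φ.mapHomologicalComplex (ComplexShape.up ℤ)).map g₂) :=
      HomotopyCategory.homotopyOfEq _ _ hB
    have hom2 := Ψ.mapHomotopy hom1
    have hom3 := ((hom2.compLeft (etaIso Φ Ψ η E).hom).compRight (etaIso Φ Ψ η F).inv)
    have e1 : ∀ g : E ⟶ F, (etaIso Φ Ψ η E).hom ≫
        (Ψ.mapHomologicalComplex (ComplexShape.up ℤ)).map
          ((Φ.mapHomologicalComplex (ComplexShape.up ℤ)).map g) ≫ (etaIso Φ Ψ η F).inv = g := by
      intro g
      rw [← Category.assoc, etaIso_naturality, Category.assoc, Iso.hom_inv_id, Category.comp_id]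
    apply HomotopyCategory.eq_of_homotopy
    refine (Homotopy.ofEq (e1 g₁).symm).trans (Homotopy.trans ?_ (Homotopy.ofEq (e1 g₂)))
    refine (Homotopy.ofEq ?_).trans (hom3.trans (Homotopy.ofEq ?_))
    · rw [Category.assoc]
    · rw [Category.assoc]
  · intro β
    let β' : DerivedCategory.Q.obj E ⟶ DerivedCategory.Q.obj F :=
      (DerivedCategory.quotientCompQhIso A).inv.app E ≫ β ≫
        (DerivedCategory.quotientCompQhIso A).hom.app F
    obtain ⟨F', g, s, hs, hfac⟩ := DerivedCategory.left_fac β'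
    have hsq : QuasiIso s := (DerivedCategory.isIso_Q_map_iff_quasiIso (C := A) s).1 hs
    have hsB : IsIso (DerivedCategory.Q.map
        ((Φ.mapHomologicalComplex (ComplexShape.up ℤ)).map s)) := by
      rw [DerivedCategory.isIso_Q_map_iff_quasiIso]
      infer_instance
    let βB : DerivedCategory.Q.obj ((Φ.mapHomologicalComplex (ComplexShape.up ℤ)).obj E) ⟶
        DerivedCategory.Q.obj ((Φ.mapHomologicalComplex (ComplexShape.up ℤ)).obj F) :=
      DerivedCategory.Q.map ((Φ.mapHomologicalComplex (ComplexShape.up ℤ)).map g) ≫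
        inv (DerivedCategory.Q.map ((Φ.mapHomologicalComplex (ComplexShape.up ℤ)).map s))
    obtain ⟨χ, hχ⟩ := h.2 ((DerivedCategory.quotientCompQhIso B).hom.app _ ≫ βB ≫
      (DerivedCategory.quotientCompQhIso B).inv.app _)
    obtain ⟨c', rfl⟩ := (HomotopyCategory.quotient B (ComplexShape.up ℤ)).map_surjective χ
    have hc' : DerivedCategory.Q.map c' = βB := by
      have h1 := DerivedCategory.quotientCompQhIso_hom_naturality c'
      have hχ' : DerivedCategory.Qh.map ((HomotopyCategory.quotient B (ComplexShape.up ℤ)).map c') =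
          (DerivedCategory.quotientCompQhIso B).hom.app _ ≫ βB ≫
            (DerivedCategory.quotientCompQhIso B).inv.app _ := hχ
      rw [hχ'] at h1
      simp only [Category.assoc, Iso.inv_hom_id_app, Category.comp_id] at h1
      exact ((cancel_epi _).1 h1).symm
    have hcs : DerivedCategory.Q.map (c' ≫ (Φ.mapHomologicalComplex (ComplexShape.up ℤ)).map s) =
        DerivedCategory.Q.map ((Φ.mapHomologicalComplex (ComplexShape.up ℤ)).map g) := by
      rw [Functor.map_comp, hc']
      simp only [βB, Category.assoc, IsIso.inv_hom_id, Category.comp_id]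
    have hΨ := Q_map_eq_of_Q_map_eq Ψ _ _ hcs
    let c : E ⟶ F := (etaIso Φ Ψ η E).hom ≫
      (Ψ.mapHomologicalComplex (ComplexShape.up ℤ)).map c' ≫ (etaIso Φ Ψ η F).inv
    have hc : DerivedCategory.Q.map c ≫ DerivedCategory.Q.map s = DerivedCategory.Q.map g := by
      have e2 : c ≫ s = (etaIso Φ Ψ η E).hom ≫
          (Ψ.mapHomologicalComplex (ComplexShape.up ℤ)).map
            (c' ≫ (Φ.mapHomologicalComplex (ComplexShape.up ℤ)).map s) ≫
          (etaIso Φ Ψ η F').inv := by
        have e3 : (etaIso Φ Ψ η F).inv ≫ s = (Ψ.mapHomologicalComplex (ComplexShape.up ℤ)).map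
            ((Φ.mapHomologicalComplex (ComplexShape.up ℤ)).map s) ≫ (etaIso Φ Ψ η F').inv := by
          rw [Iso.inv_comp_eq, ← Category.assoc, etaIso_naturality, Category.assoc,
            Iso.hom_inv_id, Category.comp_id]
        simp only [c, Category.assoc, e3, Functor.map_comp]
      have e4 : g = (etaIso Φ Ψ η E).hom ≫
          (Ψ.mapHomologicalComplex (ComplexShape.up ℤ)).map
            ((Φ.mapHomologicalComplex (ComplexShape.up ℤ)).map g) ≫ (etaIso Φ Ψ η F').inv := by
        rw [← Category.assoc, etaIso_naturality, Category.assoc, Iso.hom_inv_id, Category.comp_id]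
      rw [← Functor.map_comp, e2, Functor.map_comp, Functor.map_comp, hΨ, ← Functor.map_comp,
        ← Functor.map_comp, ← e4]
    refine ⟨(HomotopyCategory.quotient A (ComplexShape.up ℤ)).map c, ?_⟩
    have hβ' : DerivedCategory.Q.map c = β' := by
      rw [hfac, ← hc, Category.assoc, IsIso.hom_inv_id, Category.comp_id]
    have h1 := DerivedCategory.quotientCompQhIso_hom_naturality c
    rw [hβ'] at h1
    simp only [β', Iso.hom_inv_id_app_assoc] at h1
    exact (cancel_mono _).1 h1

end Groth.Agent.Lib.Helper4.AffKTA
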