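import Groth.Prelude.Def_EtBase
import Mathlib.CategoryTheory.Sites.LocallyBijective
import Mathlib.CategoryTheory.Sites.Abelian
import Mathlib.CategoryTheory.Sites.Limits

set_option autoImplicit false
open CategoryTheory CategoryTheory.Limits AlgebraicGeometry Opposite
universe u

namespace Groth.Agent.Lib.Helper4.KerConst

variable {S : Scheme.{u}}

theorem kernelι_app_injective {F G : EtCoh.Ab S} (f : F ⟶ G) (T : S.Etale) :
    Function.Injective ((kernel.ι f).hom.app (op T)) := by
  have h1 : Mono (kernel.ι f) := inferInstance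
  have h2 : Mono ((sheafToPresheaf S.smallEtaleTopology AddCommGrpCat.{u + 1}).map (kernel.ι f)) :=
    inferInstance
  have h3 : Mono (((sheafToPresheaf S.smallEtaleTopology AddCommGrpCat.{u + 1}).map
      (kernel.ι f)).app (op T)) := inferInstance
  exact (AddCommGrpCat.mono_iff_injective _).1 h3

theorem app_kernelι_app {F G : EtCoh.Ab S} (f : F ⟶ G) (T : S.Etale)
    (s : (kernel f).obj.obj (op T)) :
    f.hom.app (op T) ((kernel.ι f).hom.app (op T) s) = 0 := by
  have h : kernel.ι f ≫ f = 0 := kernel.condition _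
  have h2 := congrArg (fun g => g.hom.app (op T) s) h
  exact h2

theorem kernel_iso_const {F G : EtCoh.Ab S} (f : F ⟶ G) (M : Type) [AddCommGroup M]
    (ψ' : (Functor.const (S.Etale)ᵒᵖ).obj (AddCommGrpCat.of (ULift.{u + 1} M)) ⟶ F.obj)
    (hψ'0 : ψ' ≫ f.hom = 0)
    (hinj' : Presheaf.IsLocallyInjective S.smallEtaleTopology ψ')
    (hsurj' : ∀ (T : S.Etale) (x : F.obj.obj (op T)), f.hom.app (op T) x = 0 →
      Presheaf.imageSieve ψ' x ∈ S.smallEtaleTopology T) :
    Nonempty (kernel f ≅ EtCoh.const S M) := by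
  let J := S.smallEtaleTopology
  let adj := sheafificationAdjunction J AddCommGrpCat.{u + 1}
  let P : (S.Etale)ᵒᵖ ⥤ AddCommGrpCat.{u + 1} :=
    (Functor.const (S.Etale)ᵒᵖ).obj (AddCommGrpCat.of (ULift.{u + 1} M))
  let φ' : (presheafToSheaf J AddCommGrpCat.{u + 1}).obj P ⟶ F :=
    (adj.homEquiv P F).symm ψ'
  have hφ' : φ' ≫ f = 0 := by
    apply (adj.homEquiv _ _).injective
    rw [Adjunction.homEquiv_naturality_right, Equiv.apply_symm_apply]
    refine hψ'0.trans ?_
    rw [Adjunction.homEquiv_unit]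
    have h0 : (sheafToPresheaf J AddCommGrpCat.{u + 1}).map
        (0 : (presheafToSheaf J AddCommGrpCat.{u + 1}).obj P ⟶ G) = 0 := rfl
    rw [h0, Limits.comp_zero]
  let φ : (presheafToSheaf J AddCommGrpCat.{u + 1}).obj P ⟶ kernel f :=
    kernel.lift f φ' hφ'
  have hφι : φ ≫ kernel.ι f = φ' := kernel.lift_ι _ _ _
  let ψ : P ⟶ (kernel f).obj := adj.homEquiv P (kernel f) φ
  have hψι : ψ ≫ (kernel.ι f).hom = ψ' := by
    have h1 := (adj.homEquiv_naturality_right φ (kernel.ι f)).symm
    rw [hφι, Equiv.apply_symm_apply] at h1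
    exact h1
  have hinj : Presheaf.IsLocallyInjective J ψ :=
    Presheaf.isLocallyInjective_of_isLocallyInjective_fac J hψι
  have hsurj : Presheaf.IsLocallySurjective J ψ := by
    constructor
    intro T s
    have h1 := hsurj' T ((kernel.ι f).hom.app (op T) s) (app_kernelι_app f T s)
    refine J.superset_covering ?_ h1
    intro T' g hg
    obtain ⟨a, ha⟩ := hg
    refine ⟨a, ?_⟩
    apply kernelι_app_injective f T'
    have h2 : (kernel.ι f).hom.app (op T') (ψ.app (op T') a) = ψ'.app (op T') a := by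
      rw [← hψι]
      rfl
    rw [h2, ha]
    exact (NatTrans.naturality_apply (kernel.ι f).hom g.op s).symm
  have hW : J.W ψ := J.W_of_isLocallyBijective ψ
  have hiso : IsIso ((presheafToSheaf J AddCommGrpCat.{u + 1}).map ψ) := (J.W_iff ψ).1 hW
  have hφeq : φ = (presheafToSheaf J AddCommGrpCat.{u + 1}).map ψ ≫ adj.counit.app (kernel f) := by
    have h1 := adj.homEquiv_counit (X := P) (Y := kernel f) (g := ψ)
    rw [← h1]
    exact (Equiv.symm_apply_apply _ _).symm
  have : IsIso φ := by
    rw [hφeq]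
    infer_instance
  exact ⟨(asIso φ).symm⟩

end Groth.Agent.Lib.Helper4.KerConst
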