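import Mathlib.AlgebraicGeometry.PullbackCarrier
import Mathlib.CategoryTheory.Limits.Shapes.Pullback.Iso
import Mathlib.AlgebraicGeometry.Morphisms.Etale
import Mathlib.AlgebraicGeometry.Morphisms.FormallyUnramified
import Mathlib.AlgebraicGeometry.Sites.Etale
import Mathlib.AlgebraicGeometry.Sites.Small

set_option autoImplicit false
open CategoryTheory CategoryTheory.Limits AlgebraicGeometry Opposite
universe w u

namespace Groth.Agent.Lib.Helper4.Excision

open AlgebraicGeometry.Scheme.Pullback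

theorem point_eq_of_subsingleton {X Y S : Scheme.{u}} {f : X ⟶ S} {g : Y ⟶ S}
    (w w' : ↑(pullback f g)) (h1 : pullback.fst f g w = pullback.fst f g w')
    (h2 : pullback.snd f g w = pullback.snd f g w')
    (hsub : Subsingleton (Spec (Triplet.ofPoint w).tensor)) : w = w' := by
  obtain ⟨⟨T, p⟩, rfl⟩ := carrierEquiv.symm.surjective w
  obtain ⟨⟨T', p'⟩, rfl⟩ := carrierEquiv.symm.surjective w'
  rw [carrierEquiv_symm_fst, carrierEquiv_symm_fst] at h1
  rw [carrierEquiv_symm_snd, carrierEquiv_symm_snd] at h2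
  obtain rfl : T = T' := Triplet.ext h1 h2
  have hT : Triplet.ofPoint (carrierEquiv.symm ⟨T, p⟩) = T := Triplet.ofPoint_SpecTensorTo T p
  rw [hT] at hsub
  rw [Subsingleton.elim p p']

theorem subsingleton_spec_tensor {X Y S : Scheme.{u}} {f : X ⟶ S} {g : Y ⟶ S}
    (T : Triplet f g) (h : Function.Surjective (f.residueFieldMap T.x)) :
    Subsingleton (Spec T.tensor) := by
  have hiso : IsIso ((S.residueFieldCongr T.hx).inv ≫ f.residueFieldMap T.x) := by
    have : IsIso (f.residueFieldMap T.x) := by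
      rw [ConcreteCategory.isIso_iff_bijective]
      exact ⟨(f.residueFieldMap T.x).hom.injective, h⟩
    infer_instance
  have hinr : IsIso (pushout.inr ((S.residueFieldCongr T.hx).inv ≫ f.residueFieldMap T.x)
      ((S.residueFieldCongr T.hy).inv ≫ g.residueFieldMap T.y)) :=
    pushout_inr_iso_of_left_iso _ _
  let e : Y.residueField T.y ≅ T.tensor :=
    @asIso _ _ _ _ (pushout.inr ((S.residueFieldCongr T.hx).inv ≫ f.residueFieldMap T.x)
      ((S.residueFieldCongr T.hy).inv ≫ g.residueFieldMap T.y)) hinr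
  have : Subsingleton (PrimeSpectrum T.tensor) :=
    (PrimeSpectrum.comapEquiv e.commRingCatIsoToRingEquiv).symm.subsingleton
  exact this

theorem mem_range_diagonal {W' W : Scheme.{u}} (φ : W' ⟶ W) (C : Set W')
    (hinj : Set.InjOn φ C) (hκ : ∀ a ∈ C, Function.Surjective (φ.residueFieldMap a))
    (w : ↑(pullback φ φ)) (h1 : pullback.fst φ φ w ∈ C) (h2 : pullback.snd φ φ w ∈ C) :
    w ∈ Set.range (pullback.diagonal φ) := by
  have hc : φ (pullback.fst φ φ w) = φ (pullback.snd φ φ w) := by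
    have := congrArg (fun k => k w) (pullback.condition (f := φ) (g := φ))
    simpa using this
  have hab : pullback.fst φ φ w = pullback.snd φ φ w := hinj h1 h2 hc
  refine ⟨pullback.fst φ φ w, (point_eq_of_subsingleton _ _ ?_ ?_ ?_).symm⟩
  · rw [← Scheme.Hom.comp_apply, pullback.diagonal_fst]
    rfl
  · rw [← Scheme.Hom.comp_apply, pullback.diagonal_snd]
    exact hab.symm
  · exact subsingleton_spec_tensor _ (hκ _ h1)

section Site

variable {X : Scheme.{u}}

noncomputable def openObj (U : X.Etale) (W : U.left.Opens) : X.Etale :=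
  Scheme.Etale.mk (W.ι ≫ U.hom)

noncomputable def openι (U : X.Etale) (W : U.left.Opens) : openObj U W ⟶ U :=
  MorphismProperty.Over.homMk W.ι rfl trivial

@[simp] theorem openι_left (U : X.Etale) (W : U.left.Opens) : (openι U W).left = W.ι := rfl

instance (U : X.Etale) (W : U.left.Opens) : IsOpenImmersion (openι U W).left :=
  inferInstanceAs (IsOpenImmersion W.ι)

theorem ofArrows_mem {U : X.Etale} {ι : Type*} {Z : ι → X.Etale} (g : ∀ i, Z i ⟶ U)
    (h : ∀ x : U.left, ∃ i, x ∈ Set.range (g i).left) :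
    Sieve.ofArrows Z g ∈ X.smallEtaleTopology U := by
  rw [Scheme.ofArrows_mem_smallEtaleTopology_iff]
  ext x
  simp only [Set.mem_iUnion, Set.mem_univ, iff_true]
  exact h x

theorem eq_of_forall_map_eq {P : X.Etaleᵒᵖ ⥤ Type w}
    (hP : Presieve.IsSheaf X.smallEtaleTopology P) (U : X.Etale) {μ : Type*}
    (Wo : μ → X.Etale) (ι : ∀ a, Wo a ⟶ U)
    (hsurj : ∀ x : U.left, ∃ a, x ∈ Set.range (ι a).left) (s s' : P.obj (op U))
    (h : ∀ a, P.map (ι a).op s = P.map (ι a).op s') : s = s' := by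
  have hcov : Sieve.ofArrows Wo ι ∈ X.smallEtaleTopology U := ofArrows_mem _ hsurj
  refine (hP.isSeparated _ hcov).ext ?_
  rintro W k ⟨_, k', _, ⟨a⟩, rfl⟩
  rw [op_comp, Functor.map_comp_apply, Functor.map_comp_apply, h a]

theorem exists_lift {Z V' W' : X.Etale} (g : Z ⟶ W') (ι' : V' ⟶ W') [IsOpenImmersion ι'.left]
    (h : Set.range g.left ⊆ Set.range ι'.left) : ∃ k : Z ⟶ V', k ≫ ι' = g := by
  refine ⟨MorphismProperty.Over.homMk (IsOpenImmersion.lift ι'.left g.left h) ?_ trivial, ?_⟩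
  · have h1 : ι'.left ≫ W'.hom = V'.hom := MorphismProperty.Over.w ι'
    have h2 : g.left ≫ W'.hom = Z.hom := MorphismProperty.Over.w g
    rw [← h1, IsOpenImmersion.lift_fac_assoc, h2]
  · apply MorphismProperty.Over.Hom.ext
    exact IsOpenImmersion.lift_fac _ _ _

theorem mono_of_isOpenImmersion {V W : X.Etale} (ι : V ⟶ W) [IsOpenImmersion ι.left] : Mono ι := by
  refine ⟨fun {Z} a b hab => ?_⟩
  apply MorphismProperty.Over.Hom.ext
  have : a.left ≫ ι.left = b.left ≫ ι.left := congrArg (fun k => k.left) hab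
  exact (cancel_mono ι.left).1 this

section Glue

variable {P : X.Etaleᵒᵖ ⥤ Type w} (hP : Presieve.IsSheaf X.smallEtaleTopology P)
  {W W' V V' : X.Etale} (φ : W' ⟶ W) (ι : V ⟶ W) (ι' : V' ⟶ W') (ψ : V' ⟶ V)
  (comm : ι' ≫ φ = ψ ≫ ι) [IsOpenImmersion ι.left] [IsOpenImmersion ι'.left]
  (hV' : φ.left ⁻¹' Set.range ι.left ⊆ Set.range ι'.left)
  (t : P.obj (op V)) (s' : P.obj (op W')) (hts : P.map ψ.op t = P.map ι'.op s')

include comm hV' hts in
theorem map_eq_of_fac {Z : X.Etale} (g : Z ⟶ W') (g₀ : Z ⟶ V) (hg : g₀ ≫ ι = g ≫ φ) :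
    P.map g.op s' = P.map g₀.op t := by
  have hr : Set.range g.left ⊆ Set.range ι'.left := by
    rintro _ ⟨z, rfl⟩
    apply hV'
    refine ⟨g₀.left z, ?_⟩
    have := congrArg (fun k => k.left z) hg
    exact this
  obtain ⟨h, rfl⟩ := exists_lift g ι' hr
  have := mono_of_isOpenImmersion ι
  have h2 : h ≫ ψ = g₀ := by
    apply (cancel_mono ι).1
    rw [Category.assoc, ← comm, ← Category.assoc, hg]
  rw [op_comp, Functor.map_comp_apply, ← hts, ← Functor.map_comp_apply, ← op_comp, h2]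

include hP comm hV' hts in
theorem map_eq_of_comp_eq
    (hinj : Set.InjOn φ.left (Set.range ι'.left)ᶜ)
    (hκ : ∀ a ∉ Set.range ι'.left, Function.Surjective (φ.left.residueFieldMap a))
    {Z : X.Etale} (gi gj : Z ⟶ W') (h : gi ≫ φ = gj ≫ φ) :
    P.map gi.op s' = P.map gj.op s' := by
  have hl : gi.left ≫ φ.left = gj.left ≫ φ.left := congrArg (fun k => k.left) h
  let ℓ : Z.left ⟶ pullback φ.left φ.left := pullback.lift gi.left gj.left hl
  let Δ : W'.left ⟶ pullback φ.left φ.left := pullback.diagonal φ.left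
  have hΔ : IsOpenImmersion Δ := inferInstance
  let Z₁ : Z.left.Opens := ℓ ⁻¹ᵁ Δ.opensRange
  let Z₂ : Z.left.Opens := gi.left ⁻¹ᵁ ι'.left.opensRange
  have hφι : ∀ a : W'.left, a ∈ Set.range ι'.left → φ.left a ∈ Set.range ι.left := by
    rintro _ ⟨v, rfl⟩
    refine ⟨ψ.left v, ?_⟩
    have := congrArg (fun k => k.left v) comm
    exact this.symm
  have hpt : ∀ z : Z.left, φ.left (gi.left z) = φ.left (gj.left z) := fun z =>
    congrArg (fun k => k z) hl
  let Zf : Bool → X.Etale := fun b => cond b (openObj Z Z₁) (openObj Z Z₂)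
  let gf : ∀ b, Zf b ⟶ Z := fun b => match b with
    | true => openι Z Z₁
    | false => openι Z Z₂
  refine eq_of_forall_map_eq hP Z Zf gf ?_ _ _ ?_
  · intro z
    by_cases hz : gi.left z ∈ Set.range ι'.left
    · exact ⟨false, ⟨⟨z, hz⟩, rfl⟩⟩
    · have hz' : gj.left z ∉ Set.range ι'.left := by
        intro hb
        apply hz
        apply hV'
        change φ.left (gi.left z) ∈ Set.range ι.left
        rw [hpt z]
        exact hφι _ hb
      have hw := mem_range_diagonal φ.left (Set.range ι'.left)ᶜ hinj (fun a ha => hκ a ha) (ℓ z)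
        (by
          change (pullback.fst φ.left φ.left) (ℓ z) ∉ Set.range ι'.left
          rw [← Scheme.Hom.comp_apply, pullback.lift_fst]
          exact hz)
        (by
          change (pullback.snd φ.left φ.left) (ℓ z) ∉ Set.range ι'.left
          rw [← Scheme.Hom.comp_apply, pullback.lift_snd]
          exact hz')
      exact ⟨true, ⟨⟨z, hw⟩, rfl⟩⟩
  · rintro (_ | _)
    · change P.map (openι Z Z₂).op _ = P.map (openι Z Z₂).op _
      rw [← Functor.map_comp_apply, ← Functor.map_comp_apply, ← op_comp, ← op_comp]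
      have hr : Set.range (openι Z Z₂ ≫ gi ≫ φ).left ⊆ Set.range ι.left := by
        rintro _ ⟨z, rfl⟩
        exact hφι _ z.2
      obtain ⟨g₀, hg₀⟩ := exists_lift (openι Z Z₂ ≫ gi ≫ φ) ι hr
      rw [map_eq_of_fac φ ι ι' ψ comm hV' t s' hts (openι Z Z₂ ≫ gi) g₀
        (by rw [hg₀, Category.assoc]),
        map_eq_of_fac φ ι ι' ψ comm hV' t s' hts (openι Z Z₂ ≫ gj) g₀
        (by rw [hg₀, Category.assoc, h])]
    · change P.map (openι Z Z₁).op _ = P.map (openι Z Z₁).op _
      rw [← Functor.map_comp_apply, ← Functor.map_comp_apply, ← op_comp, ← op_comp]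
      have hr : Set.range (Z₁.ι ≫ ℓ) ⊆ Set.range Δ := by
        rintro _ ⟨z, rfl⟩
        exact z.2
      have hk : IsOpenImmersion.lift Δ (Z₁.ι ≫ ℓ) hr ≫ Δ = Z₁.ι ≫ ℓ :=
        IsOpenImmersion.lift_fac _ _ _
      have e1 : Z₁.ι ≫ gi.left = Z₁.ι ≫ gj.left := by
        have a1 : (Z₁.ι ≫ ℓ) ≫ pullback.fst φ.left φ.left = Z₁.ι ≫ gi.left := by
          rw [Category.assoc, pullback.lift_fst]
        have a2 : (Z₁.ι ≫ ℓ) ≫ pullback.snd φ.left φ.left = Z₁.ι ≫ gj.left := by
          rw [Category.assoc, pullback.lift_snd]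
        rw [← a1, ← a2, ← hk, Category.assoc, Category.assoc, pullback.diagonal_fst,
          pullback.diagonal_snd]
      have e2 : openι Z Z₁ ≫ gi = openι Z Z₁ ≫ gj := MorphismProperty.Over.Hom.ext e1
      rw [e2]

include hP comm hV' hts in
theorem existsUnique_glue
    (hinj : Set.InjOn φ.left (Set.range ι'.left)ᶜ)
    (hsurj : (Set.range ι.left)ᶜ ⊆ Set.range φ.left)
    (hκ : ∀ a ∉ Set.range ι'.left, Function.Surjective (φ.left.residueFieldMap a)) :
    ∃! s : P.obj (op W), P.map ι.op s = t ∧ P.map φ.op s = s' := by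
  let Zf : Bool → X.Etale := fun b => cond b V W'
  let gf : ∀ b, Zf b ⟶ W := fun b => match b with
    | true => ι
    | false => φ
  let xf : ∀ b, P.obj (op (Zf b)) := fun b => match b with
    | true => t
    | false => s'
  have hcovpt : ∀ x : W.left, ∃ b, x ∈ Set.range (gf b).left := by
    intro x
    by_cases hx : x ∈ Set.range ι.left
    · exact ⟨true, hx⟩
    · exact ⟨false, hsurj hx⟩
  have hcov : Sieve.ofArrows Zf gf ∈ X.smallEtaleTopology W := ofArrows_mem _ hcovpt
  have hsf : (Presieve.ofArrows Zf gf).IsSheafFor P := by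
    rw [Presieve.isSheafFor_iff_generate]
    exact hP _ hcov
  have hmono := mono_of_isOpenImmersion ι
  have hcompat : Presieve.Arrows.Compatible P gf xf := by
    rintro (_ | _) (_ | _) Z gi gj hij
    · exact map_eq_of_comp_eq hP φ ι ι' ψ comm hV' t s' hts hinj hκ gi gj hij
    · exact map_eq_of_fac φ ι ι' ψ comm hV' t s' hts gi gj hij.symm
    · exact (map_eq_of_fac φ ι ι' ψ comm hV' t s' hts gj gi hij).symm
    · have : gi = gj := (cancel_mono ι).1 hij
      rw [this]
  obtain ⟨s, hs, huniq⟩ := (Presieve.isSheafFor_arrows_iff P _).1 hsf xf hcompat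
  refine ⟨s, ⟨hs true, hs false⟩, ?_⟩
  rintro s₂ ⟨h1, h2⟩
  apply huniq
  rintro (_ | _)
  · exact h2
  · exact h1

end Glue

end Site

end Groth.Agent.Lib.Helper4.Excision
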