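import Mathlib.RingTheory.Polynomial.Cyclotomic.Roots
import Mathlib.RingTheory.RootsOfUnity.Lemmas
import Mathlib.RingTheory.AdjoinRoot
import Mathlib.AlgebraicGeometry.ResidueField
import Mathlib.AlgebraicGeometry.Restrict

set_option autoImplicit false
universe u
open Polynomial CategoryTheory AlgebraicGeometry Opposite

namespace Groth.Agent.Lib.Helper4.MuN

section Alg

variable {A : Type*} [CommRing A] {n : ℕ} {ζ : A}

theorem pow_eq_one_of_cyclotomic (hζ : aeval ζ (cyclotomic n ℤ) = 0) : ζ ^ n = 1 := by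
  obtain ⟨q, hq⟩ := cyclotomic.dvd_X_pow_sub_one n ℤ
  have h := congrArg (aeval ζ) hq
  rw [map_mul, hζ, zero_mul] at h
  simpa [sub_eq_zero] using h

theorem prod_one_sub_pow (hn : 1 ≤ n) (hζ : aeval ζ (cyclotomic n ℤ) = 0) :
    ∏ k ∈ Finset.range (n - 1), (1 - ζ ^ (k + 1)) = (n : A) := by
  obtain ⟨m, rfl⟩ : ∃ m, n = m + 1 := ⟨n - 1, by omega⟩
  have hirr : Irreducible (cyclotomic (m + 1) ℤ) := cyclotomic.irreducible (Nat.succ_pos m)
  have hprime : Prime (cyclotomic (m + 1) ℤ) := hirr.prime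
  let B := AdjoinRoot (cyclotomic (m + 1) ℤ)
  have : IsDomain B := AdjoinRoot.isDomain_of_prime hprime
  have hdeg : (cyclotomic (m + 1) ℤ).degree ≠ 0 := by
    rw [degree_cyclotomic]
    have := Nat.totient_pos.2 (Nat.succ_pos m)
    exact_mod_cast this.ne'
  have hinj : Function.Injective (algebraMap ℤ B) :=
    AdjoinRoot.of.injective_of_degree_ne_zero hdeg
  have hne : NeZero (((m + 1 : ℕ)) : B) := by
    constructor
    intro h0
    have h1 : algebraMap ℤ B ((m + 1 : ℕ) : ℤ) = algebraMap ℤ B 0 := by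
      rw [map_zero, map_natCast]
      exact h0
    have := hinj h1
    omega
  let η : B := AdjoinRoot.root (cyclotomic (m + 1) ℤ)
  have hη : IsPrimitiveRoot η (m + 1) := by
    rw [← isRoot_cyclotomic_iff, IsRoot.def]
    have h1 : cyclotomic (m + 1) B = (cyclotomic (m + 1) ℤ).map (algebraMap ℤ B) :=
      (map_cyclotomic_int (m + 1) B).symm
    rw [h1, eval_map, ← aeval_def]
    rw [AdjoinRoot.aeval_eq]
    exact AdjoinRoot.mk_self
  have hB := hη.prod_one_sub_pow_eq_order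
  let f : B →+* A := AdjoinRoot.lift (algebraMap ℤ A) ζ (by rw [← aeval_def]; exact hζ)
  have hf : f η = ζ := AdjoinRoot.lift_root _
  have h2 := congrArg f hB
  simp only [map_prod, map_sub, map_one, map_pow, hf, map_add, map_natCast] at h2
  simpa using h2

theorem isUnit_one_sub_pow (hn : 1 ≤ n) (hζ : aeval ζ (cyclotomic n ℤ) = 0)
    (hu : IsUnit (n : A)) {k : ℕ} (hk0 : 0 < k) (hkn : k < n) : IsUnit (1 - ζ ^ k) := by
  have h := prod_one_sub_pow hn hζ
  rw [← h, IsUnit.prod_iff] at hu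
  have := hu (k - 1) (Finset.mem_range.2 (by omega))
  rwa [Nat.sub_add_cancel hk0] at this

theorem pow_inj_of_cyclotomic [Nontrivial A] (hn : 1 ≤ n) (hζ : aeval ζ (cyclotomic n ℤ) = 0)
    (hu : IsUnit (n : A)) {a b : ℕ} (ha : a < n) (hb : b < n) (h : ζ ^ a = ζ ^ b) : a = b := by
  have hζn := pow_eq_one_of_cyclotomic hζ
  have hζu : IsUnit ζ := IsUnit.of_pow_eq_one hζn (by omega)
  wlog hab : a ≤ b generalizing a b
  · exact (this hb ha h.symm (by omega)).symm
  by_contra hne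
  have hlt : a < b := lt_of_le_of_ne hab hne
  have h1 : IsUnit (1 - ζ ^ (b - a)) := isUnit_one_sub_pow hn hζ hu (by omega) (by omega)
  have h2 : ζ ^ a * (1 - ζ ^ (b - a)) = 0 := by
    rw [mul_sub, mul_one, ← pow_add, Nat.add_sub_cancel' hab, h, sub_self]
  have h3 : IsUnit (ζ ^ a * (1 - ζ ^ (b - a))) := (hζu.pow a).mul h1
  rw [h2] at h3
  exact not_isUnit_zero h3

noncomputable def zetaHom (ζu : Aˣ) (h : ζu ^ n = 1) : ZMod n →+ Additive Aˣ :=
  ZMod.lift n ⟨zmultiplesHom _ (Additive.ofMul ζu), by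
    change ((n : ℤ) • Additive.ofMul ζu : Additive Aˣ) = 0
    rw [natCast_zsmul, ← ofMul_pow, h]
    rfl⟩

theorem zetaHom_apply [NeZero n] (ζu : Aˣ) (h : ζu ^ n = 1) (a : ZMod n) :
    zetaHom ζu h a = Additive.ofMul (ζu ^ a.val) := by
  have h1 : zetaHom ζu h a = zetaHom ζu h ((a.val : ℤ) : ZMod n) := by
    congr 1
    simp
  rw [h1, zetaHom, ZMod.lift_coe]
  change ((a.val : ℤ) • Additive.ofMul ζu : Additive Aˣ) = _
  rw [natCast_zsmul, ← ofMul_pow]

theorem exists_pow_eq_of_field {κ : Type*} [Field κ] {n : ℕ} {ζ x : κ}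
    (hζ : aeval ζ (cyclotomic n ℤ) = 0) (hn : (n : κ) ≠ 0) (hx : x ^ n = 1) :
    ∃ i < n, ζ ^ i = x := by
  have : NeZero (n : κ) := ⟨hn⟩
  have : NeZero n := NeZero.of_neZero_natCast κ
  have hη : IsPrimitiveRoot ζ n := by
    rw [← isRoot_cyclotomic_iff, IsRoot.def]
    have h1 : cyclotomic n κ = (cyclotomic n ℤ).map (algebraMap ℤ κ) :=
      (map_cyclotomic_int n κ).symm
    rw [h1, eval_map, ← aeval_def]
    exact hζ
  exact hη.eq_pow_of_pow_eq_one hx

theorem geom_sum_mul_eq_zero {x : A} (hx : x ^ n = 1) :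
    (∑ k ∈ Finset.range n, x ^ k) * (x - 1) = 0 := by
  rw [geom_sum_mul, hx, sub_self]

end Alg


theorem isUnit_appTop_basicOpen (T : Scheme.{u}) (g : Γ(T, ⊤)) :
    IsUnit ((T.basicOpen g).ι.appTop.hom g) := by
  have h1 : IsUnit ((T.presheaf.map (homOfLE (T.basicOpen_le g)).op).hom g) :=
    T.toRingedSpace.isUnit_res_basicOpen g
  have hle : (T.basicOpen g).ι ''ᵁ ⊤ ≤ T.basicOpen g := by
    rw [Scheme.Opens.ι_image_top]
  have h2 := h1.map (T.presheaf.map (homOfLE hle).op).hom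
  have h3 : (T.presheaf.map (homOfLE hle).op).hom
      ((T.presheaf.map (homOfLE (T.basicOpen_le g)).op).hom g) =
      (T.basicOpen g).ι.appTop.hom g := by
    rw [← CommRingCat.comp_apply, ← Functor.map_comp]
    rfl
  rw [← h3]
  exact h2

theorem exists_open_eq_pow (T : Scheme.{u}) (n : ℕ) (ζ x : Γ(T, ⊤))
    (hζ : aeval ζ (cyclotomic n ℤ) = 0) (hu : IsUnit (n : Γ(T, ⊤))) (hx : x ^ n = 1) (p : T) :
    ∃ i < n, ∃ W : T.Opens, p ∈ W ∧ W.ι.appTop.hom x = W.ι.appTop.hom (ζ ^ i) := by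
  let ev := (T.Γevaluation p).hom
  have hζn := pow_eq_one_of_cyclotomic hζ
  have hζ' : aeval (ev ζ) (cyclotomic n ℤ) = 0 := by
    have := aeval_algHom_apply (ev.toIntAlgHom) ζ (cyclotomic n ℤ)
    rw [hζ, map_zero] at this
    exact this
  have hn' : (n : T.residueField p) ≠ 0 := by
    have := hu.map ev
    rw [map_natCast] at this
    exact this.ne_zero
  have hx' : (ev x) ^ n = 1 := by rw [← map_pow, hx, map_one]
  obtain ⟨i, hi, hix⟩ := exists_pow_eq_of_field hζ' hn' hx'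
  let v := ζ ^ (n - i)
  have hv : ζ ^ i * v = 1 := by rw [← pow_add, Nat.add_sub_cancel' hi.le, hζn]
  let w := x * v
  have hw : w ^ n = 1 := by
    rw [mul_pow, hx, one_mul, ← pow_mul, mul_comm, pow_mul, hζn, one_pow]
  let g := ∑ k ∈ Finset.range n, w ^ k
  have hevw : ev w = 1 := by
    rw [map_mul, ← hix, ← map_pow, ← map_mul, hv, map_one]
  have hevg : ev g = (n : T.residueField p) := by
    simp only [g, map_sum, map_pow, hevw, one_pow, Finset.sum_const, Finset.card_range, nsmul_eq_mul, mul_one]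
  refine ⟨i, hi, T.basicOpen g, ?_, ?_⟩
  · rw [← Scheme.evaluation_ne_zero_iff_mem_basicOpen T p (show p ∈ (⊤ : T.Opens) from trivial)]
    change ev g ≠ 0
    rw [hevg]
    exact hn'
  · let r := (T.basicOpen g).ι.appTop.hom
    have h1 : r g * (r w - 1) = 0 := by
      rw [← map_one r, ← map_sub, ← map_mul, geom_sum_mul_eq_zero hw, map_zero]
    have h2 : r w - 1 = 0 := (isUnit_appTop_basicOpen T g).mul_right_eq_zero.1 h1
    have h3 : r w = 1 := sub_eq_zero.1 h2
    change r x = r (ζ ^ i)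
    calc r x = r (x * (ζ ^ i * v)) := by rw [hv, mul_one]
      _ = r w * r (ζ ^ i) := by rw [← map_mul]; congr 1; ring
      _ = r (ζ ^ i) := by rw [h3, one_mul]

end Groth.Agent.Lib.Helper4.MuN
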