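import Groth.Prelude.Def_EtGm
import Mathlib.Data.ZMod.Basic
import Groth.Agent.S0102
import Groth.Agent.Lib.Helper4.Excision
import Mathlib.CategoryTheory.Sites.LocallyBijective
import Groth.Agent.Lib.Helper4.MuNAlg
import Mathlib.AlgebraicGeometry.Properties

set_option autoImplicit false
universe u
open Polynomial CategoryTheory CategoryTheory.Limits AlgebraicGeometry Opposite

namespace Groth.Agent.Lib.Helper4.MuN
open Groth.Agent.Lib.Helper4.Excision

theorem zetaHom_intCast {A : Type*} [CommRing A] {n : ℕ} (ζu : Aˣ) (h : ζu ^ n = 1) (k : ℤ) :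
    zetaHom ζu h (k : ZMod n) = Additive.ofMul (ζu ^ k) := by
  rw [zetaHom, ZMod.lift_coe]
  rfl

theorem zetaHom_congr {A : Type*} [CommRing A] {n : ℕ} {ζu ζu' : Aˣ} (h : ζu ^ n = 1)
    (h' : ζu' ^ n = 1) (e : ζu = ζu') : zetaHom ζu h = zetaHom ζu' h' := by
  subst e
  rfl

theorem zetaHom_map {A B : Type*} [CommRing A] [CommRing B] {n : ℕ} (ζu : Aˣ) (h : ζu ^ n = 1)
    (f : Aˣ →* Bˣ) (h' : f ζu ^ n = 1) (a : ZMod n) :
    Additive.toMul (zetaHom (f ζu) h' a) = f (Additive.toMul (zetaHom ζu h a)) := by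
  obtain ⟨k, rfl⟩ := ZMod.intCast_surjective a
  rw [zetaHom_intCast, zetaHom_intCast]
  exact (map_zpow f ζu k).symm

section Sheaf

variable (S : Scheme.{u})

noncomputable def gmUnit (T : S.Etale) (a : (Γ(T.left, ⊤))ˣ) : (EtCoh.Gm S).obj.obj (op T) :=
  ULift.up (Additive.ofMul a)

theorem gmUnit_injective (T : S.Etale) : Function.Injective (gmUnit S T) := by
  intro a b h
  exact congrArg (fun x => Additive.toMul (ULift.down x)) h

theorem gmUnit_surjective (T : S.Etale) (x : (EtCoh.Gm S).obj.obj (op T)) :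
    ∃ a, gmUnit S T a = x := ⟨Additive.toMul (ULift.down x), rfl⟩

theorem gmUnit_mul (T : S.Etale) (a b : (Γ(T.left, ⊤))ˣ) :
    gmUnit S T (a * b) = gmUnit S T a + gmUnit S T b := rfl

theorem gmUnit_one (T : S.Etale) : gmUnit S T 1 = 0 := rfl

theorem gmUnit_pow (T : S.Etale) (a : (Γ(T.left, ⊤))ˣ) (k : ℕ) :
    gmUnit S T (a ^ k) = k • gmUnit S T a := rfl

theorem gm_map {T T' : S.Etale} (g : T' ⟶ T) (a : (Γ(T.left, ⊤))ˣ) :
    (EtCoh.Gm S).obj.map g.op (gmUnit S T a) = gmUnit S T' (Units.map g.left.appTop.hom a) := rfl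

section Psi

variable {n : ℕ} (ζu : (Γ(S, ⊤))ˣ) (hζu : ζu ^ n = 1)

noncomputable def structHom (T : S.Etale) : Γ(S, ⊤) →+* Γ(T.left, ⊤) := T.hom.appTop.hom

theorem structHom_comp {T T' : S.Etale} (g : T' ⟶ T) (a : Γ(S, ⊤)) :
    g.left.appTop.hom (structHom S T a) = structHom S T' a := by
  change g.left.appTop.hom (T.hom.appTop.hom a) = T'.hom.appTop.hom a
  rw [← CommRingCat.comp_apply, ← Scheme.Hom.comp_appTop, MorphismProperty.Over.w]

noncomputable def zetaAt (T : S.Etale) : (Γ(T.left, ⊤))ˣ :=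
  Units.map (structHom S T : Γ(S, ⊤) →* Γ(T.left, ⊤)) ζu

include hζu in
theorem zetaAt_pow (T : S.Etale) : zetaAt S ζu T ^ n = 1 := by
  rw [zetaAt, ← map_pow, hζu, map_one]

theorem zetaAt_map {T T' : S.Etale} (g : T' ⟶ T) :
    Units.map (g.left.appTop.hom : Γ(T.left, ⊤) →* Γ(T'.left, ⊤)) (zetaAt S ζu T) = zetaAt S ζu T' := by
  apply Units.ext
  exact structHom_comp S g ζu

noncomputable def psiHom (T : S.Etale) : ULift.{u + 1} (ZMod n) →+ (EtCoh.Gm S).obj.obj (op T) where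
  toFun a := gmUnit S T (Additive.toMul (zetaHom (zetaAt S ζu T) (zetaAt_pow S ζu hζu T) a.down))
  map_zero' := by
    change gmUnit S T (Additive.toMul (zetaHom (zetaAt S ζu T) (zetaAt_pow S ζu hζu T) 0)) = 0
    rw [map_zero]
    rfl
  map_add' a b := by
    change gmUnit S T (Additive.toMul (zetaHom (zetaAt S ζu T) (zetaAt_pow S ζu hζu T)
      (a.down + b.down))) = _
    rw [map_add]
    rfl

noncomputable def psi' : (Functor.const (S.Etale)ᵒᵖ).obj (AddCommGrpCat.of (ULift.{u + 1} (ZMod n))) ⟶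
    (EtCoh.Gm S).obj where
  app T := AddCommGrpCat.ofHom (psiHom S ζu hζu T.unop)
  naturality T T' g := by
    ext a
    change psiHom S ζu hζu T'.unop a = (EtCoh.Gm S).obj.map g (psiHom S ζu hζu T.unop a)
    change gmUnit S T'.unop _ = (EtCoh.Gm S).obj.map g.unop.op (gmUnit S T.unop _)
    rw [gm_map]
    congr 1
    have := zetaHom_map (zetaAt S ζu T.unop) (zetaAt_pow S ζu hζu T.unop)
      (Units.map (g.unop.left.appTop.hom : Γ(T.unop.left, ⊤) →* Γ(T'.unop.left, ⊤)))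
      (by rw [zetaAt_map]; exact zetaAt_pow S ζu hζu T'.unop) a.down
    rw [← this]
    congr 2
    exact zetaHom_congr _ _ (zetaAt_map S ζu g.unop).symm

section Loc

variable (hn : 1 ≤ n) (ζ : Γ(S, ⊤)) (hζ : aeval ζ (cyclotomic n ℤ) = 0) (hunit : IsUnit (n : Γ(S, ⊤)))
  (hval : (ζu : Γ(S, ⊤)) = ζ)

include hζ in
theorem aeval_structHom (T : S.Etale) : aeval (structHom S T ζ) (cyclotomic n ℤ) = 0 := by
  have := aeval_algHom_apply ((structHom S T).toIntAlgHom) ζ (cyclotomic n ℤ)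
  rw [hζ, map_zero] at this
  exact this

include hunit in
theorem isUnit_n_at (T : S.Etale) : IsUnit (n : Γ(T.left, ⊤)) := by
  have := hunit.map (structHom S T)
  rwa [map_natCast] at this

include hn hζ hunit hval in
theorem psiHom_injective (T : S.Etale) [Nonempty T.left] :
    Function.Injective (psiHom S ζu hζu T) := by
  have : NeZero n := ⟨by omega⟩
  have hne : Nonempty (⊤ : T.left.Opens) := by
    obtain ⟨p⟩ := ‹Nonempty T.left›
    exact ⟨⟨p, trivial⟩⟩
  have : Nontrivial Γ(T.left, ⊤) := @Scheme.component_nontrivial T.left ⊤ hne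
  intro a b hab
  have h1 := gmUnit_injective S T hab
  have h2 : zetaHom (zetaAt S ζu T) (zetaAt_pow S ζu hζu T) a.down =
      zetaHom (zetaAt S ζu T) (zetaAt_pow S ζu hζu T) b.down := h1
  rw [zetaHom_apply, zetaHom_apply] at h2
  have h3 : ((zetaAt S ζu T ^ a.down.val : (Γ(T.left, ⊤))ˣ) : Γ(T.left, ⊤)) =
      ((zetaAt S ζu T ^ b.down.val : (Γ(T.left, ⊤))ˣ) : Γ(T.left, ⊤)) :=
    congrArg (fun x => ((Additive.toMul x : (Γ(T.left, ⊤))ˣ) : Γ(T.left, ⊤))) h2
  rw [Units.val_pow_eq_pow_val, Units.val_pow_eq_pow_val] at h3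
  have h4 : ((zetaAt S ζu T : (Γ(T.left, ⊤))ˣ) : Γ(T.left, ⊤)) = structHom S T ζ := by
    rw [← hval]
    rfl
  rw [h4] at h3
  have h5 := pow_inj_of_cyclotomic hn (aeval_structHom S ζ hζ T) (isUnit_n_at S hunit T)
    (ZMod.val_lt _) (ZMod.val_lt _) h3
  apply ULift.ext
  exact ZMod.val_injective n h5

include hn hζ hunit hval in
theorem isLocallyInjective_psi' :
    Presheaf.IsLocallyInjective S.smallEtaleTopology (psi' S ζu hζu) := by
  constructor
  intro T a b hab
  apply Groth.Agent.S0102.mem_of_forall_exists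
  intro p
  have : Nonempty T.unop.left := ⟨p⟩
  have hab' : a = b := psiHom_injective S ζu hζu hn ζ hζ hunit hval T.unop hab
  subst hab'
  exact ⟨T.unop, 𝟙 _, p, rfl, rfl⟩

include hn hζ hunit hval in
theorem imageSieve_psi'_mem (T : S.Etale) (x : (EtCoh.Gm S).obj.obj (op T)) (hx : n • x = 0) :
    Presheaf.imageSieve (psi' S ζu hζu) x ∈ S.smallEtaleTopology T := by
  have : NeZero n := ⟨by omega⟩
  obtain ⟨a, rfl⟩ := gmUnit_surjective S T x
  rw [← gmUnit_pow, ← gmUnit_one] at hx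
  have ha : a ^ n = 1 := gmUnit_injective S T hx
  have ha' : (a : Γ(T.left, ⊤)) ^ n = 1 := by
    rw [← Units.val_pow_eq_pow_val, ha, Units.val_one]
  apply Groth.Agent.S0102.mem_of_forall_exists
  intro p
  obtain ⟨i, hi, W, hpW, hW⟩ := exists_open_eq_pow T.left n (structHom S T ζ) (a : Γ(T.left, ⊤))
    (aeval_structHom S ζ hζ T) (isUnit_n_at S hunit T) ha' p
  refine ⟨openObj T W, openι T W, ⟨p, hpW⟩, ?_, rfl⟩
  refine ⟨ULift.up (i : ZMod n), ?_⟩
  change gmUnit S (openObj T W) _ = (EtCoh.Gm S).obj.map (openι T W).op (gmUnit S T a)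
  rw [gm_map]
  congr 1
  have h1 : zetaHom (zetaAt S ζu (openObj T W)) (zetaAt_pow S ζu hζu (openObj T W)) (i : ZMod n) =
      Additive.ofMul (zetaAt S ζu (openObj T W) ^ i) := by
    rw [zetaHom_apply, ZMod.val_natCast_of_lt hi]
  change Additive.toMul (zetaHom (zetaAt S ζu (openObj T W)) (zetaAt_pow S ζu hζu (openObj T W))
    (i : ZMod n)) = _
  rw [h1]
  apply Units.ext
  change ((zetaAt S ζu (openObj T W) ^ i : (Γ((openObj T W).left, ⊤))ˣ) : Γ((openObj T W).left, ⊤)) =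
    W.ι.appTop.hom (a : Γ(T.left, ⊤))
  rw [hW, Units.val_pow_eq_pow_val, map_pow]
  congr 1
  have h2 := congrArg Units.val (zetaAt_map S ζu (openι T W))
  rw [← h2, ← hval]
  rfl

end Loc

end Psi

theorem powMap_app (n : ℕ) (T : S.Etale) (b : (EtCoh.Gm S).obj.obj (op T)) :
    (EtCoh.powMap S n).hom.app (op T) b = n • b := by
  have h1 : (EtCoh.powMap S n).hom = n • (𝟙 (EtCoh.Gm S) : EtCoh.Gm S ⟶ EtCoh.Gm S).hom :=
    (sheafToPresheaf S.smallEtaleTopology AddCommGrpCat.{u + 1}).map_nsmul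
  rw [h1, NatTrans.app_nsmul]
  rfl

theorem muι_app_injective (n : ℕ) (T : S.Etale) :
    Function.Injective ((EtCoh.muι S n).hom.app (op T)) := by
  have h1 : Mono (EtCoh.muι S n) := inferInstanceAs (Mono (kernel.ι (EtCoh.powMap S n)))
  have h2 : Mono ((sheafToPresheaf S.smallEtaleTopology AddCommGrpCat.{u + 1}).map (EtCoh.muι S n)) :=
    inferInstance
  have h3 : Mono (((sheafToPresheaf S.smallEtaleTopology AddCommGrpCat.{u + 1}).map
      (EtCoh.muι S n)).app (op T)) := inferInstance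
  exact (AddCommGrpCat.mono_iff_injective _).1 h3

theorem nsmul_muι_app (n : ℕ) (T : S.Etale) (s : (EtCoh.mu S n).obj.obj (op T)) :
    n • (EtCoh.muι S n).hom.app (op T) s = 0 := by
  rw [← powMap_app]
  have h : EtCoh.muι S n ≫ EtCoh.powMap S n = 0 := kernel.condition _
  have h2 := congrArg (fun f => f.hom.app (op T) s) h
  exact h2

theorem mu_iso_const (n : ℕ) (hn : 1 ≤ n) (hunit : IsUnit (n : Γ(S, ⊤))) (ζ : Γ(S, ⊤))
    (hζ : aeval ζ (cyclotomic n ℤ) = 0) :
    Nonempty (EtCoh.mu S n ≅ EtCoh.const S (ZMod n)) := by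
  have hζn := pow_eq_one_of_cyclotomic hζ
  have hζi : IsUnit ζ := IsUnit.of_pow_eq_one hζn (by omega)
  let ζu : (Γ(S, ⊤))ˣ := hζi.unit
  have hval : (ζu : Γ(S, ⊤)) = ζ := hζi.unit_spec
  have hζu : ζu ^ n = 1 := by
    apply Units.ext
    rw [Units.val_pow_eq_pow_val, hval, hζn]
    rfl
  let J := S.smallEtaleTopology
  let adj := sheafificationAdjunction J AddCommGrpCat.{u + 1}
  let P : (S.Etale)ᵒᵖ ⥤ AddCommGrpCat.{u + 1} :=
    (Functor.const (S.Etale)ᵒᵖ).obj (AddCommGrpCat.of (ULift.{u + 1} (ZMod n)))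
  let ψ' : P ⟶ (EtCoh.Gm S).obj := psi' S ζu hζu
  let φ' : (presheafToSheaf J AddCommGrpCat.{u + 1}).obj P ⟶ EtCoh.Gm S :=
    (adj.homEquiv P (EtCoh.Gm S)).symm ψ'
  have hψ'0 : ψ' ≫ (EtCoh.powMap S n).hom = 0 := by
    ext T a
    change (EtCoh.powMap S n).hom.app (op T.unop) (psiHom S ζu hζu T.unop a) = 0
    rw [powMap_app, ← map_nsmul]
    have : n • a = 0 := by
      apply ULift.ext
      change n • a.down = 0
      simp
    rw [this, map_zero]
  have hφ' : φ' ≫ EtCoh.powMap S n = 0 := by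
    apply (adj.homEquiv _ _).injective
    rw [Adjunction.homEquiv_naturality_right, Equiv.apply_symm_apply]
    refine hψ'0.trans ?_
    rw [Adjunction.homEquiv_unit]
    have h0 : (sheafToPresheaf J AddCommGrpCat.{u + 1}).map
        (0 : (presheafToSheaf J AddCommGrpCat.{u + 1}).obj P ⟶ EtCoh.Gm S) = 0 := rfl
    rw [h0, Limits.comp_zero]
  let φ : (presheafToSheaf J AddCommGrpCat.{u + 1}).obj P ⟶ EtCoh.mu S n :=
    kernel.lift (EtCoh.powMap S n) φ' hφ'
  have hφι : φ ≫ EtCoh.muι S n = φ' := kernel.lift_ι _ _ _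
  let ψ : P ⟶ (EtCoh.mu S n).obj := adj.homEquiv P (EtCoh.mu S n) φ
  have hψι : ψ ≫ (EtCoh.muι S n).hom = ψ' := by
    have h1 := (adj.homEquiv_naturality_right φ (EtCoh.muι S n)).symm
    rw [hφι, Equiv.apply_symm_apply] at h1
    exact h1
  have hinj' : Presheaf.IsLocallyInjective J ψ' :=
    isLocallyInjective_psi' S ζu hζu hn ζ hζ hunit hval
  have hinj : Presheaf.IsLocallyInjective J ψ :=
    Presheaf.isLocallyInjective_of_isLocallyInjective_fac J hψι
  have hsurj : Presheaf.IsLocallySurjective J ψ := by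
    constructor
    intro T s
    have h1 := imageSieve_psi'_mem S ζu hζu hn ζ hζ hunit hval T
      ((EtCoh.muι S n).hom.app (op T) s) (nsmul_muι_app S n T s)
    refine J.superset_covering ?_ h1
    intro T' g hg
    obtain ⟨a, ha⟩ := hg
    refine ⟨a, ?_⟩
    apply muι_app_injective S n T'
    have h2 : (EtCoh.muι S n).hom.app (op T') (ψ.app (op T') a) = ψ'.app (op T') a := by
      rw [← hψι]
      rfl
    rw [h2, ha]
    exact (NatTrans.naturality_apply (EtCoh.muι S n).hom g.op s).symm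
  have hW : J.W ψ := J.W_of_isLocallyBijective ψ
  have hiso : IsIso ((presheafToSheaf J AddCommGrpCat.{u + 1}).map ψ) := (J.W_iff ψ).1 hW
  have hφeq : φ = (presheafToSheaf J AddCommGrpCat.{u + 1}).map ψ ≫ adj.counit.app (EtCoh.mu S n) := by
    have h1 := adj.homEquiv_counit (X := P) (Y := EtCoh.mu S n) (g := ψ)
    rw [← h1]
    exact (Equiv.symm_apply_apply _ _).symm
  have : IsIso φ := by
    rw [hφeq]
    infer_instance
  exact ⟨(asIso φ).symm⟩


end Sheaf

end Groth.Agent.Lib.Helper4.MuN
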