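import Mathlib.RingTheory.Etale.StandardEtale
import Mathlib.FieldTheory.IsAlgClosed.AlgebraicClosure
import Mathlib.RingTheory.LocalRing.ResidueField.Ideal
import Groth.Prelude.Def_EtBase

set_option autoImplicit false
open CategoryTheory CategoryTheory.Limits AlgebraicGeometry Opposite Polynomial
universe u

namespace Groth.Agent.Lib.Helper4.StdEtaleCover

section Algebra

variable {R : Type u} [CommRing R]

theorem exists_prime_over (P : StandardEtalePair R) (hg : P.g = 1) (hdeg : P.f.natDegree ≠ 0)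
    (𝔭 : PrimeSpectrum R) :
    ∃ 𝔮 : PrimeSpectrum P.Ring, PrimeSpectrum.comap (algebraMap R P.Ring) 𝔮 = 𝔭 := by
  let κ := 𝔭.asIdeal.ResidueField
  let K := AlgebraicClosure κ
  let _ : Algebra R K := ((algebraMap κ K).comp (algebraMap R κ)).toAlgebra
  have hdeg' : (P.f.map (algebraMap R K)).degree ≠ 0 := by
    rw [P.monic_f.degree_map, Polynomial.degree_eq_natDegree (by
      intro h0
      exact hdeg (by rw [h0, natDegree_zero]))]
    exact_mod_cast hdeg
  obtain ⟨y, hy⟩ := IsAlgClosed.exists_root (P.f.map (algebraMap R K)) hdeg'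
  have hmap : P.HasMap y := by
    refine ⟨?_, ?_⟩
    · rw [Polynomial.aeval_def, ← Polynomial.eval_map]
      exact hy
    · rw [hg, map_one]
      exact isUnit_one
  let ψ : P.Ring →ₐ[R] K := P.lift y hmap
  refine ⟨⟨RingHom.ker ψ.toRingHom, RingHom.ker_isPrime _⟩, ?_⟩
  apply PrimeSpectrum.ext
  change Ideal.comap (algebraMap R P.Ring) (RingHom.ker ψ.toRingHom) = 𝔭.asIdeal
  have h1 : (ψ.toRingHom).comp (algebraMap R P.Ring) = algebraMap R K := ψ.comp_algebraMap
  ext r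
  rw [Ideal.mem_comap, RingHom.mem_ker]
  change (ψ.toRingHom.comp (algebraMap R P.Ring)) r = 0 ↔ _
  rw [h1]
  change algebraMap κ K (algebraMap R κ r) = 0 ↔ _
  rw [map_eq_zero_iff _ (algebraMap κ K).injective, Ideal.algebraMap_residueField_eq_zero]

end Algebra

theorem exists_etale_nbhd_root {S : Scheme.{u}} (U : S.Etale) (x : U.left)
    (P₀ : StandardEtalePair Γ(U.left, ⊤)) (hg : P₀.g = 1) (hdeg : P₀.f.natDegree ≠ 0) :
    ∃ (T : S.Etale) (g : T ⟶ U) (t : T.left) (r : Γ(T.left, ⊤)),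
      g.left.base t = x ∧ Polynomial.eval₂ g.left.appTop.hom r P₀.f = 0 := by
  have : Etale U.hom := U.prop
  let 𝒰 := U.left.affineOpenCover
  obtain ⟨x', hx'⟩ := 𝒰.covers x
  let R : CommRingCat := 𝒰.X (𝒰.idx x)
  let c : Spec R ⟶ U.left := 𝒰.f (𝒰.idx x)
  let ρ : Γ(U.left, ⊤) ⟶ R := c.appTop ≫ (Scheme.ΓSpecIso R).hom
  let P : StandardEtalePair R := P₀.map ρ.hom
  have hgP : P.g = 1 := by
    change P₀.g.map ρ.hom = 1
    rw [hg, Polynomial.map_one]
  have : Nontrivial R := by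
    let x'' : PrimeSpectrum R := x'
    exact x''.nontrivial
  have hdegP : P.f.natDegree ≠ 0 := by
    change (P₀.f.map ρ.hom).natDegree ≠ 0
    rw [P₀.monic_f.natDegree_map]
    exact hdeg
  obtain ⟨𝔮, h𝔮⟩ := exists_prime_over P hgP hdegP x'
  let B : CommRingCat := CommRingCat.of P.Ring
  let φ : R ⟶ B := CommRingCat.ofHom (algebraMap R P.Ring)
  have hφ : Etale (Spec.map φ) := by
    rw [HasRingHomProperty.Spec_iff (P := @Etale)]
    exact RingHom.etale_algebraMap.2 inferInstance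
  let T : S.Etale := Scheme.Etale.mk (Spec.map φ ≫ c ≫ U.hom)
  let g : T ⟶ U := MorphismProperty.Over.homMk (Spec.map φ ≫ c) (Category.assoc _ _ _)
  let r : Γ(Spec B, ⊤) := (Scheme.ΓSpecIso B).inv P.X
  refine ⟨T, g, 𝔮, r, ?_, ?_⟩
  · change c.base ((Spec.map φ).base 𝔮) = x
    have : (Spec.map φ).base 𝔮 = x' := h𝔮
    rw [this]
    exact hx'
  · have hθ : (Spec.map φ ≫ c).appTop = ρ ≫ φ ≫ (Scheme.ΓSpecIso B).inv := by
      rw [Scheme.Hom.comp_appTop, Scheme.ΓSpecIso_inv_naturality, Category.assoc,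
        Iso.hom_inv_id_assoc]
    change Polynomial.eval₂ (Spec.map φ ≫ c).appTop.hom r P₀.f = 0
    rw [hθ]
    have h1 : Polynomial.eval₂ (ρ ≫ φ ≫ (Scheme.ΓSpecIso B).inv).hom r P₀.f =
        (Scheme.ΓSpecIso B).inv.hom (Polynomial.eval₂ (ρ ≫ φ).hom P.X P₀.f) := by
      rw [Polynomial.hom_eval₂]
      rfl
    rw [h1]
    have h2 : Polynomial.eval₂ (ρ ≫ φ).hom P.X P₀.f = Polynomial.aeval P.X P.f := by
      rw [Polynomial.aeval_def]
      change _ = Polynomial.eval₂ _ P.X (P₀.f.map ρ.hom)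
      rw [Polynomial.eval₂_map]
      rfl
    rw [h2, P.hasMap_X.1, map_zero]

end Groth.Agent.Lib.Helper4.StdEtaleCover
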