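import Groth.Prelude.Def_EtGm
import Groth.Agent.Lib.Helper4.KerConst
import Groth.Agent.Lib.Helper4.StdEtaleCover
import Groth.Agent.Lib.Helper4.MuN
import Groth.Agent.S0102
import Mathlib.FieldTheory.Finite.Basic
import Mathlib.CategoryTheory.Sites.EpiMono

set_option autoImplicit false
universe u
open Polynomial CategoryTheory CategoryTheory.Limits AlgebraicGeometry Opposite

namespace Groth.Agent.Lib.Helper4.ArtinSchreier
open Groth.Agent.Lib.Helper4.Excision Groth.Agent.Lib.Helper4.MuN

theorem add_pow_prime (p : ℕ) [hp : Fact p.Prime] {R : Type*} [CommRing R] (hR : (p : R) = 0)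
    (x y : R) : (x + y) ^ p = x ^ p + y ^ p := by
  obtain ⟨r, hr⟩ := exists_add_pow_prime_eq hp.out x y
  rw [hr, hR]
  ring

variable (S : Scheme.{u}) (p : ℕ) [hp : Fact p.Prime] [hc : CharP Γ(S, ⊤) p]

omit hp in
theorem p_zero (T : S.Etale) : (p : Γ(T.left, ⊤)) = 0 := by
  have h0 : (p : Γ(S, ⊤)) = 0 := CharP.cast_eq_zero _ p
  have := congrArg (structHom S T) h0
  rwa [map_natCast, map_zero] at this

def dn {T : S.Etale} (x : (EtCoh.Ga S).obj.obj (op T)) : Γ(T.left, ⊤) := ULift.down x

def up {T : S.Etale} (x : Γ(T.left, ⊤)) : (EtCoh.Ga S).obj.obj (op T) := ULift.up x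

theorem up_dn {T : S.Etale} (x : (EtCoh.Ga S).obj.obj (op T)) : up S (dn S x) = x := rfl

theorem dn_up {T : S.Etale} (x : Γ(T.left, ⊤)) : dn S (up S x) = x := rfl

theorem up_injective {T : S.Etale} : Function.Injective (up S (T := T)) := by
  intro a b h
  exact congrArg (dn S) h

theorem up_add {T : S.Etale} (x y : Γ(T.left, ⊤)) : up S (x + y) = up S x + up S y := rfl

theorem dn_add {T : S.Etale} (x y : (EtCoh.Ga S).obj.obj (op T)) :
    dn S (x + y) = dn S x + dn S y := rfl

theorem ga_map {T T' : S.Etale} (g : T' ⟶ T) (x : (EtCoh.Ga S).obj.obj (op T)) :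
    (EtCoh.Ga S).obj.map g.op x = up S (g.left.appTop.hom (dn S x)) :=
  rfl

noncomputable def asHom (T : S.Etale) :
    (EtCoh.Ga S).obj.obj (op T) →+ (EtCoh.Ga S).obj.obj (op T) :=
  AddMonoidHom.mk' (fun x => up S (dn S x ^ p - dn S x)) (by
    intro x y
    rw [← up_add, dn_add, add_pow_prime p (p_zero S p T)]
    congr 1
    ring)

noncomputable def as : EtCoh.Ga S ⟶ EtCoh.Ga S :=
  ObjectProperty.homMk
    { app := fun T => AddCommGrpCat.ofHom (asHom S p T.unop)
      naturality := by
        intro T T' g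
        ext x
        change up S (dn S (up S (g.unop.left.appTop.hom (dn S x))) ^ p -
            dn S (up S (g.unop.left.appTop.hom (dn S x)))) =
          up S (g.unop.left.appTop.hom (dn S (up S (dn S x ^ p - dn S x))))
        rw [dn_up, dn_up, map_sub, map_pow] }

theorem as_app (T : S.Etale) (x : (EtCoh.Ga S).obj.obj (op T)) :
    (as S p).hom.app (op T) x = up S (dn S x ^ p - dn S x) :=
  rfl



noncomputable def asPair {R : Type u} [CommRing R] (p : ℕ) [hp : Fact p.Prime] (hR : (p : R) = 0)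
    (a : R) : StandardEtalePair R where
  f := X ^ p - (X + C a)
  monic_f := by
    obtain ⟨m, hm⟩ : ∃ m, p = m + 1 := ⟨p - 1, (Nat.succ_pred_eq_of_pos hp.out.pos).symm⟩
    have hm1 : 1 ≤ m := by
      have := hp.out.two_le
      omega
    rw [hm]
    apply monic_X_pow_sub
    refine lt_of_le_of_lt ((degree_add_le (X : R[X]) (C a)).trans
      (max_le (degree_X_le (R := R)) ((degree_C_le (a := a)).trans zero_le_one))) ?_
    exact_mod_cast (by omega : 1 < m + 1)
  g := 1
  cond := ⟨-1, 0, 0, by
    simp only [derivative_sub, derivative_X_pow, derivative_add, derivative_X, derivative_C,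
      add_zero, hR, C_0, zero_mul, pow_zero, mul_zero]
    ring⟩

theorem asPair_natDegree {R : Type u} [CommRing R] [Nontrivial R] (p : ℕ) [hp : Fact p.Prime]
    (hR : (p : R) = 0) (a : R) : (asPair p hR a).f.natDegree ≠ 0 := by
  change (X ^ p - (X + C a) : R[X]).natDegree ≠ 0
  have h2 := hp.out.two_le
  rw [natDegree_sub_eq_left_of_natDegree_lt, natDegree_X_pow]
  · omega
  · rw [natDegree_X_add_C, natDegree_X_pow]
    omega

theorem as_epi : Epi (as S p) := by
  rw [← Sheaf.isLocallySurjective_iff_epi' _ (as S p)]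
  constructor
  intro U a
  apply Groth.Agent.S0102.mem_of_forall_exists
  intro x
  have hnt : Nontrivial Γ(U.left, ⊤) := by
    by_contra hnt
    rw [not_nontrivial_iff_subsingleton] at hnt
    have h1 : IsUnit ((U.left.presheaf.germ ⊤ x trivial).hom (0 : Γ(U.left, ⊤))) :=
      (isUnit_of_subsingleton (0 : Γ(U.left, ⊤))).map _
    rw [map_zero] at h1
    exact not_isUnit_zero h1
  let P₀ : StandardEtalePair Γ(U.left, ⊤) := asPair p (p_zero S p U) (dn S a)
  obtain ⟨T, g, t, r, hgt, hr⟩ := StdEtaleCover.exists_etale_nbhd_root U x P₀ rfl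
    (asPair_natDegree p (p_zero S p U) (dn S a))
  have hr' : r ^ p - r = g.left.appTop.hom (dn S a) := by
    change eval₂ g.left.appTop.hom r (X ^ p - (X + C (dn S a))) = 0 at hr
    rw [eval₂_sub, eval₂_X_pow, eval₂_add, eval₂_X, eval₂_C] at hr
    linear_combination hr
  refine ⟨T, g, t, ⟨up S r, ?_⟩, hgt⟩
  rw [as_app, dn_up, hr']
  rfl



omit hc in
theorem exists_open_eq_cast (T : Scheme.{u}) (c : ZMod p →+* Γ(T, ⊤)) (x : Γ(T, ⊤))
    (hx : x ^ p = x) (t : T) :
    ∃ a : ZMod p, ∃ W : T.Opens, t ∈ W ∧ W.ι.appTop.hom x = W.ι.appTop.hom (c a) := by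
  let ev := (T.Γevaluation t).hom
  have hinj : Function.Injective (ev.comp c) := (ev.comp c).injective
  haveI : CharP (T.residueField t) p := charP_of_injective_ringHom hinj p
  have hy : (ev x) ^ p = ev x := by rw [← map_pow, hx]
  have hmem : ev x ∈ (⊥ : Subfield (T.residueField t)) :=
    (Subfield.mem_bot_iff_pow_eq_self (T.residueField t) p).2 hy
  rw [← ZMod.fieldRange_castHom_eq_bot p] at hmem
  obtain ⟨a, ha⟩ := hmem
  have hca : ev (c a) = ev x := by
    rw [← ha]
    exact congrArg (fun f => f a)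
      (Subsingleton.elim (ev.comp c) (ZMod.castHom (m := p) dvd_rfl (T.residueField t)))
  have hntR : Nontrivial Γ(T, ⊤) := ev.domain_nontrivial
  haveI : CharP Γ(T, ⊤) p := charP_of_injective_ringHom c.injective p
  have h2 := hp.out.two_le
  let v := x - c a
  have hv : v ^ p = v := by
    change (x - c a) ^ p = x - c a
    rw [sub_pow_char, hx, ← map_pow, ZMod.pow_card]
  let g := 1 - v ^ (p - 1)
  have hgv : g * v = 0 := by
    change (1 - v ^ (p - 1)) * v = 0
    rw [sub_mul, one_mul, pow_sub_one_mul (by omega), hv, sub_self]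
  have hevv : ev v = 0 := by
    change ev (x - c a) = 0
    rw [map_sub, hca, sub_self]
  have hevg : ev g = 1 := by
    change ev (1 - v ^ (p - 1)) = 1
    rw [map_sub, map_one, map_pow, hevv, zero_pow (by omega), sub_zero]
  refine ⟨a, T.basicOpen g, ?_, ?_⟩
  · rw [← Scheme.evaluation_ne_zero_iff_mem_basicOpen T t (show t ∈ (⊤ : T.Opens) from trivial)]
    change ev g ≠ 0
    rw [hevg]
    exact one_ne_zero
  · let r := (T.basicOpen g).ι.appTop.hom
    have h1 : r g * r v = 0 := by rw [← map_mul, hgv, map_zero]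
    have h3 : r v = 0 := (isUnit_appTop_basicOpen T g).mul_right_eq_zero.1 h1
    change r (x - c a) = 0 at h3
    rw [map_sub] at h3
    exact sub_eq_zero.1 h3

noncomputable def cHom (T : S.Etale) : ZMod p →+* Γ(T.left, ⊤) :=
  (structHom S T).comp (ZMod.castHom (dvd_refl p) Γ(S, ⊤))

theorem cHom_comp {T T' : S.Etale} (g : T' ⟶ T) (a : ZMod p) :
    g.left.appTop.hom (cHom S p T a) = cHom S p T' a :=
  structHom_comp S g _

noncomputable def psiHom (T : S.Etale) :
    ULift.{u + 1} (ZMod p) →+ (EtCoh.Ga S).obj.obj (op T) :=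
  AddMonoidHom.mk' (fun a => up S (cHom S p T a.down)) (by
    intro a b
    rw [← up_add]
    congr 1
    exact map_add _ _ _)

noncomputable def psi' :
    (Functor.const (S.Etale)ᵒᵖ).obj (AddCommGrpCat.of (ULift.{u + 1} (ZMod p))) ⟶
      (EtCoh.Ga S).obj where
  app T := AddCommGrpCat.ofHom (psiHom S p T.unop)
  naturality T T' g := by
    ext a
    change psiHom S p T'.unop a = (EtCoh.Ga S).obj.map g.unop.op (psiHom S p T.unop a)
    change up S _ = (EtCoh.Ga S).obj.map g.unop.op (up S _)
    rw [ga_map, dn_up, cHom_comp]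

theorem psi'_as : psi' S p ≫ (as S p).hom = 0 := by
  ext T a
  change (as S p).hom.app (op T.unop) (up S (cHom S p T.unop a.down)) = 0
  rw [as_app, dn_up, ← map_pow, ZMod.pow_card, sub_self]
  rfl

theorem psiHom_injective (T : S.Etale) [Nonempty T.left] :
    Function.Injective (psiHom S p T) := by
  obtain ⟨t⟩ := ‹Nonempty T.left›
  have hnt : Nontrivial Γ(T.left, ⊤) := (T.left.Γevaluation t).hom.domain_nontrivial
  intro a b hab
  have h1 : cHom S p T a.down = cHom S p T b.down := up_injective S hab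
  exact ULift.ext _ _ ((cHom S p T).injective h1)

theorem isLocallyInjective_psi' :
    Presheaf.IsLocallyInjective S.smallEtaleTopology (psi' S p) := by
  constructor
  intro T a b hab
  apply Groth.Agent.S0102.mem_of_forall_exists
  intro t
  have : Nonempty T.unop.left := ⟨t⟩
  have hab' : a = b := psiHom_injective S p T.unop hab
  subst hab'
  exact ⟨T.unop, 𝟙 _, t, rfl, rfl⟩

theorem imageSieve_psi'_mem (T : S.Etale) (x : (EtCoh.Ga S).obj.obj (op T))
    (hx : (as S p).hom.app (op T) x = 0) :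
    Presheaf.imageSieve (psi' S p) x ∈ S.smallEtaleTopology T := by
  rw [as_app] at hx
  have hx' : dn S x ^ p = dn S x := by
    have := congrArg (dn S) hx
    rw [dn_up] at this
    exact sub_eq_zero.1 this
  apply Groth.Agent.S0102.mem_of_forall_exists
  intro t
  obtain ⟨a, W, htW, hW⟩ := exists_open_eq_cast p T.left (cHom S p T) (dn S x) hx' t
  refine ⟨openObj T W, openι T W, ⟨t, htW⟩, ?_, rfl⟩
  refine ⟨ULift.up a, ?_⟩
  change up S (cHom S p (openObj T W) a) = (EtCoh.Ga S).obj.map (openι T W).op x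
  rw [ga_map]
  congr 1
  change _ = W.ι.appTop.hom (dn S x)
  rw [hW]
  exact (cHom_comp S p (openι T W) a).symm

theorem kernel_as_iso : Nonempty (kernel (as S p) ≅ EtCoh.const S (ZMod p)) :=
  KerConst.kernel_iso_const (as S p) (ZMod p) (psi' S p) (psi'_as S p)
    (isLocallyInjective_psi' S p) (imageSieve_psi'_mem S p)

end Groth.Agent.Lib.Helper4.ArtinSchreier
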