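import Mathlib.Algebra.Homology.ShortComplex.Exact
import Mathlib.CategoryTheory.Preadditive.Biproducts
import Mathlib.CategoryTheory.Limits.Preserves.Shapes.Biproducts
import Mathlib.CategoryTheory.Preadditive.AdditiveFunctor

set_option autoImplicit false
open CategoryTheory CategoryTheory.Limits
universe v u

namespace Groth.Agent.Lib.Helper4.BiSplit

variable {ℬ : Type u} [Category.{v} ℬ] [Preadditive ℬ] {B' C' : ℬ} (b : BinaryBicone B' C')
  (hb : b.IsBilimit) {A' D' : ℬ} (f' : A' ⟶ b.pt) (g' : b.pt ⟶ D') (w : f' ≫ g' = 0)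

include hb in
theorem total : b.fst ≫ b.inl + b.snd ≫ b.inr = 𝟙 b.pt := by
  apply hb.isLimit.hom_ext
  rintro ⟨_ | _⟩
  · simp
  · simp

noncomputable def splitting1 [IsIso (f' ≫ b.fst)] [IsIso (b.inr ≫ g')] :
    (ShortComplex.mk f' g' w).Splitting where
  r := b.fst ≫ inv (f' ≫ b.fst)
  s := inv (b.inr ≫ g') ≫ b.inr
  f_r := by
    change f' ≫ b.fst ≫ inv (f' ≫ b.fst) = 𝟙 _
    rw [← Category.assoc, IsIso.hom_inv_id]
  s_g := by
    change (inv (b.inr ≫ g') ≫ b.inr) ≫ g' = 𝟙 _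
    rw [Category.assoc, IsIso.inv_hom_id]
  id := by
    change (b.fst ≫ inv (f' ≫ b.fst)) ≫ f' + g' ≫ inv (b.inr ≫ g') ≫ b.inr = 𝟙 b.pt
    have ht := total b hb
    have key : b.inl ≫ g' ≫ inv (b.inr ≫ g') = - inv (f' ≫ b.fst) ≫ f' ≫ b.snd := by
      rw [← cancel_mono (b.inr ≫ g'), ← cancel_epi (f' ≫ b.fst)]
      simp only [Category.assoc, IsIso.inv_hom_id, Category.comp_id, Preadditive.neg_comp,
        Preadditive.comp_neg, IsIso.hom_inv_id_assoc]
      have h0 : f' ≫ (b.fst ≫ b.inl + b.snd ≫ b.inr) ≫ g' = 0 := by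
        rw [ht, Category.id_comp, w]
      rw [Preadditive.add_comp, Preadditive.comp_add] at h0
      simp only [Category.assoc] at h0
      exact eq_neg_of_add_eq_zero_left h0
    have hg : g' ≫ inv (b.inr ≫ g') = b.snd - b.fst ≫ inv (f' ≫ b.fst) ≫ f' ≫ b.snd := by
      apply hb.isColimit.hom_ext
      rintro ⟨_ | _⟩
      · change b.inl ≫ _ = b.inl ≫ _
        rw [key, Preadditive.comp_sub]
        simp
      · change b.inr ≫ _ = b.inr ≫ _
        rw [Preadditive.comp_sub, ← Category.assoc, IsIso.hom_inv_id]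
        simp
    rw [← Category.assoc g', hg, Preadditive.sub_comp]
    have h1 : (b.fst ≫ inv (f' ≫ b.fst)) ≫ f' =
        (b.fst ≫ inv (f' ≫ b.fst)) ≫ f' ≫ (b.fst ≫ b.inl + b.snd ≫ b.inr) := by
      rw [ht, Category.comp_id]
    rw [h1, Preadditive.comp_add, Preadditive.comp_add]
    simp only [Category.assoc]
    rw [← Category.assoc f' b.fst, IsIso.inv_hom_id_assoc]
    rw [← ht]
    abel

def swapBicone : BinaryBicone C' B' where
  pt := b.pt
  fst := b.snd
  snd := b.fst
  inl := b.inr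
  inr := b.inl
  inl_fst := b.inr_snd
  inl_snd := b.inr_fst
  inr_fst := b.inl_snd
  inr_snd := b.inl_fst

include hb in
theorem swapBicone_isBilimit_total :
    (swapBicone b).fst ≫ (swapBicone b).inl + (swapBicone b).snd ≫ (swapBicone b).inr =
      𝟙 (swapBicone b).pt := by
  have := total b hb
  rw [add_comm] at this
  exact this

noncomputable def splitting2 [h1 : IsIso (f' ≫ b.snd)] [h2 : IsIso (b.inl ≫ g')] :
    (ShortComplex.mk f' g' w).Splitting :=
  @splitting1 _ _ _ _ _ (swapBicone b)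
    (isBinaryBilimitOfTotal _ (swapBicone_isBilimit_total b hb)) _ _ f' g' w h1 h2

end Groth.Agent.Lib.Helper4.BiSplit
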