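import Groth.Agent.Lib.Helper26.ClosedEmbSh
import Groth.Agent.Lib.Helper34.Adelic.ExactLocal
import Groth.Prelude.Def_CohTop

set_option autoImplicit false
open CategoryTheory CategoryTheory.Limits TopologicalSpace Opposite

namespace Groth.Agent.Lib.Helper4.CCBase
universe u

variable {X : TopCat.{u}}

abbrev incl (Z : Set X) : TopCat.of Z ⟶ X :=
  TopCat.ofHom ⟨((↑) : Z → X), continuous_subtype_val⟩

abbrev inclLE {Z' Z : Set X} (h : Z' ⊆ Z) : TopCat.of Z' ⟶ TopCat.of Z :=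
  TopCat.ofHom ⟨Set.inclusion h, continuous_inclusion h⟩

noncomputable abbrev adj (Z : Set X) : CohTop.pull (incl Z) ⊣ CohTop.push (incl Z) :=
  TopCat.Sheaf.pullbackPushforwardAdjunction AddCommGrpCat.{u} (incl Z)

noncomputable def R (Z : Set X) (F : CohTop.Ab X) : CohTop.Ab X :=
  (CohTop.push (incl Z)).obj ((CohTop.pull (incl Z)).obj F)

noncomputable def η (Z : Set X) (F : CohTop.Ab X) : F ⟶ R Z F := (adj Z).unit.app F

lemma isInducing_incl (Z : Set X) : Topology.IsInducing (incl Z) :=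
  Topology.IsInducing.subtypeVal

lemma bij {Z' Z : Set X} (h : Z' ⊆ Z) (F : CohTop.Ab X) :
    Function.Bijective (fun g : R Z F ⟶ R Z' F => η Z F ≫ g) := by
  have h1 : (CohTop.push (incl Z)).Full :=
    Groth.Agent.Lib.Helper26.ClosedEmbSh.push_full AddCommGrpCat.{u}
      (i := incl Z) (isInducing_incl Z)
  have h2 : (CohTop.push (incl Z)).Faithful :=
    Groth.Agent.Lib.Helper26.ClosedEmbSh.push_faithful AddCommGrpCat.{u}
      (i := incl Z) (isInducing_incl Z)
  exact Groth.Agent.Lib.Helper26.ClosedEmbSh.unit_precomp_bijective' (adj Z) F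
    ((CohTop.push (inclLE h)).obj ((CohTop.pull (incl Z')).obj F)) (R Z' F) (Iso.refl _)

noncomputable def ρ {Z' Z : Set X} (h : Z' ⊆ Z) (F : CohTop.Ab X) : R Z F ⟶ R Z' F :=
  ((bij h F).2 (η Z' F)).choose

@[reassoc]
lemma η_ρ {Z' Z : Set X} (h : Z' ⊆ Z) (F : CohTop.Ab X) : η Z F ≫ ρ h F = η Z' F :=
  ((bij h F).2 (η Z' F)).choose_spec

lemma ρ_ext {Z' Z : Set X} (h : Z' ⊆ Z) (F : CohTop.Ab X) {g g' : R Z F ⟶ R Z' F}
    (hg : η Z F ≫ g = η Z F ≫ g') : g = g' :=
  (bij h F).1 hg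

lemma ρ_comp {Z'' Z' Z : Set X} (h : Z'' ⊆ Z') (h' : Z' ⊆ Z) (F : CohTop.Ab X) :
    ρ h' F ≫ ρ h F = ρ (h.trans h') F := by
  apply ρ_ext (h.trans h')
  rw [η_ρ_assoc, η_ρ, η_ρ]

lemma ρ_refl (Z : Set X) (F : CohTop.Ab X) : ρ (subset_refl Z) F = 𝟙 _ := by
  apply ρ_ext (subset_refl Z)
  rw [η_ρ, Category.comp_id]

lemma ρ_congr {Z' Z'' Z : Set X} (h : Z' ⊆ Z) (e : Z' = Z'') (F : CohTop.Ab X) :
    ρ h F ≫ eqToHom (by rw [e]) = ρ (e ▸ h) F := by
  subst e
  simp

section Sec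

abbrev sec (A : CohTop.Ab X) (V : Opens X) : Type u := A.obj.obj (op V)

noncomputable def secMap {A B : CohTop.Ab X} (φ : A ⟶ B) (V : Opens X) : sec A V →+ sec B V :=
  (φ.hom.app (op V)).hom

noncomputable def res (A : CohTop.Ab X) {V W : Opens X} (h : W ≤ V) : sec A V →+ sec A W :=
  (A.obj.map (homOfLE h).op).hom

lemma secMap_res {A B : CohTop.Ab X} (φ : A ⟶ B) {V W : Opens X} (h : W ≤ V) (s : sec A V) :
    secMap φ W (res A h s) = res B h (secMap φ V s) := by
  have := φ.hom.naturality (homOfLE h).op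
  exact congrArg (fun f => f.hom s) this

lemma secMap_comp {A B C : CohTop.Ab X} (φ : A ⟶ B) (ψ : B ⟶ C) (V : Opens X) (s : sec A V) :
    secMap (φ ≫ ψ) V s = secMap ψ V (secMap φ V s) := rfl

lemma secMap_id {A : CohTop.Ab X} (V : Opens X) (s : sec A V) : secMap (𝟙 A) V s = s := rfl

lemma res_res (A : CohTop.Ab X) {V W W' : Opens X} (h : W ≤ V) (h' : W' ≤ W) (s : sec A V) :
    res A h' (res A h s) = res A (h'.trans h) s := by
  have : A.obj.map (homOfLE h).op ≫ A.obj.map (homOfLE h').op =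
      A.obj.map (homOfLE (h'.trans h)).op := by
    rw [← A.obj.map_comp]
    rfl
  exact congrArg (fun f => f.hom s) this

lemma res_self (A : CohTop.Ab X) {V : Opens X} (s : sec A V) : res A (le_refl V) s = s := by
  have : A.obj.map (homOfLE (le_refl V)).op = 𝟙 _ := by
    rw [← A.obj.map_id]
    rfl
  exact congrArg (fun f => f.hom s) this

noncomputable def secMapHom (A B : CohTop.Ab X) (V : Opens X) :
    (A ⟶ B) →+ (sec A V →+ sec B V) where
  toFun φ := secMap φ V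
  map_zero' := rfl
  map_add' φ ψ := rfl

lemma secMap_sum {A B : CohTop.Ab X} {ι : Type*} (t : Finset ι) (φ : ι → (A ⟶ B)) (V : Opens X)
    (s : sec A V) : secMap (∑ i ∈ t, φ i) V s = ∑ i ∈ t, secMap (φ i) V s := by
  have := map_sum (secMapHom A B V) φ t
  have h2 := congrArg (fun f : sec A V →+ sec B V => f s) this
  simp only [AddMonoidHom.finset_sum_apply] at h2
  exact h2

lemma secMap_zsmul {A B : CohTop.Ab X} (n : ℤ) (φ : A ⟶ B) (V : Opens X) (s : sec A V) :
    secMap (n • φ) V s = n • secMap φ V s := by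
  have := map_zsmul (secMapHom A B V) n φ
  exact congrArg (fun f : sec A V →+ sec B V => f s) this

lemma sec_eq_of_locally (A : CohTop.Ab X) {V : Opens X} (s s' : sec A V)
    (h : ∀ x ∈ V, ∃ (W : Opens X) (hW : W ≤ V), x ∈ W ∧ res A hW s = res A hW s') : s = s' := by
  apply TopCat.Sheaf.eq_of_locally_eq' A (fun x : V => (h x.1 x.2).choose) V
    (fun x => homOfLE (h x.1 x.2).choose_spec.choose)
  · intro y hy
    exact Opens.mem_iSup.2 ⟨⟨y, hy⟩, (h y hy).choose_spec.choose_spec.1⟩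
  · intro x
    exact (h x.1 x.2).choose_spec.choose_spec.2

end Sec

section Local

variable (Z : Set X) (F : CohTop.Ab X)

lemma isIso_stalk_η (x : X) (hx : x ∈ Z) :
    IsIso ((TopCat.Presheaf.stalkFunctor AddCommGrpCat.{u} x).map (η Z F).hom) :=
  Groth.Agent.Lib.Helper26.ClosedEmbSh.isIso_stalk_unit_of_isInducing (incl Z)
    (isInducing_incl Z) F ⟨x, hx⟩

lemma L1 {V : Opens X} (s : sec (R Z F) V) (x : X) (hxV : x ∈ V) (hxZ : x ∈ Z) :
    ∃ (W : Opens X) (hW : W ≤ V), x ∈ W ∧ ∃ t : sec F W, secMap (η Z F) W t = res (R Z F) hW s := by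
  have hiso := isIso_stalk_η Z F x hxZ
  have hbij := ConcreteCategory.bijective_of_isIso
    ((TopCat.Presheaf.stalkFunctor AddCommGrpCat.{u} x).map (η Z F).hom)
  obtain ⟨β, hβ⟩ := hbij.2 (TopCat.Presheaf.germ (R Z F).obj V x hxV s)
  obtain ⟨U, hUV, hxU, t, rfl⟩ := TopCat.Presheaf.exists_le_germ_eq F.obj β hxV
  rw [TopCat.Presheaf.stalkFunctor_map_germ_apply] at hβ
  obtain ⟨W, hxW, iU, iV, he⟩ := TopCat.Presheaf.germ_eq (R Z F).obj x hxU hxV _ _ hβ
  refine ⟨W, iV.le, hxW, res F iU.le t, ?_⟩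
  rw [secMap_res]
  exact he

lemma L2 {V : Opens X} (t : sec F V) (x : X) (hxV : x ∈ V) (hxZ : x ∈ Z)
    (ht : secMap (η Z F) V t = 0) :
    ∃ (W : Opens X) (hW : W ≤ V), x ∈ W ∧ res F hW t = 0 := by
  have hiso := isIso_stalk_η Z F x hxZ
  have hbij := ConcreteCategory.bijective_of_isIso
    ((TopCat.Presheaf.stalkFunctor AddCommGrpCat.{u} x).map (η Z F).hom)
  have h1 : (TopCat.Presheaf.stalkFunctor AddCommGrpCat.{u} x).map (η Z F).hom
      (TopCat.Presheaf.germ F.obj V x hxV t) =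
      (TopCat.Presheaf.stalkFunctor AddCommGrpCat.{u} x).map (η Z F).hom
      (TopCat.Presheaf.germ F.obj V x hxV 0) := by
    rw [TopCat.Presheaf.stalkFunctor_map_germ_apply, TopCat.Presheaf.stalkFunctor_map_germ_apply]
    congr 1
    exact ht.trans (map_zero (secMap (η Z F) V)).symm
  have h2 := hbij.1 h1
  obtain ⟨W, hxW, iU, iV, he⟩ := TopCat.Presheaf.germ_eq F.obj x hxV hxV _ _ h2
  refine ⟨W, iU.le, hxW, ?_⟩
  exact he.trans (map_zero (res F iV.le))

lemma L3 {V : Opens X} (h : (V : Set X) ∩ Z = ∅) : Subsingleton (sec (R Z F) V) := by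
  have hb : (Opens.map (incl Z)).obj V = ⊥ := by
    ext z
    simp only [Opens.map_coe, Set.mem_preimage, Opens.coe_bot, Set.mem_empty_iff_false,
      iff_false]
    intro hz
    have : (z : X) ∈ (V : Set X) ∩ Z := ⟨hz, z.2⟩
    rw [h] at this
    exact this
  have ht : IsTerminal (((CohTop.pull (incl Z)).obj F).obj.obj (op ((Opens.map (incl Z)).obj V))) :=
    TopCat.Sheaf.isTerminalOfEqEmpty _ hb
  have hz : IsZero (((CohTop.pull (incl Z)).obj F).obj.obj (op ((Opens.map (incl Z)).obj V))) :=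
    ht.isZero
  exact AddCommGrpCat.subsingleton_of_isZero hz

end Local

section Prod

variable {ι : Type u} (f : ι → CohTop.Ab X)

noncomputable abbrev ΓV (V : Opens X) : CohTop.Ab X ⥤ AddCommGrpCat.{u} :=
  sheafToPresheaf (Opens.grothendieckTopology X) AddCommGrpCat.{u} ⋙
    (evaluation (Opens X)ᵒᵖ AddCommGrpCat.{u}).obj (op V)

lemma sec_ext {V : Opens X} (s s' : sec (∏ᶜ f) V)
    (h : ∀ i, secMap (Pi.π f i) V s = secMap (Pi.π f i) V s') : s = s' := by
  have hl := isLimitOfPreserves (ΓV V) (productIsProduct f)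
  exact Concrete.isLimit_ext _ hl s s' (fun ⟨i⟩ => h i)

lemma exists_sec {V : Opens X} (fam : ∀ i, sec (f i) V) :
    ∃ s : sec (∏ᶜ f) V, ∀ i, secMap (Pi.π f i) V s = fam i := by
  have hl := isLimitOfPreserves (ΓV V) (productIsProduct f)
  let P : AddCommGrpCat.{u} := AddCommGrpCat.of (∀ i, sec (f i) V)
  let c : Cone (Discrete.functor f ⋙ ΓV V) :=
    { pt := P
      π := Discrete.natTrans (fun ⟨i⟩ => AddCommGrpCat.ofHom (Pi.evalAddMonoidHom _ i)) }
  refine ⟨(hl.lift c).hom fam, fun i => ?_⟩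
  have := hl.fac c ⟨i⟩
  exact congrArg (fun g => g.hom fam) this

end Prod

end Groth.Agent.Lib.Helper4.CCBase
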