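import Groth.Agent.Lib.Helper4.CCBase

set_option autoImplicit false
open CategoryTheory CategoryTheory.Limits TopologicalSpace Opposite

namespace Groth.Agent.Lib.Helper4.CCExact
universe u
open CCBase

variable {X : TopCat.{u}} {I : Type u} (U : I → Set X) (F : CohTop.Ab X)

def Zc {n : ℕ} (σ : Fin n → I) : Set X := ⋂ k, U (σ k)

lemma Zc_sub {n m : ℕ} (θ : Fin n → Fin m) (τ : Fin m → I) : Zc U τ ⊆ Zc U (τ ∘ θ) :=
  fun _ hx => Set.mem_iInter.2 (fun l => Set.mem_iInter.1 hx (θ l))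

noncomputable abbrev KA (n : ℕ) : CohTop.Ab X := ∏ᶜ fun σ : Fin n → I => R (Zc U σ) F

noncomputable def cs {n m : ℕ} (θ : Fin n → Fin m) : KA U F n ⟶ KA U F m :=
  Pi.lift (fun τ : Fin m → I =>
    Pi.π (fun σ : Fin n → I => R (Zc U σ) F) (τ ∘ θ) ≫ ρ (Zc_sub U θ τ) F)

@[reassoc]
lemma cs_π {n m : ℕ} (θ : Fin n → Fin m) (τ : Fin m → I) :
    cs U F θ ≫ Pi.π (fun σ : Fin m → I => R (Zc U σ) F) τ =
      Pi.π (fun σ : Fin n → I => R (Zc U σ) F) (τ ∘ θ) ≫ ρ (Zc_sub U θ τ) F :=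
  Pi.lift_π _ _

lemma cs_comp {n m l : ℕ} (θ : Fin n → Fin m) (θ' : Fin m → Fin l) :
    cs U F θ ≫ cs U F θ' = cs U F (θ' ∘ θ) := by
  apply Pi.hom_ext
  intro τ
  rw [Category.assoc, cs_π, cs_π_assoc, cs_π, ρ_comp]
  rfl

lemma cs_id (n : ℕ) : cs U F (id : Fin n → Fin n) = 𝟙 _ := by
  apply Pi.hom_ext
  intro τ
  rw [cs_π, Category.id_comp]
  exact (congrArg (fun g => Pi.π (fun σ : Fin n → I => R (Zc U σ) F) τ ≫ g)
    (ρ_refl (Zc U τ) F)).trans (Category.comp_id _)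

noncomputable def dA (n : ℕ) : KA U F n ⟶ KA U F (n + 1) :=
  ∑ k : Fin (n + 1), (-1 : ℤ) ^ (k : ℕ) • cs U F (Fin.succAbove k)

noncomputable abbrev cmp {n : ℕ} {V : Opens X} (s : sec (KA U F n) V) (σ : Fin n → I) :
    sec (R (Zc U σ) F) V :=
  secMap (Pi.π (fun σ : Fin n → I => R (Zc U σ) F) σ) V s

lemma cmp_res {n : ℕ} {V W : Opens X} (h : W ≤ V) (s : sec (KA U F n) V) (σ : Fin n → I) :
    cmp U F (res (KA U F n) h s) σ = res _ h (cmp U F s σ) :=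
  secMap_res _ h s

lemma cmp_cs {n m : ℕ} (θ : Fin n → Fin m) {V : Opens X} (s : sec (KA U F n) V)
    (τ : Fin m → I) :
    cmp U F (secMap (cs U F θ) V s) τ = secMap (ρ (Zc_sub U θ τ) F) V (cmp U F s (τ ∘ θ)) := by
  change secMap (Pi.π (fun σ : Fin m → I => R (Zc U σ) F) τ) V (secMap (cs U F θ) V s) = _
  rw [← secMap_comp, cs_π, secMap_comp]

lemma cmp_dA {n : ℕ} {V : Opens X} (s : sec (KA U F n) V) (ω : Fin (n + 1) → I) :
    cmp U F (secMap (dA U F n) V s) ω =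
      ∑ k : Fin (n + 1), (-1 : ℤ) ^ (k : ℕ) •
        secMap (ρ (Zc_sub U (Fin.succAbove k) ω) F) V (cmp U F s (ω ∘ Fin.succAbove k)) := by
  unfold dA
  change secMap (Pi.π (fun σ : Fin (n + 1) → I => R (Zc U σ) F) ω) V (secMap _ V s) = _
  rw [secMap_sum, map_sum]
  refine Finset.sum_congr rfl (fun k _ => ?_)
  rw [secMap_zsmul, map_zsmul]
  congr 1
  exact cmp_cs U F (Fin.succAbove k) s ω

lemma ext_cmp {n : ℕ} {V : Opens X} (s s' : sec (KA U F n) V)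
    (h : ∀ σ, cmp U F s σ = cmp U F s' σ) : s = s' :=
  sec_ext _ s s' h

lemma exists_cmp {n : ℕ} {V : Opens X} (fam : ∀ σ : Fin n → I, sec (R (Zc U σ) F) V) :
    ∃ s : sec (KA U F n) V, ∀ σ, cmp U F s σ = fam σ :=
  exists_sec _ fam

lemma ρcmp_congr {n : ℕ} {V : Opens X} (s : sec (KA U F n) V) {σ σ' : Fin n → I} (e : σ = σ')
    {Z : Set X} (h : Z ⊆ Zc U σ) (h' : Z ⊆ Zc U σ') :
    secMap (ρ h F) V (cmp U F s σ) = secMap (ρ h' F) V (cmp U F s σ') := by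
  subst e
  rfl

lemma ρ_η_sec {Z' Z : Set X} (h : Z' ⊆ Z) {V : Opens X} (t : sec F V) :
    secMap (ρ h F) V (secMap (η Z F) V t) = secMap (η Z' F) V t := by
  rw [← secMap_comp, η_ρ]

end Groth.Agent.Lib.Helper4.CCExact
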