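import Groth.Agent.Lib.Helper4.DescSS

set_option autoImplicit false
open CategoryTheory CategoryTheory.Limits

namespace Groth.Agent.Lib.Helper4.E1Ext

universe v u
variable {C : Type u} [Category.{v} C] [Abelian C] (R : ℤ → CochainComplex C ℤ)
  (E2 : E₂CohomologicalSpectralSequence C)

open DescSS

noncomputable def pageFn (r : ℤ) (hr : 1 ≤ r) :
    HomologicalComplex C (ComplexShape.up' (⟨r, 1 - r⟩ : ℤ × ℤ)) :=
  if h : r = 1 then (by subst h; exact page1 R) else E2.page r (by omega)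

lemma pageFn_one (hr : (1 : ℤ) ≤ 1) : pageFn R E2 1 hr = page1 R := by
  unfold pageFn
  rw [dif_pos rfl]

lemma pageFn_ne (r : ℤ) (hr : 1 ≤ r) (h : r ≠ 1) :
    pageFn R E2 r hr = E2.page r (by omega) := dif_neg h

variable (h2 : ∀ pq : ℤ × ℤ, (page1 R).homology pq ≅ (E2.page 2 le_rfl).X pq)

noncomputable def E : CohomologicalSpectralSequence C 1 where
  page r hr := pageFn R E2 r hr
  iso r r' pq hrr' hr := by
    by_cases h : r = 1
    · subst h
      obtain rfl : r' = 2 := by omega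
      exact (eqToIso (by rw [pageFn_one]) :
          (pageFn R E2 1 hr).homology pq ≅ (page1 R).homology pq) ≪≫ h2 pq ≪≫
        eqToIso (by rw [pageFn_ne R E2 2 (by omega) (by decide)])
    · have h' : r' ≠ 1 := by omega
      exact eqToIso (by rw [pageFn_ne R E2 r hr h]) ≪≫ E2.iso r r' pq hrr' (by omega) ≪≫
        eqToIso (by rw [pageFn_ne R E2 r' (by omega) h'])

variable {Hn : ℤ → C} (a : SpSeq.Abutment E2 Hn)

noncomputable def abut : SpSeq.Abutment (E R E2 h2) Hn where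
  fil := a.fil
  anti := a.anti
  rk := a.rk
  stat pq := ⟨by have := (a.stat pq).1; omega, fun r' h₀ hr' => by
    have h2' : (2 : ℤ) ≤ r' := le_trans (a.stat pq).1 hr'
    have hne : r' ≠ 1 := by omega
    have key := (a.stat pq).2 r' h2' hr'
    constructor
    · change (pageFn R E2 r' h₀).d _ _ = 0
      rw [pageFn_ne R E2 r' h₀ hne]
      exact key.1
    · change (pageFn R E2 r' h₀).d _ _ = 0
      rw [pageFn_ne R E2 r' h₀ hne]
      exact key.2⟩
  β pq := eqToIso (by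
      have hne : a.rk pq ≠ 1 := by have := (a.stat pq).1; omega
      change (pageFn R E2 (a.rk pq) _).X pq = _
      rw [pageFn_ne R E2 (a.rk pq) _ hne]) ≪≫ a.β pq

theorem exists_e1 (hb : ∀ p q : ℤ, (p < 0 ∨ q < 0) → IsZero ((R q).X p))
    (ha : ∀ n, a.IsFinite n)
    (h2' : ∀ p q : ℤ, Nonempty ((E2.page 2 le_rfl).X (p, q) ≅ (R q).homology p)) :
    ∃ (E : CohomologicalSpectralSequence C 1) (a' : SpSeq.Abutment E Hn),
      (∀ n, a'.IsFinite n) ∧ SpSeq.IsBounded E ∧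
        ∀ p q : ℤ, Nonempty ((E.page 1 le_rfl).X (p, q) ≅ (R q).X p) := by
  let h2 : ∀ pq : ℤ × ℤ, (page1 R).homology pq ≅ (E2.page 2 le_rfl).X pq := fun pq =>
    homIso R pq.1 pq.2 ≪≫ (h2' pq.1 pq.2).some.symm
  refine ⟨E R E2 h2, abut R E2 h2 a, fun n => ha n, ?_, ?_⟩
  · intro n
    refine (Set.finite_Icc (0 : ℤ) n).subset ?_
    intro p hp
    simp only [Set.mem_setOf_eq] at hp
    by_contra hcon
    apply hp
    change IsZero ((pageFn R E2 1 le_rfl).X (p, n - p))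
    rw [pageFn_one]
    change IsZero ((R (n - p)).X p)
    apply hb
    simp only [Set.mem_Icc, not_and_or, not_le] at hcon
    rcases hcon with h | h
    · exact Or.inl h
    · exact Or.inr (by omega)
  · intro p q
    refine ⟨eqToIso ?_⟩
    change (pageFn R E2 1 le_rfl).X (p, q) = _
    rw [pageFn_one]
    rfl

section NatRows

open ZeroObject

variable (K : ℕ → CochainComplex C ℕ)

theorem exists_e1_nat (ha : ∀ n, a.IsFinite n)
    (h2' : ∀ p q : ℤ, Nonempty ((E2.page 2 le_rfl).X (p, q) ≅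
      (if 0 ≤ p ∧ 0 ≤ q then (K q.toNat).homology p.toNat else 0))) :
    ∃ (E : CohomologicalSpectralSequence C 1) (a' : SpSeq.Abutment E Hn),
      (∀ n, a'.IsFinite n) ∧ SpSeq.IsBounded E ∧
        ∀ p q : ℤ, (∀ m n : ℕ, p = m → q = n → Nonempty ((E.page 1 le_rfl).X (p, q) ≅ (K n).X m)) ∧
          ((p < 0 ∨ q < 0) → IsZero ((E.page 1 le_rfl).X (p, q))) := by
  have h2'' : ∀ p q : ℤ, Nonempty ((E2.page 2 le_rfl).X (p, q) ≅ (Rz K q).homology p) := by
    intro p q
    obtain ⟨e⟩ := h2' p q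
    by_cases hpq : 0 ≤ p ∧ 0 ≤ q
    · rw [if_pos hpq] at e
      obtain ⟨m, rfl⟩ := Int.eq_ofNat_of_zero_le hpq.1
      obtain ⟨n, rfl⟩ := Int.eq_ofNat_of_zero_le hpq.2
      exact ⟨e ≪≫ ((K n).extendHomologyIso ComplexShape.embeddingUpNat (j := m)
        (j' := (m : ℤ)) rfl).symm⟩
    · rw [if_neg hpq] at e
      have hz : IsZero ((Rz K q).homology p) :=
        isZero_homology_of_isZero_X _ _ (isZero_Rz_X K p q (by omega))
      exact ⟨e ≪≫ (isZero_zero C).iso hz⟩
  obtain ⟨E, a', h1, hbd, h3⟩ := exists_e1 (Rz K) E2 a (isZero_Rz_X K) ha h2''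
  refine ⟨E, a', h1, hbd, fun p q => ⟨?_, ?_⟩⟩
  · intro m n hm hn
    subst hm hn
    obtain ⟨e⟩ := h3 (m : ℤ) (n : ℤ)
    exact ⟨e ≪≫ (K n).extendXIso ComplexShape.embeddingUpNat (i := m) rfl⟩
  · intro h
    obtain ⟨e⟩ := h3 p q
    exact (isZero_Rz_X K p q h).of_iso e

end NatRows

end Groth.Agent.Lib.Helper4.E1Ext
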