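import Groth.Agent.Lib.Helper4.ChDer
import Groth.Agent.Lib.Helper4.E1Ext
import Groth.Agent.Lib.Helper68.GSSDer7
import Groth.Agent.Lib.Helper68.ExtRD

set_option autoImplicit false
open CategoryTheory CategoryTheory.Limits

namespace Groth.Agent.Lib.Helper4.E1SS
universe u v' u'

open ChDer

variable {𝒜 : Type u'} [Category.{v'} 𝒜] [Abelian 𝒜] [HasInjectiveResolutions 𝒜]
  (T : 𝒜 ⥤ Ch.{u}) [T.Additive]

noncomputable abbrev ev (p : ℕ) : Ch.{u} ⥤ AddCommGrpCat.{u} :=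
  HomologicalComplex.eval AddCommGrpCat.{u} (ComplexShape.up ℕ) p

instance (p : ℕ) : PreservesFiniteLimits (ev.{u} p) := inferInstance
instance (p : ℕ) : PreservesFiniteColimits (ev.{u} p) := inferInstance

theorem nonempty_eval_rightDerived_iso (M : 𝒜) (p q : ℕ) :
    Nonempty (((T.rightDerived q).obj M).X p ≅ ((T ⋙ ev p).rightDerived q).obj M) := by
  let I := injectiveResolution M
  let L := (T.mapHomologicalComplex _).obj I.cocomplex
  let e1 : (ev p).obj ((T.rightDerived q).obj M) ≅ (ev p).obj (L.homology q) :=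
    (ev p).mapIso (I.isoRightDerivedObj T q)
  let e2 : (ev p).obj ((L.sc q).homology) ≅ ((L.sc q).map (ev p)).homology :=
    ((L.sc q).mapHomologyIso (ev p)).symm
  let e4 := (I.isoRightDerivedObj (T ⋙ ev p) q).symm
  exact ⟨e1 ≪≫ e2 ≪≫ e4⟩


open ZeroObject in
theorem exists_e1ss
    (hT : ∀ Q : 𝒜, Injective Q → ∀ p : ℕ, IsZero ((T.obj Q).homology (p + 1)))
    (M : 𝒜) (Hn : ℤ → AddCommGrpCat.{u})
    (e : ∀ n : ℕ, Nonempty (((T ⋙ S0.{u}).rightDerived n).obj M ≅ Hn (n : ℤ)))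
    (h0 : ∀ n : ℤ, n < 0 → IsZero (Hn n)) :
    ∃ (E : CohomologicalSpectralSequence AddCommGrpCat.{u} 1) (a : SpSeq.Abutment E Hn),
      (∀ n, a.IsFinite n) ∧ SpSeq.IsBounded E ∧
        ∀ p q : ℤ, (∀ m n : ℕ, p = m → q = n →
            Nonempty ((E.page 1 le_rfl).X (p, q) ≅ ((T ⋙ ev m).rightDerived n).obj M)) ∧
          ((p < 0 ∨ q < 0) → IsZero ((E.page 1 le_rfl).X (p, q))) := by
  have hT' : ∀ Q : 𝒜, Injective Q → ∀ q : ℕ, 0 < q →
      IsZero ((S0.{u}.rightDerived q).obj (T.obj Q)) := by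
    intro Q hQ q hq
    obtain ⟨k, rfl⟩ : ∃ k, q = k + 1 := ⟨q - 1, by omega⟩
    obtain ⟨i⟩ := nonempty_rightDerived_iso (k + 1) (T.obj Q)
    exact (hT Q hQ k).of_iso i
  obtain ⟨E2, a, ha, _, hE⟩ := Groth.Agent.Lib.Helper68.GSSDer.exists_spectralSequence_of_iso
    T S0.{u} hT' M Hn
    (fun n hn => (e n.toNat).some ≪≫ eqToIso (by rw [Int.toNat_of_nonneg hn])) h0
  let K : ℕ → CochainComplex AddCommGrpCat.{u} ℕ := fun n => (T.rightDerived n).obj M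
  have h2' : ∀ p q : ℤ, Nonempty ((E2.page 2 le_rfl).X (p, q) ≅
      (if 0 ≤ p ∧ 0 ≤ q then (K q.toNat).homology p.toNat else 0)) := by
    intro p q
    obtain ⟨i⟩ := hE p q
    by_cases hpq : 0 ≤ p ∧ 0 ≤ q
    · rw [if_pos hpq] at i ⊢
      obtain ⟨j⟩ := nonempty_rightDerived_iso p.toNat (K q.toNat)
      exact ⟨i ≪≫ j⟩
    · rw [if_neg hpq] at i ⊢
      exact ⟨i⟩
  obtain ⟨E, a', h1, hbd, h3⟩ := E1Ext.exists_e1_nat E2 a K ha h2'
  refine ⟨E, a', h1, hbd, fun p q => ⟨?_, (h3 p q).2⟩⟩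
  intro m n hm hn
  obtain ⟨i⟩ := (h3 p q).1 m n hm hn
  obtain ⟨j⟩ := nonempty_eval_rightDerived_iso T M m n
  exact ⟨i ≪≫ j⟩

end Groth.Agent.Lib.Helper4.E1SS
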