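import Groth.Agent.Lib.Helper4.ResShift
import Groth.Agent.Lib.Helper4.E1SS

set_option autoImplicit false
open CategoryTheory CategoryTheory.Limits HomologicalComplex

namespace Groth.Agent.Lib.Helper4.ResSS
universe w u

open ChDer ResShift

variable {A : Type u} [Category.{w} A] [Abelian A]
  (G : A ⥤ AddCommGrpCat.{w}) [G.Additive] [PreservesFiniteLimits G]

noncomputable abbrev T : CochainComplex A ℕ ⥤ Ch.{w} :=
  G.mapHomologicalComplex (ComplexShape.up ℕ)

section Alpha

noncomputable def cycIso (K : CochainComplex A ℕ) :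
    G.obj (K.cycles 0) ≅ ((T G).obj K).cycles 0 :=
  IsLimit.conePointUniqueUpToIso
    (KernelFork.mapIsLimit _ (K.cyclesIsKernel 0 1 (by simp)) G)
    (((T G).obj K).cyclesIsKernel 0 1 (by simp))

lemma cycIso_hom_i (K : CochainComplex A ℕ) :
    (cycIso G K).hom ≫ ((T G).obj K).iCycles 0 = G.map (K.iCycles 0) :=
  IsLimit.conePointUniqueUpToIso_hom_comp _ _ WalkingParallelPair.zero

lemma cycIso_naturality {K L : CochainComplex A ℕ} (f : K ⟶ L) :
    G.map (HomologicalComplex.cyclesMap f 0) ≫ (cycIso G L).hom =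
      (cycIso G K).hom ≫ HomologicalComplex.cyclesMap ((T G).map f) 0 := by
  apply (cancel_mono (((T G).obj L).iCycles 0)).1
  have l1 : (G.map (HomologicalComplex.cyclesMap f 0) ≫ (cycIso G L).hom) ≫
      ((T G).obj L).iCycles 0 = G.map (K.iCycles 0 ≫ f.f 0) := by
    rw [Category.assoc, cycIso_hom_i]
    exact (G.map_comp _ _).symm.trans (congrArg G.map (HomologicalComplex.cyclesMap_i f 0))
  have l2 : ((cycIso G K).hom ≫ HomologicalComplex.cyclesMap ((T G).map f) 0) ≫
      ((T G).obj L).iCycles 0 = G.map (K.iCycles 0 ≫ f.f 0) := by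
    rw [Category.assoc, HomologicalComplex.cyclesMap_i, ← Category.assoc, cycIso_hom_i]
    exact (G.map_comp _ _).symm
  rw [l1, l2]

noncomputable def F2 : CochainComplex A ℕ ⥤ AddCommGrpCat.{w} :=
  HomologicalComplex.cyclesFunctor A (ComplexShape.up ℕ) 0 ⋙ G

noncomputable def F3 : CochainComplex A ℕ ⥤ AddCommGrpCat.{w} :=
  T G ⋙ HomologicalComplex.cyclesFunctor AddCommGrpCat.{w} (ComplexShape.up ℕ) 0

noncomputable def c23 : F2 G ≅ F3 G :=
  NatIso.ofComponents (fun K => cycIso G K) (fun {K L} f => cycIso_naturality G f)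

noncomputable def π1 : F2 G ⟶ Z0 (A := A) ⋙ G :=
  Functor.whiskerRight (HomologicalComplex.natTransHomologyπ A (ComplexShape.up ℕ) 0) G

noncomputable def π2 : F3 G ⟶ T G ⋙ S0.{w} :=
  Functor.whiskerLeft (T G) (HomologicalComplex.natTransHomologyπ AddCommGrpCat.{w}
    (ComplexShape.up ℕ) 0)

instance : IsIso (π1 G) := by
  have : ∀ K, IsIso ((π1 G).app K) := by
    intro K
    have := ResShift.isIso_homologyπ_zero K
    exact inferInstanceAs (IsIso (G.map (K.homologyπ 0)))
  exact NatIso.isIso_of_isIso_app _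

instance : IsIso (π2 G) := by
  have : ∀ K, IsIso ((π2 G).app K) := by
    intro K
    exact ChDer.isIso_homologyπ_zero ((T G).obj K)
  exact NatIso.isIso_of_isIso_app _

noncomputable def α : Z0 (A := A) ⋙ G ≅ T G ⋙ S0.{w} :=
  (asIso (π1 G)).symm ≪≫ c23 G ≪≫ asIso (π2 G)

end Alpha

section Main

noncomputable def rdIso {C : Type*} [Category C] [Abelian C] [HasInjectiveResolutions C]
    {D : Type*} [Category D] [Abelian D] {F F' : C ⥤ D} [F.Additive] [F'.Additive]
    (e : F ≅ F') (n : ℕ) : F.rightDerived n ≅ F'.rightDerived n where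
  hom := NatTrans.rightDerived e.hom n
  inv := NatTrans.rightDerived e.inv n
  hom_inv_id := by rw [← NatTrans.rightDerived_comp, e.hom_inv_id, NatTrans.rightDerived_id]
  inv_hom_id := by rw [← NatTrans.rightDerived_comp, e.inv_hom_id, NatTrans.rightDerived_id]

variable [EnoughInjectives A] [EnoughInjectives (CochainComplex A ℕ)]

noncomputable def evIso (m : ℕ) :
    T G ⋙ E1SS.ev.{w} m ≅ HomologicalComplex.eval A (ComplexShape.up ℕ) m ⋙ G :=
  NatIso.ofComponents (fun K => Iso.refl _) (fun {K L} f => by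
    simp only [Iso.refl_hom]
    exact (Category.comp_id _).trans (Category.id_comp _).symm)

open ZeroObject in
theorem exists_resSS (K : CochainComplex A ℕ) (hK : Res K) (F : A)
    (e : F ≅ (Z0 (A := A)).obj K) (Hn : ℤ → AddCommGrpCat.{w})
    (eH : ∀ n : ℕ, Nonempty ((G.rightDerived n).obj F ≅ Hn (n : ℤ)))
    (h0 : ∀ n : ℤ, n < 0 → IsZero (Hn n)) :
    ∃ (E : CohomologicalSpectralSequence AddCommGrpCat.{w} 1) (a : SpSeq.Abutment E Hn),
      (∀ n, a.IsFinite n) ∧ SpSeq.IsBounded E ∧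
        ∀ p q : ℤ, (∀ m n : ℕ, p = m → q = n →
            Nonempty ((E.page 1 le_rfl).X (p, q) ≅ (G.rightDerived n).obj (K.X m))) ∧
          ((p < 0 ∨ q < 0) → IsZero ((E.page 1 le_rfl).X (p, q))) := by
  have hT : ∀ Q : CochainComplex A ℕ, Injective Q → ∀ p : ℕ,
      IsZero (((T G).obj Q).homology (p + 1)) := by
    intro Q hQ p
    rw [← HomologicalComplex.exactAt_iff_isZero_homology]
    exact ResCone.exactAt_map_succ G Q p
  have eA : ∀ n : ℕ, Nonempty (((T G ⋙ S0.{w}).rightDerived n).obj K ≅ Hn (n : ℤ)) := by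
    intro n
    obtain ⟨i1⟩ := ResShift.nonempty_iso G n K hK
    obtain ⟨i2⟩ := eH n
    exact ⟨((rdIso (α G) n).app K).symm ≪≫ i1 ≪≫ (G.rightDerived n).mapIso e.symm ≪≫ i2⟩
  obtain ⟨E, a, h1, h2, h3⟩ := E1SS.exists_e1ss (T G) hT K Hn eA h0
  refine ⟨E, a, h1, h2, fun p q => ⟨?_, (h3 p q).2⟩⟩
  intro m n hm hn
  obtain ⟨i⟩ := (h3 p q).1 m n hm hn
  obtain ⟨j⟩ := ResInj.nonempty_rightDerived_eval_iso G K m n
  exact ⟨i ≪≫ (rdIso (evIso G m) n).app K ≪≫ j⟩

end Main

end Groth.Agent.Lib.Helper4.ResSS
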