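import Groth.Agent.Lib.Helper4.CCLocal
import Groth.Agent.Lib.Helper4.ResSS
import Mathlib.AlgebraicTopology.AlternatingFaceMapComplex

set_option autoImplicit false
open CategoryTheory CategoryTheory.Limits TopologicalSpace Opposite Simplicial

namespace Groth.Agent.Lib.Helper4.CCRes
universe u
open CCBase CCExact CCLocal

variable {X : TopCat.{u}} {I : Type u} (U : I → Set X) (F : CohTop.Ab X)

lemma dA_zero_comp : dA U F 0 ≫ dA U F 1 = 0 := by
  have h : ∀ θ θ' : Fin 0 → Fin 2, cs U F θ = cs U F θ' := fun θ θ' => by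
    rw [Subsingleton.elim θ θ']
  unfold dA
  simp only [Fin.sum_univ_succ, Fin.sum_univ_zero, Fin.val_zero, pow_zero, one_smul, add_zero,
    Fin.val_succ, zero_add, pow_one, neg_smul, Preadditive.comp_add, Preadditive.comp_neg,
    cs_comp]
  rw [h _ ((Fin.succAbove (0 : Fin 2)) ∘ (Fin.succAbove (0 : Fin 1)))]
  exact add_neg_cancel _

theorem injective_dA_zero (hcov : ⋃ i, U i = Set.univ) (V : Opens X) (s : sec (KA U F 0) V)
    (hs : secMap (dA U F 0) V s = 0) : s = 0 := by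
  apply ext_cmp
  intro σ
  have h0 : cmp U F (0 : sec (KA U F 0) V) σ = 0 := map_zero _
  rw [h0]
  apply sec_eq_of_locally
  intro x hx
  have hxσ : x ∈ Zc U σ := Set.mem_iInter.2 (fun k => k.elim0)
  obtain ⟨W, hW, hxW, f, hf⟩ := L1 (Zc U σ) F (cmp U F s σ) x hx hxσ
  obtain ⟨i, hi⟩ : ∃ i, x ∈ U i := by
    have : x ∈ ⋃ i, U i := hcov ▸ Set.mem_univ x
    exact Set.mem_iUnion.1 this
  let ω : Fin 1 → I := fun _ => i
  have hxω : x ∈ Zc U ω := Set.mem_iInter.2 (fun _ => hi)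
  have hc : cmp U F (secMap (dA U F 0) V s) ω = 0 := by
    rw [hs]
    exact map_zero _
  rw [cmp_dA] at hc
  simp only [Fin.sum_univ_succ, Fin.sum_univ_zero, Fin.val_zero, pow_zero, one_smul,
    add_zero] at hc
  have hsub : Zc U ω ⊆ Zc U σ := fun _ _ => Set.mem_iInter.2 (fun k => k.elim0)
  rw [ρcmp_congr U F s (Subsingleton.elim _ σ) _ hsub] at hc
  have hc' := congrArg (res _ hW) hc
  rw [map_zero, ← secMap_res, ← hf, ρ_η_sec] at hc'
  obtain ⟨W', hW', hxW', hf0⟩ := L2 (Zc U ω) F f x hxW hxω hc'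
  refine ⟨W', hW'.trans hW, hxW', ?_⟩
  rw [map_zero, ← res_res _ hW hW', ← hf, ← secMap_res, hf0, map_zero]

lemma mono_dA_zero (hcov : ⋃ i, U i = Set.univ) : Mono (dA U F 0) := by
  apply Groth.Agent.Lib.Helper34.ExactLocal.mono_of_injective
  intro V
  rw [injective_iff_map_eq_zero]
  intro s hs
  exact injective_dA_zero U F hcov V s hs

noncomputable def Kc : CosimplicialObject (CohTop.Ab X) where
  obj n := KA U F (n.len + 1)
  map θ := cs U F θ.toOrderHom
  map_id n := cs_id U F _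
  map_comp θ θ' := (cs_comp U F θ.toOrderHom θ'.toOrderHom).symm

noncomputable def K : CochainComplex (CohTop.Ab X) ℕ :=
  AlgebraicTopology.AlternatingCofaceMapComplex.obj (Kc U F)

lemma K_d (p : ℕ) : (K U F).d p (p + 1) = dA U F (p + 1) := by
  exact (CochainComplex.of_d (fun n => (Kc U F).obj ⦋n⦌)
    (AlgebraicTopology.AlternatingCofaceMapComplex.objD (Kc U F)) p).trans rfl

section Res

variable (hU : ∀ i, IsClosed (U i)) (hlf : LocallyFinite U) (hcov : ⋃ i, U i = Set.univ)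

include hU hlf hcov in
theorem exact_dA (n : ℕ) (w : dA U F n ≫ dA U F (n + 1) = 0) :
    (ShortComplex.mk (dA U F n) (dA U F (n + 1)) w).Exact := by
  apply Groth.Agent.Lib.Helper34.ExactLocal.exact_of_locally
  intro V s hs y hy
  obtain ⟨W, hW, hyW, t, ht⟩ := local_exact U F hU hlf hcov n V s hs y hy
  exact ⟨W, hW, hyW, t, ht⟩

include hU hlf hcov in
theorem res_K : ResShift.Res (A := CohTop.Ab X) (K U F) := by
  intro p
  rw [HomologicalComplex.exactAt_iff' _ p (p + 1) (p + 1 + 1) (by simp) (by simp)]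
  have key : ∀ (f : KA U F (p + 1) ⟶ KA U F (p + 1 + 1))
      (g : KA U F (p + 1 + 1) ⟶ KA U F (p + 1 + 1 + 1)) (hf : f = dA U F (p + 1))
      (hg : g = dA U F (p + 1 + 1)) (w : f ≫ g = 0), (ShortComplex.mk f g w).Exact := by
    intro f g hf hg w
    subst hf hg
    exact exact_dA U F hU hlf hcov (p + 1) w
  exact key _ _ (K_d U F p) (K_d U F (p + 1)) _

lemma isIso_η_of_univ (Z : Set X) (hZ : Z = Set.univ) : IsIso (η Z F) := by
  have : ∀ x : X, IsIso ((TopCat.Presheaf.stalkFunctor AddCommGrpCat.{u} x).map (η Z F).hom) :=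
    fun x => isIso_stalk_η Z F x (hZ ▸ Set.mem_univ x)
  exact TopCat.Presheaf.isIso_of_stalkFunctor_map_iso (η Z F)

noncomputable def isoKA0 : F ≅ KA U F 0 :=
  have : IsIso (η (Zc U (default : Fin 0 → I)) F) :=
    isIso_η_of_univ F _ (Set.iInter_of_empty _)
  asIso (η (Zc U (default : Fin 0 → I)) F) ≪≫
    (productUniqueIso (fun σ : Fin 0 → I => R (Zc U σ) F)).symm

include hU hlf hcov in
theorem nonempty_iso_Z0 :
    Nonempty (F ≅ (ResShift.Z0 (A := CohTop.Ab.{u} X)).obj (K U F)) := by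
  have hm := mono_dA_zero U F hcov
  have hex := exact_dA U F hU hlf hcov 0 (dA_zero_comp U F)
  have hk : IsLimit (KernelFork.ofι (dA U F 0) (dA_zero_comp U F)) := by
    have : Mono (ShortComplex.mk (dA U F 0) (dA U F 1) (dA_zero_comp U F)).f := hm
    exact hex.fIsKernel
  have hc : IsLimit (KernelFork.ofι ((K U F).iCycles 0) ((K U F).iCycles_d 0 1)) :=
    (K U F).cyclesIsKernel 0 1 (by simp)
  have key : ∀ (g : KA U F 1 ⟶ KA U F 2) (hg : g = dA U F 1) (w : dA U F 0 ≫ g = 0),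
      IsLimit (KernelFork.ofι (dA U F 0) w) := by
    intro g hg w
    subst hg
    exact hk
  have e1 : KA U F 0 ≅ (K U F).cycles 0 :=
    IsLimit.conePointUniqueUpToIso
      (key ((K U F).d 0 1) (K_d U F 0) (by rw [K_d]; exact dA_zero_comp U F)) hc
  have hπ := ResShift.isIso_homologyπ_zero (A := CohTop.Ab.{u} X) (K U F)
  exact ⟨isoKA0 U F ≪≫ e1 ≪≫ @asIso _ _ _ _ ((K U F).homologyπ 0) hπ⟩

end Res

end Groth.Agent.Lib.Helper4.CCRes
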