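import Groth.Agent.Lib.Helper4.DescPF
import Groth.Agent.Lib.Helper4.ExtAdj
import Mathlib.CategoryTheory.Comma.Over.Basic

set_option autoImplicit false
open CategoryTheory CategoryTheory.Limits Opposite

namespace Groth.Agent.Lib.Helper4.DescVia

open Abelian DescPF

universe v w v₁ u₁ w'

section Sw

variable {A : Type*} [Category A] [Abelian A] [HasExt.{w'} A]

noncomputable def sw {A' A₀ B B' : A} {q : ℕ} (x : A' ⟶ A₀) (e : Ext.{w'} A₀ B q) (y : B ⟶ B') :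
    Ext.{w'} A' B' q :=
  (Ext.mk₀ x).comp (e.comp (Ext.mk₀ y) (add_zero q)) (zero_add q)

theorem sw_sw {A'' A' A₀ B B' B'' : A} {q : ℕ} (x' : A'' ⟶ A') (x : A' ⟶ A₀)
    (e : Ext.{w'} A₀ B q) (y : B ⟶ B') (y' : B' ⟶ B'') :
    sw x' (sw x e y) y' = sw (x' ≫ x) e (y ≫ y') := by
  unfold sw
  rw [Ext.comp_assoc_of_third_deg_zero, Ext.comp_assoc_of_third_deg_zero, Ext.mk₀_comp_mk₀,
    Ext.mk₀_comp_mk₀_assoc]

theorem sw_id {A₀ B : A} {q : ℕ} (e : Ext.{w'} A₀ B q) : sw (𝟙 A₀) e (𝟙 B) = e := by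
  unfold sw
  rw [Ext.comp_mk₀_id, Ext.mk₀_id_comp]

theorem sw_add {A' A₀ B B' : A} {q : ℕ} (x : A' ⟶ A₀) (e e' : Ext.{w'} A₀ B q) (y : B ⟶ B') :
    sw x (e + e') y = sw x e y + sw x e' y := by
  unfold sw
  rw [Ext.add_comp, Ext.comp_add]

theorem sw_bijective {A' A₀ B B' : A} (q : ℕ) (x : A' ⟶ A₀) (y : B ⟶ B') [IsIso x] [IsIso y] :
    Function.Bijective (fun e : Ext.{w'} A₀ B q => sw x e y) := by
  refine Function.bijective_iff_has_inverse.mpr ⟨fun e => sw (inv x) e (inv y), ?_, ?_⟩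
  · intro e
    dsimp only
    rw [sw_sw, IsIso.inv_hom_id, IsIso.hom_inv_id, sw_id]
  · intro e
    dsimp only
    rw [sw_sw, IsIso.hom_inv_id, IsIso.inv_hom_id, sw_id]

end Sw

section Post

variable {A : Type*} [Category A] [Abelian A] [HasExt.{w'} A]

noncomputable def postEquiv {A₀ B B' : A} (y : B ≅ B') (n : ℕ) :
    Ext.{w'} A₀ B n ≃+ Ext.{w'} A₀ B' n where
  toFun e := e.comp (Ext.mk₀ y.hom) (add_zero n)
  invFun e := e.comp (Ext.mk₀ y.inv) (add_zero n)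
  left_inv e := by
    dsimp only
    rw [Ext.comp_assoc_of_third_deg_zero, Ext.mk₀_comp_mk₀, Iso.hom_inv_id, Ext.comp_mk₀_id]
  right_inv e := by
    dsimp only
    rw [Ext.comp_assoc_of_third_deg_zero, Ext.mk₀_comp_mk₀, Iso.inv_hom_id, Ext.comp_mk₀_id]
  map_add' e e' := Ext.add_comp _ _ _ _

end Post

section Map

variable {A : Type*} [Category A] [Abelian A] [HasExt.{w'} A]
  {B : Type*} [Category B] [Abelian B] [HasExt.{w'} B]
  (R : A ⥤ B) [R.Additive] [PreservesFiniteLimits R] [PreservesFiniteColimits R]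

theorem map_sw {A' A₀ F F' : A} {q : ℕ} (x : A' ⟶ A₀) (e : Ext.{w'} A₀ F q) (y : F ⟶ F') :
    (sw x e y).mapExactFunctor R = sw (R.map x) (e.mapExactFunctor R) (R.map y) := by
  unfold sw
  rw [Ext.mapExactFunctor_comp, Ext.mapExactFunctor_comp, Ext.mapExactFunctor_mk₀,
    Ext.mapExactFunctor_mk₀]

end Map

section MapId

variable {A : Type*} [Category A] [Abelian A] [HasExt.{w'} A] [EnoughInjectives A]

theorem mapExactFunctor_id {A₀ : A} (n : ℕ) : ∀ (F : A) (e : Ext.{w'} A₀ F n),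
    e.mapExactFunctor (𝟭 A) = e := by
  induction n with
  | zero =>
    intro F e
    obtain ⟨φ, rfl⟩ := (Ext.mk₀_bijective _ _).2 e
    rw [Ext.mapExactFunctor_mk₀]
    rfl
  | succ n IH =>
    intro F e
    let S := ExtAdj.injSC F
    have hS : S.ShortExact := ExtAdj.injSC_shortExact F
    have he0 : e.comp (Ext.mk₀ S.f) (add_zero (n + 1)) = 0 := Ext.eq_zero_of_injective _
    obtain ⟨z, hz⟩ := Ext.covariant_sequence_exact₁ _ hS e he0 rfl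
    have h1 := Ext.mapExactFunctor_comp (𝟭 A) z hS.extClass rfl
    rw [IH, Ext.mapExactFunctor_extClass] at h1
    rw [← hz]
    exact h1

end MapId

section Nat

variable {A : Type*} [Category A] [Abelian A] [HasExt.{w'} A] [EnoughInjectives A]
  {B : Type*} [Category B] [Abelian B] [HasExt.{w'} B]
  {C : Type*} [Category C] [Abelian C] [HasExt.{w'} C]
  (G₁ : A ⥤ B) [G₁.Additive] [PreservesFiniteLimits G₁] [PreservesFiniteColimits G₁]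
  (G₃ : B ⥤ C) [G₃.Additive] [PreservesFiniteLimits G₃] [PreservesFiniteColimits G₃]
  (G₄ : A ⥤ C) [G₄.Additive] [PreservesFiniteLimits G₄] [PreservesFiniteColimits G₄]
  (τ : G₁ ⋙ G₃ ≅ G₄)

theorem map_map_eq_sw {A₀ F : A} {n : ℕ} (e : Ext.{w'} A₀ F n) :
    (e.mapExactFunctor G₁).mapExactFunctor G₃ =
      sw (τ.hom.app A₀) (e.mapExactFunctor G₄) (τ.inv.app F) := by
  have h := ExtAdj.mapExactFunctor_comp_nat G₁ G₃ G₄ τ.hom A₀ n F e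
  unfold sw
  rw [← Ext.comp_assoc_of_third_deg_zero, ← h, Ext.comp_assoc_of_third_deg_zero,
    Ext.mk₀_comp_mk₀, Iso.hom_inv_id_app]
  erw [Ext.comp_mk₀_id]

end Nat

section Via

variable {C : Type u₁} [Category.{v₁} C] {Sh : C → Type w} [∀ X, Category.{v} (Sh X)]
  [∀ X, Abelian (Sh X)] [∀ X, HasExt.{w'} (Sh X)] [∀ X, EnoughInjectives (Sh X)]
  (P : PBData C Sh) [∀ {X Y : C} (f : X ⟶ Y), (P.pull f).Additive]
  [∀ {X Y : C} (f : X ⟶ Y), PreservesFiniteLimits (P.pull f)]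
  [∀ {X Y : C} (f : X ⟶ Y), PreservesFiniteColimits (P.pull f)]

noncomputable def viaFun {X' X'' Y : C} (k : X'' ⟶ X') (π' : X' ⟶ Y) (π'' : X'' ⟶ Y)
    (w : k ≫ π' = π'') (F : Sh Y) (q : ℕ) (e : Ext.{w'} (P.Z X') ((P.pull π').obj F) q) :
    Ext.{w'} (P.Z X'') ((P.pull π'').obj F) q :=
  sw (P.a k).hom (e.mapExactFunctor (P.pull k)) ((P.comp k π' π'' w).inv.app F)

theorem viaFun_add {X' X'' Y : C} (k : X'' ⟶ X') (π' : X' ⟶ Y) (π'' : X'' ⟶ Y)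
    (w : k ≫ π' = π'') (F : Sh Y) (q : ℕ) (e e' : Ext.{w'} (P.Z X') ((P.pull π').obj F) q) :
    viaFun P k π' π'' w F q (e + e') = viaFun P k π' π'' w F q e + viaFun P k π' π'' w F q e' := by
  unfold viaFun
  rw [Ext.mapExactFunctor_add, sw_add]

theorem viaFun_trans {X₁ X₂ X₃ Y : C} (k₁₂ : X₁ ⟶ X₂) (k₂₃ : X₂ ⟶ X₃) (k₁₃ : X₁ ⟶ X₃)
    (hk : k₁₂ ≫ k₂₃ = k₁₃) (π₁ : X₁ ⟶ Y) (π₂ : X₂ ⟶ Y) (π₃ : X₃ ⟶ Y)
    (w₁₂ : k₁₂ ≫ π₂ = π₁) (w₂₃ : k₂₃ ≫ π₃ = π₂) (w₁₃ : k₁₃ ≫ π₃ = π₁) (F : Sh Y) (q : ℕ)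
    (e : Ext.{w'} (P.Z X₃) ((P.pull π₃).obj F) q) :
    viaFun P k₁₂ π₂ π₁ w₁₂ F q (viaFun P k₂₃ π₃ π₂ w₂₃ F q e) =
      viaFun P k₁₃ π₃ π₁ w₁₃ F q e := by
  unfold viaFun
  rw [map_sw, sw_sw,
    map_map_eq_sw (P.pull k₂₃) (P.pull k₁₂) (P.pull k₁₃) (P.comp k₁₂ k₂₃ k₁₃ hk).symm e, sw_sw]
  have hA : (P.a k₁₂).hom ≫ (P.pull k₁₂).map (P.a k₂₃).hom ≫
      (P.comp k₁₂ k₂₃ k₁₃ hk).symm.hom.app (P.Z X₃) = (P.a k₁₃).hom := by
    have h := P.a_comp k₁₂ k₂₃ k₁₃ hk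
    rw [← Category.assoc, ← h, Category.assoc]
    dsimp only [Iso.symm_hom]
    rw [Iso.hom_inv_id_app, Category.comp_id]
  have hB : (P.comp k₁₂ k₂₃ k₁₃ hk).symm.inv.app ((P.pull π₃).obj F) ≫
      (P.pull k₁₂).map ((P.comp k₂₃ π₃ π₂ w₂₃).inv.app F) ≫ (P.comp k₁₂ π₂ π₁ w₁₂).inv.app F =
        (P.comp k₁₃ π₃ π₁ w₁₃).inv.app F := by
    have h := P.assoc k₁₂ k₂₃ π₃ k₁₃ π₂ π₁ hk w₂₃ w₁₃ w₁₂ F
    dsimp only [Iso.symm_inv]
    rw [← cancel_epi ((P.comp k₁₃ π₃ π₁ w₁₃).hom.app F), reassoc_of% h, Iso.hom_inv_id_app,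
      ← Functor.map_comp_assoc, Iso.hom_inv_id_app]
    erw [CategoryTheory.Functor.map_id, Category.id_comp]
    rw [Iso.hom_inv_id_app]
  rw [Category.assoc, hA, hB]

theorem map_pull_id {X' : C} {G : Sh X'} {q : ℕ} (e : Ext.{w'} (P.Z X') G q) :
    e.mapExactFunctor (P.pull (𝟙 X')) =
      sw ((P.uid X').hom.app (P.Z X')) e ((P.uid X').inv.app G) := by
  have h := map_map_eq_sw (P.pull (𝟙 X')) (𝟭 (Sh X')) (𝟭 (Sh X'))
    (Functor.rightUnitor (P.pull (𝟙 X')) ≪≫ P.uid X') e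
  rw [mapExactFunctor_id, mapExactFunctor_id] at h
  rw [h]
  congr 1
  · simp
  · simp

theorem viaFun_id_bijective {X' Y : C} (π : X' ⟶ Y) (w : 𝟙 X' ≫ π = π) (F : Sh Y) (q : ℕ) :
    Function.Bijective (viaFun P (𝟙 X') π π w F q) := by
  have h : viaFun P (𝟙 X') π π w F q = fun e =>
      sw ((P.a (𝟙 X')).hom ≫ (P.uid X').hom.app (P.Z X')) e
        ((P.uid X').inv.app ((P.pull π).obj F) ≫ (P.comp (𝟙 X') π π w).inv.app F) := by
    funext e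
    unfold viaFun
    rw [map_pull_id, sw_sw]
  rw [h]
  exact sw_bijective q _ _

theorem viaFun_id {X' Y : C} (π : X' ⟶ Y) (w : 𝟙 X' ≫ π = π) (F : Sh Y) (q : ℕ)
    (e : Ext.{w'} (P.Z X') ((P.pull π).obj F) q) : viaFun P (𝟙 X') π π w F q e = e := by
  apply (viaFun_id_bijective P π w F q).1
  exact viaFun_trans P (𝟙 X') (𝟙 X') (𝟙 X') (Category.id_comp _) π π π w w w F q e

noncomputable def via {X' X'' Y : C} (k : X'' ⟶ X') (π' : X' ⟶ Y) (π'' : X'' ⟶ Y)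
    (w : k ≫ π' = π'') (F : Sh Y) (q : ℕ) :
    Ext.{w'} (P.Z X') ((P.pull π').obj F) q →+ Ext.{w'} (P.Z X'') ((P.pull π'').obj F) q :=
  AddMonoidHom.mk' (viaFun P k π' π'' w F q) (viaFun_add P k π' π'' w F q)

noncomputable def G {Y : C} (F : Sh Y) (q : ℕ) : (Over Y)ᵒᵖ ⥤ AddCommGrpCat.{w'} where
  obj π := AddCommGrpCat.of (Ext.{w'} (P.Z π.unop.left) ((P.pull π.unop.hom).obj F) q)
  map {π π'} φ := AddCommGrpCat.ofHom
    (via P φ.unop.left π.unop.hom π'.unop.hom (Over.w φ.unop) F q)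
  map_id π := by
    ext e
    exact viaFun_id P π.unop.hom _ F q e
  map_comp {π₁ π₂ π₃} φ ψ := by
    ext e
    exact (viaFun_trans P ψ.unop.left φ.unop.left (ψ.unop ≫ φ.unop).left rfl π₃.unop.hom
      π₂.unop.hom π₁.unop.hom _ _ _ F q e).symm

end Via

end Groth.Agent.Lib.Helper4.DescVia
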