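import Groth.Agent.Lib.Helper4.ExtAdj

set_option autoImplicit false
universe w w' v v' u u'
open CategoryTheory CategoryTheory.Limits

namespace Groth.Agent.Lib.Helper4.ExtShift
open Abelian Groth.Agent.Lib.Helper4.ExtAdj

section Xi

variable {A : Type u} [Category.{v} A] [Abelian A] [HasExt.{w} A]
  {B : Type u'} [Category.{v'} B] [Abelian B] [HasExt.{w'} B] [EnoughInjectives B]
  (R : B ⥤ A) [R.Additive] [PreservesFiniteLimits R] [PreservesFiniteColimits R]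
  {A₀ : A} {B₀ : B} (ζ : A₀ ⟶ R.obj B₀)

noncomputable def Ξ (F : B) (n : ℕ) (e : Ext.{w'} B₀ F n) : Ext.{w} A₀ (R.obj F) n :=
  (Ext.mk₀ ζ).comp (e.mapExactFunctor R) (zero_add n)

theorem Ξ_add (F : B) (n : ℕ) (e e' : Ext.{w'} B₀ F n) :
    Ξ R ζ F n (e + e') = Ξ R ζ F n e + Ξ R ζ F n e' := by
  unfold Ξ
  rw [Ext.mapExactFunctor_add, Ext.comp_add]

noncomputable def ΞHom (F : B) (n : ℕ) : Ext.{w'} B₀ F n →+ Ext.{w} A₀ (R.obj F) n :=
  AddMonoidHom.mk' (Ξ R ζ F n) (Ξ_add R ζ F n)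

theorem Ξ_mk₀ (F : B) (φ : B₀ ⟶ F) : Ξ R ζ F 0 (Ext.mk₀ φ) = Ext.mk₀ (ζ ≫ R.map φ) := by
  unfold Ξ
  rw [Ext.mapExactFunctor_mk₀, Ext.mk₀_comp_mk₀]

theorem Ξ_comp_mk₀ {F G : B} (φ : F ⟶ G) (n : ℕ) (e : Ext.{w'} B₀ F n) :
    Ξ R ζ G n (e.comp (Ext.mk₀ φ) (add_zero n)) =
      (Ξ R ζ F n e).comp (Ext.mk₀ (R.map φ)) (add_zero n) := by
  unfold Ξ
  rw [Ext.mapExactFunctor_comp, Ext.mapExactFunctor_mk₀, Ext.comp_assoc_of_third_deg_zero]

theorem Ξ_comp_extClass (S : ShortComplex B) (hS : S.ShortExact) (n : ℕ)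
    (e : Ext.{w'} B₀ S.X₃ n) :
    Ξ R ζ S.X₁ (n + 1) (e.comp hS.extClass rfl) =
      (Ξ R ζ S.X₃ n e).comp (hS.map_of_exact R).extClass rfl := by
  unfold Ξ
  rw [Ext.mapExactFunctor_comp, Ext.mapExactFunctor_extClass]
  exact (Ext.comp_assoc _ _ _ (zero_add n) rfl (by omega)).symm

theorem Ξ_succ_bijective
    (hvan : ∀ I : B, Injective I → ∀ (n : ℕ) (x : Ext.{w} A₀ (R.obj I) (n + 1)), x = 0)
    (n : ℕ) (IH : ∀ G : B, Function.Bijective (Ξ R ζ G n)) (F : B) :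
    Function.Bijective (Ξ R ζ F (n + 1)) := by
  let S := injSC F
  have hS : S.ShortExact := injSC_shortExact F
  have hS' : (S.map R).ShortExact := hS.map_of_exact R
  have hI := IH S.X₂
  have hQ := IH S.X₃
  constructor
  · change Function.Injective (ΞHom R ζ F (n + 1))
    rw [injective_iff_map_eq_zero]
    intro x hx
    change Ξ R ζ F (n + 1) x = 0 at hx
    have hx0 : x.comp (Ext.mk₀ S.f) (add_zero (n + 1)) = 0 := Ext.eq_zero_of_injective _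
    obtain ⟨z', hz'⟩ := Ext.covariant_sequence_exact₁ _ hS x hx0 rfl
    have h1 : (Ξ R ζ S.X₃ n z').comp hS'.extClass rfl = 0 := by
      rw [← Ξ_comp_extClass R ζ S hS n z', hz']
      exact hx
    obtain ⟨w, hw⟩ := Ext.covariant_sequence_exact₃ _ hS' (Ξ R ζ S.X₃ n z') rfl h1
    obtain ⟨w', rfl⟩ := hI.2 w
    have h2 : z' = w'.comp (Ext.mk₀ S.g) (add_zero n) := by
      apply hQ.1
      rw [← hw]
      exact (Ξ_comp_mk₀ R ζ S.g n w').symm
    rw [← hz', h2, Ext.comp_assoc_of_second_deg_zero]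
    exact (congrArg (fun e => Ext.comp w' e rfl) hS.comp_extClass).trans
      (Ext.comp_zero _ _ _ _ _)
  · intro y
    have hy0 : y.comp (Ext.mk₀ (S.map R).f) (add_zero (n + 1)) = 0 :=
      hvan S.X₂ inferInstance n _
    obtain ⟨z, hz⟩ := Ext.covariant_sequence_exact₁ _ hS' y hy0 rfl
    obtain ⟨z', rfl⟩ := hQ.2 z
    exact ⟨z'.comp hS.extClass rfl, (Ξ_comp_extClass R ζ S hS n z').trans hz⟩

theorem Ξ_bijective (h0 : ∀ F : B, Function.Bijective (Ξ R ζ F 0))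
    (hvan : ∀ I : B, Injective I → ∀ (n : ℕ) (x : Ext.{w} A₀ (R.obj I) (n + 1)), x = 0)
    (n : ℕ) (F : B) : Function.Bijective (Ξ R ζ F n) := by
  induction n generalizing F with
  | zero => exact h0 F
  | succ n IH => exact Ξ_succ_bijective R ζ hvan n IH F

noncomputable def ΞEquiv (h0 : ∀ F : B, Function.Bijective (Ξ R ζ F 0))
    (hvan : ∀ I : B, Injective I → ∀ (n : ℕ) (x : Ext.{w} A₀ (R.obj I) (n + 1)), x = 0)
    (F : B) (n : ℕ) : Ext.{w'} B₀ F n ≃+ Ext.{w} A₀ (R.obj F) n :=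
  AddEquiv.ofBijective (ΞHom R ζ F n) (Ξ_bijective R ζ h0 hvan n F)

end Xi

section ThetaPrime

variable {A : Type u} [Category.{v} A] [Abelian A] [HasExt.{w} A]
  {B : Type u'} [Category.{v'} B] [Abelian B] [HasExt.{w'} B] [EnoughInjectives B]
  {L : A ⥤ B} {R : B ⥤ A} (adj : L ⊣ R) [L.Additive] [PreservesFiniteLimits L]
  [PreservesFiniteColimits L] [R.Additive]

noncomputable def Θ' (A₀ : A) (F : B) (n : ℕ) (e : Ext.{w} A₀ (R.obj F) n) :
    Ext.{w'} (L.obj A₀) F n :=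
  (e.mapExactFunctor L).comp (Ext.mk₀ (adj.counit.app F)) (add_zero n)

theorem Θ'_add (A₀ : A) (F : B) (n : ℕ) (e e' : Ext.{w} A₀ (R.obj F) n) :
    Θ' adj A₀ F n (e + e') = Θ' adj A₀ F n e + Θ' adj A₀ F n e' := by
  unfold Θ'
  rw [Ext.mapExactFunctor_add, Ext.add_comp]

noncomputable def Θ'Hom (A₀ : A) (F : B) (n : ℕ) :
    Ext.{w} A₀ (R.obj F) n →+ Ext.{w'} (L.obj A₀) F n :=
  AddMonoidHom.mk' (Θ' adj A₀ F n) (Θ'_add adj A₀ F n)

theorem Θ'_mk₀ (A₀ : A) (F : B) (φ : A₀ ⟶ R.obj F) :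
    Θ' adj A₀ F 0 (Ext.mk₀ φ) = Ext.mk₀ ((adj.homEquiv A₀ F).symm φ) := by
  unfold Θ'
  rw [Ext.mapExactFunctor_mk₀, Ext.mk₀_comp_mk₀, Adjunction.homEquiv_counit]

theorem Θ'_zero_bijective (A₀ : A) (F : B) : Function.Bijective (Θ' adj A₀ F 0) := by
  constructor
  · intro x x' h
    obtain ⟨g, rfl⟩ := (Ext.mk₀_bijective _ _).2 x
    obtain ⟨g', rfl⟩ := (Ext.mk₀_bijective _ _).2 x'
    rw [Θ'_mk₀, Θ'_mk₀] at h
    rw [(adj.homEquiv A₀ F).symm.injective ((Ext.mk₀_bijective _ _).1 h)]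
  · intro y
    obtain ⟨k, rfl⟩ := (Ext.mk₀_bijective _ _).2 y
    refine ⟨Ext.mk₀ ((adj.homEquiv A₀ F) k), ?_⟩
    rw [Θ'_mk₀, Equiv.symm_apply_apply]

theorem Θ'_comp_mk₀ (A₀ : A) {F G : B} (φ : F ⟶ G) (n : ℕ) (e : Ext.{w} A₀ (R.obj F) n) :
    Θ' adj A₀ G n (e.comp (Ext.mk₀ (R.map φ)) (add_zero n)) =
      (Θ' adj A₀ F n e).comp (Ext.mk₀ φ) (add_zero n) := by
  unfold Θ'
  rw [Ext.mapExactFunctor_comp, Ext.mapExactFunctor_mk₀, Ext.comp_assoc_of_third_deg_zero,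
    Ext.comp_assoc_of_third_deg_zero, Ext.mk₀_comp_mk₀, Ext.mk₀_comp_mk₀]
  congr 2
  exact adj.counit.naturality φ

noncomputable def counitSC (S : ShortComplex B) : (S.map R).map L ⟶ S where
  τ₁ := adj.counit.app S.X₁
  τ₂ := adj.counit.app S.X₂
  τ₃ := adj.counit.app S.X₃
  comm₁₂ := (adj.counit.naturality S.f).symm
  comm₂₃ := (adj.counit.naturality S.g).symm

theorem Θ'_comp_extClass (A₀ : A) (S : ShortComplex B) (hS : S.ShortExact)
    (hRS : (S.map R).ShortExact) (n : ℕ) (e : Ext.{w} A₀ (S.map R).X₃ n) :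
    Θ' adj A₀ S.X₁ (n + 1) (e.comp hRS.extClass rfl) =
      (Θ' adj A₀ S.X₃ n e).comp hS.extClass rfl := by
  have hLRS : ((S.map R).map L).ShortExact := hRS.map_of_exact L
  have hnat : hLRS.extClass.comp (Ext.mk₀ (adj.counit.app S.X₁)) (add_zero 1) =
      (Ext.mk₀ (adj.counit.app S.X₃)).comp hS.extClass (zero_add 1) :=
    ShortComplex.ShortExact.extClass_naturality hLRS hS (counitSC adj S)
  unfold Θ'
  have e1 : (e.comp hRS.extClass rfl).mapExactFunctor L =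
      (e.mapExactFunctor L).comp hLRS.extClass rfl := by
    rw [Ext.mapExactFunctor_comp]
    exact congrArg (fun t => Ext.comp (e.mapExactFunctor L) t rfl)
      (Ext.mapExactFunctor_extClass L hRS)
  have step1 : ((e.mapExactFunctor L).comp hLRS.extClass rfl).comp
      (Ext.mk₀ (adj.counit.app S.X₁)) (add_zero (n + 1)) =
      (e.mapExactFunctor L).comp
        (hLRS.extClass.comp (Ext.mk₀ (adj.counit.app S.X₁)) (add_zero 1)) rfl :=
    Ext.comp_assoc_of_third_deg_zero _ _ _ _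
  have step2 : (e.mapExactFunctor L).comp
      ((Ext.mk₀ (adj.counit.app S.X₃)).comp hS.extClass (zero_add 1)) rfl =
      ((e.mapExactFunctor L).comp (Ext.mk₀ (adj.counit.app S.X₃)) (add_zero n)).comp
        hS.extClass rfl :=
    (Ext.comp_assoc_of_second_deg_zero _ _ _ _).symm
  exact (congrArg (fun t => Ext.comp t (Ext.mk₀ (adj.counit.app S.X₁)) (add_zero (n + 1))) e1).trans
    (step1.trans ((congrArg (fun t => Ext.comp (e.mapExactFunctor L) t rfl) hnat).trans step2))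

theorem Θ'_succ_bijective (𝒢 : B → Prop)
    (h1 : ∀ G : B, 𝒢 G → ((injSC G).map R).ShortExact)
    (h2 : ∀ G : B, 𝒢 G → 𝒢 (injSC G).X₃)
    (h3 : ∀ I : B, Injective I → 𝒢 I)
    (hinj : ∀ I : B, Injective I → Injective (R.obj I)) (A₀ : A) (n : ℕ)
    (IH : ∀ G : B, 𝒢 G → Function.Bijective (Θ' adj A₀ G n)) (F : B) (hF : 𝒢 F) :
    Function.Bijective (Θ' adj A₀ F (n + 1)) := by
  let S := injSC F
  have hS : S.ShortExact := injSC_shortExact F
  have hS' : (S.map R).ShortExact := h1 F hF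
  have hI := IH S.X₂ (h3 _ inferInstance)
  have hQ := IH S.X₃ (h2 F hF)
  have hinjI : Injective ((S.map R).X₂) := hinj S.X₂ inferInstance
  constructor
  · change Function.Injective (Θ'Hom adj A₀ F (n + 1))
    rw [injective_iff_map_eq_zero]
    intro x hx
    change Θ' adj A₀ F (n + 1) x = 0 at hx
    have hx0 : x.comp (Ext.mk₀ (S.map R).f) (add_zero (n + 1)) = 0 := Ext.eq_zero_of_injective _
    obtain ⟨z', hz'⟩ := Ext.covariant_sequence_exact₁ _ hS' x hx0 rfl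
    have h1' : (Θ' adj A₀ S.X₃ n z').comp hS.extClass rfl = 0 := by
      rw [← Θ'_comp_extClass adj A₀ S hS hS' n z', hz']
      exact hx
    obtain ⟨w, hw⟩ := Ext.covariant_sequence_exact₃ _ hS (Θ' adj A₀ S.X₃ n z') rfl h1'
    obtain ⟨w', rfl⟩ := hI.2 w
    have h2' : z' = w'.comp (Ext.mk₀ (S.map R).g) (add_zero n) := by
      apply hQ.1
      rw [← hw]
      exact (Θ'_comp_mk₀ adj A₀ S.g n w').symm
    rw [← hz', h2', Ext.comp_assoc_of_second_deg_zero]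
    exact (congrArg (fun e => Ext.comp w' e rfl) hS'.comp_extClass).trans
      (Ext.comp_zero _ _ _ _ _)
  · intro y
    have hy0 : y.comp (Ext.mk₀ S.f) (add_zero (n + 1)) = 0 := Ext.eq_zero_of_injective _
    obtain ⟨z, hz⟩ := Ext.covariant_sequence_exact₁ _ hS y hy0 rfl
    obtain ⟨z', rfl⟩ := hQ.2 z
    exact ⟨z'.comp hS'.extClass rfl, (Θ'_comp_extClass adj A₀ S hS hS' n z').trans hz⟩

theorem Θ'_bijective (𝒢 : B → Prop)
    (h1 : ∀ G : B, 𝒢 G → ((injSC G).map R).ShortExact)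
    (h2 : ∀ G : B, 𝒢 G → 𝒢 (injSC G).X₃)
    (h3 : ∀ I : B, Injective I → 𝒢 I)
    (hinj : ∀ I : B, Injective I → Injective (R.obj I)) (A₀ : A) (n : ℕ) (F : B) (hF : 𝒢 F) :
    Function.Bijective (Θ' adj A₀ F n) := by
  induction n generalizing F with
  | zero => exact Θ'_zero_bijective adj A₀ F
  | succ n IH => exact Θ'_succ_bijective adj 𝒢 h1 h2 h3 hinj A₀ n IH F hF

noncomputable def Θ'Equiv (𝒢 : B → Prop)
    (h1 : ∀ G : B, 𝒢 G → ((injSC G).map R).ShortExact)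
    (h2 : ∀ G : B, 𝒢 G → 𝒢 (injSC G).X₃)
    (h3 : ∀ I : B, Injective I → 𝒢 I)
    (hinj : ∀ I : B, Injective I → Injective (R.obj I)) (A₀ : A) (F : B) (hF : 𝒢 F) (n : ℕ) :
    Ext.{w} A₀ (R.obj F) n ≃+ Ext.{w'} (L.obj A₀) F n :=
  AddEquiv.ofBijective (Θ'Hom adj A₀ F n) (Θ'_bijective adj 𝒢 h1 h2 h3 hinj A₀ n F hF)

end ThetaPrime

end Groth.Agent.Lib.Helper4.ExtShift
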