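import Groth.Agent.Lib.Helper4.LHPull
import Groth.Agent.Lib.Helper4.ExtShift
import Groth.Agent.Lib.Helper4.DescVia
import Groth.Agent.Lib.Helper53.Flasque

set_option autoImplicit false
open CategoryTheory CategoryTheory.Limits Opposite TopologicalSpace

namespace Groth.Agent.Lib.Helper4.LHExt
universe u
open LHSec LHPull Abelian

variable {T S : TopCat.{u}} (g : T ⟶ S)

lemma mono_Zh_map {U U' : Opens T} (j : U ⟶ U') : Mono ((Zh g).map j) := by
  have h2 : ∀ V, Mono (((Zh g).map j).app V) := by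
    intro V
    have h3 : Mono (((hFun g).map j).app V) := by
      rw [mono_iff_injective]
      intro a b hab
      apply Sec.ext'
      intro v
      exact congrArg (fun r : Sec g U' V.unop => r.1 v) hab
    change Mono (AddCommGrpCat.free.map (((hFun g).map j).app V))
    infer_instance
  exact NatTrans.mono_of_mono_app _

theorem isFlasque_Nfun (Q : CohTop.Ab S) [Injective Q] :
    TopCat.Sheaf.IsFlasque ((Nfun g).obj Q) where
  epi {U V} i := by
    have : (presheafToSheaf (Opens.grothendieckTopology S)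
        AddCommGrpCat.{u}).PreservesMonomorphisms := inferInstance
    have : Injective Q.obj :=
      Injective.injective_of_adjoint
        (sheafificationAdjunction (Opens.grothendieckTopology S) AddCommGrpCat.{u}) Q
    have := mono_Zh_map g i.unop
    refine (AddCommGrpCat.epi_iff_surjective _).mpr (fun τ => ?_)
    obtain ⟨τ', hτ'⟩ : ∃ τ' : Nsec (g := g) Q U.unop,
        (Zh g).map i.unop ≫ τ' = (show Nsec (g := g) Q V.unop from τ) :=
      @Injective.factors _ _ Q.obj _ (ZhObj g V.unop) (ZhObj g U.unop)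
        (show Nsec (g := g) Q V.unop from τ) ((Zh g).map i.unop) (mono_Zh_map g i.unop)
    exact ⟨τ', hτ'⟩

noncomputable abbrev ZT (T : TopCat.{u}) : CohTop.Ab T :=
  (constantSheaf (Opens.grothendieckTopology T) AddCommGrpCat.{u}).obj
    (AddCommGrpCat.of (ULift.{u} ℤ))

theorem hvan (I : CohTop.Ab S) [Injective I] (n : ℕ)
    (x : Ext.{u} (ZT T) ((Nfun g).obj I) (n + 1)) : x = 0 := by
  have := isFlasque_Nfun g I
  have := Groth.Agent.Lib.Helper53.subsingleton_H_succ ((Nfun g).obj I) n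
  exact Subsingleton.elim (α := CohTop.H ((Nfun g).obj I) (n + 1)) x 0

noncomputable abbrev B0 : CohTop.Ab S :=
  (presheafToSheaf (Opens.grothendieckTopology S) AddCommGrpCat.{u}).obj (ZhObj g ⊤)

abbrev hTop (T : TopCat.{u}) : IsTerminal (⊤ : Opens T) := isTerminalTop

noncomputable def unitSec : ((Nfun g).obj (B0 g)).obj.obj (op ⊤) :=
  (toSheafify (Opens.grothendieckTopology S) (ZhObj g ⊤) : Nsec (g := g) (B0 g) ⊤)

noncomputable def ζ : ZT T ⟶ (Nfun g).obj (B0 g) :=
  Ext.homEquiv₀ ((Sheaf.H.equiv₀ ((Nfun g).obj (B0 g)) (hTop T)).symm (unitSec g))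

theorem mk₀_ζ : Ext.mk₀ (ζ g) =
    (Sheaf.H.equiv₀ ((Nfun g).obj (B0 g)) (hTop T)).symm (unitSec g) := by
  unfold ζ
  rw [Ext.mk₀_homEquiv₀_apply]

section

variable [(Nfun g).Additive] [PreservesFiniteLimits (Nfun g)] [PreservesFiniteColimits (Nfun g)]

theorem equiv₀_Ξ (N : CohTop.Ab S) (φ : B0 g ⟶ N) :
    Sheaf.H.equiv₀ ((Nfun g).obj N) (hTop T) (ExtShift.Ξ (Nfun g) (ζ g) N 0 (Ext.mk₀ φ)) =
      (toSheafify (Opens.grothendieckTopology S) (ZhObj g ⊤) ≫ φ.hom : Nsec (g := g) N ⊤) := by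
  rw [ExtShift.Ξ_mk₀, ← Ext.mk₀_comp_mk₀]
  have h := Sheaf.H.equiv₀_naturality (hTop T) ((Nfun g).map φ) (Ext.mk₀ (ζ g))
  rw [Sheaf.H.map_apply] at h
  rw [← h, mk₀_ζ, AddEquiv.apply_symm_apply]
  rfl

theorem Ξ_zero_bijective (N : CohTop.Ab S) :
    Function.Bijective (ExtShift.Ξ (Nfun g) (ζ g) N 0) := by
  let adj := sheafificationAdjunction (Opens.grothendieckTopology S) AddCommGrpCat.{u}
  have hadj : ∀ φ : B0 g ⟶ N, adj.homEquiv (ZhObj g ⊤) N φ =
      toSheafify (Opens.grothendieckTopology S) (ZhObj g ⊤) ≫ φ.hom := fun φ => by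
    rw [Adjunction.homEquiv_unit]
    rfl
  constructor
  · intro e e' h
    obtain ⟨φ, rfl⟩ := (Ext.mk₀_bijective _ _).2 e
    obtain ⟨φ', rfl⟩ := (Ext.mk₀_bijective _ _).2 e'
    have h' := congrArg (Sheaf.H.equiv₀ ((Nfun g).obj N) (hTop T)) h
    rw [equiv₀_Ξ, equiv₀_Ξ, ← hadj, ← hadj] at h'
    rw [(adj.homEquiv _ _).injective h']
  · intro y
    let τ : Nsec (g := g) N ⊤ := Sheaf.H.equiv₀ ((Nfun g).obj N) (hTop T) y
    refine ⟨Ext.mk₀ ((adj.homEquiv (ZhObj g ⊤) N).symm τ), ?_⟩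
    apply (Sheaf.H.equiv₀ ((Nfun g).obj N) (hTop T)).injective
    rw [equiv₀_Ξ, ← hadj, Equiv.apply_symm_apply]

noncomputable def extEquivN (F : CohTop.Ab S) (n : ℕ) :
    Ext.{u} (B0 g) F n ≃+ Ext.{u} (ZT T) ((Nfun g).obj F) n :=
  ExtShift.ΞEquiv (Nfun g) (ζ g) (Ξ_zero_bijective g)
    (fun I _ n x => hvan g I n x) F n

end

theorem nonempty_extEquiv (hg : IsOpenMap g.hom)
    (hinj : ∀ t : T, ∃ W : Opens T, t ∈ W ∧ Set.InjOn g.hom (W : Set T))
    (F : CohTop.Ab S) (n : ℕ) :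
    Nonempty (Ext.{u} (B0 g) F n ≃+ CohTop.H ((CohTop.pull g).obj F) n) := by
  have := CohPull.additive_pull g
  have := CohPull.preservesFiniteLimits_pull g
  have := CohPull.preservesFiniteColimits_pull g
  have : (Nfun g).Additive := Functor.additive_of_iso (pullIso g hg hinj)
  have : PreservesFiniteLimits (Nfun g) := preservesFiniteLimits_of_natIso (pullIso g hg hinj)
  have : PreservesFiniteColimits (Nfun g) := preservesFiniteColimits_of_natIso (pullIso g hg hinj)
  exact ⟨(extEquivN g F n).trans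
    (DescVia.postEquiv ((pullIso g hg hinj).symm.app F) n)⟩

end Groth.Agent.Lib.Helper4.LHExt
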