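import Groth.Agent.Lib.Helper4.LHCech
import Mathlib.CategoryTheory.Limits.Shapes.ConcreteCategory
import Mathlib.Topology.Category.TopCat.Limits.Basic
import Mathlib.Topology.IsLocalHomeomorph

set_option autoImplicit false
open CategoryTheory CategoryTheory.Limits Opposite TopologicalSpace

namespace Groth.Agent.Lib.Helper4.LHWide
universe u
open LHSec LHCech

section General

variable {T S : TopCat.{u}} (g : T ⟶ S)

lemma isOpenMap_of_sections
    (h : ∀ t : T, ∃ (V : Opens S) (s : Sec g ⊤ V) (hv : g.hom t ∈ V), s.1 ⟨g.hom t, hv⟩ = t) :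
    IsOpenMap g.hom := by
  intro O hO
  rw [isOpen_iff_mem_nhds]
  rintro _ ⟨t, htO, rfl⟩
  obtain ⟨V, s, hv, hs⟩ := h t
  have hopen : IsOpen (Subtype.val '' (s.1 ⁻¹' O) : Set S) :=
    V.2.isOpenMap_subtype_val _ (hO.preimage s.1.continuous)
  have hmem : g.hom t ∈ (Subtype.val '' (s.1 ⁻¹' O) : Set S) :=
    ⟨⟨g.hom t, hv⟩, by
      change s.1 ⟨g.hom t, hv⟩ ∈ O
      rw [hs]
      exact htO, rfl⟩
  refine Filter.mem_of_superset (hopen.mem_nhds hmem) ?_
  rintro _ ⟨v, hvO, rfl⟩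
  exact ⟨s.1 v, hvO, s.2.1 v⟩

lemma exists_injOn_of_isLocalHomeomorph (hg : IsLocalHomeomorph g.hom) (t : T) :
    ∃ W : Opens T, t ∈ W ∧ Set.InjOn g.hom (W : Set T) := by
  obtain ⟨e, he, hge⟩ := hg t
  refine ⟨⟨e.source, e.open_source⟩, he, ?_⟩
  rw [hge]
  exact e.injOn

end General

section Wide

variable {X S : TopCat.{u}} (f : X ⟶ S) (p : ℕ)

noncomputable abbrev Xp : TopCat.{u} := widePullback S (fun _ : Fin (p + 1) => X) (fun _ => f)

noncomputable abbrev fp : Xp f p ⟶ S := WidePullback.base (fun _ : Fin (p + 1) => f)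

noncomputable abbrev pr (k : Fin (p + 1)) : Xp f p ⟶ X :=
  WidePullback.π (fun _ : Fin (p + 1) => f) k

lemma pr_fp (k : Fin (p + 1)) : pr f p k ≫ f = fp f p := WidePullback.π_arrow _ k

lemma pr_fp_apply (k : Fin (p + 1)) (w : Xp f p) : f.hom ((pr f p k).hom w) = (fp f p).hom w :=
  congrArg (fun t => t.hom w) (pr_fp f p k)

abbrev ιV (V : Opens S) : TopCat.of V ⟶ S := TopCat.ofHom ⟨Subtype.val, continuous_subtype_val⟩

noncomputable def toTuple {V : Opens S} (s : Sec (fp f p) ⊤ V) (k : Fin (p + 1)) : Sec f ⊤ V :=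
  ⟨(pr f p k).hom.comp s.1, fun v => (pr_fp_apply f p k (s.1 v)).trans (s.2.1 v),
    fun _ => trivial⟩

noncomputable def liftT {V : Opens S} (t : Fin (p + 1) → Sec f ⊤ V) : TopCat.of V ⟶ Xp f p :=
  WidePullback.lift (ιV V) (fun k => (TopCat.ofHom (t k).1 : TopCat.of V ⟶ X)) (fun k => by
    ext v
    exact (t k).2.1 v)

lemma liftT_pr {V : Opens S} (t : Fin (p + 1) → Sec f ⊤ V) (k : Fin (p + 1)) :
    liftT f p t ≫ pr f p k = (TopCat.ofHom (t k).1 : TopCat.of V ⟶ X) :=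
  WidePullback.lift_π _ _ _ _ _

lemma liftT_fp {V : Opens S} (t : Fin (p + 1) → Sec f ⊤ V) :
    liftT f p t ≫ fp f p = ιV V :=
  WidePullback.lift_base _ _ _ _

noncomputable def ofTuple {V : Opens S} (t : Fin (p + 1) → Sec f ⊤ V) : Sec (fp f p) ⊤ V :=
  ⟨(liftT f p t).hom, fun v => congrArg (fun r => r.hom v) (liftT_fp f p t), fun _ => trivial⟩

lemma toTuple_ofTuple {V : Opens S} (t : Fin (p + 1) → Sec f ⊤ V) :
    toTuple f p (ofTuple f p t) = t := by
  funext k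
  apply Sec.ext'
  intro v
  exact congrArg (fun r => r.hom v) (liftT_pr f p t k)

lemma ofTuple_toTuple {V : Opens S} (s : Sec (fp f p) ⊤ V) :
    ofTuple f p (toTuple f p s) = s := by
  apply Sec.ext'
  intro v
  have h : liftT f p (toTuple f p s) = (TopCat.ofHom s.1 : TopCat.of V ⟶ Xp f p) := by
    apply WidePullback.hom_ext
    · intro k
      rw [liftT_pr]
      rfl
    · rw [liftT_fp]
      ext v
      exact (s.2.1 v).symm
  exact congrArg (fun r => r.hom v) h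

noncomputable def secIso : hU (fp f p) ⊤ ≅ Pn f p :=
  NatIso.ofComponents
    (fun V => Equiv.toIso
      { toFun := toTuple f p (V := V.unop)
        invFun := ofTuple f p (V := V.unop)
        left_inv := ofTuple_toTuple f p
        right_inv := toTuple_ofTuple f p })
    (fun {V V'} i => rfl)

noncomputable def wIso : ZhObj (fp f p) ⊤ ≅ (K f).X p :=
  Functor.isoWhiskerRight (secIso f p) AddCommGrpCat.free

end Wide

section Geo

variable {X S : TopCat.{u}} (f : X ⟶ S) (p : ℕ)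

lemma xp_ext (w w' : Xp f p) (h : ∀ k, (pr f p k).hom w = (pr f p k).hom w') : w = w' :=
  Concrete.widePullback_ext' (fun _ : Fin (p + 1) => f) w w' h

variable (hf : IsOpenMap f.hom)
  (hinj : ∀ x : X, ∃ W : Opens X, x ∈ W ∧ Set.InjOn f.hom (W : Set X))

include hinj in
lemma fp_injOn (w : Xp f p) :
    ∃ W : Opens (Xp f p), w ∈ W ∧ Set.InjOn (fp f p).hom (W : Set (Xp f p)) := by
  choose Wk hWk1 hWk2 using fun k : Fin (p + 1) => hinj ((pr f p k).hom w)
  refine ⟨⟨⋂ k, (pr f p k).hom ⁻¹' (Wk k : Set X),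
    isOpen_iInter_of_finite (fun k => (Wk k).2.preimage (pr f p k).hom.continuous)⟩, ?_, ?_⟩
  · exact Set.mem_iInter.2 (fun k => hWk1 k)
  · intro a ha b hb hab
    apply xp_ext
    intro k
    apply hWk2 k (Set.mem_iInter.1 ha k) (Set.mem_iInter.1 hb k)
    rw [pr_fp_apply, pr_fp_apply]
    exact hab

include hf hinj in
lemma fp_sections (w : Xp f p) :
    ∃ (V : Opens S) (s : Sec (fp f p) ⊤ V) (hv : (fp f p).hom w ∈ V),
      s.1 ⟨(fp f p).hom w, hv⟩ = w := by
  choose Wk hWk1 hWk2 using fun k : Fin (p + 1) => hinj ((pr f p k).hom w)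
  let V : Opens S := ⟨⋂ k, (hf.functor.obj (Wk k) : Set S),
    isOpen_iInter_of_finite (fun k => (hf.functor.obj (Wk k)).2)⟩
  have hVle : ∀ k, V ≤ hf.functor.obj (Wk k) := fun k x hx => Set.mem_iInter.1 hx k
  have hv : (fp f p).hom w ∈ V := by
    refine Set.mem_iInter.2 (fun k => ?_)
    exact ⟨(pr f p k).hom w, hWk1 k, pr_fp_apply f p k w⟩
  let t : Fin (p + 1) → Sec f ⊤ V := fun k =>
    (Sec.inv f hf (Wk k) (hWk2 k)).resTo (hVle k) (fun _ => trivial)
  refine ⟨V, ofTuple f p t, hv, ?_⟩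
  apply xp_ext
  intro k
  have h1 : (pr f p k).hom ((ofTuple f p t).1 ⟨(fp f p).hom w, hv⟩) =
      (t k).1 ⟨(fp f p).hom w, hv⟩ :=
    congrArg (fun r : Sec f ⊤ V => r.1 ⟨(fp f p).hom w, hv⟩)
      (congrFun (toTuple_ofTuple f p t) k)
  rw [h1]
  apply hWk2 k ((Sec.inv f hf (Wk k) (hWk2 k)).2.2 _) (hWk1 k)
  rw [pr_fp_apply]
  exact (Sec.inv f hf (Wk k) (hWk2 k)).2.1 _

include hf hinj in
lemma isOpenMap_fp : IsOpenMap (fp f p).hom :=
  isOpenMap_of_sections (fp f p) (fp_sections f p hf hinj)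

end Geo

end Groth.Agent.Lib.Helper4.LHWide
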