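import Groth.Agent.Lib.Helper4.LHCech2
import Groth.Agent.Lib.Helper4.LHExt
import Groth.Agent.Lib.Helper4.LHWide
import Groth.Agent.Lib.Helper4.E1SS
import Groth.Agent.Lib.Helper68.ExtRD

set_option autoImplicit false
open CategoryTheory CategoryTheory.Limits Opposite TopologicalSpace

namespace Groth.Agent.Lib.Helper4.LHAbut
universe u
open LHSec LHCech LHExt LHWide Abelian

variable {X S : TopCat.{u}} (f : X ⟶ S)

noncomputable def e2 (M : CohTop.Ab S) : M.obj.obj (op ⊤) ≃+ (ZT S ⟶ M) :=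
  (Sheaf.H.equiv₀ M (hTop S)).symm.trans Ext.addEquiv₀

lemma e2_naturality {M M' : CohTop.Ab S} (φ : M ⟶ M') (m : M.obj.obj (op ⊤)) :
    e2 M' ((φ.hom.app (op ⊤)).hom m) = e2 M m ≫ φ := by
  unfold e2
  simp only [AddEquiv.trans_apply]
  have h1 := Sheaf.H.equiv₀_symm_naturality (hTop S) φ m
  have h2 := Sheaf.H.addEquiv₀_map φ ((Sheaf.H.equiv₀ M (hTop S)).symm m)
  rw [← h2, h1]

section Abut

variable (hcov : ∀ x : S, ∃ V : Opens S, x ∈ V ∧ Nonempty ((XX f).obj (op V)))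

noncomputable def etaIso (M : CohTop.Ab S) :
    M.obj.obj (op ⊤) ≅ (TT f ⋙ ChDer.S0.{u}).obj M :=
  @asIso _ _ _ _ (etaHom f M) (isIso_etaHom f hcov M)

noncomputable def gsecIso :
    (sheafSections (Opens.grothendieckTopology S) AddCommGrpCat.{u}).obj (op ⊤) ≅
      TT f ⋙ ChDer.S0.{u} :=
  NatIso.ofComponents (fun M => etaIso f hcov M) (fun {M M'} φ => (etaHom_naturality f φ).symm)

noncomputable def θ0 (M : CohTop.Ab S) : (TT f ⋙ ChDer.S0.{u}).obj M ≃+ (ZT S ⟶ M) :=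
  (etaIso f hcov M).symm.addCommGroupIsoToAddEquiv.trans (e2 M)

lemma θ0_naturality {M M' : CohTop.Ab S} (φ : M ⟶ M') (x : (TT f ⋙ ChDer.S0.{u}).obj M) :
    θ0 f hcov M' ((TT f ⋙ ChDer.S0.{u}).map φ x) = θ0 f hcov M x ≫ φ := by
  obtain ⟨m, rfl⟩ : ∃ m, (etaIso f hcov M).hom m = x :=
    ⟨(etaIso f hcov M).inv x, by
      rw [← ConcreteCategory.comp_apply, Iso.inv_hom_id]
      rfl⟩
  have h1 : (TT f ⋙ ChDer.S0.{u}).map φ ((etaIso f hcov M).hom m) =
      (etaIso f hcov M').hom ((φ.hom.app (op ⊤)).hom m) :=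
    congrArg (fun t => t.hom m) (etaHom_naturality f φ)
  rw [h1]
  have h3 : ∀ (N : CohTop.Ab S) (n : N.obj.obj (op ⊤)),
      θ0 f hcov N ((etaIso f hcov N).hom n) = e2 N n := by
    intro N n
    unfold θ0
    rw [AddEquiv.trans_apply]
    congr 1
    change (etaIso f hcov N).inv ((etaIso f hcov N).hom n) = n
    rw [← ConcreteCategory.comp_apply, Iso.hom_inv_id]
    rfl
  rw [h3, h3]
  exact e2_naturality φ m

include hcov in
theorem nonempty_abut (F : CohTop.Ab S) (n : ℕ) :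
    Nonempty (((TT f ⋙ ChDer.S0.{u}).rightDerived n).obj F ≅
      AddCommGrpCat.of (CohTop.H F n)) := by
  have : PreservesLimits
      ((sheafSections (Opens.grothendieckTopology S) AddCommGrpCat.{u}).obj (op ⊤)) :=
    (CohPull.adjZ S).rightAdjoint_preservesLimits
  have : PreservesFiniteLimits (TT f ⋙ ChDer.S0.{u}) :=
    preservesFiniteLimits_of_natIso (gsecIso f hcov)
  exact Groth.Agent.Lib.Helper68.ExtRD.nonempty_iso (TT f ⋙ ChDer.S0.{u}) (ZT S)
    (θ0 f hcov) (fun φ x => θ0_naturality f hcov φ x) F n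

end Abut

section E1

variable (p : ℕ)

noncomputable def evIso : TT f ⋙ E1SS.ev.{u} p ≅
    sheafToPresheaf (Opens.grothendieckTopology S) AddCommGrpCat.{u} ⋙
      preadditiveCoyoneda.obj (op ((K f).X p)) :=
  NatIso.ofComponents (fun M => Iso.refl _) (fun {M M'} φ => by
    apply AddCommGrpCat.hom_ext
    apply AddMonoidHom.ext
    intro x
    rfl)

lemma pfl_ev : PreservesFiniteLimits (TT f ⋙ E1SS.ev.{u} p) :=
  preservesFiniteLimits_of_natIso (evIso f p).symm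

noncomputable def precompEquiv {𝒟 : Type (u + 1)} [Category.{u} 𝒟] [Preadditive 𝒟] {A B : 𝒟}
    (e : A ≅ B) (G : 𝒟) : (B ⟶ G) ≃+ (A ⟶ G) where
  toFun τ := e.hom ≫ τ
  invFun σ := e.inv ≫ σ
  left_inv τ := by simp
  right_inv σ := by simp
  map_add' τ τ' := Preadditive.comp_add _ _ _ _ _ _

noncomputable abbrev sadj :=
  sheafificationAdjunction (Opens.grothendieckTopology S) AddCommGrpCat.{u}

noncomputable def θp (M : CohTop.Ab S) :
    (TT f ⋙ E1SS.ev.{u} p).obj M ≃+ (B0 (fp f p) ⟶ M) :=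
  (precompEquiv (wIso f p) M.obj).trans
    ((sadj (S := S)).homAddEquiv (ZhObj (fp f p) ⊤) M).symm

lemma θp_naturality {M M' : CohTop.Ab S} (φ : M ⟶ M') (x : (TT f ⋙ E1SS.ev.{u} p).obj M) :
    θp f p M' ((TT f ⋙ E1SS.ev.{u} p).map φ x) = θp f p M x ≫ φ := by
  change ((sadj (S := S)).homEquiv (ZhObj (fp f p) ⊤) M').symm
      ((wIso f p).hom ≫ (show (K f).X p ⟶ M.obj from x) ≫ φ.hom) =
    ((sadj (S := S)).homEquiv (ZhObj (fp f p) ⊤) M).symm
      ((wIso f p).hom ≫ (show (K f).X p ⟶ M.obj from x)) ≫ φ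
  rw [← Category.assoc]
  exact Adjunction.homEquiv_naturality_right_symm _ _ _

theorem nonempty_e1 (hf : IsOpenMap f.hom)
    (hinj : ∀ x : X, ∃ W : Opens X, x ∈ W ∧ Set.InjOn f.hom (W : Set X))
    (F : CohTop.Ab S) (q : ℕ) :
    Nonempty (((TT f ⋙ E1SS.ev.{u} p).rightDerived q).obj F ≅
      AddCommGrpCat.of (CohTop.H ((CohTop.pull (fp f p)).obj F) q)) := by
  have := pfl_ev f p
  obtain ⟨i1⟩ := Groth.Agent.Lib.Helper68.ExtRD.nonempty_iso (TT f ⋙ E1SS.ev.{u} p)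
    (B0 (fp f p)) (θp f p) (fun φ x => θp_naturality f p φ x) F q
  obtain ⟨i2⟩ := nonempty_extEquiv (fp f p) (isOpenMap_fp f p hf hinj) (fp_injOn f p hinj) F q
  exact ⟨i1 ≪≫ i2.toAddCommGrpIso⟩

end E1

section Cov

include f in
lemma hcov_of_surjective (hf : IsOpenMap f.hom)
    (hinj : ∀ x : X, ∃ W : Opens X, x ∈ W ∧ Set.InjOn f.hom (W : Set X))
    (hsurj : Function.Surjective f.hom) :
    ∀ x : S, ∃ V : Opens S, x ∈ V ∧ Nonempty ((XX f).obj (op V)) := by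
  intro x
  obtain ⟨t, rfl⟩ := hsurj x
  obtain ⟨W, htW, hW⟩ := hinj t
  exact ⟨hf.functor.obj W, ⟨t, htW, rfl⟩,
    ⟨(Sec.inv f hf W hW).resTo (le_refl _) (fun _ => trivial)⟩⟩

end Cov

end Groth.Agent.Lib.Helper4.LHAbut
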