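import Groth.Agent.Lib.Helper4.CCProdCoh
import Groth.Agent.Lib.Helper4.CCRes
import Groth.Agent.Lib.Helper4.ResSS
import Groth.Agent.Lib.Helper4.LHAbut

set_option autoImplicit false
open CategoryTheory CategoryTheory.Limits TopologicalSpace Opposite Abelian

namespace Groth.Agent.Lib.Helper4.CCFinal
universe u
open CCBase CCExact CCLocal CCRes CCProd

variable {X : TopCat.{u}} {I : Type u} (U : I → Set X)

lemma isClosed_Zc (hU : ∀ i, IsClosed (U i)) {n : ℕ} (σ : Fin n → I) : IsClosed (Zc U σ) :=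
  isClosed_iInter (fun k => hU (σ k))

lemma locallyFinite_Zc (hlf : LocallyFinite U) (n : ℕ) :
    LocallyFinite (fun σ : Fin (n + 1) → I => Zc U σ) := by
  intro x
  obtain ⟨N, hN, hfin⟩ := hlf x
  refine ⟨N, hN, ?_⟩
  have hpi : (Set.pi Set.univ (fun _ : Fin (n + 1) => {i | (U i ∩ N).Nonempty})).Finite :=
    Set.Finite.pi (fun _ => hfin)
  refine hpi.subset ?_
  rintro σ ⟨z, hz, hzN⟩ k _
  exact ⟨z, Set.mem_iInter.1 hz k, hzN⟩

noncomputable abbrev Γ (X : TopCat.{u}) : CohTop.Ab X ⥤ AddCommGrpCat.{u} :=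
  (sheafSections (Opens.grothendieckTopology X) AddCommGrpCat.{u}).obj (op ⊤)

instance : (Γ X).Additive where

noncomputable instance : PreservesLimits (Γ X) :=
  (CohPull.adjZ X).rightAdjoint_preservesLimits

theorem nonempty_rd_iso (F : CohTop.Ab X) (n : ℕ) :
    Nonempty (((Γ X).rightDerived n).obj F ≅ AddCommGrpCat.of (CohTop.H F n)) :=
  Groth.Agent.Lib.Helper68.ExtRD.nonempty_iso (Γ X) (LHExt.ZT X)
    (fun M => LHAbut.e2 M) (fun φ x => LHAbut.e2_naturality φ x) F n

section E1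

variable (hU : ∀ i, IsClosed (U i)) (hlf : LocallyFinite U) (F : CohTop.Ab X)

include hU hlf in
theorem nonempty_e1 (m q : ℕ) :
    Nonempty (((Γ X).rightDerived q).obj ((K U F).X m) ≅
      AddCommGrpCat.of (∀ σ : Fin (m + 1) → I,
        CohTop.H ((CohTop.pull (incl (⋂ k, U (σ k)))).obj F) q)) := by
  obtain ⟨i1⟩ := nonempty_rd_iso ((K U F).X m) q
  have hZ : ∀ σ : Fin (m + 1) → I, Topology.IsClosedEmbedding (incl (Zc U σ)) := fun σ =>
    isClosedEmbedding_incl (isClosed_Zc U hU σ)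
  have hlf' : LocallyFinite (fun σ : Fin (m + 1) → I => Set.range (incl (Zc U σ))) := by
    have h := locallyFinite_Zc U hlf m
    have he : (fun σ : Fin (m + 1) → I => Set.range (incl (Zc U σ))) =
        (fun σ : Fin (m + 1) → I => Zc U σ) := by
      funext σ
      exact Subtype.range_coe
    rw [he]
    exact h
  obtain ⟨e⟩ := nonempty_H_equiv (Y := fun σ : Fin (m + 1) → I => TopCat.of (Zc U σ))
    (fun σ => incl (Zc U σ)) hZ hlf' q (fun σ => (CohTop.pull (incl (Zc U σ))).obj F)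
  exact ⟨i1 ≪≫ e.toAddCommGrpIso⟩

end E1

end Groth.Agent.Lib.Helper4.CCFinal
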