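import Groth.Agent.Lib.Helper4.CCExact

set_option autoImplicit false
open CategoryTheory CategoryTheory.Limits TopologicalSpace Opposite

namespace Groth.Agent.Lib.Helper4.CCLocal
universe u
open CCBase CCExact

variable {X : TopCat.{u}} {I : Type u} (U : I → Set X)

lemma local_data (hU : ∀ i, IsClosed (U i)) (hlf : LocallyFinite U) (x : X) :
    ∃ (V0 : Opens X) (J : Set I), x ∈ V0 ∧ J.Finite ∧ (∀ i ∈ J, x ∈ U i) ∧
      ∀ i, i ∉ J → (V0 : Set X) ∩ U i = ∅ := by
  obtain ⟨N, hN, hfin⟩ := hlf x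
  let J0 : Set I := {i | (U i ∩ N).Nonempty}
  let B : Set I := {i | i ∈ J0 ∧ x ∉ U i}
  have hBfin : B.Finite := hfin.subset (fun i hi => hi.1)
  have hC : IsClosed (⋃ i ∈ B, U i) := hBfin.isClosed_biUnion (fun i _ => hU i)
  refine ⟨⟨interior N ∩ (⋃ i ∈ B, U i)ᶜ, isOpen_interior.inter hC.isOpen_compl⟩,
    {i | i ∈ J0 ∧ x ∈ U i}, ⟨mem_interior_iff_mem_nhds.2 hN, ?_⟩,
    hfin.subset (fun i hi => hi.1), fun i hi => hi.2, ?_⟩
  · simp only [Set.mem_compl_iff, Set.mem_iUnion, not_exists]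
    intro i hi hx
    exact hi.2 hx
  · intro i hi
    rw [Set.eq_empty_iff_forall_notMem]
    rintro y ⟨⟨hyN, hyC⟩, hyU⟩
    by_cases h0 : i ∈ J0
    · have hxi : x ∉ U i := fun hx => hi ⟨h0, hx⟩
      exact hyC (Set.mem_biUnion (show i ∈ B from ⟨h0, hxi⟩) hyU)
    · exact h0 ⟨y, hyU, interior_subset hyN⟩

def iInfFin {ι : Type*} [Finite ι] (W : ι → Opens X) : Opens X :=
  ⟨⋂ i, (W i : Set X), isOpen_iInter_of_finite (fun i => (W i).isOpen)⟩

lemma iInfFin_le {ι : Type*} [Finite ι] (W : ι → Opens X) (i : ι) : iInfFin W ≤ W i :=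
  fun _ hy => Set.mem_iInter.1 hy i

lemma mem_iInfFin {ι : Type*} [Finite ι] {W : ι → Opens X} {x : X} (h : ∀ i, x ∈ W i) :
    x ∈ iInfFin W := Set.mem_iInter.2 h

lemma cons_comp_succAbove_zero {n : ℕ} (a : I) (f : Fin n → I) :
    (Fin.cons a f : Fin (n + 1) → I) ∘ Fin.succAbove 0 = f := by
  funext l
  simp [Fin.succAbove_zero]

lemma cons_comp_succAbove_succ {n : ℕ} (a : I) (f : Fin (n + 1) → I) (k : Fin (n + 1)) :
    (Fin.cons a f : Fin (n + 2) → I) ∘ Fin.succAbove k.succ =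
      Fin.cons a (f ∘ Fin.succAbove k) := by
  funext l
  refine Fin.cases ?_ (fun l => ?_) l
  · simp
  · simp [Fin.succ_succAbove_succ]

section Main

variable (F : CohTop.Ab X)

lemma Zc_cons_sub {n : ℕ} (a : I) (f : Fin n → I) : Zc U (Fin.cons a f : Fin (n + 1) → I) ⊆ Zc U f := by
  intro y hy
  refine Set.mem_iInter.2 (fun k => ?_)
  have := Set.mem_iInter.1 hy k.succ
  simpa using this

theorem local_exact (hU : ∀ i, IsClosed (U i)) (hlf : LocallyFinite U)
    (hcov : ⋃ i, U i = Set.univ) (n : ℕ) (V : Opens X) (s : sec (KA U F (n + 1)) V)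
    (hs : secMap (dA U F (n + 1)) V s = 0) (x : X) (hx : x ∈ V) :
    ∃ (W : Opens X) (hW : W ≤ V), x ∈ W ∧
      ∃ t : sec (KA U F n) W, secMap (dA U F n) W t = res (KA U F (n + 1)) hW s := by
  obtain ⟨V0, J, hxV0, hJfin, hJx, hJempty⟩ := local_data U hU hlf x
  obtain ⟨i0, hi0⟩ : ∃ i0, i0 ∈ J := by
    have : x ∈ ⋃ i, U i := hcov ▸ Set.mem_univ x
    obtain ⟨i, hi⟩ := Set.mem_iUnion.1 this
    refine ⟨i, ?_⟩
    by_contra hcon
    have h := hJempty i hcon
    have : x ∈ (V0 : Set X) ∩ U i := ⟨hxV0, hi⟩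
    rw [h] at this
    exact this
  haveI : Finite J := hJfin.to_subtype
  have hxZ : ∀ {m : ℕ} (τ : Fin m → J), x ∈ Zc U (fun k => (τ k).1) :=
    fun τ => Set.mem_iInter.2 (fun k => hJx _ (τ k).2)
  have hxZ0 : ∀ {m : ℕ} (τ : Fin m → J),
      x ∈ Zc U (Fin.cons i0 (fun k => (τ k).1) : Fin (m + 1) → I) := by
    intro m τ
    refine Set.mem_iInter.2 (fun k => ?_)
    refine Fin.cases ?_ (fun k => ?_) k
    · simpa using hJx _ hi0
    · simpa using hJx _ (τ k).2
  have hempty : ∀ {m : ℕ} (σ : Fin m → I), (¬ ∀ k, σ k ∈ J) → ∀ W : Opens X, W ≤ V0 →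
      Subsingleton (sec (R (Zc U σ) F) W) := by
    intro m σ hσ W hW
    apply L3
    push_neg at hσ
    obtain ⟨k, hk⟩ := hσ
    rw [Set.eq_empty_iff_forall_notMem]
    rintro y ⟨hyW, hyZ⟩
    have h := hJempty (σ k) hk
    have : y ∈ (V0 : Set X) ∩ U (σ k) := ⟨hW hyW, Set.mem_iInter.1 hyZ k⟩
    rw [h] at this
    exact this
  have step2 : ∀ τ : Fin n → J, ∃ (W : Opens X) (hW : W ≤ V), x ∈ W ∧ ∃ t : sec F W,
      secMap (η (Zc U (Fin.cons i0 (fun k => (τ k).1) : Fin (n + 1) → I)) F) W t =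
        res _ hW (cmp U F s (Fin.cons i0 (fun k => (τ k).1))) :=
    fun τ => L1 _ F _ x hx (hxZ0 τ)
  choose Wτ hWτ hxWτ fτ hfτ using step2
  let W1 : Opens X := V ⊓ V0 ⊓ iInfFin Wτ
  have hW1V : W1 ≤ V := inf_le_left.trans inf_le_left
  have hW1V0 : W1 ≤ V0 := inf_le_left.trans inf_le_right
  have hW1τ : ∀ τ, W1 ≤ Wτ τ := fun τ => inf_le_right.trans (iInfFin_le Wτ τ)
  have hxW1 : x ∈ W1 := ⟨⟨hx, hxV0⟩, mem_iInfFin hxWτ⟩
  classical
  let fam : ∀ σ : Fin n → I, sec (R (Zc U σ) F) W1 := fun σ =>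
    if h : ∀ k, σ k ∈ J then
      secMap (η (Zc U σ) F) W1 (res F (hW1τ (fun k => ⟨σ k, h k⟩)) (fτ (fun k => ⟨σ k, h k⟩)))
    else 0
  obtain ⟨t, ht⟩ := exists_cmp U F fam
  have htJ : ∀ τ : Fin n → J, cmp U F t (fun k => (τ k).1) =
      secMap (η (Zc U (fun k => (τ k).1)) F) W1 (res F (hW1τ τ) (fτ τ)) := by
    intro τ
    rw [ht]
    have h : ∀ k, (fun k => (τ k).1) k ∈ J := fun k => (τ k).2
    simp only [fam]
    rw [dif_pos h]
  have step4 : ∀ ω : Fin (n + 1) → J, ∃ (W : Opens X) (hW : W ≤ W1), x ∈ W ∧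
      res _ hW (cmp U F (secMap (dA U F n) W1 t) (fun k => (ω k).1)) =
        res _ (hW.trans hW1V) (cmp U F s (fun k => (ω k).1)) := by
    intro ω
    let ω' : Fin (n + 1) → I := fun k => (ω k).1
    let g : sec F W1 := ∑ k : Fin (n + 1), (-1 : ℤ) ^ (k : ℕ) •
      res F (hW1τ (ω ∘ Fin.succAbove k)) (fτ (ω ∘ Fin.succAbove k))
    have hA : cmp U F (secMap (dA U F n) W1 t) ω' = secMap (η (Zc U ω') F) W1 g := by
      rw [cmp_dA, map_sum]
      refine Finset.sum_congr rfl (fun k _ => ?_)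
      rw [map_zsmul]
      congr 1
      have := htJ (ω ∘ Fin.succAbove k)
      change secMap (ρ (Zc_sub U (Fin.succAbove k) ω') F) W1
        (cmp U F t (fun l => ((ω ∘ Fin.succAbove k) l).1)) = _
      rw [this]
      exact ρ_η_sec F _ _
    obtain ⟨W', hW', hxW', h, hh⟩ := L1 (Zc U ω') F (res _ hW1V (cmp U F s ω')) x hxW1 (hxZ ω)
    let ω0 : Fin (n + 2) → I := Fin.cons i0 ω'
    let D : sec F W' := h - res F hW' g
    have hD : secMap (η (Zc U ω0) F) W' D = 0 := by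
      have hc : cmp U F (secMap (dA U F (n + 1)) V s) ω0 = 0 := by
        rw [hs]
        exact map_zero _
      rw [cmp_dA, Fin.sum_univ_succ] at hc
      have hc' := congrArg (res (R (Zc U ω0) F) (hW'.trans hW1V)) hc
      rw [map_zero, map_add, map_sum] at hc'
      have e0 : res (R (Zc U ω0) F) (hW'.trans hW1V)
          ((-1 : ℤ) ^ ((0 : Fin (n + 2)) : ℕ) •
            secMap (ρ (Zc_sub U (Fin.succAbove 0) ω0) F) V (cmp U F s (ω0 ∘ Fin.succAbove 0))) =
          secMap (η (Zc U ω0) F) W' h := by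
        simp only [Fin.val_zero, pow_zero, one_smul]
        rw [ρcmp_congr U F s (cons_comp_succAbove_zero i0 ω') _ (Zc_cons_sub U i0 ω'),
          ← secMap_res, ← cmp_res, ← res_res _ hW1V hW', cmp_res, cmp_res, ← hh, ρ_η_sec]
      have ek : ∀ k : Fin (n + 1), res (R (Zc U ω0) F) (hW'.trans hW1V)
          ((-1 : ℤ) ^ ((k.succ : Fin (n + 2)) : ℕ) •
            secMap (ρ (Zc_sub U (Fin.succAbove k.succ) ω0) F) V
              (cmp U F s (ω0 ∘ Fin.succAbove k.succ))) =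
          -((-1 : ℤ) ^ (k : ℕ) • secMap (η (Zc U ω0) F) W'
            (res F (hW'.trans (hW1τ (ω ∘ Fin.succAbove k))) (fτ (ω ∘ Fin.succAbove k)))) := by
        intro k
        have hsub : Zc U ω0 ⊆ Zc U (Fin.cons i0 (fun l => ((ω ∘ Fin.succAbove k) l).1) :
            Fin (n + 1) → I) := by
          have e := cons_comp_succAbove_succ i0 ω' k
          have := Zc_sub U (Fin.succAbove k.succ) ω0
          rw [e] at this
          exact this
        rw [map_zsmul, Fin.val_succ, pow_succ, mul_neg, mul_one, neg_smul]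
        congr 2
        have a1 : secMap (ρ (Zc_sub U (Fin.succAbove k.succ) ω0) F) V
            (cmp U F s (ω0 ∘ Fin.succAbove k.succ)) =
            secMap (ρ hsub F) V
              (cmp U F s (Fin.cons i0 (fun l => ((ω ∘ Fin.succAbove k) l).1))) :=
          ρcmp_congr U F s (show ω0 ∘ Fin.succAbove k.succ =
            Fin.cons i0 (fun l => ((ω ∘ Fin.succAbove k) l).1) from
              cons_comp_succAbove_succ i0 ω' k) _ hsub
        have h1 : res _ (hW'.trans hW1V)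
            (cmp U F s (Fin.cons i0 (fun l => ((ω ∘ Fin.succAbove k) l).1))) =
            res _ (hW'.trans (hW1τ (ω ∘ Fin.succAbove k)))
              (res _ (hWτ (ω ∘ Fin.succAbove k))
                (cmp U F s (Fin.cons i0 (fun l => ((ω ∘ Fin.succAbove k) l).1)))) :=
          (res_res _ _ _ _).symm
        rw [a1, ← secMap_res, h1, ← hfτ (ω ∘ Fin.succAbove k), ← secMap_res]
        exact ρ_η_sec F _ _
      rw [e0] at hc'
      simp only [ek] at hc'
      rw [Finset.sum_neg_distrib] at hc'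
      have hg : res F hW' g = ∑ k : Fin (n + 1), (-1 : ℤ) ^ (k : ℕ) •
          res F (hW'.trans (hW1τ (ω ∘ Fin.succAbove k))) (fτ (ω ∘ Fin.succAbove k)) := by
        simp only [g]
        rw [map_sum]
        refine Finset.sum_congr rfl (fun k _ => ?_)
        rw [map_zsmul, res_res]
      simp only [D]
      rw [map_sub, hg, map_sum]
      simp only [map_zsmul]
      rw [sub_eq_add_neg]
      exact hc'
    obtain ⟨W'', hW'', hxW'', hD0⟩ := L2 (Zc U ω0) F D x hxW' (hxZ0 ω) hD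
    refine ⟨W'', hW''.trans hW', hxW'', ?_⟩
    rw [hA, ← secMap_res]
    have h2 : res F (hW''.trans hW') g = res F hW'' h := by
      have := hD0
      simp only [D] at this
      rw [map_sub, sub_eq_zero] at this
      rw [this, res_res]
    rw [h2, secMap_res, hh, res_res, res_res]
  choose W2 hW2 hxW2 hW2eq using step4
  let W3 : Opens X := W1 ⊓ iInfFin W2
  have hW3W1 : W3 ≤ W1 := inf_le_left
  have hW3W2 : ∀ ω, W3 ≤ W2 ω := fun ω => inf_le_right.trans (iInfFin_le W2 ω)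
  have hxW3 : x ∈ W3 := ⟨hxW1, mem_iInfFin hxW2⟩
  refine ⟨W3, hW3W1.trans hW1V, hxW3, res _ hW3W1 t, ?_⟩
  rw [secMap_res]
  apply ext_cmp
  intro ω'
  by_cases h : ∀ k, ω' k ∈ J
  · have := hW2eq (fun k => ⟨ω' k, h k⟩)
    have e1 := congrArg (res _ (hW3W2 (fun k => ⟨ω' k, h k⟩))) this
    rw [res_res, res_res] at e1
    rw [cmp_res, cmp_res]
    exact e1
  · have := hempty ω' h W3 (hW3W1.trans hW1V0)
    exact Subsingleton.elim _ _

end Main

end Groth.Agent.Lib.Helper4.CCLocal
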