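import Groth.Agent.Lib.Helper4.CCLocal
import Groth.Agent.Lib.Helper53.ClosedEmbCoh

set_option autoImplicit false
open CategoryTheory CategoryTheory.Limits TopologicalSpace Opposite Abelian

namespace Groth.Agent.Lib.Helper4.CCProd
universe u
open CCBase CCLocal Groth.Agent.Lib.Helper53

variable {X : TopCat.{u}} {ι : Type u} {Y : ι → TopCat.{u}} (i : ∀ σ, Y σ ⟶ X)

noncomputable abbrev PO (M : ∀ σ, CohTop.Ab (Y σ)) (σ : ι) : CohTop.Ab X :=
  (CohTop.push (i σ)).obj (M σ)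

noncomputable abbrev P (M : ∀ σ, CohTop.Ab (Y σ)) : CohTop.Ab X := ∏ᶜ PO i M

noncomputable abbrev Pm {M M' : ∀ σ, CohTop.Ab (Y σ)} (φ : ∀ σ, M σ ⟶ M' σ) :
    P i M ⟶ P i M' :=
  Limits.Pi.map (fun σ => (CohTop.push (i σ)).map (φ σ))

lemma isClosedEmbedding_incl {Z : Set X} (hZ : IsClosed Z) : Topology.IsClosedEmbedding (incl Z) :=
  hZ.isClosedEmbedding_subtypeVal

lemma subsingleton_push {Y' : TopCat.{u}} (j : Y' ⟶ X) (M : CohTop.Ab Y') {V : Opens X}
    (h : (V : Set X) ∩ Set.range j = ∅) : Subsingleton (sec ((CohTop.push j).obj M) V) := by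
  have hb : (Opens.map j).obj V = ⊥ := by
    ext z
    simp only [Opens.coe_bot, Set.mem_empty_iff_false, iff_false]
    intro hz
    have : j z ∈ (V : Set X) ∩ Set.range j := ⟨hz, ⟨z, rfl⟩⟩
    rw [h] at this
    exact this
  exact ⟨fun a b => sections_eq_of_eq_bot M hb a b⟩

lemma cmp_Pm {M M' : ∀ σ, CohTop.Ab (Y σ)} (φ : ∀ σ, M σ ⟶ M' σ) {V : Opens X}
    (s : sec (P i M) V) (σ : ι) :
    secMap (Pi.π (PO i M') σ) V (secMap (Pm i φ) V s) =
      secMap ((CohTop.push (i σ)).map (φ σ)) V (secMap (Pi.π (PO i M) σ) V s) := by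
  rw [← secMap_comp, ← secMap_comp]
  congr 2
  exact Limits.Pi.map_π _ _

variable (hZ : ∀ σ, Topology.IsClosedEmbedding (i σ))
  (hlf : LocallyFinite (fun σ => Set.range (i σ)))

include hZ hlf in
theorem epi_Pm {M M' : ∀ σ, CohTop.Ab (Y σ)} (φ : ∀ σ, M σ ⟶ M' σ) [∀ σ, Epi (φ σ)] :
    Epi (Pm i φ) := by
  apply Groth.Agent.Lib.Helper34.ExactLocal.epi_of_locally
  intro V t y hy
  obtain ⟨N, hN, hfin⟩ := hlf y
  let S0 : Set ι := {σ | (Set.range (i σ) ∩ N).Nonempty}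
  haveI : Finite S0 := hfin.to_subtype
  have hepi : ∀ σ, Epi ((CohTop.push (i σ)).map (φ σ)) := fun σ =>
    push_map_epi_of_isClosedEmbedding _ (hZ σ) (φ σ)
  have step : ∀ σ : ι, y ∈ Set.range (i σ) → ∃ (W : Opens X) (hW : W ≤ V), y ∈ W ∧
      ∃ b : sec (PO i M σ) W, secMap ((CohTop.push (i σ)).map (φ σ)) W b =
        res _ hW (secMap (Pi.π (PO i M') σ) V t) := by
    intro σ _
    have := hepi σ
    obtain ⟨W, hW, b, hyW, hb⟩ := exists_local_lift_of_epi
      ((CohTop.push (i σ)).map (φ σ)) V (secMap (Pi.π (PO i M') σ) V t) y hy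
    exact ⟨W, hW, hyW, b, hb⟩
  classical
  let Wσ : S0 → Opens X := fun σ =>
    if h : y ∈ Set.range (i σ.1) then (step σ.1 h).choose else V ⊓ ⟨(Set.range (i σ.1))ᶜ, (hZ σ.1).isClosed_range.isOpen_compl⟩
  have hyWσ : ∀ σ, y ∈ Wσ σ := by
    intro σ
    by_cases h : y ∈ Set.range (i σ.1)
    · simp only [Wσ, dif_pos h]
      exact (step σ.1 h).choose_spec.choose_spec.1
    · simp only [Wσ, dif_neg h]
      exact ⟨hy, h⟩
  have hWσV : ∀ σ, Wσ σ ≤ V := by
    intro σ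
    by_cases h : y ∈ Set.range (i σ.1)
    · simp only [Wσ, dif_pos h]
      exact (step σ.1 h).choose_spec.choose
    · simp only [Wσ, dif_neg h]
      exact inf_le_left
  let W : Opens X := V ⊓ ⟨interior N, isOpen_interior⟩ ⊓ iInfFin Wσ
  have hWV : W ≤ V := inf_le_left.trans inf_le_left
  have hyW : y ∈ W := ⟨⟨hy, mem_interior_iff_mem_nhds.2 hN⟩, mem_iInfFin hyWσ⟩
  have hWσ : ∀ σ, W ≤ Wσ σ := fun σ => inf_le_right.trans (iInfFin_le Wσ σ)
  have hsub : ∀ σ : ι, ¬ (σ ∈ S0 ∧ y ∈ Set.range (i σ)) → Subsingleton (sec (PO i M' σ) W) := by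
    intro σ hσ
    apply subsingleton_push
    rw [Set.eq_empty_iff_forall_notMem]
    rintro z ⟨hzW, hzZ⟩
    by_cases h0 : σ ∈ S0
    · have hy' : y ∉ Set.range (i σ) := fun h => hσ ⟨h0, h⟩
      have h1 : z ∈ Wσ ⟨σ, h0⟩ := hWσ ⟨σ, h0⟩ hzW
      simp only [Wσ, dif_neg hy'] at h1
      exact h1.2 hzZ
    · exact h0 ⟨z, hzZ, interior_subset hzW.1.2⟩
  let fam : ∀ σ : ι, sec (PO i M σ) W := fun σ =>
    if h : σ ∈ S0 ∧ y ∈ Set.range (i σ) then
      res _ (by
        have := hWσ ⟨σ, h.1⟩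
        simp only [Wσ, dif_pos h.2] at this
        exact this) (step σ h.2).choose_spec.choose_spec.2.choose
    else 0
  obtain ⟨b, hb⟩ := exists_sec (PO i M) fam
  refine ⟨W, hWV, hyW, b, ?_⟩
  apply sec_ext
  intro σ
  change secMap (Pi.π (PO i M') σ) W (secMap (Pm i φ) W b) =
    secMap (Pi.π (PO i M') σ) W (res _ hWV t)
  rw [cmp_Pm, hb, secMap_res]
  by_cases h : σ ∈ S0 ∧ y ∈ Set.range (i σ)
  · simp only [fam, dif_pos h]
    rw [secMap_res, (step σ h.2).choose_spec.choose_spec.2.choose_spec, res_res]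
  · have := hsub σ h
    exact Subsingleton.elim _ _

section SES

variable (S : ∀ σ, ShortComplex (CohTop.Ab (Y σ)))

lemma Pm_comp_zero : Pm i (fun σ => (S σ).f) ≫ Pm i (fun σ => (S σ).g) = 0 := by
  apply Limits.Pi.hom_ext
  intro σ
  rw [Category.assoc, Limits.Pi.map_π, ← Category.assoc, Limits.Pi.map_π, Category.assoc,
    ← Functor.map_comp, (S σ).zero, Functor.map_zero, comp_zero, zero_comp]

noncomputable def PS : ShortComplex (CohTop.Ab X) :=
  ShortComplex.mk (Pm i (fun σ => (S σ).f)) (Pm i (fun σ => (S σ).g)) (Pm_comp_zero i S)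

variable (hS : ∀ σ, (S σ).ShortExact)

lemma sections_exact {Y : TopCat.{u}} (T : ShortComplex (CohTop.Ab Y)) (hT : T.ShortExact)
    (W : Opens Y) (c : sec T.X₂ W) (hc : secMap T.g W c = 0) :
    ∃ a : sec T.X₁ W, secMap T.f W a = c := by
  have := hT.mono_f
  have h := hT.exact.map_of_mono_of_preservesKernel (ΓV W) inferInstance inferInstance
  rw [ShortComplex.ab_exact_iff] at h
  exact h c hc

include hZ hlf hS in
theorem PS_shortExact : (PS i S).ShortExact := by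
  have hm : ∀ σ, Mono ((CohTop.push (i σ)).map (S σ).f) := fun σ => by
    have := (hS σ).mono_f
    infer_instance
  have he : ∀ σ, Epi (S σ).g := fun σ => (hS σ).epi_g
  have h1 : Mono (PS i S).f := by
    change Mono (Limits.Pi.map (fun σ => (CohTop.push (i σ)).map (S σ).f))
    infer_instance
  have h2 : Epi (PS i S).g := epi_Pm i hZ hlf (fun σ => (S σ).g)
  refine ShortComplex.ShortExact.mk' ?_ h1 h2
  apply Groth.Agent.Lib.Helper34.ExactLocal.exact_of_locally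
  intro V s hs y hy
  refine ⟨V, le_refl V, hy, ?_⟩
  have hc : ∀ σ, ∃ a : sec (PO i (fun σ => (S σ).X₁) σ) V,
      secMap ((CohTop.push (i σ)).map (S σ).f) V a =
        secMap (Pi.π (PO i (fun σ => (S σ).X₂)) σ) V s := by
    intro σ
    apply sections_exact (S σ) (hS σ) ((Opens.map (i σ)).obj V)
    have h := cmp_Pm i (fun σ => (S σ).g) s σ
    have hs' : secMap (Pm i (fun σ => (S σ).g)) V s = 0 := hs
    rw [hs', map_zero] at h
    exact h.symm
  choose a ha using hc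
  obtain ⟨b, hb⟩ := exists_sec (PO i (fun σ => (S σ).X₁)) a
  refine ⟨b, ?_⟩
  have hr : (PS i S).X₂.obj.map (homOfLE (le_refl V)).op s = s := res_self _ s
  rw [hr]
  apply sec_ext
  intro σ
  have := cmp_Pm i (fun σ => (S σ).f) b σ
  exact this.trans ((congrArg _ (hb σ)).trans (ha σ))

end SES

end Groth.Agent.Lib.Helper4.CCProd
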