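import Groth.Agent.Lib.Helper4.CCProd
import Groth.Agent.Lib.Helper53.ProdExt

set_option autoImplicit false
open CategoryTheory CategoryTheory.Limits TopologicalSpace Opposite Abelian

namespace Groth.Agent.Lib.Helper4.CCProd
universe u
open CCBase CCLocal Groth.Agent.Lib.Helper53

variable {X : TopCat.{u}} {ι : Type u} {Y : ι → TopCat.{u}} (i : ∀ σ, Y σ ⟶ X)
  (hZ : ∀ σ, Topology.IsClosedEmbedding (i σ))
  (hlf : LocallyFinite (fun σ => Set.range (i σ)))

section Coh

open Groth.Agent.Lib.Helper53.ProdExt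

include hZ hlf in
theorem cmp_bijective : ∀ (q : ℕ) (M : ∀ σ, CohTop.Ab (Y σ)) (T : CohTop.Ab X),
    Function.Bijective (cmp.{u} T (PO i M) q)
  | 0, M, T => cmp_zero_bijective T _
  | q + 1, M, T => by
    let S : ∀ σ, ShortComplex (CohTop.Ab (Y σ)) := fun σ => injSeq (M σ)
    have hS : ∀ σ, (S σ).ShortExact := fun σ => injSeq_shortExact (M σ)
    let f : ∀ σ, PO i M σ ⟶ PO i (fun σ => (S σ).X₂) σ :=
      fun σ => (CohTop.push (i σ)).map (S σ).f
    let g : ∀ σ, PO i (fun σ => (S σ).X₂) σ ⟶ PO i (fun σ => (S σ).X₃) σ :=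
      fun σ => (CohTop.push (i σ)).map (S σ).g
    have w : ∀ σ, f σ ≫ g σ = 0 := fun σ => by
      exact ((S σ).map (CohTop.push (i σ))).zero
    have hS' : ∀ σ, (ShortComplex.mk (f σ) (g σ) (w σ)).ShortExact := fun σ => by
      have := preservesFiniteColimits_push_of_isClosedEmbedding (i σ) (hZ σ)
      exact (hS σ).map_of_exact (CohTop.push (i σ))
    have : ∀ σ, Injective (PO i (fun σ => (S σ).X₂) σ) := fun σ => by
      change Injective ((CohTop.push (i σ)).obj (injSeq (M σ)).X₂)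
      infer_instance
    have hP := PS_shortExact i hZ hlf S hS
    exact cmp_bijective_succ T f g w hS' hP q (cmp_surjective_of_injective T _ q)
      (cmp_bijective q (fun σ => (S σ).X₃) T)

include hZ hlf in
theorem nonempty_H_equiv (q : ℕ) (M : ∀ σ, CohTop.Ab (Y σ)) :
    Nonempty (CohTop.H (P i M) q ≃+ ∀ σ, CohTop.H (M σ) q) := by
  have hpc : ∀ σ, PreservesFiniteColimits (CohTop.push (i σ)) := fun σ =>
    preservesFiniteColimits_push_of_isClosedEmbedding _ (hZ σ)
  let e1 : CohTop.H (P i M) q ≃+ ∀ σ, CohTop.H (PO i M σ) q :=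
    AddEquiv.ofBijective (cmp.{u} _ (PO i M) q) (cmp_bijective i hZ hlf q M _)
  have e2 : ∀ σ, CohTop.H (M σ) q ≃+ CohTop.H (PO i M σ) q := fun σ =>
    (nonempty_hEquiv (i σ) (hpc σ) q (M σ)).some
  exact ⟨e1.trans (AddEquiv.piCongrRight (fun σ => (e2 σ).symm))⟩

end Coh

end Groth.Agent.Lib.Helper4.CCProd
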