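import Mathlib.AlgebraicTopology.ExtraDegeneracy
import Mathlib.AlgebraicTopology.AlternatingFaceMapComplex
import Mathlib.Algebra.Homology.ShortComplex.ModuleCat
import Mathlib.Algebra.Homology.HomologicalComplex

namespace Groth.Agent.Lib.Helper4.CechContr

open CategoryTheory Limits Opposite Simplicial AlgebraicTopology

universe v u v' u' v'' u''

variable {𝒜 : Type u} [Category.{v} 𝒜] [Preadditive 𝒜]

structure Contr (Z : CosimplicialObject 𝒜) where
  h : ∀ n : ℕ, Z.obj ⦋n + 1⦌ ⟶ Z.obj ⦋n⦌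
  δ₀_h : ∀ n : ℕ, Z.δ (0 : Fin (n + 2)) ≫ h n = 𝟙 _
  δ_succ_h : ∀ (n : ℕ) (j : Fin (n + 2)), Z.δ j.succ ≫ h (n + 1) = h n ≫ Z.δ j

namespace Contr

variable {Z : CosimplicialObject 𝒜} (c : Contr Z)

lemma d_h_succ (n : ℕ) :
    AlternatingCofaceMapComplex.objD Z (n + 1) ≫ c.h (n + 1) +
      c.h n ≫ AlternatingCofaceMapComplex.objD Z n = 𝟙 _ := by
  simp only [AlternatingCofaceMapComplex.objD, Preadditive.sum_comp, Preadditive.comp_sum,
    Preadditive.zsmul_comp, Preadditive.comp_zsmul]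
  rw [Fin.sum_univ_succ]
  simp only [Fin.val_zero, pow_zero, one_smul, c.δ₀_h, Fin.val_succ, c.δ_succ_h]
  rw [add_assoc, ← Finset.sum_add_distrib]
  convert add_zero _
  apply Finset.sum_eq_zero
  intro j _
  rw [pow_succ, mul_neg_one, neg_smul, neg_add_cancel]

omit c in
lemma obj_d (Z : CosimplicialObject 𝒜) (n : ℕ) :
    ((alternatingCofaceMapComplex 𝒜).obj Z).d n (n + 1) =
      AlternatingCofaceMapComplex.objD Z n :=
  CochainComplex.of_d (fun n => Z.obj ⦋n⦌) (AlternatingCofaceMapComplex.objD Z) n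

end Contr

def contrOfExtraDegeneracy {ℰ : Type u'} [Category.{v'} ℰ] {X : SimplicialObject.Augmented ℰ}
    (ed : X.ExtraDegeneracy) (F : ℰᵒᵖ ⥤ 𝒜) : Contr (X.left.rightOp ⋙ F) where
  h n := F.map (ed.s n).op
  δ₀_h n := by
    change F.map (X.left.δ 0).op ≫ F.map (ed.s n).op = 𝟙 _
    rw [← F.map_comp, ← op_comp, ed.s_comp_δ₀]
    simp
  δ_succ_h n j := by
    change F.map (X.left.δ j.succ).op ≫ F.map (ed.s (n + 1)).op =
      F.map (ed.s n).op ≫ F.map (X.left.δ j).op
    rw [← F.map_comp, ← F.map_comp, ← op_comp, ← op_comp, ed.s_comp_δ]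

lemma exactAt_of_contr {R : Type u''} [Ring R] {Z : CosimplicialObject (ModuleCat.{v''} R)}
    (c : Contr Z) (n : ℕ) :
    ((alternatingCofaceMapComplex (ModuleCat.{v''} R)).obj Z).ExactAt (n + 1) := by
  have key : ∀ y : (Z.obj ⦋n + 1⦌ : ModuleCat.{v''} R),
      (AlternatingCofaceMapComplex.objD Z (n + 1)).hom y = 0 →
        (AlternatingCofaceMapComplex.objD Z n).hom ((c.h n).hom y) = y := by
    intro y hy
    have h2 := congrArg (fun f => f.hom y) (c.d_h_succ n)
    simp only [ModuleCat.hom_add, ModuleCat.hom_comp, LinearMap.add_apply,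
      LinearMap.comp_apply, ModuleCat.hom_id, LinearMap.id_apply] at h2
    rw [hy, map_zero, zero_add] at h2
    exact h2
  rw [HomologicalComplex.exactAt_iff' _ n (n + 1) (n + 2) (by simp) (by simp),
    ShortComplex.moduleCat_exact_iff]
  intro x hx
  refine ⟨(c.h n).hom x, ?_⟩
  have hx' : (AlternatingCofaceMapComplex.objD Z (n + 1)).hom x = 0 := by
    rw [← Contr.obj_d]
    exact hx
  have h3 := key x hx'
  rw [← Contr.obj_d] at h3
  exact h3

end Groth.Agent.Lib.Helper4.CechContr
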