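import Mathlib.CategoryTheory.Sites.SheafCohomology.Cech
import Mathlib.CategoryTheory.Limits.Preserves.Shapes.Products
import Mathlib.Algebra.Homology.Additive

namespace Groth.Agent.Lib.Helper4.CechFunctor

open CategoryTheory Limits Opposite Simplicial AlgebraicTopology

universe w v v' v'' u u' u''

variable {𝒟 : Type u} [Category.{v} 𝒟] {𝒜 : Type u'} [Category.{v'} 𝒜] {ℬ : Type u''}
  [Category.{v''} ℬ] [HasProducts.{w} 𝒜] [HasProducts.{w} ℬ] (T : 𝒜 ⥤ ℬ)

noncomputable def evalOpComparison (P : 𝒟ᵒᵖ ⥤ 𝒜) :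
    (FormalCoproduct.evalOp.{w} 𝒟 𝒜).obj P ⋙ T ⟶ (FormalCoproduct.evalOp.{w} 𝒟 ℬ).obj (P ⋙ T) where
  app X := piComparison T (fun i : X.unop.I => P.obj (op (X.unop.obj i)))
  naturality X X' f := by
    apply Pi.hom_ext
    intro i
    dsimp [FormalCoproduct.evalOp]
    rw [Category.assoc, Category.assoc, piComparison_comp_π, ← T.map_comp, Pi.lift_π, Pi.lift_π,
      ← Category.assoc, piComparison_comp_π, T.map_comp]

section Additive

variable [Preadditive 𝒜] [Preadditive ℬ] [T.Additive]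

noncomputable def altCofaceIso (Z : CosimplicialObject 𝒜) :
    (alternatingCofaceMapComplex ℬ).obj (Z ⋙ T) ≅
      (T.mapHomologicalComplex _).obj ((alternatingCofaceMapComplex 𝒜).obj Z) :=
  HomologicalComplex.Hom.isoOfComponents (fun n => Iso.refl _) (by
    intro i j hij
    have hj : j = i + 1 := hij.symm
    subst hj
    refine (Category.id_comp _).trans (Eq.trans ?_ (Category.comp_id _).symm)
    change T.map (((alternatingCofaceMapComplex 𝒜).obj Z).d i (i + 1)) =
      ((alternatingCofaceMapComplex ℬ).obj (Z ⋙ T)).d i (i + 1)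
    have h1 : ((alternatingCofaceMapComplex ℬ).obj (Z ⋙ T)).d i (i + 1) =
        AlternatingCofaceMapComplex.objD (Z ⋙ T) i :=
      CochainComplex.of_d (fun n => (Z ⋙ T).obj ⦋n⦌) (AlternatingCofaceMapComplex.objD (Z ⋙ T)) i
    have h2 : ((alternatingCofaceMapComplex 𝒜).obj Z).d i (i + 1) =
        AlternatingCofaceMapComplex.objD Z i :=
      CochainComplex.of_d (fun n => Z.obj ⦋n⦌) (AlternatingCofaceMapComplex.objD Z) i
    rw [h1, h2]
    change T.mapAddHom (∑ k : Fin (i + 2), (-1 : ℤ) ^ (k : ℕ) • Z.δ k) =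
      ∑ k : Fin (i + 2), (-1 : ℤ) ^ (k : ℕ) • CosimplicialObject.δ (Z ⋙ T) k
    rw [map_sum]
    refine Finset.sum_congr rfl (fun k _ => ?_)
    rw [map_zsmul]
    rfl)

variable {ι : Type w} [HasFiniteProducts 𝒟] (Y : ι → 𝒟)
  [∀ n : SimplexCategory, PreservesLimitsOfShape (Discrete (ToType n → ι)) T]

omit [Preadditive 𝒜] [Preadditive ℬ] [T.Additive] in
lemma isIso_evalOpComparison_app (P : 𝒟ᵒᵖ ⥤ 𝒜) (n : SimplexCategory) :
    IsIso ((evalOpComparison.{w} T P).app (op ((FormalCoproduct.mk ι Y).cech.obj (op n)))) := by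
  have hp : PreservesLimit (Discrete.functor (fun i : ToType n → ι =>
      P.obj (op (((FormalCoproduct.mk ι Y).cech.obj (op n)).obj i)))) T := inferInstance
  change IsIso (piComparison T (fun i : ToType n → ι =>
      P.obj (op (((FormalCoproduct.mk ι Y).cech.obj (op n)).obj i))))
  infer_instance

noncomputable def cosimplicialIso (P : 𝒟ᵒᵖ ⥤ 𝒜) :
    (FormalCoproduct.cosimplicialObjectFunctor (FormalCoproduct.mk ι Y).cech).obj P ⋙ T ≅
      (FormalCoproduct.cosimplicialObjectFunctor (FormalCoproduct.mk ι Y).cech).obj (P ⋙ T) :=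
  NatIso.ofComponents (fun n =>
    @asIso _ _ _ _ ((evalOpComparison.{w} T P).app (op ((FormalCoproduct.mk ι Y).cech.obj (op n))))
      (isIso_evalOpComparison_app T Y P n))
    (by
      intro n m f
      exact (evalOpComparison.{w} T P).naturality ((FormalCoproduct.mk ι Y).cech.map f.op).op)

noncomputable def cochainIso (P : 𝒟ᵒᵖ ⥤ 𝒜) :
    (cechComplexFunctor Y).obj (P ⋙ T) ≅
      (T.mapHomologicalComplex _).obj ((cechComplexFunctor Y).obj P) :=
  (alternatingCofaceMapComplex ℬ).mapIso (cosimplicialIso T Y P).symm ≪≫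
    altCofaceIso T _

end Additive

end Groth.Agent.Lib.Helper4.CechFunctor
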