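import Mathlib.RingTheory.Flat.FaithfullyFlat.Basic
import Mathlib.Algebra.Category.ModuleCat.Basic
import Mathlib.LinearAlgebra.TensorProduct.Pi
import Mathlib.CategoryTheory.Preadditive.AdditiveFunctor
import Mathlib.Algebra.Category.ModuleCat.Biproducts

namespace Groth.Agent.Lib.Helper4.FFDescent

open CategoryTheory TensorProduct

universe u v

variable {A : Type u} [CommRing A]

theorem flat_pi {ι : Type v} [Finite ι] (B : ι → Type u) [∀ j, AddCommGroup (B j)]
    [∀ j, Module A (B j)] [∀ j, Module.Flat A (B j)] : Module.Flat A (∀ j, B j) := by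
  classical
  have := Fintype.ofFinite ι
  exact Module.Flat.of_linearEquiv (DirectSum.linearEquivFunOnFintype A ι B).symm

theorem faithfullyFlat_pi {ι : Type v} [Finite ι] (B : ι → Type u) [∀ j, CommRing (B j)]
    [∀ j, Algebra A (B j)] [∀ j, Module.Flat A (B j)]
    (hsurj : ∀ m : Ideal A, m.IsMaximal → ∃ j, m.map (algebraMap A (B j)) ≠ ⊤) :
    Module.FaithfullyFlat A (∀ j, B j) := by
  have := flat_pi (A := A) B
  refine ⟨fun m hm htop => ?_⟩
  obtain ⟨j, hj⟩ := hsurj m hm
  apply hj
  have h1 : Submodule.map (LinearMap.proj (R := A) (φ := B) j) (m • (⊤ : Submodule A (∀ j, B j))) =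
      m • (⊤ : Submodule A (B j)) := by
    rw [Submodule.map_smul'', Submodule.map_top, LinearMap.range_eq_top.2]
    intro b
    classical
    exact ⟨Pi.single j b, by simp⟩
  rw [htop, Submodule.map_top, LinearMap.range_eq_top.2, Ideal.smul_top_eq_map] at h1
  · have h2 : ((m.map (algebraMap A (B j))).restrictScalars A : Set (B j)) = Set.univ := by
      rw [← h1]; rfl
    rw [Ideal.eq_top_iff_one]
    have : (1 : B j) ∈ ((m.map (algebraMap A (B j))).restrictScalars A : Set (B j)) := by
      rw [h2]; trivial
    exact this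
  · intro b
    classical
    exact ⟨Pi.single j b, by simp⟩

theorem piRight_rTensor {ι : Type v} [Fintype ι] [DecidableEq ι] (B : ι → Type u)
    [∀ j, AddCommGroup (B j)] [∀ j, Module A (B j)]
    {M N : Type*} [AddCommGroup M] [Module A M] [AddCommGroup N] [Module A N] (f : M →ₗ[A] N)
    (x : M ⊗[A] (∀ j, B j)) (j : ι) :
    TensorProduct.piRight A A N B (f.rTensor (∀ j, B j) x) j =
      f.rTensor (B j) (TensorProduct.piRight A A M B x j) := by
  induction x using TensorProduct.induction_on with
  | zero => simp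
  | tmul m b => simp
  | add x y hx hy => simp only [map_add, Pi.add_apply, hx, hy]

theorem exact_of_family {ι : Type v} [Finite ι] (B : ι → Type u) [∀ j, CommRing (B j)]
    [∀ j, Algebra A (B j)] [∀ j, Module.Flat A (B j)]
    (hsurj : ∀ m : Ideal A, m.IsMaximal → ∃ j, m.map (algebraMap A (B j)) ≠ ⊤)
    {M₁ M₂ M₃ : Type*} [AddCommGroup M₁] [Module A M₁] [AddCommGroup M₂] [Module A M₂]
    [AddCommGroup M₃] [Module A M₃] (f : M₁ →ₗ[A] M₂) (g : M₂ →ₗ[A] M₃)
    (h : ∀ j, Function.Exact (f.rTensor (B j)) (g.rTensor (B j))) : Function.Exact f g := by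
  classical
  have := Fintype.ofFinite ι
  have := faithfullyFlat_pi (A := A) B hsurj
  refine Module.FaithfullyFlat.rTensor_reflects_exact A (∀ j, B j) f g ?_
  intro y
  constructor
  · intro hy
    have hy' : ∀ j, g.rTensor (B j) (TensorProduct.piRight A A M₂ B y j) = 0 := by
      intro j
      rw [← piRight_rTensor, hy, map_zero]
      rfl
    choose x hx using fun j => (h j _).1 (hy' j)
    refine ⟨(TensorProduct.piRight A A M₁ B).symm x, ?_⟩
    apply (TensorProduct.piRight A A M₂ B).injective
    funext j
    rw [piRight_rTensor, LinearEquiv.apply_symm_apply, hx]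
  · rintro ⟨x, rfl⟩
    apply (TensorProduct.piRight A A M₃ B).injective
    funext j
    rw [piRight_rTensor, piRight_rTensor, map_zero]
    exact (h j).apply_apply_eq_zero _

noncomputable def tens (B : Type u) [AddCommGroup B] [Module A B] :
    ModuleCat.{u + 1} A ⥤ ModuleCat.{u + 1} A where
  obj M := ModuleCat.of A (M ⊗[A] B)
  map f := ModuleCat.ofHom (f.hom.rTensor B)
  map_id M := by
    ext : 1
    simp
  map_comp f g := by
    ext : 1
    simp [LinearMap.rTensor_comp]

instance (B : Type u) [AddCommGroup B] [Module A B] : (tens (A := A) B).Additive where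
  map_add := by
    intro M N f g
    ext : 1
    simp only [tens, ModuleCat.hom_add, ModuleCat.hom_ofHom, LinearMap.rTensor_add]
    rfl

end Groth.Agent.Lib.Helper4.FFDescent
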