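import Groth.Agent.Lib.Helper4.CechSplit
import Groth.Agent.Lib.Helper4.CechFunctor
import Groth.Agent.Lib.Helper4.FFDescent
import Mathlib.Algebra.Category.ModuleCat.Limits
import Mathlib.Algebra.Category.ModuleCat.Abelian
import Mathlib.Algebra.Homology.ShortComplex.Ab

namespace Groth.Agent.Lib.Helper4.CechDescent

open CategoryTheory Limits Opposite Simplicial AlgebraicTopology TensorProduct
open Groth.Agent.Lib.Helper4

universe v u w

variable {𝒟 : Type w} [Category.{v} 𝒟] [HasFiniteProducts 𝒟]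
  {A : Type u} [CommRing A] {ι : Type (u + 1)} (Y : ι → 𝒟)

instance hasProductsMod : HasProducts.{u + 1} (ModuleCat.{u + 1} A) := by
  have : HasLimits (ModuleCat.{u + 1} A) := ModuleCat.hasLimits.{u + 1, u}
  intro J
  infer_instance

lemma sc_exact_iff (S : ShortComplex (ModuleCat.{u + 1} A)) :
    S.Exact ↔ Function.Exact S.f.hom S.g.hom := by
  rw [ShortComplex.moduleCat_exact_iff_range_eq_ker, LinearMap.exact_iff]
  exact eq_comm

lemma isIso_cech_map {P P' : 𝒟ᵒᵖ ⥤ ModuleCat.{u + 1} A} (τ : P ⟶ P')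
    (hτ : ∀ (n : SimplexCategory) (a : ToType n → ι), IsIso (τ.app (op (∏ᶜ (Y ∘ a))))) :
    IsIso ((cechComplexFunctor Y).map τ) := by
  have : ∀ n : ℕ, IsIso (((cechComplexFunctor Y).map τ).f n) := by
    intro n
    have : ∀ a : ToType ⦋n⦌ → ι, IsIso (τ.app (op
        (((FormalCoproduct.mk ι Y).cech.obj (op ⦋n⦌)).obj a))) := fun a => hτ ⦋n⦌ a
    change IsIso (Limits.Pi.map (fun a : ToType ⦋n⦌ → ι => τ.app (op
        (((FormalCoproduct.mk ι Y).cech.obj (op ⦋n⦌)).obj a))))
    infer_instance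
  exact HomologicalComplex.Hom.isIso_of_components _

theorem exactAt_forget₂ (QA : 𝒟ᵒᵖ ⥤ ModuleCat.{u + 1} A) (n : ℕ)
    (h : ((cechComplexFunctor Y).obj QA).ExactAt (n + 1)) :
    ((cechComplexFunctor Y).obj
      (QA ⋙ forget₂ (ModuleCat.{u + 1} A) AddCommGrpCat.{u + 1})).ExactAt (n + 1) := by
  have e := CechFunctor.cochainIso (forget₂ (ModuleCat.{u + 1} A) AddCommGrpCat.{u + 1}) Y QA
  refine HomologicalComplex.ExactAt.of_iso ?_ e.symm
  rw [HomologicalComplex.exactAt_iff' _ n (n + 1) (n + 2) (by simp) (by simp)] at h ⊢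
  rw [ShortComplex.moduleCat_exact_iff] at h
  rw [ShortComplex.ab_exact_iff]
  intro x hx
  obtain ⟨y, hy⟩ := h x hx
  exact ⟨y, hy⟩

variable [Finite ι]

instance (B : Type u) [AddCommGroup B] [Module A B] (n : SimplexCategory) :
    PreservesLimitsOfShape (Discrete (ToType n → ι)) (FFDescent.tens (A := A) B) := by
  have : Finite (ToType n) := inferInstanceAs (Finite (Fin (n.len + 1)))
  infer_instance

theorem exactAt_of_descent (QA : 𝒟ᵒᵖ ⥤ ModuleCat.{u + 1} A)
    [∀ j, HasFiniteProducts (Over (Y j))]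
    (B : ι → Type u) [∀ j, CommRing (B j)] [∀ j, Algebra A (B j)] [∀ j, Module.Flat A (B j)]
    (hsurj : ∀ m : Ideal A, m.IsMaximal → ∃ j, m.map (algebraMap A (B j)) ≠ ⊤)
    (τ : ∀ j, QA ⋙ FFDescent.tens (B j) ⟶ (CechSplit.mulL (Y j)).op ⋙ QA)
    (hτ : ∀ (j : ι) (n : SimplexCategory) (a : ToType n → ι),
      IsIso ((τ j).app (op (∏ᶜ (Y ∘ a))))) (n : ℕ) :
    ((cechComplexFunctor Y).obj QA).ExactAt (n + 1) := by
  set K := (cechComplexFunctor Y).obj QA with hK
  have hj : ∀ j, (((FFDescent.tens (B j)).mapHomologicalComplex _).obj K).ExactAt (n + 1) := by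
    intro j
    have h1 := CechSplit.exactAt_mulL Y j QA n
    have := isIso_cech_map Y (τ j) (hτ j)
    have h2 := h1.of_iso (asIso ((cechComplexFunctor Y).map (τ j))).symm
    exact h2.of_iso (CechFunctor.cochainIso (FFDescent.tens (B j)) Y QA)
  rw [HomologicalComplex.exactAt_iff' _ n (n + 1) (n + 2) (by simp) (by simp),
    sc_exact_iff]
  refine FFDescent.exact_of_family B hsurj (K.d n (n + 1)).hom (K.d (n + 1) (n + 2)).hom ?_
  intro j
  have h3 := hj j
  rw [HomologicalComplex.exactAt_iff' _ n (n + 1) (n + 2) (by simp) (by simp),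
    sc_exact_iff] at h3
  exact h3

end Groth.Agent.Lib.Helper4.CechDescent
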