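import Groth.Agent.Lib.Helper4.CechContr
import Groth.Agent.Lib.Helper28.CechBC
import Mathlib.CategoryTheory.Limits.FormalCoproducts.ExtraDegeneracy
import Mathlib.CategoryTheory.Comma.Over.Pullback
import Mathlib.CategoryTheory.Adjunction.Limits

namespace Groth.Agent.Lib.Helper4.CechSplit

open CategoryTheory Limits Opposite Simplicial AlgebraicTopology
open Groth.Agent.Lib.Helper28

universe w v u v'' u''

variable {𝒟 : Type u} [Category.{v} 𝒟] [HasFiniteProducts 𝒟]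
  {R : Type u''} [Ring R] [HasProducts.{w} (ModuleCat.{v''} R)]
  {ι : Type w} (Y : ι → 𝒟)

noncomputable def mulL (V : 𝒟) : 𝒟 ⥤ 𝒟 := Over.star V ⋙ Over.forget V

lemma exactAt_of_section {𝒟' : Type u} [Category.{v} 𝒟'] [HasFiniteProducts 𝒟']
    (Y' : ι → 𝒟') {T : 𝒟'} (hT : IsTerminal T) (j : ι) (d : T ⟶ Y' j)
    (P' : 𝒟'ᵒᵖ ⥤ ModuleCat.{v''} R) (n : ℕ) :
    ((cechComplexFunctor Y').obj P').ExactAt (n + 1) := by
  have ed := FormalCoproduct.extraDegeneracyCech (FormalCoproduct.mk ι Y') hT (i₀ := j) d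
  have c := CechContr.contrOfExtraDegeneracy ed ((FormalCoproduct.evalOp 𝒟' (ModuleCat.{v''} R)).obj P')
  exact CechContr.exactAt_of_contr c n

instance (V : 𝒟) : PreservesFiniteProducts (Over.star V) := by
  have : PreservesLimitsOfSize.{0, 0} (Over.star V) :=
    (Over.forgetAdjStar V).rightAdjoint_preservesLimits
  exact ⟨fun n => inferInstance⟩

theorem exactAt_mulL (j : ι) [HasFiniteProducts (Over (Y j))]
    (P : 𝒟ᵒᵖ ⥤ ModuleCat.{v''} R) (n : ℕ) :
    ((cechComplexFunctor Y).obj ((mulL (Y j)).op ⋙ P)).ExactAt (n + 1) := by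
  let P' : (Over (Y j))ᵒᵖ ⥤ ModuleCat.{v''} R := (Over.forget (Y j)).op ⋙ P
  have e : (cechComplexFunctor Y).obj ((Over.star (Y j)).op ⋙ P') ≅
      (cechComplexFunctor (fun i => (Over.star (Y j)).obj (Y i))).obj P' :=
    CechBC.cochainIso (Over.star (Y j)) Y P'
  have hT : IsTerminal (Over.mk (𝟙 (Y j))) := Over.mkIdTerminal
  let d : Over.mk (𝟙 (Y j)) ⟶ (Over.star (Y j)).obj (Y j) :=
    (Over.forgetAdjStar (Y j)).homEquiv (Over.mk (𝟙 (Y j))) (Y j) (𝟙 (Y j))
  have h := exactAt_of_section (R := R) (fun i => (Over.star (Y j)).obj (Y i)) hT j d P' n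
  exact h.of_iso e.symm

end Groth.Agent.Lib.Helper4.CechSplit
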