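import Groth.Agent.Lib.Helper68.RightDerivedLES
import Groth.Agent.Lib.Helper68.AcycTransfer
import Mathlib.Algebra.Homology.GrothendieckAbelian
import Mathlib.Algebra.Homology.HomologySequence
import Mathlib.CategoryTheory.Abelian.GrothendieckCategory.EnoughInjectives
import Mathlib.Algebra.Category.Grp.AB
import Mathlib.Algebra.Homology.ShortComplex.Ab

set_option autoImplicit false
open CategoryTheory CategoryTheory.Limits

namespace Groth.Agent.Lib.Helper4.ChDer
universe u

abbrev Ch := CochainComplex AddCommGrpCat.{u} ℕ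

noncomputable abbrev S0 : Ch.{u} ⥤ AddCommGrpCat.{u} := HomologicalComplex.homologyFunctor _ _ 0

lemma isIso_homologyπ_zero (K : Ch.{u}) : IsIso (K.homologyπ 0) :=
  K.isIso_homologyπ 0 0 (by simp) (K.shape _ _ (by simp))

lemma mono_homologyMap_zero {K L : Ch.{u}} (f : K ⟶ L) [Mono f] :
    Mono (HomologicalComplex.homologyMap f 0) := by
  have := isIso_homologyπ_zero K
  have := isIso_homologyπ_zero L
  have : Mono (f.f 0) := inferInstance
  have : Mono (HomologicalComplex.cyclesMap f 0) := by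
    have h : HomologicalComplex.cyclesMap f 0 ≫ L.iCycles 0 = K.iCycles 0 ≫ f.f 0 := by simp
    exact mono_of_mono_fac h
  have h : HomologicalComplex.homologyMap f 0 =
      inv (K.homologyπ 0) ≫ HomologicalComplex.cyclesMap f 0 ≫ L.homologyπ 0 := by
    rw [IsIso.eq_inv_comp]
    exact HomologicalComplex.homologyπ_naturality f 0
  rw [h]
  infer_instance

instance : PreservesFiniteLimits S0.{u} := by
  refine ((S0.{u}).preservesFiniteLimits_tfae.out 0 3).1 ?_
  intro S hS
  have := hS.mono_f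
  exact ⟨hS.homology_exact₂ 0, mono_homologyMap_zero S.f⟩

noncomputable def DX (K : Ch.{u}) (n : ℕ) : AddCommGrpCat.{u} :=
  AddCommGrpCat.of (K.X n × K.X (n + 1))

noncomputable def Dd (K : Ch.{u}) (n : ℕ) : DX K n ⟶ DX K (n + 1) :=
  AddCommGrpCat.ofHom ((AddMonoidHom.inl (K.X (n + 1)) (K.X (n + 1 + 1))).comp
    (AddMonoidHom.snd (K.X n) (K.X (n + 1))))

lemma Dd_apply (K : Ch.{u}) (n : ℕ) (x : K.X n × K.X (n + 1)) :
    (Dd K n).hom x = (x.2, 0) := rfl

noncomputable def D (K : Ch.{u}) : Ch.{u} :=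
  CochainComplex.of (DX K) (Dd K) (fun n => by
    ext x
    rfl)

noncomputable def ιD (K : Ch.{u}) : K ⟶ D K where
  f n := AddCommGrpCat.ofHom ((AddMonoidHom.id _).prod (K.d n (n + 1)).hom)
  comm' i j hij := by
    obtain rfl : i + 1 = j := hij
    have hd : (D K).d i (i + 1) = Dd K i := CochainComplex.of_d (DX K) (Dd K) i
    rw [hd]
    ext x
    have h0 : (K.d (i + 1) (i + 1 + 1)).hom ((K.d i (i + 1)).hom x) = 0 := by
      have := K.d_comp_d i (i + 1) (i + 1 + 1)
      exact congrArg (fun t => t.hom x) this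
    change ((K.d i (i + 1)).hom x, (0 : K.X (i + 1 + 1))) =
      ((K.d i (i + 1)).hom x, (K.d (i + 1) (i + 1 + 1)).hom ((K.d i (i + 1)).hom x))
    rw [h0]


instance (K : Ch.{u}) : Mono (ιD K) := by
  have : ∀ n, Mono ((ιD K).f n) := fun n => by
    rw [AddCommGrpCat.mono_iff_injective]
    intro x y hxy
    exact congrArg Prod.fst hxy
  exact HomologicalComplex.mono_of_mono_f (ιD K) this

lemma isZero_homology_D (K : Ch.{u}) (p : ℕ) : IsZero ((D K).homology (p + 1)) := by
  rw [← HomologicalComplex.exactAt_iff_isZero_homology (D K) (p + 1),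
    HomologicalComplex.exactAt_iff' (D K) p (p + 1) (p + 1 + 1) (by simp) (by simp),
    ShortComplex.ab_exact_iff]
  intro x hx
  have h1 : (D K).d (p + 1) (p + 1 + 1) = Dd K (p + 1) := CochainComplex.of_d (DX K) (Dd K) (p + 1)
  have h0 : (D K).d p (p + 1) = Dd K p := CochainComplex.of_d (DX K) (Dd K) p
  have hx' : (Dd K (p + 1)).hom x = 0 := by
    rw [← h1]
    exact hx
  have hx2 : x.2 = 0 := congrArg Prod.fst hx'
  refine ⟨((0 : K.X p), x.1), ?_⟩
  change ((D K).d p (p + 1)).hom _ = x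
  rw [h0]
  change (x.1, (0 : K.X (p + 1 + 1))) = x
  rw [← hx2]
  rfl

theorem isZero_homology_of_injective (I : Ch.{u}) [Injective I] (p : ℕ) :
    IsZero (I.homology (p + 1)) := by
  let r : D I ⟶ I := Injective.factorThru (𝟙 I) (ιD I)
  have hr : ιD I ≫ r = 𝟙 I := Injective.comp_factorThru _ _
  rw [IsZero.iff_id_eq_zero]
  have h1 : HomologicalComplex.homologyMap (ιD I) (p + 1) ≫ HomologicalComplex.homologyMap r (p + 1) =
      𝟙 _ := by
    rw [← HomologicalComplex.homologyMap_comp, hr, HomologicalComplex.homologyMap_id]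
  rw [← h1, (isZero_homology_D I p).eq_of_tgt (HomologicalComplex.homologyMap (ιD I) (p + 1)) 0,
    zero_comp]


lemma nonempty_iso_of_exact {𝒜 : Type*} [Category 𝒜] [Abelian 𝒜] (S S' : ShortComplex 𝒜)
    (hS : S.Exact) (hS' : S'.Exact) [Epi S.g] [Epi S'.g] (α : S.X₁ ≅ S'.X₁) (β : S.X₂ ≅ S'.X₂)
    (comm : S.f ≫ β.hom = α.hom ≫ S'.f) : Nonempty (S.X₃ ≅ S'.X₃) := by
  have comm' : S'.f ≫ β.inv = α.inv ≫ S.f := by
    rw [← cancel_mono β.hom, Category.assoc, β.inv_hom_id, Category.comp_id, Category.assoc, comm,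
      α.inv_hom_id_assoc]
  refine ⟨⟨hS.desc (β.hom ≫ S'.g) (by rw [← Category.assoc, comm, Category.assoc, S'.zero, comp_zero]),
    hS'.desc (β.inv ≫ S.g) (by rw [← Category.assoc, comm', Category.assoc, S.zero, comp_zero]),
    ?_, ?_⟩⟩
  · rw [← cancel_epi S.g, hS.g_desc_assoc, Category.assoc, hS'.g_desc, β.hom_inv_id_assoc,
      Category.comp_id]
  · rw [← cancel_epi S'.g, hS'.g_desc_assoc, Category.assoc, hS.g_desc, β.inv_hom_id_assoc,
      Category.comp_id]

open Groth.Agent.Lib.Helper68 in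
theorem nonempty_rightDerived_iso : ∀ (p : ℕ) (K : Ch.{u}),
    Nonempty ((S0.{u}.rightDerived p).obj K ≅ K.homology p)
  | 0, K => ⟨S0.{u}.rightDerivedZeroIsoSelf.app K⟩
  | 1, K => by
    have hT := AcycTransfer.injSeq_shortExact K
    haveI : Epi (RightDerivedLES.δ S0.{u} hT 0) :=
      RightDerivedLES.epi_δ S0.{u} hT 0
        (Functor.isZero_rightDerived_obj_injective_succ S0.{u} 0 _)
    haveI : Epi (hT.δ 0 1 rfl) := hT.epi_δ 0 1 rfl (isZero_homology_of_injective _ 0)
    exact nonempty_iso_of_exact _ _ (RightDerivedLES.exact₃ S0.{u} hT 0)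
      (hT.homology_exact₃ 0 1 rfl) (S0.{u}.rightDerivedZeroIsoSelf.app _)
      (S0.{u}.rightDerivedZeroIsoSelf.app _)
      (S0.{u}.rightDerivedZeroIsoSelf.hom.naturality _)
  | p + 2, K => by
    have hT := AcycTransfer.injSeq_shortExact K
    obtain ⟨e⟩ := nonempty_rightDerived_iso (p + 1) (AcycTransfer.Qc K)
    haveI : IsIso (RightDerivedLES.δ S0.{u} hT (p + 1)) :=
      RightDerivedLES.isIso_δ S0.{u} hT (p + 1)
        (Functor.isZero_rightDerived_obj_injective_succ S0.{u} p _)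
        (Functor.isZero_rightDerived_obj_injective_succ S0.{u} (p + 1) _)
    haveI : IsIso (hT.δ (p + 1) (p + 1 + 1) rfl) :=
      hT.isIso_δ (p + 1) (p + 1 + 1) rfl (isZero_homology_of_injective _ p)
        (isZero_homology_of_injective _ (p + 1))
    exact ⟨(asIso (RightDerivedLES.δ S0.{u} hT (p + 1))).symm ≪≫ e ≪≫
      asIso (hT.δ (p + 1) (p + 1 + 1) rfl)⟩

end Groth.Agent.Lib.Helper4.ChDer
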