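import Groth.Prelude.Def_EtBase
import Groth.Agent.S9436
import Mathlib.AlgebraicGeometry.Morphisms.ClosedImmersion
import Mathlib.AlgebraicGeometry.Morphisms.Etale

set_option autoImplicit false
open CategoryTheory CategoryTheory.Limits AlgebraicGeometry Opposite TensorProduct
universe u

namespace Groth.Agent.Lib.Helper4.ClosedLift

/-- affine core, quotient form -/
theorem core_quot (R : CommRingCat.{u}) (I : Ideal R) (C : CommRingCat.{u})
    (ψ : CommRingCat.of (R ⧸ I) ⟶ C) (hψ : ψ.hom.Etale) :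
    ∃ (S : CommRingCat.{u}) (v : R ⟶ S) (b : S ⟶ C), v.hom.Etale ∧
      IsPullback (Spec.map ψ) (Spec.map b)
        (Spec.map (CommRingCat.ofHom (Ideal.Quotient.mk I))) (Spec.map v) := by
  let _ : Algebra (R ⧸ I) C := ψ.hom.toAlgebra
  have : Algebra.Etale (R ⧸ I) C := hψ
  obtain ⟨S, _, _, hS, ⟨e⟩⟩ := Groth.Agent.S9436.result R I C
  have P1 := CommRingCat.isPushout_tensorProduct R (R ⧸ I) S
  have P2 := isPullback_SpecMap_of_isPushout _ _ _ _ P1
  let E : CommRingCat.of ((R ⧸ I) ⊗[R] S) ≅ C := e.toRingEquiv.toCommRingCatIso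
  refine ⟨CommRingCat.of S, CommRingCat.ofHom (algebraMap R S),
    CommRingCat.ofHom (Algebra.TensorProduct.includeRight.toRingHom) ≫ E.hom, ?_, ?_⟩
  · exact RingHom.etale_algebraMap.mpr hS
  · have h1 : ψ = CommRingCat.ofHom (Algebra.TensorProduct.includeLeftRingHom) ≫ E.hom := by
      ext x
      change ψ.hom x = e (x ⊗ₜ 1)
      have := e.commutes x
      rw [Algebra.TensorProduct.algebraMap_apply] at this
      exact this.symm
    rw [h1, Spec.map_comp, Spec.map_comp]
    refine IsPullback.of_iso P2 (Scheme.Spec.mapIso E.op).symm (Iso.refl _) (Iso.refl _)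
      (Iso.refl _) ?_ ?_ (by simp) (by simp)
    · simp only [Iso.refl_hom, Category.comp_id, Iso.symm_hom, Functor.mapIso_inv, Iso.op_inv,
        Scheme.Spec_map, Quiver.Hom.unop_op]
      rw [← Spec.map_comp, ← Spec.map_comp, Category.assoc, Iso.hom_inv_id, Category.comp_id]
    · simp only [Iso.refl_hom, Category.comp_id, Iso.symm_hom, Functor.mapIso_inv, Iso.op_inv,
        Scheme.Spec_map, Quiver.Hom.unop_op]
      rw [← Spec.map_comp, ← Spec.map_comp, Category.assoc, Iso.hom_inv_id, Category.comp_id]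

theorem core_affine (R : CommRingCat.{u}) {X₀ : Scheme.{u}} (ι₀ : X₀ ⟶ Spec R)
    [IsClosedImmersion ι₀] (C : CommRingCat.{u}) (a : Spec C ⟶ X₀) [Etale a] :
    ∃ (S : CommRingCat.{u}) (v : Spec S ⟶ Spec R) (b : Spec C ⟶ Spec S), Etale v ∧
      IsPullback a b ι₀ v := by
  obtain ⟨I, e₀, hι⟩ := IsClosedImmersion.Spec_iff.1 (inferInstance : IsClosedImmersion ι₀)
  let ψ : CommRingCat.of (R ⧸ I) ⟶ C := Spec.preimage (a ≫ e₀.hom)
  have hψ' : Spec.map ψ = a ≫ e₀.hom := Spec.map_preimage _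
  have hψ : ψ.hom.Etale := by
    have : Etale (Spec.map ψ) := by rw [hψ']; infer_instance
    exact (HasRingHomProperty.Spec_iff (P := @Etale)).1 this
  obtain ⟨S, v, b, hv, hP⟩ := core_quot R I C ψ hψ
  refine ⟨S, Spec.map v, Spec.map b, (HasRingHomProperty.Spec_iff (P := @Etale)).2 hv, ?_⟩
  refine IsPullback.of_iso hP (Iso.refl _) e₀.symm (Iso.refl _) (Iso.refl _) ?_ (by simp) ?_ (by simp)
  · rw [hψ']
    simp
  · rw [hι]
    simp

theorem exists_lift_at {X Y : Scheme.{u}} (f : X ⟶ Y) [IsClosedImmersion f] (U : X.Etale)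
    (x : U.left) :
    ∃ (V : Y.Etale) (h : pullback V.hom f ⟶ U.left), h ≫ U.hom = pullback.snd V.hom f ∧
      IsOpenImmersion h ∧ x ∈ Set.range h.base := by
  have : Etale U.hom := U.prop
  obtain ⟨R, jY, hjY, hy, -⟩ := Scheme.exists_affine_mem_range_and_range_subset
    (X := Y) (x := f.base (U.hom.base x)) (U := ⊤) (by trivial)
  let p₀ := pullback.fst f jY
  let ι₀ := pullback.snd f jY
  have hxO : x ∈ U.hom ⁻¹ᵁ p₀.opensRange := by
    change U.hom.base x ∈ Set.range p₀.base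
    rw [Scheme.Pullback.range_fst]
    exact hy
  obtain ⟨C, jU, hjU, hx, hsub⟩ := Scheme.exists_affine_mem_range_and_range_subset
    (X := U.left) (x := x) (U := U.hom ⁻¹ᵁ p₀.opensRange) hxO
  have hr : Set.range (jU ≫ U.hom).base ⊆ Set.range p₀.base := by
    rintro _ ⟨c, rfl⟩
    exact hsub ⟨c, rfl⟩
  let a : Spec C ⟶ pullback f jY := IsOpenImmersion.lift p₀ (jU ≫ U.hom) hr
  have ha : a ≫ p₀ = jU ≫ U.hom := IsOpenImmersion.lift_fac _ _ _
  have : Etale a := by
    have h1 : Etale (a ≫ p₀) := by rw [ha]; infer_instance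
    exact EtCoh.etaleMP.of_postcomp (W' := EtCoh.etaleMP) a p₀ inferInstance h1
  obtain ⟨S, v, b, hv, hP⟩ := core_affine R ι₀ C a
  have big := (hP.paste_horiz (IsPullback.of_hasPullback f jY)).flip
  let V : Y.Etale := Scheme.Etale.mk (v ≫ jY)
  let iso : Spec C ≅ pullback V.hom f := big.isoPullback
  refine ⟨V, iso.inv ≫ jU, ?_, inferInstance, ?_⟩
  · rw [Category.assoc, ← ha]
    exact big.isoPullback_inv_snd
  · obtain ⟨c, rfl⟩ := hx
    exact ⟨iso.hom.base c, by
      change (iso.hom ≫ iso.inv ≫ jU).base c = _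
      rw [Iso.hom_inv_id_assoc]⟩

end Groth.Agent.Lib.Helper4.ClosedLift
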