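import Mathlib.CategoryTheory.Sites.Point.Comap

set_option autoImplicit false
open CategoryTheory CategoryTheory.Limits Opposite
universe w v

namespace Groth.Agent.Lib.Helper4.ComapCounit

open GrothendieckTopology

variable {C D : Type*} [Category* C] [Category* D]
  {K : GrothendieckTopology D}
  (Φ : Point.{w} K) (F : C ⥤ D) [RepresentablyFlat F] {J : GrothendieckTopology C}
  (hF : CoverPreserving J K F)
  [hsm : InitiallySmall.{w} (F ⋙ Φ.fiber).Elements]
  (A : Type*) [Category.{v} A] [HasProducts.{w} A]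
  [Functor.IsContinuous F J K]
  [(F.sheafPushforwardContinuous A J K).IsRightAdjoint]
  [HasColimitsOfSize.{w, w} A]

noncomputable def canon (P : Dᵒᵖ ⥤ A) :
    (Φ.comap F hF).presheafFiber.obj (F.op ⋙ P) ⟶ Φ.presheafFiber.obj P :=
  (Φ.comap F hF).presheafFiberDesc (fun V x => Φ.toPresheafFiber (F.obj V) x P) (by
    intro V V' f x
    exact Φ.toPresheafFiber_w (F.map f) x P)

@[reassoc (attr := simp)]
theorem toPresheafFiber_canon (P : Dᵒᵖ ⥤ A) (V : C) (x : (Φ.comap F hF).fiber.obj V) :
    (Φ.comap F hF).toPresheafFiber V x (F.op ⋙ P) ≫ canon Φ F hF A P =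
      Φ.toPresheafFiber (F.obj V) x P :=
  (Φ.comap F hF).toPresheafFiber_presheafFiberDesc _ _ _ _

theorem key (M : A) :
    (Φ.sheafFiberComapIso F hF A).hom.app
        ((Φ.skyscraperSheafFunctor ⋙ F.sheafPushforwardContinuous A J K).obj M) ≫
      ((F.sheafAdjunctionContinuous A J K).comp Φ.skyscraperSheafAdjunction).counit.app M =
    (Φ.comap F hF).skyscraperSheafAdjunction.counit.app M := by
  have := conjugateEquiv_counit_symm
    ((F.sheafAdjunctionContinuous A J K).comp Φ.skyscraperSheafAdjunction)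
    (Φ.comap F hF).skyscraperSheafAdjunction
    (Φ.skyscraperSheafFunctorCompSheafPushforwardContinuous F hF A).hom M
  have h1 : (Φ.comap F hF).sheafFiber.map
      ((Φ.skyscraperSheafFunctorCompSheafPushforwardContinuous F hF A).hom.app M) = 𝟙 _ :=
    (Φ.comap F hF).sheafFiber.map_id _
  rw [h1] at this
  exact this.symm.trans (Category.id_comp _)

theorem toFiber_counit (M : A) (V : C) (x : (Φ.comap F hF).fiber.obj V) :
    (Φ.comap F hF).toPresheafFiber V x ((Φ.comap F hF).skyscraperSheafFunctor.obj M).obj ≫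
      (Φ.comap F hF).skyscraperSheafAdjunction.counit.app M = Pi.π _ x := by
  have h : (Φ.comap F hF).skyscraperSheafAdjunction.counit.app M =
      (Φ.comap F hF).skyscraperPresheafHomEquiv.symm (𝟙 _) := by
    rw [← Adjunction.homEquiv_symm_id]
    exact (Φ.comap F hF).skyscraperSheafAdjunction_homEquiv_symm_apply (𝟙 _)
  rw [h]
  exact ((Φ.comap F hF).toPresheafFiber_skyscraperPresheafHomEquiv_symm _ _ _).trans
    (Category.id_comp _)

theorem unit_app_π (G : Sheaf K A) (W : D) (x : Φ.fiber.obj W) :
    (Φ.skyscraperSheafAdjunction.unit.app G).hom.app (op W) ≫ Pi.π _ x =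
      Φ.toPresheafFiber W x G.obj := by
  have h : (Φ.skyscraperSheafAdjunction.unit.app G).hom =
      Φ.skyscraperPresheafHomEquiv (𝟙 _) := by
    rw [← Adjunction.homEquiv_id]
    exact Φ.skyscraperSheafAdjunction_homEquiv_apply_hom (𝟙 _)
  rw [h]
  exact (Φ.skyscraperPresheafHomEquiv_app_π _ _ _).trans (Category.comp_id _)

theorem gamma_eq (G : Sheaf K A) :
    (Φ.sheafFiberComapIso F hF A).hom.app ((F.sheafPushforwardContinuous A J K).obj G) ≫
      Φ.sheafFiber.map ((F.sheafAdjunctionContinuous A J K).counit.app G) =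
    (Φ.comap F hF).sheafFiber.map ((F.sheafPushforwardContinuous A J K).map
        (Φ.skyscraperSheafAdjunction.unit.app G)) ≫
      (Φ.comap F hF).skyscraperSheafAdjunction.counit.app (Φ.sheafFiber.obj G) := by
  rw [← key Φ F hF A (Φ.sheafFiber.obj G), Adjunction.comp_counit_app]
  have h3 := (Φ.sheafFiberComapIso F hF A).hom.naturality
    ((F.sheafPushforwardContinuous A J K).map (Φ.skyscraperSheafAdjunction.unit.app G))
  have h2 := (F.sheafAdjunctionContinuous A J K).counit.naturality
    (Φ.skyscraperSheafAdjunction.unit.app G)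
  have h1 := Φ.skyscraperSheafAdjunction.left_triangle_components G
  dsimp at h1 h2 h3 ⊢
  rw [reassoc_of% h3, ← Φ.sheafFiber.map_comp_assoc, h2, Φ.sheafFiber.map_comp_assoc, h1,
    Category.comp_id]

theorem comp_counit_eq_canon (G : Sheaf K A) :
    (Φ.sheafFiberComapIso F hF A).hom.app ((F.sheafPushforwardContinuous A J K).obj G) ≫
      Φ.sheafFiber.map ((F.sheafAdjunctionContinuous A J K).counit.app G) =
    canon Φ F hF A G.obj := by
  rw [gamma_eq]
  apply (Φ.comap F hF).presheafFiber_hom_ext
  intro V x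
  refine Eq.trans ?_ (toPresheafFiber_canon Φ F hF A G.obj V x).symm
  have h1 := (Φ.comap F hF).toPresheafFiber_naturality
    ((F.sheafPushforwardContinuous A J K).map (Φ.skyscraperSheafAdjunction.unit.app G)).hom V x
  have h2 := toFiber_counit Φ F hF A (Φ.sheafFiber.obj G) V x
  have h3 := unit_app_π Φ A G (F.obj V) x
  refine ((Category.assoc _ _ _).symm.trans ((congrArg (· ≫ _) h1).trans
    ((Category.assoc _ _ _).trans ((congrArg (_ ≫ ·) h2).trans h3))))

theorem isIso_canon [(Functor.Elements.precomp F Φ.fiber).Initial] (P : Dᵒᵖ ⥤ A) :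
    IsIso (canon Φ F hF A P) := by
  let E := Functor.Elements.precomp F Φ.fiber
  let G := (CategoryOfElements.π Φ.fiber).op ⋙ P
  have h : canon Φ F hF A P = colimit.pre G E.op := by
    apply (Φ.comap F hF).presheafFiber_hom_ext
    intro V x
    refine (toPresheafFiber_canon Φ F hF A P V x).trans ?_
    exact (colimit.ι_pre G E.op (op ⟨V, x⟩)).symm
  rw [h]
  have : E.op.Final := Functor.final_op_of_initial E
  exact Functor.Final.colimit_pre_isIso E.op

include hF hsm in
theorem isIso_sheafFiber_map_counit [(Functor.Elements.precomp F Φ.fiber).Initial]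
    (G : Sheaf K A) :
    IsIso (Φ.sheafFiber.map ((F.sheafAdjunctionContinuous A J K).counit.app G)) := by
  have h := comp_counit_eq_canon Φ F hF A G
  have h2 : IsIso (canon Φ F hF A G.obj) := isIso_canon Φ F hF A G.obj
  rw [← h] at h2
  exact @IsIso.of_isIso_comp_left _ _ _ _ _
    ((Φ.sheafFiberComapIso F hF A).hom.app ((F.sheafPushforwardContinuous A J K).obj G)) _
    inferInstance h2

noncomputable def fiberPushIso [(Functor.Elements.precomp F Φ.fiber).Initial]
    (G : Sheaf K A) :
    (Φ.comap F hF).sheafFiber.obj ((F.sheafPushforwardContinuous A J K).obj G) ≅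
      Φ.sheafFiber.obj G :=
  @asIso _ _ _ _ (canon Φ F hF A G.obj) (isIso_canon Φ F hF A G.obj)

theorem unit_comp_canon (P : Sheaf J A) :
    (Φ.comap F hF).sheafFiber.map ((F.sheafAdjunctionContinuous A J K).unit.app P) ≫
      canon Φ F hF A ((F.sheafPullback A J K).obj P).obj =
    (Φ.sheafFiberComapIso F hF A).hom.app P := by
  rw [← comp_counit_eq_canon Φ F hF A ((F.sheafPullback A J K).obj P)]
  have h3 := (Φ.sheafFiberComapIso F hF A).hom.naturality
    ((F.sheafAdjunctionContinuous A J K).unit.app P)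
  have h1 := (F.sheafAdjunctionContinuous A J K).left_triangle_components P
  dsimp at h1 h3 ⊢
  refine (Category.assoc _ _ _).symm.trans ?_
  refine (congrArg (· ≫ Φ.sheafFiber.map ((F.sheafAdjunctionContinuous A J K).counit.app
    ((F.sheafPullback A J K).obj P))) h3).trans ?_
  refine (Category.assoc _ _ _).trans ?_
  rw [← Φ.sheafFiber.map_comp, h1, CategoryTheory.Functor.map_id]
  exact Category.comp_id _

theorem germ_unit (P : Sheaf J A) (V : C) (x : (Φ.comap F hF).fiber.obj V) :
    ((F.sheafAdjunctionContinuous A J K).unit.app P).hom.app (op V) ≫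
      Φ.toPresheafFiber (F.obj V) x ((F.sheafPullback A J K).obj P).obj =
    (Φ.comap F hF).toPresheafFiber V x P.obj ≫ (Φ.sheafFiberComapIso F hF A).hom.app P := by
  rw [← unit_comp_canon Φ F hF A P]
  have h1 := toPresheafFiber_canon Φ F hF A ((F.sheafPullback A J K).obj P).obj V x
  have h2 := (Φ.comap F hF).toPresheafFiber_naturality
    ((F.sheafAdjunctionContinuous A J K).unit.app P).hom V x
  refine (congrArg (_ ≫ ·) h1.symm).trans ?_
  refine (Category.assoc _ _ _).symm.trans ?_
  refine (congrArg (· ≫ canon Φ F hF A ((F.sheafPullback A J K).obj P).obj) h2.symm).trans ?_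
  exact Category.assoc _ _ _

end Groth.Agent.Lib.Helper4.ComapCounit
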