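import Groth.Agent.Lib.Helper4.ClosedLift
import Groth.Agent.Lib.Helper4.EtStalkPull
import Groth.Agent.Lib.Helper4.ComapCounit
import Groth.Agent.Lib.Helper4.EtStalk
import Groth.Agent.S0063

set_option autoImplicit false
open CategoryTheory CategoryTheory.Limits AlgebraicGeometry Opposite
universe u

namespace Groth.Agent.Lib.Helper4.ClosedStalk

variable {Z X : Scheme.{u}} (i : Z ⟶ X) [IsClosedImmersion i] {Ω : Type u} [Field Ω]
  [IsSepClosed Ω] (ζ : Spec (CommRingCat.of Ω) ⟶ Z)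

noncomputable abbrev E : (EtCoh.bc i ⋙ (Scheme.pointSmallEtale ζ).fiber).Elements ⥤
    (Scheme.pointSmallEtale ζ).fiber.Elements :=
  Functor.Elements.precomp (EtCoh.bc i) (Scheme.pointSmallEtale ζ).fiber

theorem bc_obj_hom {X Y : Scheme.{u}} (f : X ⟶ Y) (V : Y.Etale) :
    ((EtCoh.bc f).obj V).hom = pullback.snd V.hom f := rfl

theorem exists_hom (d : (Scheme.pointSmallEtale ζ).fiber.Elements) :
    ∃ c, Nonempty ((E i ζ).obj c ⟶ d) := by
  obtain ⟨W, w⟩ := d
  let w' : Over.mk ζ ⟶ (Scheme.Etale.forget Z).obj W := w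
  have hw' : w'.left ≫ W.hom = ζ := Over.w w'
  let pt : ↥(Spec (CommRingCat.of Ω)) := default
  obtain ⟨V, h, h1, h2, ⟨z, hz⟩⟩ := ClosedLift.exists_lift_at i W (w'.left.base pt)
  have hr : Set.range w'.left.base ⊆ Set.range h.base := by
    rintro _ ⟨a, rfl⟩
    have ha : a = pt := Subsingleton.elim (α := ↥(Spec (CommRingCat.of Ω))) a pt
    rw [ha]
    exact ⟨z, hz⟩
  let l : Spec (CommRingCat.of Ω) ⟶ pullback V.hom i := IsOpenImmersion.lift h w'.left hr
  have hl : l ≫ h = w'.left := IsOpenImmersion.lift_fac _ _ _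
  let g : (EtCoh.bc i).obj V ⟶ W := MorphismProperty.Over.homMk h h1
  let x : (Scheme.pointSmallEtale ζ).fiber.obj ((EtCoh.bc i).obj V) :=
    (Over.homMk l (by
      change l ≫ pullback.snd V.hom i = ζ
      exact ((congrArg (l ≫ ·) h1.symm).trans ((Category.assoc _ _ _).symm.trans
        ((congrArg (· ≫ W.hom) hl).trans hw')))) :
      Over.mk ζ ⟶ (Scheme.Etale.forget Z).obj ((EtCoh.bc i).obj V))
  refine ⟨⟨V, x⟩, ⟨⟨g, ?_⟩⟩⟩
  exact Over.OverMorphism.ext hl

theorem range_fst_of_isPullback {P A B C : Scheme.{u}} {fst : P ⟶ A} {snd : P ⟶ B} {f : A ⟶ C}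
    {g : B ⟶ C} (h : IsPullback fst snd f g) :
    Set.range fst.base = f.base ⁻¹' Set.range g.base := by
  have e : fst = h.isoPullback.hom ≫ pullback.fst f g := h.isoPullback_hom_fst.symm
  rw [← Scheme.Pullback.range_fst, e]
  ext a
  constructor
  · rintro ⟨p, rfl⟩
    exact ⟨h.isoPullback.hom.base p, rfl⟩
  · rintro ⟨p, rfl⟩
    refine ⟨h.isoPullback.inv.base p, ?_⟩
    change (h.isoPullback.inv ≫ h.isoPullback.hom ≫ pullback.fst f g).base p = _
    rw [Iso.inv_hom_id_assoc]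

theorem exists_equalizing {d : (Scheme.pointSmallEtale ζ).fiber.Elements}
    {c : (EtCoh.bc i ⋙ (Scheme.pointSmallEtale ζ).fiber).Elements}
    (s s' : (E i ζ).obj c ⟶ d) :
    ∃ (c' : (EtCoh.bc i ⋙ (Scheme.pointSmallEtale ζ).fiber).Elements) (t : c' ⟶ c),
      (E i ζ).map t ≫ s = (E i ζ).map t ≫ s' := by
  obtain ⟨W, w⟩ := d
  obtain ⟨V, x⟩ := c
  obtain ⟨s, hs⟩ := s
  obtain ⟨s', hs'⟩ := s'
  dsimp at s s' hs hs' x
  let pt : ↥(Spec (CommRingCat.of Ω)) := default
  let x' : Over.mk ζ ⟶ (Scheme.Etale.forget Z).obj ((EtCoh.bc i).obj V) := x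
  have hx' : x'.left ≫ ((EtCoh.bc i).obj V).hom = ζ := Over.w x'
  have : Etale W.hom := W.prop
  -- work in Over Z
  let A : Over Z := Over.mk ((EtCoh.bc i).obj V).hom
  let B : Over Z := Over.mk W.hom
  let f' : A ⟶ B := Over.homMk s.left (MorphismProperty.Over.w s)
  let g' : A ⟶ B := Over.homMk s'.left (MorphismProperty.Over.w s')
  have : IsOpenImmersion (pullback.diagonal B.hom) :=
    inferInstanceAs (IsOpenImmersion (pullback.diagonal W.hom))
  have hopen : IsOpenImmersion (equalizer.ι f' g').left :=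
    Groth.Agent.S0063.isOpenImmersion_equalizer_ι_left f' g'
  let e := (equalizer.ι f' g').left
  have he : e ≫ s.left = e ≫ s'.left :=
    congrArg (fun k => CommaMorphism.left k) (equalizer.condition f' g')
  let K : Over Z := Over.mk ζ
  let xk : K ⟶ A := Over.homMk x'.left hx'
  have hxk : xk ≫ f' = xk ≫ g' := by
    ext1
    have h1 := congrArg (fun k : Over.mk ζ ⟶ (Scheme.Etale.forget Z).obj W => k.left) hs
    have h2 := congrArg (fun k : Over.mk ζ ⟶ (Scheme.Etale.forget Z).obj W => k.left) hs'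
    exact h1.trans h2.symm
  let lk := equalizer.lift xk hxk
  have hlk : lk.left ≫ e = x'.left :=
    congrArg (fun k => CommaMorphism.left k) (equalizer.lift_ι xk hxk)
  have hx₀ : x'.left.base pt ∈ Set.range e.base :=
    ⟨lk.left.base pt, congrArg (fun (k : Spec (CommRingCat.of Ω) ⟶ pullback V.hom i) => k.base pt) hlk⟩
  let q := pullback.fst V.hom i
  have hq : IsClosedImmersion q := inferInstance
  obtain ⟨O, hO, hOe⟩ := q.isClosedEmbedding.isInducing.isOpen_iff.1
    e.isOpenEmbedding.isOpen_range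
  let O' : V.left.Opens := ⟨O, hO⟩
  have : Etale V.hom := V.prop
  let V' : X.Etale := Scheme.Etale.mk (O'.ι ≫ V.hom)
  let t₀ : V' ⟶ V := MorphismProperty.Over.homMk O'.ι rfl
  let m := ((EtCoh.bc i).map t₀).left
  have hpb := EtCoh.isPullback_bc_map i t₀
  have hm_open : IsOpenImmersion m :=
    MorphismProperty.of_isPullback (P := @IsOpenImmersion) hpb.flip
      (inferInstanceAs (IsOpenImmersion O'.ι))
  have hrm : Set.range m.base = Set.range e.base := by
    rw [range_fst_of_isPullback hpb, ← hOe]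
    congr 1
    exact Scheme.Opens.range_ι O'
  let m' := IsOpenImmersion.lift e m hrm.le
  have hm' : m' ≫ e = m := IsOpenImmersion.lift_fac _ _ _
  have hms : m ≫ s.left = m ≫ s'.left := by
    rw [← hm', Category.assoc, he, ← Category.assoc]
  have hxm : Set.range x'.left.base ⊆ Set.range m.base := by
    rintro _ ⟨a, rfl⟩
    have ha : a = pt := Subsingleton.elim (α := ↥(Spec (CommRingCat.of Ω))) a pt
    rw [ha]
    exact hrm.symm ▸ hx₀
  let lx := IsOpenImmersion.lift m x'.left hxm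
  have hlx : lx ≫ m = x'.left := IsOpenImmersion.lift_fac _ _ _
  have hmw : m ≫ ((EtCoh.bc i).obj V).hom = ((EtCoh.bc i).obj V').hom :=
    MorphismProperty.Over.w ((EtCoh.bc i).map t₀)
  let x'' : (Scheme.pointSmallEtale ζ).fiber.obj ((EtCoh.bc i).obj V') :=
    (Over.homMk lx (by
      exact ((congrArg (lx ≫ ·) hmw.symm).trans ((Category.assoc _ _ _).symm.trans
        ((congrArg (· ≫ ((EtCoh.bc i).obj V).hom) hlx).trans hx')))) :
      Over.mk ζ ⟶ (Scheme.Etale.forget Z).obj ((EtCoh.bc i).obj V'))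
  refine ⟨⟨V', x''⟩, ⟨t₀, ?_⟩, ?_⟩
  · exact Over.OverMorphism.ext hlx
  · apply Subtype.ext
    apply MorphismProperty.Over.Hom.ext
    exact hms

instance initial_E : (E i ζ).Initial := by
  have : IsCofiltered (EtCoh.bc i ⋙ (Scheme.pointSmallEtale ζ).fiber).Elements :=
    (EtStalkPull.comapPt i ζ).isCofiltered
  exact Functor.initial_of_exists_of_isCofiltered _ (exists_hom i ζ) (exists_equalizing i ζ)

theorem isIso_stalk_counit (G : EtCoh.Ab Z) :
    IsIso ((EtCoh.stalk ζ).map ((EtCoh.pullPushAdj i).counit.app G)) :=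
  ComapCounit.isIso_sheafFiber_map_counit (Scheme.pointSmallEtale ζ) (EtCoh.bc i)
    (EtCoh.coverPreserving_bc i) AddCommGrpCat.{u+1} G

instance isIso_counit_app (G : EtCoh.Ab Z) : IsIso ((EtCoh.pullPushAdj i).counit.app G) :=
  (EtStalk.isIso_iff_stalk _).2 fun _ _ _ ξ => isIso_stalk_counit i ξ G

instance isIso_counit : IsIso (EtCoh.pullPushAdj i).counit :=
  NatIso.isIso_of_isIso_app _

noncomputable def stalkPushIso (G : EtCoh.Ab Z) :
    (EtCoh.stalk (ζ ≫ i)).obj ((EtCoh.push i).obj G) ≅ (EtCoh.stalk ζ).obj G :=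
  (EtStalkPull.sheafFiberIso i ζ).app ((EtCoh.push i).obj G) ≪≫
    ComapCounit.fiberPushIso (Scheme.pointSmallEtale ζ) (EtCoh.bc i)
      (EtCoh.coverPreserving_bc i) AddCommGrpCat.{u+1} G

end Groth.Agent.Lib.Helper4.ClosedStalk
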