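import Mathlib.CategoryTheory.Sites.ConstantSheaf
import Mathlib.CategoryTheory.Sites.Point.Skyscraper
import Mathlib.CategoryTheory.Sites.Point.Over

set_option autoImplicit false
open CategoryTheory CategoryTheory.Limits Opposite

namespace Groth.Agent.Lib.Helper4.ConstStalk

universe w v' v u' u

section Const
variable {C : Type u} [Category.{v} C] {J : GrothendieckTopology C}
  [LocallySmall.{w} C] (Φ : GrothendieckTopology.Point.{w} J)
  (A : Type u') [Category.{v'} A] [HasProducts.{w} A]
  {T : C} (hT : IsTerminal T)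

noncomputable def skySectionsIso :
    Φ.skyscraperSheafFunctor (A := A) ⋙ (sheafSections J A).obj (op T) ≅ 𝟭 A :=
  letI : Unique (Φ.fiber.obj T) := Φ.uniqueFiberObj T hT
  NatIso.ofComponents (fun M => productUniqueIso (fun _ : Φ.fiber.obj T => M)) (by
    intro M N g
    exact Limits.Pi.map_π (fun _ : Φ.fiber.obj T => g) default)

variable [HasColimitsOfSize.{w, w} A] [HasWeakSheafify J A]

noncomputable def constFiberIso : constantSheaf J A ⋙ Φ.sheafFiber ≅ 𝟭 A :=
  Adjunction.leftAdjointUniq
    (((constantSheafAdj J A hT).comp Φ.skyscraperSheafAdjunction).ofNatIsoRight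
      (skySectionsIso Φ A hT))
    Adjunction.id

end Const


section Over
variable {C : Type u} [Category.{v} C] {J : GrothendieckTopology C}
  [LocallySmall.{w} C] (Φ : GrothendieckTopology.Point.{w} J) {U : C} (x : Φ.fiber.obj U)
  {A : Type u'} [Category.{v'} A] [HasColimitsOfSize.{w, w} A]

abbrev G : (FunctorToTypes.fromOverFunctor Φ.fiber x).Elements ⥤ Φ.fiber.Elements :=
  (FunctorToTypes.fromOverFunctorElementsEquivalence Φ.fiber x).functor ⋙
    Over.forget (Φ.fiber.elementsMk U x)

instance : (G Φ x).Initial := by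
  unfold G
  infer_instance

noncomputable def overPresheafFiberIso (P : Cᵒᵖ ⥤ A) :
    (Φ.over x).presheafFiber.obj ((Over.forget U).op ⋙ P) ≅ Φ.presheafFiber.obj P :=
  (HasColimit.isoOfNatIso (NatIso.ofComponents (fun _ => Iso.refl _) (by
    intro a b f
    simp only [Iso.refl_hom]
    erw [Category.comp_id, Category.id_comp]
    rfl) :
    (CategoryOfElements.π (Φ.over x).fiber).op ⋙ (Over.forget U).op ⋙ P ≅
      (G Φ x).op ⋙ (CategoryOfElements.π Φ.fiber).op ⋙ P)) ≪≫
  Functor.Final.colimitIso (G Φ x).op ((CategoryOfElements.π Φ.fiber).op ⋙ P)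

noncomputable def overSheafFiberIso (F : Sheaf J A) :
    (Φ.over x).sheafFiber.obj (F.over U) ≅ Φ.sheafFiber.obj F :=
  overPresheafFiberIso Φ x F.obj

end Over

end Groth.Agent.Lib.Helper4.ConstStalk
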