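import Mathlib.Algebra.Homology.DerivedCategory.ExactFunctor
import Mathlib.Algebra.Homology.DerivedCategory.HomologySequence
import Mathlib.CategoryTheory.Localization.Adjunction
import Mathlib.CategoryTheory.Adjunction.Reflective

set_option autoImplicit false
open CategoryTheory CategoryTheory.Limits

namespace Groth.Agent.Lib.Helper4.DerivedAdj

universe w₁ w₂ v₁ v₂ u₁ u₂

section Cx

variable {C₁ : Type u₁} [Category.{v₁} C₁] [Preadditive C₁]
  {C₂ : Type u₂} [Category.{v₂} C₂] [Preadditive C₂]
  {G : C₁ ⥤ C₂} {F : C₂ ⥤ C₁} [G.Additive] [F.Additive] (adj : G ⊣ F)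
  {ι : Type*} (c : ComplexShape ι)

@[simps]
def cxUnit : 𝟭 (HomologicalComplex C₁ c) ⟶
    G.mapHomologicalComplex c ⋙ F.mapHomologicalComplex c where
  app K := { f := fun i => adj.unit.app (K.X i)
             comm' := fun i j _ => (adj.unit.naturality (K.d i j)).symm }
  naturality K L φ := by
    ext i
    exact adj.unit.naturality (φ.f i)

@[simps]
def cxCounit : F.mapHomologicalComplex c ⋙ G.mapHomologicalComplex c ⟶
    𝟭 (HomologicalComplex C₂ c) where
  app K := { f := fun i => adj.counit.app (K.X i)
             comm' := fun i j _ => (adj.counit.naturality (K.d i j)).symm }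
  naturality K L φ := by
    ext i
    exact adj.counit.naturality (φ.f i)

def cxAdj : G.mapHomologicalComplex c ⊣ F.mapHomologicalComplex c :=
  Adjunction.mkOfUnitCounit
    { unit := cxUnit adj c
      counit := cxCounit adj c
      left_triangle := by
        ext K i
        simp
        exact adj.left_triangle_components (K.X i)
      right_triangle := by
        ext K i
        simp
        exact adj.right_triangle_components (K.X i) }

end Cx

section Der

variable {C₁ : Type u₁} [Category.{v₁} C₁] [Abelian C₁] [HasDerivedCategory.{w₁} C₁]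
  {C₂ : Type u₂} [Category.{v₂} C₂] [Abelian C₂] [HasDerivedCategory.{w₂} C₂]
  {G : C₁ ⥤ C₂} {F : C₂ ⥤ C₁} [G.Additive] [F.Additive]
  [PreservesFiniteLimits G] [PreservesFiniteColimits G]
  [PreservesFiniteLimits F] [PreservesFiniteColimits F] (adj : G ⊣ F)

noncomputable instance catCommSqG : CatCommSq (G.mapHomologicalComplex (ComplexShape.up ℤ))
    (DerivedCategory.Q (C := C₁)) (DerivedCategory.Q (C := C₂)) G.mapDerivedCategory :=
  ⟨G.mapDerivedCategoryFactors.symm⟩

noncomputable def derAdj : G.mapDerivedCategory ⊣ F.mapDerivedCategory :=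
  (cxAdj adj (ComplexShape.up ℤ)).localization DerivedCategory.Q
    (HomologicalComplex.quasiIso C₁ (ComplexShape.up ℤ)) DerivedCategory.Q
    (HomologicalComplex.quasiIso C₂ (ComplexShape.up ℤ)) G.mapDerivedCategory F.mapDerivedCategory

theorem derAdj_counit_app (L : CochainComplex C₂ ℤ) :
    (derAdj adj).counit.app (DerivedCategory.Q.obj L) =
      G.mapDerivedCategory.map (F.mapDerivedCategoryFactors.hom.app L) ≫
        G.mapDerivedCategoryFactors.hom.app ((F.mapHomologicalComplex _).obj L) ≫
        DerivedCategory.Q.map ((cxAdj adj (ComplexShape.up ℤ)).counit.app L) :=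
  Adjunction.localization_counit_app _ _ _ _ _ _ _ _

theorem derAdj_unit_app (K : CochainComplex C₁ ℤ) :
    (derAdj adj).unit.app (DerivedCategory.Q.obj K) =
      DerivedCategory.Q.map ((cxAdj adj (ComplexShape.up ℤ)).unit.app K) ≫
        F.mapDerivedCategoryFactors.inv.app ((G.mapHomologicalComplex _).obj K) ≫
        F.mapDerivedCategory.map (G.mapDerivedCategoryFactors.inv.app K) :=
  Adjunction.localization_unit_app _ _ _ _ _ _ _ _

theorem isIso_of_isIso_app_Q {D : Type*} [Category D] {H₁ H₂ : DerivedCategory C₂ ⥤ D}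
    (τ : H₁ ⟶ H₂) (h : ∀ L : CochainComplex C₂ ℤ, IsIso (τ.app (DerivedCategory.Q.obj L))) :
    IsIso τ := by
  have : ∀ K, IsIso (τ.app K) := by
    intro K
    have e : DerivedCategory.Q.obj (DerivedCategory.Q.objPreimage K) ≅ K :=
      DerivedCategory.Q.objObjPreimageIso K
    have hn := τ.naturality e.hom
    have := h (DerivedCategory.Q.objPreimage K)
    have h2 : τ.app K = H₁.map e.inv ≫ τ.app (DerivedCategory.Q.obj
        (DerivedCategory.Q.objPreimage K)) ≫ H₂.map e.hom := by
      rw [← hn, ← Category.assoc, ← H₁.map_comp, e.inv_hom_id, H₁.map_id, Category.id_comp]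
    rw [h2]
    infer_instance
  exact NatIso.isIso_of_isIso_app τ

theorem isIso_cxCounit_app [IsIso adj.counit] (L : CochainComplex C₂ ℤ) :
    IsIso ((cxAdj adj (ComplexShape.up ℤ)).counit.app L) := by
  have : ∀ i, IsIso (((cxAdj adj (ComplexShape.up ℤ)).counit.app L).f i) := by
    intro i
    change IsIso (adj.counit.app (L.X i))
    infer_instance
  exact HomologicalComplex.Hom.isIso_of_components _

theorem isIso_derAdj_counit [IsIso adj.counit] : IsIso (derAdj adj).counit := by
  apply isIso_of_isIso_app_Q
  intro L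
  rw [derAdj_counit_app]
  have := isIso_cxCounit_app adj L
  infer_instance

theorem isIso_homologyMap_cxUnit_iff (L : CochainComplex C₁ ℤ) (n : ℤ) :
    IsIso (HomologicalComplex.homologyMap ((cxAdj adj (ComplexShape.up ℤ)).unit.app L) n) ↔
      IsIso (adj.unit.app (L.homology n)) := by
  have : PreservesFiniteLimits (G ⋙ F) := comp_preservesFiniteLimits G F
  have : PreservesFiniteColimits (G ⋙ F) := comp_preservesFiniteColimits G F
  have : (G ⋙ F).PreservesHomology := Functor.preservesHomologyOfExact _
  have h := NatTrans.app_homology adj.unit (L.sc n)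
  have e : HomologicalComplex.homologyMap ((cxAdj adj (ComplexShape.up ℤ)).unit.app L) n =
      ShortComplex.homologyMap ((L.sc n).mapNatTrans adj.unit) := rfl
  rw [e]
  constructor
  · intro hi
    change IsIso (adj.unit.app (L.sc n).homology)
    rw [h]
    exact @IsIso.comp_isIso _ _ _ _ _ _ _ inferInstance
      (@IsIso.comp_isIso _ _ _ _ _ _ _ hi inferInstance)
  · intro hi
    have hi' : IsIso (adj.unit.app (L.sc n).homology) := hi
    rw [h] at hi'
    have h2 : IsIso (ShortComplex.homologyMap ((L.sc n).mapNatTrans adj.unit) ≫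
        ((L.sc n).mapHomologyIso (G ⋙ F)).hom) :=
      IsIso.of_isIso_comp_left ((L.sc n).mapHomologyIso (𝟭 C₁)).inv _
    exact @IsIso.of_isIso_comp_right _ _ _ _ _ _ ((L.sc n).mapHomologyIso (G ⋙ F)).hom
      inferInstance h2

theorem isIso_derAdj_unit_app_Q_iff (L : CochainComplex C₁ ℤ) :
    IsIso ((derAdj adj).unit.app (DerivedCategory.Q.obj L)) ↔
      ∀ n : ℤ, IsIso (adj.unit.app (L.homology n)) := by
  rw [derAdj_unit_app]
  have h1 : IsIso (DerivedCategory.Q.map ((cxAdj adj (ComplexShape.up ℤ)).unit.app L) ≫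
      F.mapDerivedCategoryFactors.inv.app ((G.mapHomologicalComplex _).obj L) ≫
      F.mapDerivedCategory.map (G.mapDerivedCategoryFactors.inv.app L)) ↔
      IsIso (DerivedCategory.Q.map ((cxAdj adj (ComplexShape.up ℤ)).unit.app L)) := by
    constructor
    · intro h
      exact IsIso.of_isIso_comp_right _ (F.mapDerivedCategoryFactors.inv.app
        ((G.mapHomologicalComplex _).obj L) ≫
        F.mapDerivedCategory.map (G.mapDerivedCategoryFactors.inv.app L))
    · intro h
      infer_instance
  rw [h1, DerivedCategory.isIso_Q_map_iff_quasiIso, quasiIso_iff]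
  refine forall_congr' fun n => ?_
  rw [quasiIsoAt_iff_isIso_homologyMap, isIso_homologyMap_cxUnit_iff]

theorem isIso_derAdj_unit_app_iff (K : DerivedCategory C₁) :
    IsIso ((derAdj adj).unit.app K) ↔
      ∀ n : ℤ, IsIso (adj.unit.app ((DerivedCategory.homologyFunctor C₁ n).obj K)) := by
  have e : DerivedCategory.Q.obj (DerivedCategory.Q.objPreimage K) ≅ K :=
    DerivedCategory.Q.objObjPreimageIso K
  rw [← NatTrans.isIso_app_iff_of_iso (derAdj adj).unit e, isIso_derAdj_unit_app_Q_iff]
  refine forall_congr' fun n => ?_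
  exact NatTrans.isIso_app_iff_of_iso adj.unit
    (((DerivedCategory.homologyFunctorFactors C₁ n).app _).symm ≪≫
      (DerivedCategory.homologyFunctor C₁ n).mapIso e)

noncomputable def fullyFaithful [IsIso adj.counit] : F.mapDerivedCategory.FullyFaithful :=
  have := isIso_derAdj_counit adj
  (derAdj adj).fullyFaithfulROfIsIsoCounit

end Der

end Groth.Agent.Lib.Helper4.DerivedAdj
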