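import Groth.Agent.Lib.Helper4.DescSS
import Groth.Agent.Lib.Helper10.CosimpExtra
import Mathlib.AlgebraicTopology.ExtraDegeneracy
import Mathlib.AlgebraicTopology.CechNerve
import Mathlib.Algebra.Category.Grp.Abelian
import Mathlib.CategoryTheory.Comma.Over.Basic

set_option autoImplicit false
open CategoryTheory CategoryTheory.Limits Opposite Simplicial AlgebraicTopology

namespace Groth.Agent.Lib.Helper4.DescCech

open Groth.Agent.Lib.Helper10

universe v u v' u'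

variable {C : Type u} [Category.{v} C]

section ToOver

variable (X : SimplicialObject.Augmented C)

lemma aug_w {n m : SimplexCategoryᵒᵖ} (θ : n ⟶ m) :
    X.left.map θ ≫ X.hom.app m = X.hom.app n := by
  have := X.hom.naturality θ
  simpa using this

def toOver : SimplicialObject (Over X.right) where
  obj n := Over.mk (X.hom.app n)
  map {n m} θ := Over.homMk (X.left.map θ) (aug_w X θ)
  map_id n := by
    ext
    simp
  map_comp θ θ' := by
    ext
    simp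

variable {𝒜 : Type u'} [Category.{v'} 𝒜] [Preadditive 𝒜] (G : (Over X.right)ᵒᵖ ⥤ 𝒜)

def cos : CosimplicialObject 𝒜 := (toOver X).rightOp ⋙ G

variable {X}

lemma ed_s_w (ed : X.ExtraDegeneracy) (n : ℕ) :
    ed.s n ≫ X.hom.app (op ⦋n + 1⦌) = X.hom.app (op ⦋n⦌) := by
  have h1 : X.left.δ (0 : Fin (n + 2)) ≫ X.hom.app (op ⦋n⦌) = X.hom.app (op ⦋n + 1⦌) :=
    aug_w X (SimplexCategory.δ (0 : Fin (n + 2))).op
  rw [← h1, ← Category.assoc, ed.s_comp_δ₀, Category.id_comp]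

def sOver (ed : X.ExtraDegeneracy) (n : ℕ) :
    (toOver X).obj (op ⦋n⦌) ⟶ (toOver X).obj (op ⦋n + 1⦌) :=
  Over.homMk (ed.s n) (ed_s_w ed n)

def s'Over (ed : X.ExtraDegeneracy) : Over.mk (𝟙 X.right) ⟶ (toOver X).obj (op ⦋0⦌) :=
  Over.homMk ed.s' ed.s'_comp_ε

def εOver (X : SimplicialObject.Augmented C) : (toOver X).obj (op ⦋0⦌) ⟶ Over.mk (𝟙 X.right) :=
  Over.homMk (X.hom.app (op ⦋0⦌)) (Category.comp_id _)

lemma cos_δ (n : ℕ) (i : Fin (n + 2)) :
    (cos X G).δ i = G.map ((toOver X).δ i).op := rfl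

omit [Preadditive 𝒜] in
lemma map_op_comp {a b c : Over X.right} (φ : a ⟶ b) (ψ : b ⟶ c) :
    G.map ψ.op ≫ G.map φ.op = G.map (φ ≫ ψ).op := by
  rw [op_comp, G.map_comp]

omit [Preadditive 𝒜] in
lemma map_op_congr {a b : Over X.right} {φ ψ : a ⟶ b} (h : φ = ψ) :
    G.map φ.op = G.map ψ.op := by
  rw [h]

lemma h_ε_δ : (toOver X).δ (0 : Fin 2) ≫ εOver X = (toOver X).δ (1 : Fin 2) ≫ εOver X := by
  ext
  change X.left.δ 0 ≫ X.hom.app (op ⦋0⦌) = X.left.δ 1 ≫ X.hom.app (op ⦋0⦌)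
  rw [show X.left.δ (0 : Fin 2) ≫ X.hom.app (op ⦋0⦌) = X.hom.app (op ⦋1⦌) from
    aug_w X (SimplexCategory.δ (0 : Fin 2)).op,
    show X.left.δ (1 : Fin 2) ≫ X.hom.app (op ⦋0⦌) = X.hom.app (op ⦋1⦌) from
    aug_w X (SimplexCategory.δ (1 : Fin 2)).op]

lemma h_ε_π (ed : X.ExtraDegeneracy) : s'Over ed ≫ εOver X = 𝟙 _ := by
  ext
  exact ed.s'_comp_ε

lemma h_δ₀_h (ed : X.ExtraDegeneracy) (n : ℕ) :
    sOver ed n ≫ (toOver X).δ (0 : Fin (n + 2)) = 𝟙 _ := by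
  ext
  exact ed.s_comp_δ₀ n

lemma h_δ₁_h₀ (ed : X.ExtraDegeneracy) :
    sOver ed 0 ≫ (toOver X).δ (1 : Fin 2) = εOver X ≫ s'Over ed := by
  ext
  exact ed.s₀_comp_δ₁

lemma h_δ_succ_h (ed : X.ExtraDegeneracy) (n : ℕ) (j : Fin (n + 2)) :
    sOver ed (n + 1) ≫ (toOver X).δ j.succ = (toOver X).δ j ≫ sOver ed n := by
  ext
  exact ed.s_comp_δ n j

def coExtra (ed : X.ExtraDegeneracy) :
    CoExtra (cos X G) (G.obj (op (Over.mk (𝟙 X.right)))) where
  ε := G.map (εOver X).op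
  π := G.map (s'Over ed).op
  h n := G.map (sOver ed n).op
  ε_δ := (map_op_comp G _ _).trans ((map_op_congr G h_ε_δ).trans (map_op_comp G _ _).symm)
  ε_π := (map_op_comp G _ _).trans ((map_op_congr G (h_ε_π ed)).trans (by rw [op_id, G.map_id]))
  δ₀_h n := (map_op_comp G _ _).trans
    ((map_op_congr G (h_δ₀_h ed n)).trans (by rw [op_id, G.map_id]; rfl))
  δ₁_h₀ := (map_op_comp G _ _).trans
    ((map_op_congr G (h_δ₁_h₀ ed)).trans (map_op_comp G _ _).symm)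
  δ_succ_h n j := (map_op_comp G _ _).trans
    ((map_op_congr G (h_δ_succ_h ed n j)).trans (map_op_comp G _ _).symm)

end ToOver

section Homology

variable {X : SimplicialObject.Augmented C} {𝒜 : Type u'} [Category.{v'} 𝒜] [Abelian 𝒜]
  (G : (Over X.right)ᵒᵖ ⥤ 𝒜) (ed : X.ExtraDegeneracy)

noncomputable def Kc : CochainComplex 𝒜 ℕ := (alternatingCofaceMapComplex 𝒜).obj (cos X G)

noncomputable def hK0 : (Kc G).homology 0 ≅ G.obj (op (Over.mk (𝟙 X.right))) :=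
  ((coExtra G ed).homotopyEquiv.toHomologyIso 0).symm ≪≫
    HomologicalComplex.singleObjHomologySelfIso (ComplexShape.up ℕ) 0 _

include ed in
lemma hKz (m : ℕ) : IsZero ((Kc G).homology (m + 1)) :=
  (HomologicalComplex.isZero_single_obj_homology (ComplexShape.up ℕ) 0
    (G.obj (op (Over.mk (𝟙 X.right)))) (m + 1) (by omega)).of_iso
    ((coExtra G ed).homotopyEquiv.toHomologyIso (m + 1)).symm

end Homology

section Main

universe w'

variable {X Y : C} (f : X ⟶ Y) (s : Y ⟶ X) (hs : s ≫ f = 𝟙 Y)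
  [∀ n : ℕ, HasWidePullback Y (fun _ : Fin (n + 1) => X) (fun _ => f)]
  (G : ℕ → (Over Y)ᵒᵖ ⥤ AddCommGrpCat.{w'}) (Hn : ℤ → AddCommGrpCat.{w'})
  (h0 : ∀ n : ℕ, (G n).obj (op (Over.mk (𝟙 Y))) ≅ Hn (Int.ofNat n))
  (hneg : ∀ q : ℤ, q < 0 → IsZero (Hn q))

include hs h0 hneg in
theorem exists_descent_ss :
    ∃ (E : CohomologicalSpectralSequence AddCommGrpCat.{w'} 1) (a : SpSeq.Abutment E Hn),
      (∀ n, a.IsFinite n) ∧ SpSeq.IsBounded E ∧
        ∀ p q : ℤ, (∀ m n : ℕ, p = m → q = n → Nonempty ((E.page 1 le_rfl).X (p, q) ≅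
            (G n).obj (op (Over.mk (WidePullback.base (fun _ : Fin (m + 1) => f))))) ) ∧
          ((p < 0 ∨ q < 0) → IsZero ((E.page 1 le_rfl).X (p, q))) := by
  haveI : ∀ n : ℕ, HasWidePullback (Arrow.mk f).right (fun _ : Fin (n + 1) => (Arrow.mk f).left)
      fun _ => (Arrow.mk f).hom := fun n =>
    inferInstanceAs (HasWidePullback Y (fun _ : Fin (n + 1) => X) (fun _ => f))
  let aug : SimplicialObject.Augmented C := (Arrow.mk f).augmentedCechNerve
  let ed : aug.ExtraDegeneracy :=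
    Arrow.AugmentedCechNerve.extraDegeneracy (Arrow.mk f) ⟨s, hs⟩
  let G' : ℕ → (Over aug.right)ᵒᵖ ⥤ AddCommGrpCat.{w'} := G
  exact DescSS.exists_ss_nat (fun n => Kc (G' n)) Hn (fun n => hK0 (G' n) ed ≪≫ h0 n) hneg
    (fun n m => hKz (G' n) ed m)

end Main

end Groth.Agent.Lib.Helper4.DescCech
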