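import Mathlib.CategoryTheory.Adjunction.Unique
import Mathlib.CategoryTheory.Adjunction.Basic

set_option autoImplicit false
open CategoryTheory

namespace Groth.Agent.Lib.Helper4.DescPF

universe v w v₁ u₁ v₂ u₂

structure AdjData (C : Type u₁) [Category.{v₁} C] (Sh : C → Type w) [∀ X, Category.{v} (Sh X)] where
  pull : ∀ {X Y : C}, (X ⟶ Y) → (Sh Y ⥤ Sh X)
  push : ∀ {X Y : C}, (X ⟶ Y) → (Sh X ⥤ Sh Y)
  adj : ∀ {X Y : C} (f : X ⟶ Y), pull f ⊣ push f
  pc : ∀ {X Y Z : C} (f : X ⟶ Y) (g : Z ⟶ X) (fg : Z ⟶ Y), g ≫ f = fg → (push g ⋙ push f ≅ push fg)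
  pc_cocycle : ∀ {W X Y Z : C} (f : W ⟶ X) (g : X ⟶ Y) (h : Y ⟶ Z) (fg : W ⟶ Y) (gh : X ⟶ Z)
    (fgh : W ⟶ Z) (w1 : f ≫ g = fg) (w2 : g ≫ h = gh) (w3 : fg ≫ h = fgh) (w4 : f ≫ gh = fgh)
    (H : Sh W),
    (push h).map ((pc g f fg w1).hom.app H) ≫ (pc h fg fgh w3).hom.app H =
      (pc h g gh w2).hom.app ((push f).obj H) ≫ (pc gh f fgh w4).hom.app H
  pid : ∀ X : C, push (𝟙 X) ≅ 𝟭 (Sh X)

structure ConstData {C : Type u₁} [Category.{v₁} C] {Sh : C → Type w} [∀ X, Category.{v} (Sh X)]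
    (D : AdjData C Sh) (𝒜 : Type u₂) [Category.{v₂} 𝒜] where
  cst : ∀ X : C, 𝒜 ⥤ Sh X
  gsec : ∀ X : C, Sh X ⥤ 𝒜
  cadj : ∀ X : C, cst X ⊣ gsec X
  pg : ∀ {X Y : C} (f : X ⟶ Y), D.push f ⋙ gsec Y ≅ gsec X
  pg_comp : ∀ {X Y Z : C} (f : X ⟶ Y) (g : Z ⟶ X) (fg : Z ⟶ Y) (w : g ≫ f = fg) (H : Sh Z),
    (gsec Y).map ((D.pc f g fg w).hom.app H) ≫ (pg fg).hom.app H =
      (pg f).hom.app ((D.push g).obj H) ≫ (pg g).hom.app H

structure PBData (C : Type u₁) [Category.{v₁} C] (Sh : C → Type w) [∀ X, Category.{v} (Sh X)] where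
  pull : ∀ {X Y : C}, (X ⟶ Y) → (Sh Y ⥤ Sh X)
  comp : ∀ {X Y Z : C} (f : X ⟶ Y) (g : Y ⟶ Z) (fg : X ⟶ Z), f ≫ g = fg → (pull fg ≅ pull g ⋙ pull f)
  assoc : ∀ {W X Y Z : C} (f : W ⟶ X) (g : X ⟶ Y) (h : Y ⟶ Z) (fg : W ⟶ Y) (gh : X ⟶ Z)
    (fgh : W ⟶ Z) (w1 : f ≫ g = fg) (w2 : g ≫ h = gh) (w3 : fg ≫ h = fgh) (w4 : f ≫ gh = fgh)
    (G : Sh Z),
    (comp fg h fgh w3).hom.app G ≫ (comp f g fg w1).hom.app ((pull h).obj G) =
      (comp f gh fgh w4).hom.app G ≫ (pull f).map ((comp g h gh w2).hom.app G)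
  Z : ∀ X : C, Sh X
  a : ∀ {X Y : C} (f : X ⟶ Y), Z X ≅ (pull f).obj (Z Y)
  a_comp : ∀ {X Y Z' : C} (f : X ⟶ Y) (g : Y ⟶ Z') (fg : X ⟶ Z') (w : f ≫ g = fg),
    (a fg).hom ≫ (comp f g fg w).hom.app (Z Z') = (a f).hom ≫ (pull f).map (a g).hom
  uid : ∀ X : C, pull (𝟙 X) ≅ 𝟭 (Sh X)

section Derive

variable {C : Type u₁} [Category.{v₁} C] {Sh : C → Type w} [∀ X, Category.{v} (Sh X)]
  (D : AdjData C Sh)

noncomputable def pullComp {X Y Z : C} (f : X ⟶ Y) (g : Y ⟶ Z) (fg : X ⟶ Z) (w : f ≫ g = fg) :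
    D.pull fg ≅ D.pull g ⋙ D.pull f :=
  Adjunction.leftAdjointUniq (D.adj fg)
    (((D.adj g).comp (D.adj f)).ofNatIsoRight (D.pc g f fg w))

theorem pullComp_char {X Y Z : C} (f : X ⟶ Y) (g : Y ⟶ Z) (fg : X ⟶ Z) (w : f ≫ g = fg)
    (G : Sh Z) :
    (D.adj fg).unit.app G ≫ (D.push fg).map ((pullComp D f g fg w).hom.app G) =
      (D.adj g).unit.app G ≫ (D.push g).map ((D.adj f).unit.app ((D.pull g).obj G)) ≫
        (D.pc g f fg w).hom.app ((D.pull f).obj ((D.pull g).obj G)) := by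
  have := Adjunction.unit_leftAdjointUniq_hom_app (D.adj fg)
    (((D.adj g).comp (D.adj f)).ofNatIsoRight (D.pc g f fg w)) G
  refine this.trans ?_
  simp

theorem pullComp_assoc {W X Y Z : C} (f : W ⟶ X) (g : X ⟶ Y) (h : Y ⟶ Z) (fg : W ⟶ Y)
    (gh : X ⟶ Z) (fgh : W ⟶ Z) (w1 : f ≫ g = fg) (w2 : g ≫ h = gh) (w3 : fg ≫ h = fgh)
    (w4 : f ≫ gh = fgh) (G : Sh Z) :
    (pullComp D fg h fgh w3).hom.app G ≫ (pullComp D f g fg w1).hom.app ((D.pull h).obj G) =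
      (pullComp D f gh fgh w4).hom.app G ≫ (D.pull f).map ((pullComp D g h gh w2).hom.app G) := by
  apply ((D.adj fgh).homEquiv _ _).injective
  rw [Adjunction.homEquiv_unit, Adjunction.homEquiv_unit, Functor.map_comp, Functor.map_comp]
  have c1 := pullComp_char D fg h fgh w3 G
  have c2 := pullComp_char D f g fg w1 ((D.pull h).obj G)
  have c3 := pullComp_char D f gh fgh w4 G
  have c4 := pullComp_char D g h gh w2 G
  have n1 := (D.pc h fg fgh w3).hom.naturality ((pullComp D f g fg w1).hom.app ((D.pull h).obj G))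
  have n2 := (D.pc gh f fgh w4).hom.naturality
    ((D.pull f).map ((pullComp D g h gh w2).hom.app G))
  have n3 := (D.adj f).unit.naturality ((pullComp D g h gh w2).hom.app G)
  have n4 := (D.pc h g gh w2).hom.naturality
    ((D.adj f).unit.app ((D.pull g).obj ((D.pull h).obj G)))
  have cc := D.pc_cocycle f g h fg gh fgh w1 w2 w3 w4
    ((D.pull f).obj ((D.pull g).obj ((D.pull h).obj G)))
  dsimp only [Functor.comp_map, Functor.id_map, Functor.comp_obj, Functor.id_obj] at n1 n2 n3 n4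
  rw [reassoc_of% c1, reassoc_of% c3, ← n1, ← n2, ← Functor.map_comp_assoc (D.push h), c2,
    ← Functor.map_comp_assoc (D.push gh), ← n3, Functor.map_comp_assoc (D.push gh),
    reassoc_of% c4]
  simp only [Functor.map_comp, Category.assoc]
  rw [cc, reassoc_of% n4]

section Const

variable {𝒜 : Type u₂} [Category.{v₂} 𝒜] (K : ConstData D 𝒜)

noncomputable def σ {X Y : C} (f : X ⟶ Y) (G : Sh Y) :
    (K.gsec Y).obj G ⟶ (K.gsec X).obj ((D.pull f).obj G) :=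
  (K.gsec Y).map ((D.adj f).unit.app G) ≫ (K.pg f).hom.app ((D.pull f).obj G)

theorem σ_naturality {X Y : C} (f : X ⟶ Y) {G G' : Sh Y} (φ : G ⟶ G') :
    (K.gsec Y).map φ ≫ σ D K f G' = σ D K f G ≫ (K.gsec X).map ((D.pull f).map φ) := by
  unfold σ
  have h1 := (D.adj f).unit.naturality φ
  have h2 := (K.pg f).hom.naturality ((D.pull f).map φ)
  dsimp only [Functor.id_map, Functor.comp_map, Functor.comp_obj, Functor.id_obj] at h1 h2
  rw [← Category.assoc, ← Functor.map_comp, h1, Functor.map_comp, Category.assoc, Category.assoc, h2]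

noncomputable abbrev α {X Y : C} (f : X ⟶ Y) : K.cst Y ⋙ D.pull f ⊣ K.gsec X :=
  ((K.cadj Y).comp (D.adj f)).ofNatIsoRight (K.pg f)

theorem α_unit {X Y : C} (f : X ⟶ Y) (M : 𝒜) :
    (α D K f).unit.app M = (K.cadj Y).unit.app M ≫ σ D K f ((K.cst Y).obj M) := by
  unfold σ
  simp [α]

noncomputable def pci {X Y : C} (f : X ⟶ Y) : K.cst Y ⋙ D.pull f ≅ K.cst X :=
  Adjunction.leftAdjointUniq (α D K f) (K.cadj X)

theorem pci_char {X Y : C} (f : X ⟶ Y) (M : 𝒜) :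
    (K.cadj Y).unit.app M ≫ σ D K f ((K.cst Y).obj M) ≫
      (K.gsec X).map ((pci D K f).hom.app M) = (K.cadj X).unit.app M := by
  have := Adjunction.unit_leftAdjointUniq_hom_app (α D K f) (K.cadj X) M
  rw [α_unit, Category.assoc] at this
  exact this

theorem σ_comp {X Y Z : C} (f : X ⟶ Y) (g : Y ⟶ Z) (fg : X ⟶ Z) (w : f ≫ g = fg) (G : Sh Z) :
    σ D K fg G ≫ (K.gsec X).map ((pullComp D f g fg w).hom.app G) =
      σ D K g G ≫ σ D K f ((D.pull g).obj G) := by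
  unfold σ
  have h1 := (K.pg fg).hom.naturality ((pullComp D f g fg w).hom.app G)
  have h2 := (K.pg g).hom.naturality ((D.adj f).unit.app ((D.pull g).obj G))
  have gc := K.pg_comp g f fg w ((D.pull f).obj ((D.pull g).obj G))
  dsimp only [Functor.comp_map, Functor.comp_obj, Functor.id_obj] at h1 h2
  rw [Category.assoc, ← h1, ← Category.assoc, ← Functor.map_comp, pullComp_char,
    Functor.map_comp, Functor.map_comp, Category.assoc, Category.assoc, gc, Category.assoc]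
  congr 1
  rw [← Category.assoc, h2, Category.assoc]

theorem pci_comp {X Y Z : C} (f : X ⟶ Y) (g : Y ⟶ Z) (fg : X ⟶ Z) (w : f ≫ g = fg) (M : 𝒜) :
    (pullComp D f g fg w).hom.app ((K.cst Z).obj M) ≫
        (D.pull f).map ((pci D K g).hom.app M) ≫ (pci D K f).hom.app M =
      (pci D K fg).hom.app M := by
  apply ((α D K fg).homEquiv M _).injective
  rw [Adjunction.homEquiv_unit, Adjunction.homEquiv_unit]
  have hR : (α D K fg).unit.app M ≫ (K.gsec X).map ((pci D K fg).hom.app M) =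
      (K.cadj X).unit.app M :=
    Adjunction.unit_leftAdjointUniq_hom_app (α D K fg) (K.cadj X) M
  rw [hR, α_unit, Functor.map_comp, Functor.map_comp, Category.assoc]
  have h1 := σ_comp D K f g fg w ((K.cst Z).obj M)
  have h2 := σ_naturality D K f ((pci D K g).hom.app M)
  have h3 := pci_char D K g M
  have h4 := pci_char D K f M
  dsimp only [Functor.comp_obj] at h1 h2 h3 h4 ⊢
  rw [reassoc_of% h1, ← reassoc_of% h2, reassoc_of% h3]
  exact h4

noncomputable def uid (X : C) : D.pull (𝟙 X) ≅ 𝟭 (Sh X) :=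
  Adjunction.leftAdjointUniq (D.adj (𝟙 X)) ((Adjunction.id).ofNatIsoRight (D.pid X).symm)

noncomputable def toPBData (M₀ : 𝒜) : PBData C Sh where
  pull := D.pull
  comp := pullComp D
  assoc := pullComp_assoc D
  Z X := (K.cst X).obj M₀
  a f := ((pci D K f).app M₀).symm
  a_comp f g fg w := by
    have h := pci_comp D K f g fg w M₀
    dsimp only [Iso.symm_hom, Iso.app_inv, Functor.comp_obj]
    rw [← cancel_epi ((pci D K fg).hom.app M₀), Iso.hom_inv_id_app_assoc, ← h]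
    simp only [Category.assoc]
    rw [Iso.hom_inv_id_app_assoc, ← Functor.map_comp, Iso.hom_inv_id_app]
    erw [CategoryTheory.Functor.map_id, Category.comp_id]
  uid := uid D

end Const

end Derive

end Groth.Agent.Lib.Helper4.DescPF
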