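import Groth.Prelude.Def_EtCore
import Groth.Agent.Lib.Helper4.DescPF
import Groth.Agent.Lib.Helper4.DescVia
import Groth.Agent.Lib.Helper4.DescCech
import Groth.Agent.Lib.Helper4.EtStalk
import Mathlib.CategoryTheory.MorphismProperty.OverAdjunction

set_option autoImplicit false
open CategoryTheory CategoryTheory.Limits AlgebraicGeometry Opposite

namespace Groth.Agent.Lib.Helper4.DescEt

universe u

section OverCocycle

variable {T : Type*} [Category T] {P Q : MorphismProperty T} [Q.IsMultiplicative]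
  [P.IsStableUnderBaseChange] [Q.IsStableUnderBaseChange] [HasPullbacks T]

open MorphismProperty

section
variable {X Y : T} (f : X ⟶ Y) (A : P.Over Q Y)

noncomputable abbrev p1 : ((Over.pullback P Q f).obj A).left ⟶ A.left := pullback.fst A.hom f
noncomputable abbrev p2 : ((Over.pullback P Q f).obj A).left ⟶ X := pullback.snd A.hom f

theorem p_cond : p1 f A ≫ A.hom = p2 f A ≫ f := pullback.condition

theorem p_ext {W : T} (a b : W ⟶ ((Over.pullback P Q f).obj A).left)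
    (h1 : a ≫ p1 f A = b ≫ p1 f A) (h2 : a ≫ p2 f A = b ≫ p2 f A) : a = b :=
  pullback.hom_ext h1 h2

end

section
variable {X Y Z : T} (f : X ⟶ Y) (g : Y ⟶ Z) (fg : X ⟶ Z) (w : fg = f ≫ g) (A : P.Over Q Z)

@[reassoc]
theorem L1 : ((Over.pullbackComp (P := P) (Q := Q) f g fg w).hom.app A).left ≫
    p1 f ((Over.pullback P Q g).obj A) ≫ p1 g A = p1 fg A := by
  subst w
  exact Over.pullbackComp_left_fst_fst f g A

@[reassoc]
theorem L2 : ((Over.pullbackComp (P := P) (Q := Q) f g fg w).hom.app A).left ≫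
    p2 f ((Over.pullback P Q g).obj A) = p2 fg A :=
  Over.w ((Over.pullbackComp (P := P) (Q := Q) f g fg w).hom.app A)

@[reassoc]
theorem L3 : ((Over.pullbackComp (P := P) (Q := Q) f g fg w).hom.app A).left ≫
    p1 f ((Over.pullback P Q g).obj A) ≫ p2 g A = p2 fg A ≫ f := by
  rw [← L2 f g fg w A, Category.assoc]
  congr 1
  exact p_cond f ((Over.pullback P Q g).obj A)

end

section
variable {X Y : T} (f : X ⟶ Y) {A B : P.Over Q Y} (φ : A ⟶ B)

@[reassoc]
theorem M1 : ((Over.pullback P Q f).map φ).left ≫ p1 f B = p1 f A ≫ φ.left :=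
  pullback.lift_fst _ _ _

@[reassoc]
theorem M2 : ((Over.pullback P Q f).map φ).left ≫ p2 f B = p2 f A :=
  pullback.lift_snd _ _ _

end

theorem over_cocycle {W X Y Z : T} (f : W ⟶ X) (g : X ⟶ Y) (h : Y ⟶ Z)
    (fg : W ⟶ Y) (gh : X ⟶ Z) (fgh : W ⟶ Z) (w1 : fg = f ≫ g) (w2 : gh = g ≫ h)
    (w3 : fgh = fg ≫ h) (w4 : fgh = f ≫ gh) (U : P.Over Q Z) :
    (Over.pullbackComp (P := P) (Q := Q) fg h fgh w3).hom.app U ≫
      (Over.pullbackComp (P := P) (Q := Q) f g fg w1).hom.app ((Over.pullback P Q h).obj U) =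
    (Over.pullbackComp (P := P) (Q := Q) f gh fgh w4).hom.app U ≫
      (Over.pullback P Q f).map ((Over.pullbackComp (P := P) (Q := Q) g h gh w2).hom.app U) := by
  apply Over.Hom.ext
  rw [MorphismProperty.Comma.comp_left, MorphismProperty.Comma.comp_left]
  apply p_ext
  · apply p_ext
    · apply p_ext
      · simp only [Category.assoc]
        rw [L1_assoc f g fg w1, L1 fg h fgh w3]
        erw [M1_assoc]
        rw [L1 g h gh w2, L1 f gh fgh w4]
      · simp only [Category.assoc]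
        rw [L1_assoc f g fg w1, L3 fg h fgh w3]
        erw [M1_assoc]
        rw [L3 g h gh w2, L3_assoc f gh fgh w4]
        exact congrArg (fun t => p2 fgh U ≫ t) w1
    · simp only [Category.assoc]
      rw [L3 f g fg w1, L2_assoc fg h fgh w3]
      erw [M1_assoc]
      rw [L2 g h gh w2, L3 f gh fgh w4]
  · simp only [Category.assoc]
    rw [L2 f g fg w1, L2 fg h fgh w3]
    erw [M2]
    rw [L2 f gh fgh w4]

instance isIso_p1_id (X : T) (A : P.Over Q X) : IsIso (p1 (𝟙 X) A) :=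
  pullback_fst_iso_of_right_iso A.hom (𝟙 X)

noncomputable def overPullbackId (X : T) : Over.pullback P Q (𝟙 X) ≅ 𝟭 (P.Over Q X) :=
  NatIso.ofComponents
    (fun A => Over.isoMk (asIso (p1 (𝟙 X) A)) (by
      change p1 (𝟙 X) A ≫ A.hom = p2 (𝟙 X) A
      rw [p_cond, Category.comp_id]))
    (fun {A B} φ => by
      apply Over.Hom.ext
      rw [MorphismProperty.Comma.comp_left, MorphismProperty.Comma.comp_left]
      exact M1 (𝟙 X) φ)

end OverCocycle

section Et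

open EtCore EtCoh DescPF

noncomputable def bcComp {X Y Z : Scheme.{u}} (f : X ⟶ Y) (g : Z ⟶ X) (fg : Z ⟶ Y)
    (w : g ≫ f = fg) : EtCoh.bc f ⋙ EtCoh.bc g ≅ EtCoh.bc fg :=
  (MorphismProperty.Over.pullbackComp (P := etaleMP) (Q := ⊤) g f fg w.symm).symm

noncomputable def pc {X Y Z : Scheme.{u}} (f : X ⟶ Y) (g : Z ⟶ X) (fg : Z ⟶ Y)
    (w : g ≫ f = fg) : EtCoh.push g ⋙ EtCoh.push f ≅ EtCoh.push fg :=
  Functor.sheafPushforwardContinuousComp' (F := EtCoh.bc f) (G := EtCoh.bc g) (FG := EtCoh.bc fg)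
    (bcComp f g fg w)
    AddCommGrpCat.{u + 1} Y.smallEtaleTopology X.smallEtaleTopology Z.smallEtaleTopology

theorem pc_app {X Y Z : Scheme.{u}} (f : X ⟶ Y) (g : Z ⟶ X) (fg : Z ⟶ Y) (w : g ≫ f = fg)
    (H : EtCoh.Ab Z) (U : Y.Etale) :
    ((pc f g fg w).hom.app H).hom.app (op U) = H.obj.map ((bcComp f g fg w).inv.app U).op := by
  simp [pc]

theorem bc_cocycle {W X Y Z : Scheme.{u}} (f : W ⟶ X) (g : X ⟶ Y) (h : Y ⟶ Z)
    (fg : W ⟶ Y) (gh : X ⟶ Z) (fgh : W ⟶ Z) (w1 : f ≫ g = fg) (w2 : g ≫ h = gh)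
    (w3 : fg ≫ h = fgh) (w4 : f ≫ gh = fgh) (U : Z.Etale) :
    (bcComp h fg fgh w3).inv.app U ≫ (bcComp g f fg w1).inv.app ((EtCoh.bc h).obj U) =
      (bcComp gh f fgh w4).inv.app U ≫ (EtCoh.bc f).map ((bcComp h g gh w2).inv.app U) :=
  over_cocycle (P := etaleMP) (Q := ⊤) f g h fg gh fgh w1.symm w2.symm w3.symm w4.symm U

theorem pc_cocycle {W X Y Z : Scheme.{u}} (f : W ⟶ X) (g : X ⟶ Y) (h : Y ⟶ Z)
    (fg : W ⟶ Y) (gh : X ⟶ Z) (fgh : W ⟶ Z) (w1 : f ≫ g = fg) (w2 : g ≫ h = gh)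
    (w3 : fg ≫ h = fgh) (w4 : f ≫ gh = fgh) (H : EtCoh.Ab W) :
    (EtCoh.push h).map ((pc g f fg w1).hom.app H) ≫ (pc h fg fgh w3).hom.app H =
      (pc h g gh w2).hom.app ((EtCoh.push f).obj H) ≫ (pc gh f fgh w4).hom.app H := by
  apply Sheaf.hom_ext
  ext ⟨U⟩
  have e1 : ((EtCoh.push h).map ((pc g f fg w1).hom.app H) ≫ (pc h fg fgh w3).hom.app H).hom.app
      (op U) = H.obj.map ((bcComp g f fg w1).inv.app ((EtCoh.bc h).obj U)).op ≫
        H.obj.map ((bcComp h fg fgh w3).inv.app U).op := by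
    rw [← pc_app, ← pc_app]
    rfl
  have e2 : ((pc h g gh w2).hom.app ((EtCoh.push f).obj H) ≫ (pc gh f fgh w4).hom.app H).hom.app
      (op U) = H.obj.map ((EtCoh.bc f).map ((bcComp h g gh w2).inv.app U)).op ≫
        H.obj.map ((bcComp gh f fgh w4).inv.app U).op := by
    rw [← pc_app]
    have := pc_app h g gh w2 ((EtCoh.push f).obj H) U
    exact congrArg (fun t => t ≫ ((pc gh f fgh w4).hom.app H).hom.app (op U)) this
  rw [e1, e2, ← H.obj.map_comp, ← H.obj.map_comp, ← op_comp, ← op_comp,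
    bc_cocycle f g h fg gh fgh w1 w2 w3 w4 U]

noncomputable def bcId (X : Scheme.{u}) : EtCoh.bc (𝟙 X) ≅ 𝟭 X.Etale :=
  overPullbackId (P := etaleMP) (Q := ⊤) X

noncomputable def pid (X : Scheme.{u}) : EtCoh.push (𝟙 X) ≅ 𝟭 (EtCoh.Ab X) :=
  Functor.sheafPushforwardContinuousId' (bcId X) AddCommGrpCat.{u + 1} X.smallEtaleTopology

theorem gamma_comp {X Y Z : Scheme.{u}} (f : X ⟶ Y) (g : Z ⟶ X) (fg : Z ⟶ Y) (w : g ≫ f = fg)
    (H : EtCoh.Ab Z) :
    (gsec Y).map ((pc f g fg w).hom.app H) ≫ (pushGsecIso fg).hom.app H =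
      (pushGsecIso f).hom.app ((EtCoh.push g).obj H) ≫ (pushGsecIso g).hom.app H := by
  have hterm : IsTerminal ((EtCoh.bc g).obj ((EtCoh.bc f).obj (EtCoh.top Y))) :=
    IsTerminal.isTerminalObj (EtCoh.bc g) _ (bcTopIsTerminal f)
  change H.obj.map _ ≫ H.obj.map _ = H.obj.map _ ≫ H.obj.map _
  rw [← H.obj.map_comp, ← H.obj.map_comp]
  congr 1
  apply Quiver.Hom.unop_inj
  exact hterm.hom_ext _ _

noncomputable def etAdj : AdjData Scheme.{u} (fun X => EtCoh.Ab X) where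
  pull f := EtCoh.pull f
  push f := EtCoh.push f
  adj f := EtCoh.pullPushAdj f
  pc f g fg w := pc f g fg w
  pc_cocycle := pc_cocycle
  pid := pid

noncomputable def etConst : ConstData etAdj.{u} AddCommGrpCat.{u + 1} where
  cst X := constantSheaf X.smallEtaleTopology AddCommGrpCat.{u + 1}
  gsec X := gsec X
  cadj X := constAdj X
  pg f := pushGsecIso f
  pg_comp := gamma_comp

noncomputable def etPB : PBData Scheme.{u} (fun X => EtCoh.Ab X) :=
  toPBData etAdj etConst (AddCommGrpCat.of (ULift.{u + 1} ℤ))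

theorem descent_ss_et {X Y : Scheme.{u}} (f : X ⟶ Y) (s : Y ⟶ X) (hs : s ≫ f = 𝟙 Y)
    (F : EtCoh.Ab Y) :
    ∃ (E : CohomologicalSpectralSequence AddCommGrpCat.{u + 1} 1)
      (a : SpSeq.Abutment E (fun n : ℤ =>
        if 0 ≤ n then AddCommGrpCat.of (EtCoh.H Y F n.toNat) else AddCommGrpCat.of PUnit.{u + 2})),
      (∀ n, a.IsFinite n) ∧ SpSeq.IsBounded E ∧
      ∀ p q : ℤ, Nonempty ((E.page 1 le_rfl).X (p, q) ≅
        (if 0 ≤ p ∧ 0 ≤ q then
          AddCommGrpCat.of (EtCoh.H (widePullback Y (fun _ : Fin (p.toNat + 1) => X) (fun _ => f))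
            ((EtCoh.pull (WidePullback.base (fun _ : Fin (p.toNat + 1) => f) :
              widePullback Y (fun _ : Fin (p.toNat + 1) => X) (fun _ => f) ⟶ Y)).obj F) q.toNat)
         else AddCommGrpCat.of PUnit.{u + 2})) := by
  haveI i1 : ∀ {X Y : Scheme.{u}} (f : X ⟶ Y), (etPB.pull f).Additive :=
    fun f => (inferInstance : (EtCoh.pull f).Additive)
  haveI i2 : ∀ {X Y : Scheme.{u}} (f : X ⟶ Y), PreservesFiniteLimits (etPB.pull f) :=
    fun f => EtStalk.preservesFiniteLimits_pull f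
  haveI i3 : ∀ {X Y : Scheme.{u}} (f : X ⟶ Y), PreservesFiniteColimits (etPB.pull f) :=
    fun f => (inferInstance : PreservesFiniteColimits (EtCoh.pull f))
  let G : ℕ → (Over Y)ᵒᵖ ⥤ AddCommGrpCat.{u + 1} := fun q => DescVia.G etPB F q
  let Hn : ℤ → AddCommGrpCat.{u + 1} := fun n : ℤ =>
    if 0 ≤ n then AddCommGrpCat.of (EtCoh.H Y F n.toNat) else AddCommGrpCat.of PUnit.{u + 2}
  have h0 : ∀ n : ℕ, (G n).obj (op (Over.mk (𝟙 Y))) ≅ Hn (Int.ofNat n) := fun n =>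
    (DescVia.postEquiv ((etPB.uid Y).app F) n).toAddCommGrpIso ≪≫
      eqToIso (if_pos (Int.natCast_nonneg n)).symm
  have hneg : ∀ q : ℤ, q < 0 → IsZero (Hn q) := by
    intro q hq
    have : Hn q = AddCommGrpCat.of PUnit.{u + 2} := if_neg (by omega)
    rw [this]
    exact AddCommGrpCat.isZero_of_subsingleton _
  obtain ⟨E, a, h1, h2, h3⟩ := DescCech.exists_descent_ss f s hs G Hn h0 hneg
  refine ⟨E, a, h1, h2, fun p q => ?_⟩
  by_cases hpq : 0 ≤ p ∧ 0 ≤ q
  · rw [if_pos hpq]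
    obtain ⟨m, rfl⟩ := Int.eq_ofNat_of_zero_le hpq.1
    obtain ⟨n, rfl⟩ := Int.eq_ofNat_of_zero_le hpq.2
    exact (h3 _ _).1 m n rfl rfl
  · rw [if_neg hpq]
    exact ⟨((h3 p q).2 (by omega)).iso (AddCommGrpCat.isZero_of_subsingleton _)⟩

end Et

end Groth.Agent.Lib.Helper4.DescEt
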