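import Groth.Prelude.Def_SpSeq
import Mathlib.Order.Interval.Finset.Defs
import Mathlib.Data.Int.Interval
import Mathlib.Algebra.Homology.Embedding.ExtendHomology
import Mathlib.Algebra.Homology.SingleHomology

set_option autoImplicit false
open CategoryTheory CategoryTheory.Limits

namespace Groth.Agent.Lib.Helper4.DescSS

universe v u
variable {C : Type u} [Category.{v} C] [Abelian C] (R : ℤ → CochainComplex C ℤ)

noncomputable def dd (q q' p p' : ℤ) : (R q).X p ⟶ (R q').X p' :=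
  if h : q = q' then (R q).d p p' ≫ eqToHom (by rw [h]) else 0

lemma dd_self (q p p' : ℤ) : dd R q q p p' = (R q).d p p' := by simp [dd]

lemma dd_ne (q q' p p' : ℤ) (h : q ≠ q') : dd R q q' p p' = 0 := dif_neg h

lemma dd_comp (q q' q'' p p' p'' : ℤ) : dd R q q' p p' ≫ dd R q' q'' p' p'' = 0 := by
  by_cases h : q = q'
  · subst h
    by_cases h' : q = q''
    · subst h'
      rw [dd_self, dd_self, HomologicalComplex.d_comp_d]
    · rw [dd_ne R _ _ _ _ h', comp_zero]
  · rw [dd_ne R _ _ _ _ h, zero_comp]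

noncomputable def page1 : HomologicalComplex C (ComplexShape.up' (⟨1, 1 - 1⟩ : ℤ × ℤ)) where
  X pq := (R pq.2).X pq.1
  d pq pq' := dd R pq.2 pq'.2 pq.1 pq'.1
  shape pq pq' h := by
    obtain ⟨p, q⟩ := pq
    obtain ⟨p', q'⟩ := pq'
    by_cases hq : q = q'
    · subst hq
      dsimp only
      rw [dd_self]
      apply (R q).shape
      intro hp
      apply h
      change (p, q) + ((1 : ℤ), (1 - 1 : ℤ)) = (p', q)
      have hp' : p + 1 = p' := hp
      rw [Prod.mk_add_mk, hp']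
      simp
    · exact dd_ne R _ _ _ _ hq
  d_comp_d' _ _ _ _ _ := dd_comp R _ _ _ _ _ _

lemma rel_succ (p q : ℤ) : (ComplexShape.up' (⟨1, 1 - 1⟩ : ℤ × ℤ)).Rel (p, q) (p + 1, q) := by
  change (p, q) + ((1 : ℤ), (1 - 1 : ℤ)) = (p + 1, q)
  rw [Prod.mk_add_mk]
  simp

lemma rel_pred (p q : ℤ) : (ComplexShape.up' (⟨1, 1 - 1⟩ : ℤ × ℤ)).Rel (p - 1, q) (p, q) := by
  change (p - 1, q) + ((1 : ℤ), (1 - 1 : ℤ)) = (p, q)
  rw [Prod.mk_add_mk]
  simp

noncomputable def scIso (p q : ℤ) :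
    (page1 R).sc' (p - 1, q) (p, q) (p + 1, q) ≅ (R q).sc' (p - 1) p (p + 1) :=
  ShortComplex.isoMk (Iso.refl _) (Iso.refl _) (Iso.refl _)
    (by
      change 𝟙 _ ≫ (R q).d (p - 1) p = dd R q q (p - 1) p ≫ 𝟙 _
      rw [dd_self, Category.id_comp, Category.comp_id])
    (by
      change 𝟙 _ ≫ (R q).d p (p + 1) = dd R q q p (p + 1) ≫ 𝟙 _
      rw [dd_self, Category.id_comp, Category.comp_id])

noncomputable def homIso (p q : ℤ) : (page1 R).homology (p, q) ≅ (R q).homology p :=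
  ShortComplex.homologyMapIso ((page1 R).isoSc' (p - 1, q) (p, q) (p + 1, q)
      ((ComplexShape.up' _).prev_eq' (rel_pred p q)) ((ComplexShape.up' _).next_eq' (rel_succ p q))) ≪≫
    ShortComplex.homologyMapIso (scIso R p q) ≪≫
    (ShortComplex.homologyMapIso ((R q).isoSc' (p - 1) p (p + 1)
      ((ComplexShape.up ℤ).prev_eq' (by simp)) ((ComplexShape.up ℤ).next_eq' (by simp)))).symm

noncomputable def zpage (r : ℤ) (X : ℤ × ℤ → C) :
    HomologicalComplex C (ComplexShape.up' (⟨r, 1 - r⟩ : ℤ × ℤ)) where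
  X := X
  d _ _ := 0
  shape _ _ _ := rfl
  d_comp_d' _ _ _ _ _ := zero_comp

noncomputable def zpageHomologyIso (r : ℤ) (X : ℤ × ℤ → C) (pq : ℤ × ℤ) :
    (zpage r X).homology pq ≅ X pq :=
  (ShortComplex.HomologyData.ofZeros ((zpage r X).sc pq) rfl rfl).left.homologyIso

noncomputable def pageFn (r : ℤ) :
    HomologicalComplex C (ComplexShape.up' (⟨r, 1 - r⟩ : ℤ × ℤ)) :=
  if h : r = 1 then (by subst h; exact page1 R)
  else zpage r (fun pq => (page1 R).homology pq)

lemma pageFn_one : pageFn R 1 = page1 R := by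
  unfold pageFn
  rw [dif_pos rfl]

lemma pageFn_ne (r : ℤ) (h : r ≠ 1) :
    pageFn R r = zpage r (fun pq => (page1 R).homology pq) := dif_neg h

noncomputable def E : CohomologicalSpectralSequence C 1 where
  page r _ := pageFn R r
  iso r r' pq hrr' hr := by
    by_cases h : r = 1
    · subst h
      obtain rfl : r' = 2 := by omega
      refine eqToIso ?_
      rw [pageFn_one, pageFn_ne R 2 (by decide)]
      rfl
    · have h' : r' ≠ 1 := by omega
      rw [pageFn_ne R r h, pageFn_ne R r' h']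
      exact zpageHomologyIso r _ pq

section Abut

noncomputable def subquotCongr {X : C} {Z B Z' B' : Subobject X} (h : B ≤ Z) (h' : B' ≤ Z')
    (hZ : Z = Z') (hB : B = B') : SpSeq.subquot Z B h ≅ SpSeq.subquot Z' B' h' := by
  subst hZ hB
  exact Iso.refl _

lemma ofLE_bot_eq_zero {X : C} (Z : Subobject X) (h : (⊥ : Subobject X) ≤ Z) :
    (⊥ : Subobject X).ofLE Z h = 0 :=
  ((isZero_zero C).of_iso Subobject.botCoeIsoZero).eq_of_src _ _

noncomputable def subquotTopBot (X : C) (h : (⊥ : Subobject X) ≤ ⊤) :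
    SpSeq.subquot (⊤ : Subobject X) ⊥ h ≅ X :=
  cokernelIsoOfEq (ofLE_bot_eq_zero ⊤ h) ≪≫ cokernelZeroIsoTarget ≪≫ asIso (⊤ : Subobject X).arrow

lemma isZero_subquot_self {X : C} (Z : Subobject X) (h : Z ≤ Z) :
    IsZero (SpSeq.subquot Z Z h) := by
  unfold SpSeq.subquot
  have h1 : Z.ofLE Z h = 𝟙 _ := Subobject.ofLE_refl Z
  haveI : Epi (Z.ofLE Z h) := by
    rw [h1]
    infer_instance
  exact isZero_cokernel_of_epi _

variable (Hn : ℤ → C)

noncomputable def filFn (n : ℤ) (p : ℤ) : Subobject (Hn n) := if p ≤ 0 then ⊤ else ⊥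

lemma filFn_anti (n : ℤ) : Antitone (filFn Hn n) := by
  intro p p' h
  unfold filFn
  split_ifs with h1 h2
  · exact le_rfl
  · omega
  · exact le_top
  · exact le_rfl

lemma isZero_grPiece_of_ne (n p : ℤ) (hp : p ≠ 0) :
    IsZero (SpSeq.grPiece (filFn Hn n) (filFn_anti Hn n) p) := by
  unfold SpSeq.grPiece
  by_cases h : p ≤ 0
  · have h1 : p + 1 ≤ 0 := by omega
    exact (isZero_subquot_self (⊤ : Subobject (Hn n)) le_rfl).of_iso
      (subquotCongr _ _ (if_pos h) (if_pos h1))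
  · have h1 : ¬ p + 1 ≤ 0 := by omega
    exact (isZero_subquot_self (⊥ : Subobject (Hn n)) le_rfl).of_iso
      (subquotCongr _ _ (if_neg h) (if_neg h1))

noncomputable def grPieceZeroIso (n : ℤ) :
    SpSeq.grPiece (filFn Hn n) (filFn_anti Hn n) 0 ≅ Hn n :=
  subquotCongr _ bot_le (if_pos le_rfl) (if_neg (by norm_num)) ≪≫ subquotTopBot (Hn n) bot_le

variable (h0 : ∀ q, (R q).homology 0 ≅ Hn q) (hz : ∀ q p, p ≠ 0 → IsZero ((R q).homology p))

noncomputable def pageTwoIso (pq : ℤ × ℤ) :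
    (pageFn R 2).X pq ≅ (R pq.2).homology pq.1 :=
  eqToIso (by rw [pageFn_ne R 2 (by decide)]; rfl) ≪≫ homIso R pq.1 pq.2

include hz in
noncomputable def betaIso (pq : ℤ × ℤ) :
    (pageFn R 2).X pq ≅
      SpSeq.grPiece (filFn Hn (pq.1 + pq.2)) (filFn_anti Hn (pq.1 + pq.2)) pq.1 := by
  by_cases hp : pq.1 = 0
  · obtain ⟨p, q⟩ := pq
    dsimp only at hp ⊢
    subst hp
    exact pageTwoIso R (0, q) ≪≫ h0 q ≪≫ eqToIso (by rw [zero_add]) ≪≫
      (grPieceZeroIso Hn (0 + q)).symm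
  · exact (pageTwoIso R pq).trans
      ((hz pq.2 pq.1 hp).iso (isZero_grPiece_of_ne Hn (pq.1 + pq.2) pq.1 hp))

noncomputable def abut : SpSeq.Abutment (E R) Hn where
  fil n := filFn Hn n
  anti n := filFn_anti Hn n
  rk _ := 2
  stat pq := ⟨by norm_num, fun r' h₀ h2 => by
    have hr : r' ≠ 1 := by omega
    constructor
    · change (pageFn R r').d _ _ = 0
      rw [pageFn_ne R r' hr]
      rfl
    · change (pageFn R r').d _ _ = 0
      rw [pageFn_ne R r' hr]
      rfl⟩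
  β pq := betaIso R Hn h0 hz pq

include h0 hz in
theorem exists_ss (hb : ∀ p q : ℤ, (p < 0 ∨ q < 0) → IsZero ((R q).X p)) :
    ∃ (E : CohomologicalSpectralSequence C 1) (a : SpSeq.Abutment E Hn),
      (∀ n, a.IsFinite n) ∧ SpSeq.IsBounded E ∧
        ∀ p q : ℤ, Nonempty ((E.page 1 le_rfl).X (p, q) ≅ (R q).X p) := by
  refine ⟨E R, abut R Hn h0 hz, ?_, ?_, ?_⟩
  · intro n
    refine ⟨⟨0, ?_⟩, ⟨1, ?_⟩⟩
    · change filFn Hn n 0 = ⊤
      exact if_pos le_rfl
    · change filFn Hn n 1 = ⊥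
      exact if_neg (by norm_num)
  · intro n
    refine (Set.finite_Icc (0 : ℤ) n).subset ?_
    intro p hp
    simp only [Set.mem_setOf_eq] at hp
    by_contra hcon
    apply hp
    change IsZero ((pageFn R 1).X (p, n - p))
    rw [pageFn_one]
    change IsZero ((R (n - p)).X p)
    apply hb
    simp only [Set.mem_Icc, not_and_or, not_le] at hcon
    rcases hcon with h | h
    · exact Or.inl h
    · exact Or.inr (by omega)
  · intro p q
    refine ⟨eqToIso ?_⟩
    change (pageFn R 1).X (p, q) = _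
    rw [pageFn_one]
    rfl

end Abut

section NatRows

open ZeroObject

variable (K : ℕ → CochainComplex C ℕ)

noncomputable def zeroCx : CochainComplex C ℕ where
  X _ := 0
  d _ _ := 0
  shape _ _ _ := rfl
  d_comp_d' _ _ _ _ _ := zero_comp

noncomputable def Kz : ℤ → CochainComplex C ℕ
  | Int.ofNat n => K n
  | Int.negSucc _ => zeroCx

noncomputable def Rz (q : ℤ) : CochainComplex C ℤ :=
  (Kz K q).extend ComplexShape.embeddingUpNat

lemma isZero_homology_of_isZero_X {ι : Type*} {c : ComplexShape ι} (L : HomologicalComplex C c)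
    (i : ι) (h : IsZero (L.X i)) : IsZero (L.homology i) :=
  (HomologicalComplex.exactAt_iff_isZero_homology _ _).1 (ShortComplex.exact_of_isZero_X₂ _ h)

lemma isZero_Rz_X (p q : ℤ) (h : p < 0 ∨ q < 0) : IsZero ((Rz K q).X p) := by
  by_cases hp : p < 0
  · apply HomologicalComplex.isZero_extend_X
    intro i hi
    simp only [ComplexShape.embeddingUpNat_f] at hi
    omega
  · have hq : q < 0 := by tauto
    obtain ⟨m, rfl⟩ := Int.eq_ofNat_of_zero_le (by omega : 0 ≤ p)
    obtain ⟨k, rfl⟩ := Int.eq_negSucc_of_lt_zero hq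
    exact (isZero_zero C).of_iso
      ((Kz K (Int.negSucc k)).extendXIso ComplexShape.embeddingUpNat (i := m) rfl)

lemma isZero_Rz_homology_neg (p : ℤ) (k : ℕ) : IsZero ((Rz K (Int.negSucc k)).homology p) :=
  isZero_homology_of_isZero_X _ _ (isZero_Rz_X K p _ (Or.inr (Int.negSucc_lt_zero k)))

variable (Hn : ℤ → C) (h0 : ∀ n : ℕ, (K n).homology 0 ≅ Hn (Int.ofNat n))
  (hneg : ∀ q : ℤ, q < 0 → IsZero (Hn q)) (hz : ∀ n m : ℕ, IsZero ((K n).homology (m + 1)))

include hneg in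
noncomputable def h0z (q : ℤ) : (Rz K q).homology 0 ≅ Hn q :=
  match q with
  | Int.ofNat n =>
    (K n).extendHomologyIso ComplexShape.embeddingUpNat (j := 0) (j' := 0) rfl ≪≫ h0 n
  | Int.negSucc k => (isZero_Rz_homology_neg K 0 k).iso (hneg _ (Int.negSucc_lt_zero k))

include hz in
lemma hzz (q p : ℤ) (hp : p ≠ 0) : IsZero ((Rz K q).homology p) := by
  by_cases hp0 : p < 0
  · rw [← HomologicalComplex.exactAt_iff_isZero_homology]
    apply HomologicalComplex.extend_exactAt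
    intro i hi
    simp only [ComplexShape.embeddingUpNat_f] at hi
    omega
  · obtain ⟨m, hm⟩ : ∃ m : ℕ, p = ((m + 1 : ℕ) : ℤ) := ⟨(p - 1).toNat, by omega⟩
    subst hm
    match q with
    | Int.ofNat n =>
      exact (hz n m).of_iso
        ((K n).extendHomologyIso ComplexShape.embeddingUpNat (j := m + 1) (j' := ((m + 1 : ℕ) : ℤ)) rfl)
    | Int.negSucc k => exact isZero_Rz_homology_neg K _ k

include h0 hneg hz in
theorem exists_ss_nat :
    ∃ (E : CohomologicalSpectralSequence C 1) (a : SpSeq.Abutment E Hn),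
      (∀ n, a.IsFinite n) ∧ SpSeq.IsBounded E ∧
        ∀ p q : ℤ, (∀ m n : ℕ, p = m → q = n → Nonempty ((E.page 1 le_rfl).X (p, q) ≅ (K n).X m)) ∧
          ((p < 0 ∨ q < 0) → IsZero ((E.page 1 le_rfl).X (p, q))) := by
  obtain ⟨E, a, h1, h2, h3⟩ := exists_ss (Rz K) Hn (h0z K Hn h0 hneg) (hzz K hz) (isZero_Rz_X K)
  refine ⟨E, a, h1, h2, fun p q => ⟨?_, ?_⟩⟩
  · intro m n hm hn
    subst hm hn
    obtain ⟨e⟩ := h3 (m : ℤ) (n : ℤ)
    exact ⟨e ≪≫ (K n).extendXIso ComplexShape.embeddingUpNat (i := m) rfl⟩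
  · intro h
    obtain ⟨e⟩ := h3 p q
    exact (isZero_Rz_X K p q h).of_iso e

end NatRows

end Groth.Agent.Lib.Helper4.DescSS
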