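import Groth.Prelude.Def_CohPull
import Groth.Agent.Lib.Helper4.DescPF
import Groth.Agent.Lib.Helper4.DescVia
import Groth.Agent.Lib.Helper4.DescCech
import Mathlib.Topology.Category.TopCat.Limits.Basic

set_option autoImplicit false
open CategoryTheory CategoryTheory.Limits Opposite TopologicalSpace

namespace Groth.Agent.Lib.Helper4.DescTop

universe u

open DescPF

noncomputable def mapComp {X Y Z : TopCat.{u}} (f : X ⟶ Y) (g : Z ⟶ X) (fg : Z ⟶ Y)
    (w : g ≫ f = fg) : Opens.map f ⋙ Opens.map g ≅ Opens.map fg :=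
  eqToIso (by subst w; rfl)

noncomputable def pc {X Y Z : TopCat.{u}} (f : X ⟶ Y) (g : Z ⟶ X) (fg : Z ⟶ Y)
    (w : g ≫ f = fg) : CohTop.push g ⋙ CohTop.push f ≅ CohTop.push fg :=
  Functor.sheafPushforwardContinuousComp' (F := Opens.map f) (G := Opens.map g)
    (FG := Opens.map fg) (mapComp f g fg w)
    AddCommGrpCat.{u} (Opens.grothendieckTopology Y) (Opens.grothendieckTopology X)
    (Opens.grothendieckTopology Z)

theorem pc_app {X Y Z : TopCat.{u}} (f : X ⟶ Y) (g : Z ⟶ X) (fg : Z ⟶ Y) (w : g ≫ f = fg)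
    (H : CohTop.Ab Z) (U : Opens Y) :
    ((pc f g fg w).hom.app H).hom.app (op U) = H.obj.map ((mapComp f g fg w).inv.app U).op := by
  simp [pc]

theorem pc_cocycle {W X Y Z : TopCat.{u}} (f : W ⟶ X) (g : X ⟶ Y) (h : Y ⟶ Z)
    (fg : W ⟶ Y) (gh : X ⟶ Z) (fgh : W ⟶ Z) (w1 : f ≫ g = fg) (w2 : g ≫ h = gh)
    (w3 : fg ≫ h = fgh) (w4 : f ≫ gh = fgh) (H : CohTop.Ab W) :
    (CohTop.push h).map ((pc g f fg w1).hom.app H) ≫ (pc h fg fgh w3).hom.app H =
      (pc h g gh w2).hom.app ((CohTop.push f).obj H) ≫ (pc gh f fgh w4).hom.app H := by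
  apply Sheaf.hom_ext
  ext ⟨U⟩
  have e1 : ((CohTop.push h).map ((pc g f fg w1).hom.app H) ≫ (pc h fg fgh w3).hom.app H).hom.app
      (op U) = H.obj.map ((mapComp g f fg w1).inv.app ((Opens.map h).obj U)).op ≫
        H.obj.map ((mapComp h fg fgh w3).inv.app U).op := by
    rw [← pc_app, ← pc_app]
    rfl
  have e2 : ((pc h g gh w2).hom.app ((CohTop.push f).obj H) ≫ (pc gh f fgh w4).hom.app H).hom.app
      (op U) = H.obj.map ((Opens.map f).map ((mapComp h g gh w2).inv.app U)).op ≫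
        H.obj.map ((mapComp gh f fgh w4).inv.app U).op := by
    rw [← pc_app]
    have := pc_app h g gh w2 ((CohTop.push f).obj H) U
    exact congrArg (fun t => t ≫ ((pc gh f fgh w4).hom.app H).hom.app (op U)) this
  rw [e1, e2, ← H.obj.map_comp, ← H.obj.map_comp]
  congr 1

noncomputable def pid (X : TopCat.{u}) : CohTop.push (𝟙 X) ≅ 𝟭 (CohTop.Ab X) :=
  Functor.sheafPushforwardContinuousId' (Opens.mapId X) AddCommGrpCat.{u}
    (Opens.grothendieckTopology X)

noncomputable abbrev gsec (X : TopCat.{u}) : CohTop.Ab X ⥤ AddCommGrpCat.{u} :=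
  (sheafSections (Opens.grothendieckTopology X) AddCommGrpCat.{u}).obj (op ⊤)

noncomputable def pg {X Y : TopCat.{u}} (f : X ⟶ Y) : CohTop.push f ⋙ gsec Y ≅ gsec X :=
  NatIso.ofComponents (fun F => Iso.refl _) (fun {F G} φ => by
    simp only [Iso.refl_hom]
    rfl)

theorem pg_comp {X Y Z : TopCat.{u}} (f : X ⟶ Y) (g : Z ⟶ X) (fg : Z ⟶ Y) (w : g ≫ f = fg)
    (H : CohTop.Ab Z) :
    (gsec Y).map ((pc f g fg w).hom.app H) ≫ (pg fg).hom.app H =
      (pg f).hom.app ((CohTop.push g).obj H) ≫ (pg g).hom.app H := by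
  change ((pc f g fg w).hom.app H).hom.app (op ⊤) ≫ 𝟙 _ = 𝟙 _ ≫ 𝟙 _
  rw [pc_app, Category.comp_id, Category.comp_id]
  exact H.obj.map_id _

noncomputable def topAdj : AdjData TopCat.{u} (fun X => CohTop.Ab X) where
  pull f := CohTop.pull f
  push f := CohTop.push f
  adj f := TopCat.Sheaf.pullbackPushforwardAdjunction AddCommGrpCat.{u} f
  pc f g fg w := pc f g fg w
  pc_cocycle := pc_cocycle
  pid := pid

noncomputable def topConst : ConstData topAdj.{u} AddCommGrpCat.{u} where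
  cst X := constantSheaf (Opens.grothendieckTopology X) AddCommGrpCat.{u}
  gsec X := gsec X
  cadj X := CohPull.adjZ X
  pg f := pg f
  pg_comp := pg_comp

noncomputable def topPB : PBData TopCat.{u} (fun X => CohTop.Ab X) :=
  toPBData topAdj topConst (AddCommGrpCat.of (ULift.{u} ℤ))

theorem descent_ss_top {X S : TopCat.{u}} (f : X ⟶ S) (s : S ⟶ X) (hs : s ≫ f = 𝟙 S)
    (F : CohTop.Ab S) :
    ∃ (E : CohomologicalSpectralSequence AddCommGrpCat.{u} 1)
      (a : SpSeq.Abutment E (fun n : ℤ =>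
        if 0 ≤ n then AddCommGrpCat.of (CohTop.H F n.toNat) else AddCommGrpCat.of PUnit.{u + 1})),
      (∀ n, a.IsFinite n) ∧ SpSeq.IsBounded E ∧
      ∀ p q : ℤ, Nonempty ((E.page 1 le_rfl).X (p, q) ≅
        (if 0 ≤ p ∧ 0 ≤ q then
          AddCommGrpCat.of (CohTop.H ((CohTop.pull
            (WidePullback.base (fun _ : Fin (p.toNat + 1) => f) :
              widePullback S (fun _ : Fin (p.toNat + 1) => X) (fun _ => f) ⟶ S)).obj F) q.toNat)
         else AddCommGrpCat.of PUnit.{u + 1})) := by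
  haveI i1 : ∀ {X Y : TopCat.{u}} (f : X ⟶ Y), (topPB.{u}.pull f).Additive :=
    fun f => CohPull.additive_pull f
  haveI i2 : ∀ {X Y : TopCat.{u}} (f : X ⟶ Y), PreservesFiniteLimits (topPB.{u}.pull f) :=
    fun f => CohPull.preservesFiniteLimits_pull f
  haveI i3 : ∀ {X Y : TopCat.{u}} (f : X ⟶ Y), PreservesFiniteColimits (topPB.{u}.pull f) :=
    fun f => CohPull.preservesFiniteColimits_pull f
  let G : ℕ → (Over S)ᵒᵖ ⥤ AddCommGrpCat.{u} := fun q => DescVia.G topPB.{u} F q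
  let Hn : ℤ → AddCommGrpCat.{u} := fun n : ℤ =>
    if 0 ≤ n then AddCommGrpCat.of (CohTop.H F n.toNat) else AddCommGrpCat.of PUnit.{u + 1}
  have h0 : ∀ n : ℕ, (G n).obj (op (Over.mk (𝟙 S))) ≅ Hn (Int.ofNat n) := fun n =>
    (DescVia.postEquiv ((topPB.{u}.uid S).app F) n).toAddCommGrpIso ≪≫
      eqToIso (if_pos (Int.natCast_nonneg n)).symm
  have hneg : ∀ q : ℤ, q < 0 → IsZero (Hn q) := by
    intro q hq
    have : Hn q = AddCommGrpCat.of PUnit.{u + 1} := if_neg (by omega)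
    rw [this]
    exact AddCommGrpCat.isZero_of_subsingleton _
  obtain ⟨E, a, h1, h2, h3⟩ := DescCech.exists_descent_ss f s hs G Hn h0 hneg
  refine ⟨E, a, h1, h2, fun p q => ?_⟩
  by_cases hpq : 0 ≤ p ∧ 0 ≤ q
  · rw [if_pos hpq]
    obtain ⟨m, rfl⟩ := Int.eq_ofNat_of_zero_le hpq.1
    obtain ⟨n, rfl⟩ := Int.eq_ofNat_of_zero_le hpq.2
    exact (h3 _ _).1 m n rfl rfl
  · rw [if_neg hpq]
    exact ⟨((h3 p q).2 (by omega)).iso (AddCommGrpCat.isZero_of_subsingleton _)⟩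

end Groth.Agent.Lib.Helper4.DescTop
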