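import Groth.Agent.Lib.Helper4.EtRestr
import Groth.Agent.S0102

set_option autoImplicit false
open CategoryTheory CategoryTheory.Limits AlgebraicGeometry Opposite
universe u

namespace Groth.Agent.Lib.Helper4.EtRestrFaithful
open Groth.Agent.Lib.Helper4

theorem faithful_restrAlong {X Y : Scheme.{u}} (u : X ⟶ Y) [Etale u] [Surjective u]
    [EtShriek.JCont u] : (EtShriek.restrAlong u).Faithful where
  map_injective {F G} a b hab := by
    have key : ∀ T' : X.Etale, a.hom.app (op ((EtShriek.compEtale u).obj T')) =
        b.hom.app (op ((EtShriek.compEtale u).obj T')) := fun T' =>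
      congrArg (fun (c : (EtShriek.restrAlong u).obj F ⟶ (EtShriek.restrAlong u).obj G) =>
        c.hom.app (op T')) hab
    apply Sheaf.hom_ext
    ext W x
    obtain ⟨W⟩ := W
    have hsep := Sheaf.isSeparated G
    let p : (EtShriek.compEtale u).obj ((EtCoh.bc u).obj W) ⟶ W := (EtRestr.adjSite u).counit.app W
    have hp : p.left = pullback.fst W.hom u := rfl
    let R : Sieve W := Sieve.generate (Presieve.singleton p)
    have hR : R ∈ Y.smallEtaleTopology W := by
      apply Groth.Agent.S0102.mem_of_forall_exists
      intro w
      have hs : Function.Surjective (pullback.fst W.hom u).base :=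
        (inferInstance : Surjective (pullback.fst W.hom u)).surj
      obtain ⟨t, ht⟩ := hs w
      exact ⟨_, p, t, ⟨_, 𝟙 _, p, Presieve.singleton.mk, Category.id_comp _⟩, ht⟩
    refine hsep W R hR _ _ ?_
    rintro T g ⟨T₀, h, q, ⟨⟩, rfl⟩
    rw [op_comp, Functor.map_comp]
    change G.obj.map h.op (G.obj.map p.op (a.hom.app (op W) x)) =
      G.obj.map h.op (G.obj.map p.op (b.hom.app (op W) x))
    congr 1
    have na := ConcreteCategory.congr_hom (a.hom.naturality p.op) x
    have nb := ConcreteCategory.congr_hom (b.hom.naturality p.op) x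
    simp only [ConcreteCategory.comp_apply] at na nb
    rw [← na, ← nb, key]

end Groth.Agent.Lib.Helper4.EtRestrFaithful
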