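import Groth.Prelude.Def_EtDual
import Groth.Agent.Lib.Helper4.Excision
import Groth.Agent.Lib.Helper4.LocCoh
import Groth.Agent.Lib.Helper4.InjPull
import Groth.Agent.Lib.Helper42.RDerComm
import Mathlib.Algebra.Category.Grp.Limits

set_option autoImplicit false
open CategoryTheory CategoryTheory.Limits AlgebraicGeometry Opposite
universe u

namespace Groth.Agent.Lib.Helper4.ExcisionCoh

open Groth.Agent.Lib.Helper4.Excision

section Ab

theorem isIso_kernelMap_of_existsUnique {M M₁ N N₁ : AddCommGrpCat.{u}} (g : M ⟶ M₁) (g' : N ⟶ N₁)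
    (ρ : M ⟶ N) (ρ₁ : M₁ ⟶ N₁) (w : g ≫ ρ₁ = ρ ≫ g')
    (h : ∀ s' : N, g' s' = 0 → ∃! s : M, g s = 0 ∧ ρ s = s') :
    IsIso (kernel.map g g' ρ ρ₁ w) := by
  rw [ConcreteCategory.isIso_iff_bijective]
  have hι : ∀ x : ↑(kernel g), g (kernel.ι g x) = 0 := fun x =>
    ConcreteCategory.congr_hom (kernel.condition g) x
  have hι' : ∀ x : ↑(kernel g'), g' (kernel.ι g' x) = 0 := fun x =>
    ConcreteCategory.congr_hom (kernel.condition g') x
  have hinj : Function.Injective (kernel.ι g) :=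
    (AddCommGrpCat.mono_iff_injective _).1 inferInstance
  have hinj' : Function.Injective (kernel.ι g') :=
    (AddCommGrpCat.mono_iff_injective _).1 inferInstance
  have hcomm : ∀ x : ↑(kernel g), kernel.ι g' (kernel.map g g' ρ ρ₁ w x) = ρ (kernel.ι g x) :=
    fun x => ConcreteCategory.congr_hom (kernel.lift_ι g' _ _) x
  have hsurjι : ∀ s : M, g s = 0 → ∃ x : ↑(kernel g), kernel.ι g x = s := by
    intro s hs
    refine ⟨(AddCommGrpCat.kernelIsoKer g).inv ⟨s, hs⟩, ?_⟩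
    exact ConcreteCategory.congr_hom (AddCommGrpCat.kernelIsoKer_inv_comp_ι g) ⟨s, hs⟩
  constructor
  · intro x y hxy
    apply hinj
    obtain ⟨s, -, huniq⟩ := h (ρ (kernel.ι g x)) (by rw [← hcomm]; exact hι' _)
    rw [huniq _ ⟨hι x, rfl⟩, huniq _ ⟨hι y, by rw [← hcomm, ← hcomm, hxy]⟩]
  · intro y
    obtain ⟨s, ⟨hs1, hs2⟩, -⟩ := h (kernel.ι g' y) (hι' y)
    obtain ⟨x, rfl⟩ := hsurjι s hs1
    refine ⟨x, hinj' ?_⟩
    rw [hcomm, hs2]

end Ab

section K

variable {X : Scheme.{u}}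

noncomputable def K {V W : X.Etale} (ι : V ⟶ W) : EtCoh.Ab X ⥤ AddCommGrpCat.{u + 1} where
  obj F := kernel (F.obj.map ι.op)
  map {F G} m := kernel.map _ _ (m.hom.app (op W)) (m.hom.app (op V)) (m.hom.naturality ι.op)
  map_id F := by
    apply (cancel_mono (kernel.ι _)).1
    simp
  map_comp m n := by
    apply (cancel_mono (kernel.ι _)).1
    simp

noncomputable def Kι {V W : X.Etale} (ι : V ⟶ W) (F : EtCoh.Ab X) :
    (K ι).obj F ⟶ F.obj.obj (op W) := kernel.ι (F.obj.map ι.op)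

instance {V W : X.Etale} (ι : V ⟶ W) (F : EtCoh.Ab X) : Mono (Kι ι F) :=
  inferInstanceAs (Mono (kernel.ι (F.obj.map ι.op)))

theorem K_map_ι {V W : X.Etale} (ι : V ⟶ W) {F G : EtCoh.Ab X} (m : F ⟶ G) :
    (K ι).map m ≫ Kι ι G = Kι ι F ≫ m.hom.app (op W) := kernel.lift_ι _ _ _

theorem isSheaf_forget (F : EtCoh.Ab X) :
    Presieve.IsSheaf X.smallEtaleTopology (F.obj ⋙ forget AddCommGrpCat.{u + 1}) := by
  rw [← isSheaf_iff_isSheaf_of_type]
  exact (Presheaf.isSheaf_iff_isSheaf_forget _ _ _).1 F.cond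

noncomputable def excIso {W W' V V' : X.Etale} (φ : W' ⟶ W) (ι : V ⟶ W) (ι' : V' ⟶ W') (ψ : V' ⟶ V)
    (comm : ι' ≫ φ = ψ ≫ ι) [IsOpenImmersion ι.left] [IsOpenImmersion ι'.left]
    (hV' : φ.left ⁻¹' Set.range ι.left ⊆ Set.range ι'.left)
    (hinj : Set.InjOn φ.left (Set.range ι'.left)ᶜ)
    (hsurj : (Set.range ι.left)ᶜ ⊆ Set.range φ.left)
    (hκ : ∀ a ∉ Set.range ι'.left, Function.Surjective (φ.left.residueFieldMap a)) :
    K ι ≅ K ι' :=
  have hw : ∀ F : EtCoh.Ab X, F.obj.map ι.op ≫ F.obj.map ψ.op = F.obj.map φ.op ≫ F.obj.map ι'.op :=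
    fun F => by rw [← Functor.map_comp, ← Functor.map_comp, ← op_comp, ← op_comp, comm]
  have hiso : ∀ F : EtCoh.Ab X, IsIso (kernel.map (F.obj.map ι.op) (F.obj.map ι'.op)
      (F.obj.map φ.op) (F.obj.map ψ.op) (hw F)) := fun F => by
    apply isIso_kernelMap_of_existsUnique
    intro s' hs'
    exact existsUnique_glue (P := F.obj ⋙ forget AddCommGrpCat.{u + 1}) (isSheaf_forget F) φ ι ι' ψ
      comm hV' (0 : F.obj.obj (op V)) s'
      (by
        change F.obj.map ψ.op 0 = F.obj.map ι'.op s'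
        rw [hs', map_zero]) hinj hsurj hκ
  NatIso.ofComponents (fun F => @asIso _ _ _ _ _ (hiso F)) (by
    intro F G m
    apply (cancel_mono (kernel.ι _)).1
    simp [K])

end K

section Theta

variable {X U : Scheme.{u}} (j : U ⟶ X) [IsOpenImmersion j]

noncomputable abbrev ΓX (X : Scheme.{u}) : EtCoh.Ab X ⥤ AddCommGrpCat.{u + 1} :=
  sheafToPresheaf X.smallEtaleTopology AddCommGrpCat.{u + 1} ⋙
    (evaluation X.Etaleᵒᵖ AddCommGrpCat.{u + 1}).obj (op (EtCoh.top X))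

noncomputable abbrev ιtop :
    (EtShriek.compEtale j).obj ((EtCoh.bc j).obj (EtCoh.top X)) ⟶ EtCoh.top X :=
  (EtRestr.adjSite j).counit.app (EtCoh.top X)

noncomputable def εtop (F : EtCoh.Ab X) :
    F.obj.obj (op ((EtShriek.compEtale j).obj ((EtCoh.bc j).obj (EtCoh.top X)))) ⟶
      (ΓX X).obj ((EtCoh.push j).obj ((EtCoh.pull j).obj F)) :=
  (ΓX X).map ((EtCoh.push j).map (((EtRestr.restrPushAdj j).leftAdjointUniq
    (EtCoh.pullPushAdj j)).hom.app F))

theorem unitApp_fac (F : EtCoh.Ab X) :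
    (ΓX X).map (EtDual.unitApp j F) = F.obj.map (ιtop j).op ≫ εtop j F := by
  have h := Adjunction.unit_leftAdjointUniq_hom_app (EtRestr.restrPushAdj j)
    (EtCoh.pullPushAdj j) F
  have h2 : EtDual.unitApp j F = (EtRestr.restrPushAdj j).unit.app F ≫
      (EtCoh.push j).map (((EtRestr.restrPushAdj j).leftAdjointUniq
        (EtCoh.pullPushAdj j)).hom.app F) := h.symm
  rw [h2, Functor.map_comp]
  rfl

instance (F : EtCoh.Ab X) : IsIso (εtop j F) :=
  Functor.map_isIso (ΓX X) ((EtCoh.push j).map (((EtRestr.restrPushAdj j).leftAdjointUniq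
    (EtCoh.pullPushAdj j)).hom.app F))

instance (F : EtCoh.Ab X) : Mono (εtop j F) := IsIso.mono_of_iso _

noncomputable def thetaApp (F : EtCoh.Ab X) : (EtDual.gammaSupp j).obj F ≅ (K (ιtop j)).obj F :=
  PreservesKernel.iso (ΓX X) (EtDual.unitApp j F) ≪≫ kernelIsoOfEq (unitApp_fac j F) ≪≫
    kernelCompMono (F.obj.map (ιtop j).op) (εtop j F)

theorem thetaApp_hom_ι (F : EtCoh.Ab X) :
    (thetaApp j F).hom ≫ Kι (ιtop j) F =
      (ΓX X).map (kernel.ι (EtDual.unitApp j F)) := by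
  unfold Kι
  simp only [thetaApp, Iso.trans_hom, PreservesKernel.iso_hom, kernelCompMono_hom, Category.assoc]
  erw [kernel.lift_ι, kernelIsoOfEq_hom_comp_ι, kernelComparison_comp_ι]

noncomputable def theta : EtDual.gammaSupp j ≅ K (ιtop j) :=
  NatIso.ofComponents (thetaApp j) (by
    intro F G m
    apply (cancel_mono (Kι (ιtop j) G)).1
    rw [Category.assoc, thetaApp_hom_ι, Category.assoc, K_map_ι, ← Category.assoc, thetaApp_hom_ι]
    have h2 : (EtDual.gammaSupp j).map m ≫ (ΓX X).map (kernel.ι (EtDual.unitApp j G)) =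
        (ΓX X).map ((EtDual.secSupp j).map m ≫ kernel.ι (EtDual.unitApp j G)) := by
      rw [Functor.map_comp]
      rfl
    rw [h2, LocCoh.secSupp_map_ι, Functor.map_comp]
    rfl)

end Theta

end Groth.Agent.Lib.Helper4.ExcisionCoh
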