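import Groth.Agent.Lib.Helper4.EtRestr

set_option autoImplicit false
set_option linter.unusedSectionVars false
open CategoryTheory CategoryTheory.Limits AlgebraicGeometry Opposite
universe u

noncomputable section

namespace Groth.Agent.Lib.Helper4.ExtZeroBC

variable {V' V Y X : Scheme.{u}} (j : V ⟶ X) [AlgebraicGeometry.Etale j]
    (f : Y ⟶ X) (j' : V' ⟶ Y) [AlgebraicGeometry.Etale j'] (f' : V' ⟶ V)
    (h : IsPullback j' f' f j)

include h in
theorem isPullback_paste (W : V.Etale) :
    IsPullback (pullback.fst W.hom f') (pullback.snd W.hom f' ≫ j') (W.hom ≫ j) f :=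
  (IsPullback.of_hasPullback W.hom f').paste_vert h.flip |>.flip.flip

def siteIsoApp (W : V.Etale) :
    (EtCoh.bc f' ⋙ EtShriek.compEtale j').obj W ≅ (EtShriek.compEtale j ⋙ EtCoh.bc f).obj W :=
  MorphismProperty.Over.isoMk ((isPullback_paste j f j' f' h W).isoPullback) (by
    exact (isPullback_paste j f j' f' h W).isoPullback_hom_snd)

theorem bc_map_fst {X Y : Scheme.{u}} (f : X ⟶ Y) {A B : Y.Etale} (g : A ⟶ B) :
    ((EtCoh.bc f).map g).left ≫ pullback.fst B.hom f = pullback.fst A.hom f ≫ g.left := by
  dsimp [EtCoh.bc]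
  exact pullback.lift_fst _ _ _

theorem bc_map_snd {X Y : Scheme.{u}} (f : X ⟶ Y) {A B : Y.Etale} (g : A ⟶ B) :
    ((EtCoh.bc f).map g).left ≫ pullback.snd B.hom f = pullback.snd A.hom f := by
  dsimp [EtCoh.bc]
  exact pullback.lift_snd _ _ _

def siteIso : EtCoh.bc f' ⋙ EtShriek.compEtale j' ≅ EtShriek.compEtale j ⋙ EtCoh.bc f :=
  NatIso.ofComponents (siteIsoApp j f j' f' h) (by
    intro W W' g
    apply MorphismProperty.Over.Hom.ext
    apply pullback.hom_ext
    · have e1 := (isPullback_paste j f j' f' h W').isoPullback_hom_fst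
      have e2 := (isPullback_paste j f j' f' h W).isoPullback_hom_fst
      have b1 := bc_map_fst f' g
      have b2 := bc_map_fst f ((EtShriek.compEtale j).map g)
      change (((EtCoh.bc f').map g).left ≫ (isPullback_paste j f j' f' h W').isoPullback.hom) ≫
          pullback.fst _ _ = ((isPullback_paste j f j' f' h W).isoPullback.hom ≫
            ((EtCoh.bc f).map ((EtShriek.compEtale j).map g)).left) ≫ pullback.fst _ _
      refine (Category.assoc _ _ _).trans ?_
      refine (congrArg (((EtCoh.bc f').map g).left ≫ ·) e1).trans ?_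
      refine b1.trans ?_
      refine (congrArg (· ≫ g.left) e2).symm.trans ?_
      refine (Category.assoc _ _ _).trans ?_
      refine (congrArg ((isPullback_paste j f j' f' h W).isoPullback.hom ≫ ·) b2.symm).trans ?_
      exact (Category.assoc _ _ _).symm
    · have e1 := (isPullback_paste j f j' f' h W').isoPullback_hom_snd
      have e2 := (isPullback_paste j f j' f' h W).isoPullback_hom_snd
      have b1 := bc_map_snd f' g
      have b2 := bc_map_snd f ((EtShriek.compEtale j).map g)
      change (((EtCoh.bc f').map g).left ≫ (isPullback_paste j f j' f' h W').isoPullback.hom) ≫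
          pullback.snd _ _ = ((isPullback_paste j f j' f' h W).isoPullback.hom ≫
            ((EtCoh.bc f).map ((EtShriek.compEtale j).map g)).left) ≫ pullback.snd _ _
      refine (Category.assoc _ _ _).trans ?_
      refine (congrArg (((EtCoh.bc f').map g).left ≫ ·) e1).trans ?_
      refine (Category.assoc _ _ _).symm.trans ?_
      refine (congrArg (· ≫ j') b1).trans ?_
      refine e2.symm.trans ?_
      refine (congrArg ((isPullback_paste j f j' f' h W).isoPullback.hom ≫ ·) b2.symm).trans ?_
      exact (Category.assoc _ _ _).symm)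

variable [EtShriek.JCont j] [EtShriek.JCont j']

def rightIso : EtShriek.restrAlong j' ⋙ EtCoh.push f' ≅ EtCoh.push f ⋙ EtShriek.restrAlong j := by
  have : (EtShriek.compEtale j ⋙ EtCoh.bc f).IsContinuous V.smallEtaleTopology Y.smallEtaleTopology :=
    Functor.isContinuous_comp _ _ _ X.smallEtaleTopology _
  exact Functor.sheafPushforwardContinuousComp' (F := EtCoh.bc f') (G := EtShriek.compEtale j')
      (FG := EtShriek.compEtale j ⋙ EtCoh.bc f) (siteIso j f j' f' h)
      AddCommGrpCat.{u + 1} V.smallEtaleTopology V'.smallEtaleTopology Y.smallEtaleTopology ≪≫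
    (Functor.sheafPushforwardContinuousComp (EtShriek.compEtale j) (EtCoh.bc f)
      AddCommGrpCat.{u + 1} V.smallEtaleTopology X.smallEtaleTopology Y.smallEtaleTopology).symm

include h in
theorem main :
    Nonempty (EtCoh.pull f' ⋙ EtShriek.extZero j' ≅ EtShriek.extZero j ⋙ EtCoh.pull f) :=
  ⟨((conjugateIsoEquiv ((EtCoh.pullPushAdj f').comp (EtShriek.extZeroAdj j'))
    ((EtShriek.extZeroAdj j).comp (EtCoh.pullPushAdj f))).symm (rightIso j f j' f' h)).symm⟩

end Groth.Agent.Lib.Helper4.ExtZeroBC
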