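import Groth.Agent.Lib.Helper4.OverEt
import Groth.Prelude.Def_EtCore

set_option autoImplicit false
open CategoryTheory CategoryTheory.Limits AlgebraicGeometry Opposite
universe u

noncomputable section

namespace Groth.Agent.Lib.Helper4.FlcPull

variable {X Y : Scheme.{u}} (f : X ⟶ Y)

theorem pull_bc_iso_const (G : EtCoh.Ab Y) (U : Y.Etale) (M : AddCommGrpCat.{u + 1})
    (e : (EtCoh.pull U.hom).obj G ≅ (constantSheaf U.left.smallEtaleTopology AddCommGrpCat.{u + 1}).obj M) :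
    Nonempty ((EtCoh.pull ((EtCoh.bc f).obj U).hom).obj ((EtCoh.pull f).obj G) ≅
      (constantSheaf ((EtCoh.bc f).obj U).left.smallEtaleTopology AddCommGrpCat.{u + 1}).obj M) := by
  let V := (EtCoh.bc f).obj U
  let p : V.left ⟶ U.left := pullback.fst U.hom f
  have hV : V.hom = pullback.snd U.hom f := rfl
  have w : V.hom ≫ f = p ≫ U.hom := by
    rw [hV]
    exact pullback.condition.symm
  exact ⟨((EtCore.pullComp V.hom f).app G).symm ≪≫ (EtCore.pullCongr w).app G ≪≫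
    (EtCore.pullComp p U.hom).app G ≪≫ (EtCoh.pull p).mapIso e ≪≫ (EtCore.pullConstIso p).app M⟩

theorem covers_bc {ι : Type u} (U : ι → Y.Etale) (hU : EtCoh.Covers U) :
    EtCoh.Covers (fun i => (EtCoh.bc f).obj (U i)) := by
  intro x
  obtain ⟨i, y, hy⟩ := hU (f.base x)
  obtain ⟨z, hz1, hz2⟩ := Scheme.Pullback.exists_preimage_pullback (f := (U i).hom) (g := f) y x hy
  exact ⟨i, z, hz2⟩

theorem isFiniteLocallyConstant_pull (G : EtCoh.Ab Y) (hG : EtCoh.IsFiniteLocallyConstant G) :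
    EtCoh.IsFiniteLocallyConstant ((EtCoh.pull f).obj G) := by
  obtain ⟨ι, U, hU, hM⟩ := hG
  refine ⟨ι, fun i => (EtCoh.bc f).obj (U i), covers_bc f U hU, fun i => ?_⟩
  obtain ⟨M, iA, iF, ⟨e⟩⟩ := hM i
  refine ⟨M, iA, iF, ?_⟩
  obtain ⟨e'⟩ := (OverEt.restr_iso_const_iff (U i) G _).1 ⟨e⟩
  obtain ⟨e''⟩ := pull_bc_iso_const f G (U i) _ e'
  exact (OverEt.restr_iso_const_iff ((EtCoh.bc f).obj (U i)) _ _).2 ⟨e''⟩

theorem isFiniteLocallyConstant_of_iso {F G : EtCoh.Ab X} (e : F ≅ G)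
    (hF : EtCoh.IsFiniteLocallyConstant F) : EtCoh.IsFiniteLocallyConstant G := by
  obtain ⟨ι, U, hU, hM⟩ := hF
  refine ⟨ι, U, hU, fun i => ?_⟩
  obtain ⟨M, iA, iF, ⟨a⟩⟩ := hM i
  exact ⟨M, iA, iF, ⟨((X.smallEtaleTopology.overPullback AddCommGrpCat.{u + 1} (U i)).mapIso e).symm ≪≫ a⟩⟩

end Groth.Agent.Lib.Helper4.FlcPull
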