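import Groth.Agent.Lib.Helper4.GaCechVanish
import Groth.Agent.Lib.Helper28.EtColim

namespace Groth.Agent.Lib.Helper4.GaAcyclic

open CategoryTheory CategoryTheory.Limits AlgebraicGeometry Opposite Abelian
open Groth.Agent.Lib.Helper28 Groth.Agent.Lib.Helper4

universe u

def Baff (S : Scheme.{u}) : Set S.Etale := {U | IsAffine U.left}

def CovAff (S : Scheme.{u}) (U : S.Etale) (ι : Type (u + 1)) (Y : ι → Over U) : Prop :=
  Finite ι ∧ IsAffine U.left ∧
    Sieve.ofArrows (fun i => (Y i).left) (fun i => (Y i).hom) ∈ S.smallEtaleTopology U ∧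
    ∀ i, IsAffine (Y i).left.left

theorem ext_Ga_vanish (S : Scheme.{u}) (T : EtCoh.Ab S) (U₀ : S.Etale) (hU₀ : IsAffine U₀.left)
    (hT : ∀ (G H : EtCoh.Ab S) (g : G ⟶ H),
      Function.Surjective (g.hom.app (op U₀)) → ∀ x : T ⟶ H, ∃ y : T ⟶ G, y ≫ g = x)
    (n : ℕ) (x : Ext.{u + 1} T (EtCoh.Ga S) (n + 1)) : x = 0 := by
  refine CartanG.cartan (Baff S) (CovAff S) ?_ ?_ T U₀ hU₀ hT (EtCoh.Ga S) ?_ n x
  · intro U ι Y h
    obtain ⟨hfin, hU, hcov, hY⟩ := h
    refine ⟨hU, hcov, fun p a => ?_⟩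
    have : IsAffine U.left := hU
    exact GaCech.isAffine_prod U Y hY p a
  · intro U hU T hT
    have : IsAffine U.left := hU
    obtain ⟨ι, hfin, Y, f, hYa, hfT, hcov⟩ := EtQc.exists_finite_affine_refinement U T hT
    exact ⟨ι, fun i => Over.mk (f i), ⟨hfin, hU, hcov, hYa⟩, hfT⟩
  · intro U ι Y h p
    obtain ⟨hfin, hU, hcov, hY⟩ := h
    have : IsAffine U.left := hU
    have := GaCech.cech_Ga_exactAt U Y hY hcov p
    exact this.isZero_homology

theorem H_Ga_affine (S : Scheme.{u}) [IsAffine S] (n : ℕ)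
    (x : EtCoh.H S (EtCoh.Ga S) (n + 1)) : x = 0 := by
  let z := ConstZero.zeroIso.{u + 1} S.smallEtaleTopology (EtCore.topIsTerminal S)
  refine ext_Ga_vanish S _ (EtCoh.top S) (inferInstanceAs (IsAffine S)) ?_ n x
  intro G H g hg y
  exact ExtLift.exists_lift_of_iso _ _ z g hg y

end Groth.Agent.Lib.Helper4.GaAcyclic
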