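import Mathlib.Algebra.Category.Ring.Constructions
import Mathlib.Algebra.Module.ULift
import Mathlib.LinearAlgebra.TensorProduct.Basic

namespace Groth.Agent.Lib.Helper4.PushoutTensor

open CategoryTheory Limits TensorProduct

universe u

theorem tau_bijective {R S T P : Type u} [CommRing R] [CommRing S] [CommRing T] [CommRing P]
    [Algebra R S] [Algebra R T] (inl : S →+* P) (inr : T →+* P)
    (h : IsPushout (CommRingCat.ofHom (algebraMap R S)) (CommRingCat.ofHom (algebraMap R T))
      (CommRingCat.ofHom inl) (CommRingCat.ofHom inr))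
    (τ : ULift.{u + 1} S ⊗[R] T →+ ULift.{u + 1} P)
    (hτ : ∀ (x : ULift.{u + 1} S) (t : T), τ (x ⊗ₜ t) = ⟨inl x.down * inr t⟩) :
    Function.Bijective τ := by
  let i := (CommRingCat.isPushout_tensorProduct R S T).isoIsPushout _ _ h
  let e : S ⊗[R] T ≃+* P := i.commRingCatIsoToRingEquiv
  have hl : ∀ s : S, e (s ⊗ₜ 1) = inl s := by
    intro s
    have := IsPushout.inl_isoIsPushout_hom _ _ (CommRingCat.isPushout_tensorProduct R S T) h
    exact congrArg (fun f => f.hom s) this
  have hr : ∀ t : T, e (1 ⊗ₜ t) = inr t := by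
    intro t
    have := IsPushout.inr_isoIsPushout_hom _ _ (CommRingCat.isPushout_tensorProduct R S T) h
    exact congrArg (fun f => f.hom t) this
  have he : ∀ (s : S) (t : T), e (s ⊗ₜ t) = inl s * inr t := by
    intro s t
    have : (s ⊗ₜ[R] t) = (s ⊗ₜ 1) * (1 ⊗ₜ t) := by
      rw [Algebra.TensorProduct.tmul_mul_tmul, mul_one, one_mul]
    rw [this, map_mul, hl, hr]
  let c : ULift.{u + 1} S ⊗[R] T ≃ₗ[R] S ⊗[R] T :=
    TensorProduct.congr ULift.moduleEquiv (LinearEquiv.refl R T)
  have key : ∀ z, τ z = ⟨e (c z)⟩ := by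
    intro z
    induction z using TensorProduct.induction_on with
    | zero =>
      rw [map_zero, map_zero, map_zero]
      rfl
    | tmul x t =>
      rw [hτ]
      change _ = ULift.up (e (x.down ⊗ₜ t))
      rw [he]
    | add x y hx hy =>
      rw [map_add, hx, hy, map_add, map_add]
      rfl
  have : (τ : _ → _) = Equiv.ulift.symm ∘ e ∘ c := by
    funext z
    exact key z
  rw [this]
  exact Equiv.ulift.symm.bijective.comp (e.bijective.comp c.bijective)

end Groth.Agent.Lib.Helper4.PushoutTensor
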