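import Groth.Prelude.Def_EtGm
import Groth.Agent.Lib.Helper4.CechDescent
import Groth.Agent.Lib.Helper4.PushoutTensor
import Mathlib.AlgebraicGeometry.Morphisms.Affine
import Mathlib.AlgebraicGeometry.Morphisms.Flat
import Mathlib.AlgebraicGeometry.Morphisms.Smooth
import Groth.Agent.Lib.Helper28.EtQc

namespace Groth.Agent.Lib.Helper4.GaCech

open CategoryTheory Limits AlgebraicGeometry Opposite TensorProduct

universe u

variable {S : Scheme.{u}} (U : S.Etale)

@[reducible] noncomputable def algW (W : Over U) : Algebra Γ(U.left, ⊤) Γ(W.left.left, ⊤) :=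
  (W.hom.left).appTop.hom.toAlgebra

noncomputable def QAobj (W : Over U) : ModuleCat.{u + 1} Γ(U.left, ⊤) :=
  letI := algW U W
  ModuleCat.of Γ(U.left, ⊤) (ULift.{u + 1} Γ(W.left.left, ⊤))

lemma appTop_comp {W W' : Over U} (g : W' ⟶ W) (a : Γ(U.left, ⊤)) :
    (g.left.left).appTop.hom ((W.hom.left).appTop.hom a) = (W'.hom.left).appTop.hom a := by
  have h : g.left ≫ W.hom = W'.hom := Over.w g
  have h2 : g.left.left ≫ W.hom.left = W'.hom.left := by
    rw [← h]; rfl
  rw [← h2, Scheme.Hom.comp_appTop]
  rfl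

noncomputable def QAmap {W W' : Over U} (g : W' ⟶ W) : QAobj U W ⟶ QAobj U W' :=
  letI := algW U W
  letI := algW U W'
  ModuleCat.ofHom (X := ULift.{u + 1} Γ(W.left.left, ⊤)) (Y := ULift.{u + 1} Γ(W'.left.left, ⊤))
    { toFun := fun x => ⟨(g.left.left).appTop.hom x.down⟩
      map_add' := fun x y => by
        apply ULift.ext
        exact map_add _ _ _
      map_smul' := fun a x => by
        apply ULift.ext
        change (g.left.left).appTop.hom ((W.hom.left).appTop.hom a * x.down) =
          (W'.hom.left).appTop.hom a * (g.left.left).appTop.hom x.down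
        rw [map_mul, appTop_comp] }

noncomputable def QA : (Over U)ᵒᵖ ⥤ ModuleCat.{u + 1} Γ(U.left, ⊤) where
  obj W := QAobj U W.unop
  map g := QAmap U g.unop
  map_id W := by
    apply ModuleCat.hom_ext
    apply LinearMap.ext
    intro x
    rfl
  map_comp f g := by
    apply ModuleCat.hom_ext
    apply LinearMap.ext
    intro x
    rfl



noncomputable def QAforgetIso :
    QA U ⋙ forget₂ (ModuleCat.{u + 1} Γ(U.left, ⊤)) AddCommGrpCat.{u + 1} ≅
      (Over.forget U).op ⋙ (EtCoh.Ga S).obj :=
  NatIso.ofComponents (fun W => Iso.refl _) (by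
    intro W W' g
    rfl)



variable [HasFiniteProducts (Over U)]

noncomputable def pfst (V W : Over U) : (CechSplit.mulL V).obj W ⟶ V := (prod.fst : V ⨯ W ⟶ V)

noncomputable def psnd (V W : Over U) : (CechSplit.mulL V).obj W ⟶ W := (prod.snd : V ⨯ W ⟶ W)

lemma mulL_map_fst (V : Over U) {W W' : Over U} (g : W' ⟶ W) :
    (CechSplit.mulL V).map g ≫ pfst U V W = pfst U V W' := by
  change prod.map (𝟙 V) g ≫ prod.fst = prod.fst
  simp

lemma mulL_map_snd (V : Over U) {W W' : Over U} (g : W' ⟶ W) :
    (CechSplit.mulL V).map g ≫ psnd U V W = psnd U V W' ≫ g := by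
  change prod.map (𝟙 V) g ≫ prod.snd = prod.snd ≫ g
  simp



noncomputable def tauLin (V W : Over U) :
    letI := algW U V
    letI := algW U W
    letI := algW U ((CechSplit.mulL V).obj W)
    ULift.{u + 1} Γ(W.left.left, ⊤) ⊗[Γ(U.left, ⊤)] Γ(V.left.left, ⊤) →ₗ[Γ(U.left, ⊤)]
      ULift.{u + 1} Γ(((CechSplit.mulL V).obj W).left.left, ⊤) :=
  letI := algW U V
  letI := algW U W
  letI := algW U ((CechSplit.mulL V).obj W)
  TensorProduct.lift (LinearMap.mk₂ Γ(U.left, ⊤)
    (fun (x : ULift.{u + 1} Γ(W.left.left, ⊤)) (b : Γ(V.left.left, ⊤)) =>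
      (⟨(psnd U V W).left.left.appTop.hom x.down * (pfst U V W).left.left.appTop.hom b⟩ :
        ULift.{u + 1} Γ(((CechSplit.mulL V).obj W).left.left, ⊤)))
    (fun x y b => by
      apply ULift.ext
      change (psnd U V W).left.left.appTop.hom (x.down + y.down) * _ = _ * _ + _ * _
      rw [map_add, add_mul])
    (fun c x b => by
      apply ULift.ext
      change (psnd U V W).left.left.appTop.hom ((W.hom.left).appTop.hom c * x.down) * _ =
        (((CechSplit.mulL V).obj W).hom.left).appTop.hom c * (_ * _)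
      rw [map_mul, appTop_comp, mul_assoc])
    (fun x b b' => by
      apply ULift.ext
      change _ * (pfst U V W).left.left.appTop.hom (b + b') = _ * _ + _ * _
      rw [map_add, mul_add])
    (fun c x b => by
      apply ULift.ext
      change _ * (pfst U V W).left.left.appTop.hom ((V.hom.left).appTop.hom c * b) =
        (((CechSplit.mulL V).obj W).hom.left).appTop.hom c * (_ * _)
      rw [map_mul, appTop_comp]
      ring))



lemma snd_nat (V : Over U) {W W' : Over U} (g : W' ⟶ W) (x : Γ(W.left.left, ⊤)) :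
    ((CechSplit.mulL V).map g).left.left.appTop.hom ((psnd U V W).left.left.appTop.hom x) =
      (psnd U V W').left.left.appTop.hom (g.left.left.appTop.hom x) :=
  congrArg (fun k => (k.left.left).appTop.hom x) (mulL_map_snd U V g)

lemma fst_nat (V : Over U) {W W' : Over U} (g : W' ⟶ W) (b : Γ(V.left.left, ⊤)) :
    ((CechSplit.mulL V).map g).left.left.appTop.hom ((pfst U V W).left.left.appTop.hom b) =
      (pfst U V W').left.left.appTop.hom b :=
  congrArg (fun k => (k.left.left).appTop.hom b) (mulL_map_fst U V g)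

lemma tauLin_tmul (V W : Over U) (x : ULift.{u + 1} Γ(W.left.left, ⊤)) (b : Γ(V.left.left, ⊤)) :
    letI := algW U V
    letI := algW U W
    letI := algW U ((CechSplit.mulL V).obj W)
    tauLin U V W (x ⊗ₜ b) =
      ⟨(psnd U V W).left.left.appTop.hom x.down * (pfst U V W).left.left.appTop.hom b⟩ := rfl

noncomputable def tauApp (V W : Over U) :
    letI := algW U V
    (FFDescent.tens Γ(V.left.left, ⊤)).obj (QAobj U W) ⟶ QAobj U ((CechSplit.mulL V).obj W) :=
  letI := algW U V
  letI := algW U W
  letI := algW U ((CechSplit.mulL V).obj W)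
  ModuleCat.ofHom (tauLin U V W)

noncomputable def tau (V : Over U) :
    letI := algW U V
    QA U ⋙ FFDescent.tens Γ(V.left.left, ⊤) ⟶ (CechSplit.mulL V).op ⋙ QA U :=
  letI := algW U V
  { app := fun W => tauApp U V W.unop
    naturality := by
      intro W W' g
      apply ModuleCat.hom_ext
      apply TensorProduct.ext'
      intro x b
      apply ULift.ext
      change (psnd U V W'.unop).left.left.appTop.hom (g.unop.left.left.appTop.hom x.down) *
          (pfst U V W'.unop).left.left.appTop.hom b =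
        ((CechSplit.mulL V).map g.unop).left.left.appTop.hom
          ((psnd U V W.unop).left.left.appTop.hom x.down *
            (pfst U V W.unop).left.left.appTop.hom b)
      rw [map_mul, snd_nat, fst_nat] }



lemma isPullback_sch (V W : Over U) :
    IsPullback (pfst U V W).left.left (psnd U V W).left.left V.hom.left W.hom.left := by
  have h := Over.isPullback_of_binaryFan_isLimit
    (BinaryFan.mk (prod.fst : V ⨯ W ⟶ V) prod.snd) (prodIsProd V W)
  exact h.map (Scheme.Etale.forget S ⋙ Over.forget S)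

lemma isIso_tauApp (V W : Over U) [IsAffine U.left] [IsAffine V.left.left]
    [IsAffine W.left.left] : IsIso (tauApp U V W) := by
  have hp := (isPullback_sch U V W).flip
  have hpo := isPushout_appTop_of_isPullback hp
  letI := algW U V
  letI := algW U W
  letI := algW U ((CechSplit.mulL V).obj W)
  have hb := PushoutTensor.tau_bijective (R := Γ(U.left, ⊤)) (S := Γ(W.left.left, ⊤))
    (T := Γ(V.left.left, ⊤)) (P := Γ(((CechSplit.mulL V).obj W).left.left, ⊤))
    (inl := (psnd U V W).left.left.appTop.hom) (inr := (pfst U V W).left.left.appTop.hom) hpo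
    (tauLin U V W).toAddMonoidHom (fun x t => rfl)
  exact (ConcreteCategory.isIso_iff_bijective (tauApp U V W)).2 hb



omit [HasFiniteProducts (Over U)] in
lemma flat_algW (V : Over U) [IsAffine U.left] [IsAffine V.left.left] :
    letI := algW U V
    Module.Flat Γ(U.left, ⊤) Γ(V.left.left, ⊤) := by
  have : Flat V.hom.left := inferInstance
  exact (V.hom.left).flat_appTop

omit [HasFiniteProducts (Over U)] in
open Groth.Agent.Lib.Helper28 in
lemma map_ne_top {ι : Type*} (Y : ι → Over U) [IsAffine U.left] [∀ i, IsAffine (Y i).left.left]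
    (hcov : Sieve.ofArrows (fun i => (Y i).left) (fun i => (Y i).hom) ∈ S.smallEtaleTopology U)
    (m : Ideal Γ(U.left, ⊤)) (hm : m.IsMaximal) :
    ∃ j, m.map ((Y j).hom.left).appTop.hom ≠ ⊤ := by
  let w : U.left := U.left.isoSpec.inv ⟨m, hm.isPrime⟩
  obtain ⟨Z, f, z, hf, hz⟩ := (EtQc.mem_topology_iff U _).1 hcov w
  obtain ⟨i, g, hg⟩ : ∃ (i : ι) (g : Z ⟶ (Y i).left), f = g ≫ (Y i).hom := by
    obtain ⟨i, g, hg⟩ := (Sieve.mem_ofArrows_iff _ _ f).1 hf
    exact ⟨i, g, hg⟩
  refine ⟨i, ?_⟩
  let y : (Y i).left.left := g.left z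
  have hy : (Y i).hom.left y = w := by
    rw [← hz, hg]
    rfl
  let q : PrimeSpectrum Γ((Y i).left.left, ⊤) := (Y i).left.left.isoSpec.hom y
  have hq : q.asIdeal.comap ((Y i).hom.left).appTop.hom = m := by
    have h1 := Scheme.isoSpec_hom_naturality ((Y i).hom.left)
    have h2 : (Spec.map ((Y i).hom.left).appTop) q = U.left.isoSpec.hom w := by
      rw [← hy]
      exact congrArg (fun k => k.base y) h1
    have h3 : U.left.isoSpec.hom w = ⟨m, hm.isPrime⟩ := by
      change (U.left.isoSpec.inv ≫ U.left.isoSpec.hom) _ = _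
      rw [Iso.inv_hom_id]
      rfl
    rw [h3] at h2
    exact congrArg PrimeSpectrum.asIdeal h2
  intro htop
  have hle : m.map ((Y i).hom.left).appTop.hom ≤ q.asIdeal := Ideal.map_le_iff_le_comap.2 hq.ge
  exact q.isPrime.ne_top (top_le_iff.1 (htop ▸ hle))

end Groth.Agent.Lib.Helper4.GaCech
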