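import Groth.Agent.Lib.Helper4.GaCech
import Groth.Agent.Lib.Helper28.CartanG
import Groth.Agent.Lib.Helper28.OverProd

namespace Groth.Agent.Lib.Helper4.GaCech

open CategoryTheory Limits AlgebraicGeometry Opposite TensorProduct
open Groth.Agent.Lib.Helper28

universe u

variable {S : Scheme.{u}} (U : S.Etale)

lemma isAffine_of_isPullback_etale {P Z₁ Z₂ W : S.Etale} {fst : P ⟶ Z₁} {snd : P ⟶ Z₂}
    {f : Z₁ ⟶ W} {g : Z₂ ⟶ W} (h : IsPullback fst snd f g) (h₁ : IsAffine Z₁.left)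
    (h₂ : IsAffine Z₂.left) (hW : IsAffine W.left) : IsAffine P.left := by
  have hp : IsPullback fst.left snd.left f.left g.left :=
    h.map (Scheme.Etale.forget S ⋙ Over.forget S)
  exact IsAffine.of_isPullback hp

variable [HasFiniteProducts (Over U)]

lemma isAffine_prod [IsAffine U.left] {ι : Type*} (Y : ι → Over U)
    (hY : ∀ i, IsAffine (Y i).left.left) (n : ℕ) (a : Fin (n + 1) → ι) :
    IsAffine (∏ᶜ (Y ∘ a)).left.left :=
  OverProd.prod_left_mem (C := S.Etale) (U := U) {V : S.Etale | IsAffine V.left}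
    (fun h h₁ h₂ hW => isAffine_of_isPullback_etale h h₁ h₂ hW) ‹_› n (Y ∘ a) (fun k => hY (a k))



theorem cech_Ga_exactAt [IsAffine U.left] {ι : Type (u + 1)} [Finite ι] (Y : ι → Over U)
    [∀ j, HasFiniteProducts (Over (Y j))]
    (hY : ∀ i, IsAffine (Y i).left.left)
    (hcov : Sieve.ofArrows (fun i => (Y i).left) (fun i => (Y i).hom) ∈ S.smallEtaleTopology U)
    (p : ℕ) :
    ((cechComplexFunctor Y).obj ((Over.forget U).op ⋙ (EtCoh.Ga S).obj)).ExactAt (p + 1) := by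
  have hY' : ∀ i, IsAffine (Y i).left.left := hY
  letI : ∀ j, Algebra Γ(U.left, ⊤) Γ((Y j).left.left, ⊤) := fun j => algW U (Y j)
  have hflat : ∀ j, Module.Flat Γ(U.left, ⊤) Γ((Y j).left.left, ⊤) := fun j => flat_algW U (Y j)
  have hsurj : ∀ m : Ideal Γ(U.left, ⊤), m.IsMaximal →
      ∃ j, m.map (algebraMap Γ(U.left, ⊤) Γ((Y j).left.left, ⊤)) ≠ ⊤ :=
    fun m hm => map_ne_top U Y hcov m hm
  have hτ : ∀ (j : ι) (n : SimplexCategory) (a : ToType n → ι),
      IsIso ((tau U (Y j)).app (op (∏ᶜ (Y ∘ a)))) := by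
    intro j n a
    have := isAffine_prod U Y hY n.len a
    exact isIso_tauApp U (Y j) (∏ᶜ (Y ∘ a))
  have h := CechDescent.exactAt_of_descent Y (QA U) (fun j => Γ((Y j).left.left, ⊤)) hsurj
    (fun j => tau U (Y j)) hτ p
  have h2 := CechDescent.exactAt_forget₂ Y (QA U) p h
  exact h2.of_iso ((cechComplexFunctor Y).mapIso (QAforgetIso U))

end Groth.Agent.Lib.Helper4.GaCech
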