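import Mathlib.Algebra.Homology.HomologicalComplex
import Mathlib.Algebra.Homology.Additive
import Mathlib.Algebra.Homology.Homotopy
import Mathlib.Algebra.Homology.Embedding.CochainComplex
import Mathlib.CategoryTheory.Abelian.Basic
import Mathlib.CategoryTheory.Limits.Preserves.Shapes.Products
import Mathlib.CategoryTheory.Limits.Preserves.Shapes.Kernels
import Mathlib.CategoryTheory.Limits.Preserves.Finite

set_option autoImplicit false
open CategoryTheory CategoryTheory.Limits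

namespace Groth.Agent.Lib.Helper4.Gode
universe v u v' u'

variable {A : Type u} [Category.{v} A] [Abelian A]
variable (T : A ⥤ A) [T.Additive] (e : ∀ M : A, M ⟶ T.obj M)
  (he : ∀ {M N : A} (f : M ⟶ N), f ≫ e N = e M ≫ T.map f)

include he in
noncomputable def Q : A ⥤ A where
  obj M := cokernel (e M)
  map {M N} f := cokernel.map (e M) (e N) f (T.map f) (he f).symm
  map_id M := by
    apply coequalizer.hom_ext
    simp
  map_comp f g := by
    apply coequalizer.hom_ext
    simp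

noncomputable def p (M : A) : T.obj M ⟶ (Q T e he).obj M := cokernel.π (e M)

@[reassoc]
lemma p_nat {M N : A} (f : M ⟶ N) : T.map f ≫ p T e he N = p T e he M ≫ (Q T e he).map f := by
  simp [Q, p]

@[reassoc]
lemma e_p (M : A) : e M ≫ p T e he M = 0 := cokernel.condition _

instance epi_p (M : A) : Epi (p T e he M) :=
  inferInstanceAs (Epi (cokernel.π (e M)))

noncomputable def pIsColimit (M : A) :
    IsColimit (CokernelCofork.ofπ (p T e he M) (e_p T e he M)) :=
  cokernelIsCokernel (e M)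

instance : (Q T e he).Additive where
  map_add {M N f g} := by
    rw [← cancel_epi (p T e he M)]
    rw [Preadditive.comp_add, ← p_nat, ← p_nat, ← p_nat, T.map_add, Preadditive.add_comp]

noncomputable def Qo : ℕ → A → A
  | 0, M => M
  | (q + 1), M => (Q T e he).obj (Qo q M)

noncomputable def Qm : ∀ (q : ℕ) {M N : A}, (M ⟶ N) → (Qo T e he q M ⟶ Qo T e he q N)
  | 0, _, _, f => f
  | (q + 1), _, _, f => (Q T e he).map (Qm q f)

lemma Qm_id : ∀ (q : ℕ) (M : A), Qm T e he q (𝟙 M) = 𝟙 _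
  | 0, _ => rfl
  | (q + 1), M => by
    change (Q T e he).map (Qm T e he q (𝟙 M)) = 𝟙 _
    rw [Qm_id q M]
    exact (Q T e he).map_id _

lemma Qm_comp : ∀ (q : ℕ) {M N P : A} (f : M ⟶ N) (g : N ⟶ P),
    Qm T e he q (f ≫ g) = Qm T e he q f ≫ Qm T e he q g
  | 0, _, _, _, _, _ => rfl
  | (q + 1), _, _, _, f, g => by
    change (Q T e he).map (Qm T e he q (f ≫ g)) = (Q T e he).map _ ≫ (Q T e he).map _
    rw [Qm_comp q f g]
    exact (Q T e he).map_comp _ _

lemma Qm_zero : ∀ (q : ℕ) (M N : A), Qm T e he q (0 : M ⟶ N) = 0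
  | 0, _, _ => rfl
  | (q + 1), M, N => by
    change (Q T e he).map (Qm T e he q (0 : M ⟶ N)) = 0
    rw [Qm_zero q M N]
    exact (Q T e he).map_zero _ _

lemma Qm_add : ∀ (q : ℕ) {M N : A} (f g : M ⟶ N),
    Qm T e he q (f + g) = Qm T e he q f + Qm T e he q g
  | 0, _, _, _, _ => rfl
  | (q + 1), _, _, f, g => by
    change (Q T e he).map (Qm T e he q (f + g)) = (Q T e he).map _ + (Q T e he).map _
    rw [Qm_add q f g]
    exact (Q T e he).map_add

lemma isZero_Qo : ∀ (q : ℕ) (M : A), IsZero M → IsZero (Qo T e he q M)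
  | 0, _, h => h
  | (q + 1), M, h => (Q T e he).map_isZero (isZero_Qo q M h)

noncomputable def Lo (q : ℕ) (M : A) : A := T.obj (Qo T e he q M)

noncomputable def Lm (q : ℕ) {M N : A} (f : M ⟶ N) : Lo T e he q M ⟶ Lo T e he q N :=
  T.map (Qm T e he q f)

lemma Lm_id (q : ℕ) (M : A) : Lm T e he q (𝟙 M) = 𝟙 _ := by
  unfold Lm
  rw [Qm_id]
  exact T.map_id _

@[reassoc]
lemma Lm_comp (q : ℕ) {M N P : A} (f : M ⟶ N) (g : N ⟶ P) :
    Lm T e he q (f ≫ g) = Lm T e he q f ≫ Lm T e he q g := by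
  unfold Lm
  rw [Qm_comp]
  exact T.map_comp _ _

lemma Lm_zero (q : ℕ) (M N : A) : Lm T e he q (0 : M ⟶ N) = 0 := by
  unfold Lm
  rw [Qm_zero]
  exact T.map_zero _ _

lemma isZero_Lo (q : ℕ) (M : A) (h : IsZero M) : IsZero (Lo T e he q M) :=
  T.map_isZero (isZero_Qo T e he q M h)

noncomputable def w₁ (N : A) : T.obj N ⟶ T.obj ((Q T e he).obj N) :=
  p T e he N ≫ e ((Q T e he).obj N)

@[reassoc]
lemma w₁_nat {N N' : A} (g : N ⟶ N') :
    T.map g ≫ w₁ T e he N' = w₁ T e he N ≫ T.map ((Q T e he).map g) := by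
  unfold w₁
  rw [← Category.assoc, p_nat, Category.assoc, Category.assoc, he]

@[reassoc]
lemma w₁_w₁ (N : A) : w₁ T e he N ≫ w₁ T e he ((Q T e he).obj N) = 0 := by
  unfold w₁
  rw [Category.assoc, e_p_assoc, zero_comp, comp_zero]

@[reassoc]
lemma e_w₁ (N : A) : e N ≫ w₁ T e he N = 0 := by
  unfold w₁
  rw [e_p_assoc, zero_comp]

noncomputable def e0 (M : A) : M ⟶ Lo T e he 0 M := e M

@[reassoc]
lemma e0_nat {M N : A} (f : M ⟶ N) : f ≫ e0 T e he N = e0 T e he M ≫ Lm T e he 0 f := he f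

noncomputable def w (q : ℕ) (M : A) : Lo T e he q M ⟶ Lo T e he (q + 1) M :=
  w₁ T e he (Qo T e he q M)

@[reassoc]
lemma w_nat (q : ℕ) {M N : A} (f : M ⟶ N) :
    Lm T e he q f ≫ w T e he q N = w T e he q M ≫ Lm T e he (q + 1) f :=
  w₁_nat T e he (Qm T e he q f)

@[reassoc]
lemma w_w (q : ℕ) (M : A) : w T e he q M ≫ w T e he (q + 1) M = 0 :=
  w₁_w₁ T e he (Qo T e he q M)

@[reassoc]
lemma e_w_zero (M : A) : e0 T e he M ≫ w T e he 0 M = 0 :=
  e_w₁ T e he M

section Total

variable [HasCoproducts.{0} A] (F : CochainComplex A ℤ)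

abbrev Idx (n : ℤ) : Type := {qj : ℕ × ℤ // (qj.1 : ℤ) + qj.2 = n}

noncomputable def fam (n : ℤ) (i : Idx n) : A := Lo T e he i.1.1 (F.X i.1.2)

noncomputable def GX (n : ℤ) : A := ∐ (fam T e he F n)

noncomputable def ι (q : ℕ) (j n : ℤ) (h : (q : ℤ) + j = n) :
    Lo T e he q (F.X j) ⟶ GX T e he F n :=
  Sigma.ι (fam T e he F n) ⟨(q, j), h⟩

lemma hom_ext {n : ℤ} {Z : A} {a b : GX T e he F n ⟶ Z}
    (h : ∀ (q : ℕ) (j : ℤ) (hqj : (q : ℤ) + j = n),
      ι T e he F q j n hqj ≫ a = ι T e he F q j n hqj ≫ b) : a = b :=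
  Sigma.hom_ext _ _ (fun ⟨⟨q, j⟩, hqj⟩ => h q j hqj)

noncomputable def Gd (n : ℤ) : GX T e he F n ⟶ GX T e he F (n + 1) :=
  Sigma.desc fun i =>
    ((-1 : ℤ) ^ i.1.1) • (Lm T e he i.1.1 (F.d i.1.2 (i.1.2 + 1)) ≫
      ι T e he F i.1.1 (i.1.2 + 1) (n + 1) (by have := i.2; omega)) +
    w T e he i.1.1 (F.X i.1.2) ≫
      ι T e he F (i.1.1 + 1) i.1.2 (n + 1) (by have := i.2; push_cast; omega)

@[reassoc]
lemma ι_Gd (q : ℕ) (j n : ℤ) (h : (q : ℤ) + j = n) :
    ι T e he F q j n h ≫ Gd T e he F n =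
      ((-1 : ℤ) ^ q) • (Lm T e he q (F.d j (j + 1)) ≫
        ι T e he F q (j + 1) (n + 1) (by omega)) +
      w T e he q (F.X j) ≫ ι T e he F (q + 1) j (n + 1) (by push_cast; omega) := by
  unfold ι Gd
  exact Sigma.ι_desc _ _

lemma Gd_Gd (n : ℤ) : Gd T e he F n ≫ Gd T e he F (n + 1) = 0 := by
  apply hom_ext
  intro q j h
  rw [comp_zero, ι_Gd_assoc, Preadditive.add_comp, Preadditive.zsmul_comp, Category.assoc,
    Category.assoc, ι_Gd, ι_Gd, Preadditive.comp_add, Preadditive.comp_add,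
    Preadditive.comp_zsmul, Preadditive.comp_zsmul, ← Category.assoc, ← Lm_comp,
    F.d_comp_d, Lm_zero, zero_comp, smul_zero, zero_add, w_w_assoc, zero_comp, add_zero,
    ← Category.assoc (Lm T e he q (F.d j (j + 1))), w_nat, Category.assoc, pow_succ, mul_neg,
    mul_one, neg_smul, add_neg_cancel]

noncomputable def G : CochainComplex A ℤ :=
  CochainComplex.of (GX T e he F) (Gd T e he F) (Gd_Gd T e he F)

lemma G_d (n : ℤ) : (G T e he F).d n (n + 1) = Gd T e he F n :=
  CochainComplex.of_d _ _ n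

noncomputable def φf (n : ℤ) : F.X n ⟶ GX T e he F n :=
  e0 T e he (F.X n) ≫ ι T e he F 0 n n (by simp)

lemma φf_comm (n : ℤ) :
    φf T e he F n ≫ Gd T e he F n = F.d n (n + 1) ≫ φf T e he F (n + 1) := by
  unfold φf
  rw [Category.assoc, ι_Gd, pow_zero, one_smul, Preadditive.comp_add, e_w_zero_assoc,
    zero_comp, add_zero, ← Category.assoc, ← e0_nat, Category.assoc]

noncomputable def φ : F ⟶ G T e he F where
  f n := φf T e he F n
  comm' i j hij := by
    have hij' : i + 1 = j := hij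
    subst hij'
    exact (congrArg (fun t => φf T e he F i ≫ t) (G_d T e he F i)).trans (φf_comm T e he F i)

lemma isZero_GX (n : ℤ) (h : ∀ (q : ℕ) (j : ℤ), (q : ℤ) + j = n → IsZero (F.X j)) :
    IsZero (GX T e he F n) := by
  rw [IsZero.iff_id_eq_zero]
  apply hom_ext
  intro q j hqj
  exact (isZero_Lo T e he q _ (h q j hqj)).eq_of_src _ _

lemma isStrictlyGE_G (a : ℤ) [F.IsStrictlyGE a] : (G T e he F).IsStrictlyGE a := by
  rw [CochainComplex.isStrictlyGE_iff]
  intro i hi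
  exact isZero_GX T e he F i (fun q j hqj => F.isZero_of_isStrictlyGE a j (by omega))

end Total

section Stalk

variable {B : Type u'} [Category.{v'} B] [Abelian B] (S : A ⥤ B) [S.Additive]
  [PreservesFiniteColimits S]
  (r : ∀ M : A, S.obj (T.obj M) ⟶ S.obj M)
  (hr : ∀ {M N : A} (f : M ⟶ N), S.map (T.map f) ≫ r N = r M ≫ S.map f)
  (her : ∀ M : A, S.map (e M) ≫ r M = 𝟙 _)

lemma Se_Sp (N : A) : S.map (e N) ≫ S.map (p T e he N) = 0 := by
  rw [← S.map_comp, e_p, S.map_zero]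

noncomputable def sIsColimit (N : A) :
    IsColimit (CokernelCofork.ofπ (S.map (p T e he N)) (Se_Sp T e he S N)) :=
  (CokernelCofork.mapIsColimit _ (pIsColimit T e he N) S)

include her in
lemma s_aux (N : A) : S.map (e N) ≫ (𝟙 (S.obj (T.obj N)) - r N ≫ S.map (e N)) = 0 := by
  rw [Preadditive.comp_sub, Category.comp_id, ← Category.assoc, her, Category.id_comp, sub_self]

noncomputable def s (N : A) : S.obj ((Q T e he).obj N) ⟶ S.obj (T.obj N) :=
  (sIsColimit T e he S N).desc (CokernelCofork.ofπ _ (s_aux T e S r her N))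

@[reassoc]
lemma p_s (N : A) : S.map (p T e he N) ≫ s T e he S r her N = 𝟙 _ - r N ≫ S.map (e N) :=
  (sIsColimit T e he S N).fac (CokernelCofork.ofπ _ (s_aux T e S r her N))
    WalkingParallelPair.one

instance epi_Sp (N : A) : Epi (S.map (p T e he N)) := inferInstance

@[reassoc]
lemma s_p (N : A) : s T e he S r her N ≫ S.map (p T e he N) = 𝟙 _ := by
  rw [← cancel_epi (S.map (p T e he N)), p_s_assoc, Preadditive.sub_comp, Category.id_comp,
    Category.assoc, Se_Sp, comp_zero, sub_zero, Category.comp_id]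

include hr in
@[reassoc]
lemma s_nat {N N' : A} (g : N ⟶ N') :
    S.map ((Q T e he).map g) ≫ s T e he S r her N' =
      s T e he S r her N ≫ S.map (T.map g) := by
  rw [← cancel_epi (S.map (p T e he N)), ← Category.assoc, ← S.map_comp, ← p_nat, S.map_comp,
    Category.assoc, p_s, p_s_assoc, Preadditive.comp_sub, Preadditive.sub_comp, Category.comp_id,
    Category.id_comp, ← Category.assoc, hr, Category.assoc, Category.assoc, ← S.map_comp,
    ← S.map_comp, he]

noncomputable def h₁ (N : A) : S.obj (T.obj ((Q T e he).obj N)) ⟶ S.obj (T.obj N) :=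
  r ((Q T e he).obj N) ≫ s T e he S r her N

@[reassoc]
lemma w₁_h₁ (N : A) :
    S.map (w₁ T e he N) ≫ h₁ T e he S r her N = 𝟙 _ - r N ≫ S.map (e N) := by
  unfold w₁ h₁
  rw [S.map_comp, Category.assoc, ← Category.assoc (S.map (e _)), her, Category.id_comp, p_s]

@[reassoc]
lemma h₁_w₁ (N : A) :
    h₁ T e he S r her N ≫ S.map (w₁ T e he N) =
      r ((Q T e he).obj N) ≫ S.map (e ((Q T e he).obj N)) := by
  unfold w₁ h₁
  rw [S.map_comp, Category.assoc, s_p_assoc]

lemma h₁_sum (N : A) :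
    S.map (w₁ T e he ((Q T e he).obj N)) ≫ h₁ T e he S r her ((Q T e he).obj N) +
      h₁ T e he S r her N ≫ S.map (w₁ T e he N) = 𝟙 _ := by
  rw [w₁_h₁, h₁_w₁, sub_add_cancel]

include hr in
@[reassoc]
lemma h₁_nat {N N' : A} (g : N ⟶ N') :
    S.map (T.map ((Q T e he).map g)) ≫ h₁ T e he S r her N' =
      h₁ T e he S r her N ≫ S.map (T.map g) := by
  unfold h₁
  rw [← Category.assoc, hr, Category.assoc, s_nat T e he S r hr her, Category.assoc]

noncomputable def hq (q : ℕ) (M : A) : S.obj (Lo T e he (q + 1) M) ⟶ S.obj (Lo T e he q M) :=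
  h₁ T e he S r her (Qo T e he q M)

lemma hq_sum (q : ℕ) (M : A) :
    S.map (w T e he (q + 1) M) ≫ hq T e he S r her (q + 1) M +
      hq T e he S r her q M ≫ S.map (w T e he q M) = 𝟙 _ :=
  h₁_sum T e he S r her (Qo T e he q M)

noncomputable def r0 (M : A) : S.obj (Lo T e he 0 M) ⟶ S.obj M := r M

lemma w_hq_zero (M : A) :
    S.map (w T e he 0 M) ≫ hq T e he S r her 0 M =
      𝟙 (S.obj (Lo T e he 0 M)) - r0 T e he S r M ≫ S.map (e0 T e he M) :=
  w₁_h₁ T e he S r her M

include hr in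
@[reassoc]
lemma hq_nat (q : ℕ) {M N : A} (f : M ⟶ N) :
    S.map (Lm T e he (q + 1) f) ≫ hq T e he S r her q N =
      hq T e he S r her q M ≫ S.map (Lm T e he q f) :=
  h₁_nat T e he S r hr her (Qm T e he q f)

end Stalk

section StalkTotal

variable [HasCoproducts.{0} A] (F : CochainComplex A ℤ)
variable {B : Type u'} [Category.{v'} B] [Abelian B] (S : A ⥤ B) [S.Additive]
  [PreservesFiniteColimits S] [∀ J : Type, PreservesColimitsOfShape (Discrete J) S]
  (r : ∀ M : A, S.obj (T.obj M) ⟶ S.obj M)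
  (hr : ∀ {M N : A} (f : M ⟶ N), S.map (T.map f) ≫ r N = r M ≫ S.map f)
  (her : ∀ M : A, S.map (e M) ≫ r M = 𝟙 _)

noncomputable def isColS (n : ℤ) :
    IsColimit (Cofan.mk (S.obj (GX T e he F n))
      (fun i : Idx n => S.map (Sigma.ι (fam T e he F n) i))) :=
  isColimitCofanMkObjOfIsColimit S _ _ (coproductIsCoproduct _)

noncomputable def descS {n : ℤ} {Z : B} (g : ∀ i : Idx n, S.obj (fam T e he F n i) ⟶ Z) :
    S.obj (GX T e he F n) ⟶ Z :=
  Cofan.IsColimit.desc (isColS T e he F S n) g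

@[reassoc]
lemma ι_descS {n : ℤ} {Z : B} (g : ∀ i : Idx n, S.obj (fam T e he F n i) ⟶ Z)
    (q : ℕ) (j : ℤ) (h : (q : ℤ) + j = n) :
    S.map (ι T e he F q j n h) ≫ descS T e he F S g = g ⟨(q, j), h⟩ :=
  Cofan.IsColimit.fac (isColS T e he F S n) g ⟨(q, j), h⟩

lemma extS {n : ℤ} {Z : B} {a b : S.obj (GX T e he F n) ⟶ Z}
    (h : ∀ (q : ℕ) (j : ℤ) (hqj : (q : ℤ) + j = n),
      S.map (ι T e he F q j n hqj) ≫ a = S.map (ι T e he F q j n hqj) ≫ b) : a = b :=
  Cofan.IsColimit.hom_ext (isColS T e he F S n) _ _ (fun ⟨⟨q, j⟩, hqj⟩ => h q j hqj)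

@[reassoc]
lemma Sι_SGd (q : ℕ) (j n : ℤ) (h : (q : ℤ) + j = n) :
    S.map (ι T e he F q j n h) ≫ S.map (Gd T e he F n) =
      ((-1 : ℤ) ^ q) • (S.map (Lm T e he q (F.d j (j + 1))) ≫
        S.map (ι T e he F q (j + 1) (n + 1) (by omega))) +
      S.map (w T e he q (F.X j)) ≫ S.map (ι T e he F (q + 1) j (n + 1) (by push_cast; omega)) := by
  rw [← S.map_comp, ι_Gd, S.map_add, S.map_zsmul, S.map_comp, S.map_comp]

noncomputable def ψg (n : ℤ) : ∀ i : Idx n, S.obj (fam T e he F n i) ⟶ S.obj (F.X n)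
  | ⟨(0, j), h⟩ => r (F.X j) ≫ S.map (F.XIsoOfEq (show j = n by simpa using h)).hom
  | ⟨(_ + 1, _), _⟩ => 0

noncomputable def ψf (n : ℤ) : S.obj (GX T e he F n) ⟶ S.obj (F.X n) :=
  descS T e he F S (ψg T e he F S r n)

@[reassoc]
lemma ι_ψf_zero (j n : ℤ) (h : ((0 : ℕ) : ℤ) + j = n) :
    S.map (ι T e he F 0 j n h) ≫ ψf T e he F S r n =
      r (F.X j) ≫ S.map (F.XIsoOfEq (show j = n by simpa using h)).hom :=
  ι_descS T e he F S _ 0 j h

@[reassoc]
lemma ι_ψf_self (n : ℤ) (h : ((0 : ℕ) : ℤ) + n = n) :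
    S.map (ι T e he F 0 n n h) ≫ ψf T e he F S r n = r0 T e he S r (F.X n) := by
  rw [ι_ψf_zero, HomologicalComplex.XIsoOfEq_rfl, Iso.refl_hom, S.map_id, Category.comp_id]
  rfl

@[reassoc]
lemma ι_ψf_succ (q : ℕ) (j n : ℤ) (h : ((q + 1 : ℕ) : ℤ) + j = n) :
    S.map (ι T e he F (q + 1) j n h) ≫ ψf T e he F S r n = 0 :=
  ι_descS T e he F S _ (q + 1) j h

include hr in
lemma ψf_comm (n : ℤ) :
    ψf T e he F S r n ≫ S.map (F.d n (n + 1)) =
      S.map (Gd T e he F n) ≫ ψf T e he F S r (n + 1) := by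
  apply extS T e he F S
  intro q j hqj
  rw [Sι_SGd_assoc]
  cases q with
  | zero =>
    have hj : j = n := by simpa using hqj
    subst hj
    rw [ι_ψf_self_assoc, Preadditive.add_comp, Preadditive.zsmul_comp, Category.assoc,
      Category.assoc, ι_ψf_self, ι_ψf_succ, comp_zero, add_zero, pow_zero, one_smul]
    exact (hr _).symm
  | succ q =>
    rw [ι_ψf_succ_assoc, zero_comp, Preadditive.add_comp, Preadditive.zsmul_comp, Category.assoc,
      Category.assoc, ι_ψf_succ, ι_ψf_succ, comp_zero, comp_zero, smul_zero, add_zero]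

noncomputable def Hg (i j : ℤ) (hij : j + 1 = i) :
    ∀ k : Idx i, S.obj (fam T e he F i k) ⟶ S.obj (GX T e he F j)
  | ⟨(0, _), _⟩ => 0
  | ⟨(q + 1, l), h⟩ => hq T e he S r her q (F.X l) ≫
      S.map (ι T e he F q l j (by push_cast at h; omega))

noncomputable def Hd (i j : ℤ) (hij : j + 1 = i) : S.obj (GX T e he F i) ⟶ S.obj (GX T e he F j) :=
  descS T e he F S (Hg T e he F S r her i j hij)

@[reassoc]
lemma ι_Hd_zero (i j : ℤ) (hij : j + 1 = i) (l : ℤ) (h : ((0 : ℕ) : ℤ) + l = i) :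
    S.map (ι T e he F 0 l i h) ≫ Hd T e he F S r her i j hij = 0 :=
  ι_descS T e he F S _ 0 l h

@[reassoc]
lemma ι_Hd_succ (i j : ℤ) (hij : j + 1 = i) (q : ℕ) (l : ℤ) (h : ((q + 1 : ℕ) : ℤ) + l = i) :
    S.map (ι T e he F (q + 1) l i h) ≫ Hd T e he F S r her i j hij =
      hq T e he S r her q (F.X l) ≫ S.map (ι T e he F q l j (by push_cast at h; omega)) :=
  ι_descS T e he F S _ (q + 1) l h

include hr in
lemma key (j : ℤ) :
    𝟙 (S.obj (GX T e he F (j + 1))) =
      S.map (Gd T e he F (j + 1)) ≫ Hd T e he F S r her (j + 1 + 1) (j + 1) rfl +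
        Hd T e he F S r her (j + 1) j rfl ≫ S.map (Gd T e he F j) +
        ψf T e he F S r (j + 1) ≫ S.map (φf T e he F (j + 1)) := by
  apply extS T e he F S
  intro q l hql
  rw [Category.comp_id, Preadditive.comp_add, Preadditive.comp_add]
  cases q with
  | zero =>
    have hl : l = j + 1 := by simpa using hql
    subst hl
    have t1 : S.map (ι T e he F 0 (j + 1) (j + 1) hql) ≫ S.map (Gd T e he F (j + 1)) ≫
        Hd T e he F S r her (j + 1 + 1) (j + 1) rfl =
        (𝟙 (S.obj (Lo T e he 0 (F.X (j + 1)))) -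
          r0 T e he S r (F.X (j + 1)) ≫ S.map (e0 T e he (F.X (j + 1)))) ≫
          S.map (ι T e he F 0 (j + 1) (j + 1) hql) := by
      rw [Sι_SGd_assoc, Preadditive.add_comp, Preadditive.zsmul_comp, Category.assoc,
        Category.assoc, ι_Hd_zero, ι_Hd_succ, comp_zero, smul_zero, zero_add, ← Category.assoc,
        w_hq_zero]
    have t2 : S.map (ι T e he F 0 (j + 1) (j + 1) hql) ≫
        Hd T e he F S r her (j + 1) j rfl ≫ S.map (Gd T e he F j) = 0 := by
      rw [ι_Hd_zero_assoc, zero_comp]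
    have t3 : S.map (ι T e he F 0 (j + 1) (j + 1) hql) ≫
        ψf T e he F S r (j + 1) ≫ S.map (φf T e he F (j + 1)) =
        (r0 T e he S r (F.X (j + 1)) ≫ S.map (e0 T e he (F.X (j + 1)))) ≫
          S.map (ι T e he F 0 (j + 1) (j + 1) hql) := by
      rw [ι_ψf_self_assoc]
      unfold φf
      rw [S.map_comp, Category.assoc]
    rw [t1, t2, t3, add_zero, ← Preadditive.add_comp, sub_add_cancel, Category.id_comp]
  | succ q =>
    have t1 : S.map (ι T e he F (q + 1) l (j + 1) hql) ≫ S.map (Gd T e he F (j + 1)) ≫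
        Hd T e he F S r her (j + 1 + 1) (j + 1) rfl =
        -(((-1 : ℤ) ^ q) • (hq T e he S r her q (F.X l) ≫ S.map (Lm T e he q (F.d l (l + 1))) ≫
          S.map (ι T e he F q (l + 1) (j + 1) (by push_cast at hql; omega)))) +
        (S.map (w T e he (q + 1) (F.X l)) ≫ hq T e he S r her (q + 1) (F.X l)) ≫
          S.map (ι T e he F (q + 1) l (j + 1) hql) := by
      rw [Sι_SGd_assoc, Preadditive.add_comp, Preadditive.zsmul_comp, Category.assoc,
        Category.assoc, ι_Hd_succ, ι_Hd_succ, ← Category.assoc (S.map (Lm T e he (q + 1) _)),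
        hq_nat T e he S r hr her, Category.assoc, pow_succ, mul_neg, mul_one, neg_smul,
        Category.assoc]
    have t2 : S.map (ι T e he F (q + 1) l (j + 1) hql) ≫
        Hd T e he F S r her (j + 1) j rfl ≫ S.map (Gd T e he F j) =
        ((-1 : ℤ) ^ q) • (hq T e he S r her q (F.X l) ≫ S.map (Lm T e he q (F.d l (l + 1))) ≫
          S.map (ι T e he F q (l + 1) (j + 1) (by push_cast at hql; omega))) +
        (hq T e he S r her q (F.X l) ≫ S.map (w T e he q (F.X l))) ≫
          S.map (ι T e he F (q + 1) l (j + 1) hql) := by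
      rw [ι_Hd_succ_assoc, Sι_SGd, Preadditive.comp_add, Preadditive.comp_zsmul, Category.assoc]
    have t3 : S.map (ι T e he F (q + 1) l (j + 1) hql) ≫
        ψf T e he F S r (j + 1) ≫ S.map (φf T e he F (j + 1)) = 0 := by
      rw [ι_ψf_succ_assoc, zero_comp]
    have h2 := hq_sum T e he S r her q (F.X l)
    rw [t1, t2, t3, add_zero, add_add_add_comm, neg_add_cancel, zero_add,
      ← Preadditive.add_comp, h2, Category.id_comp]

noncomputable def ψ : (S.mapHomologicalComplex (ComplexShape.up ℤ)).obj (G T e he F) ⟶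
    (S.mapHomologicalComplex (ComplexShape.up ℤ)).obj F where
  f n := ψf T e he F S r n
  comm' i j hij := by
    have hij' : i + 1 = j := hij
    subst hij'
    have h1 : ((S.mapHomologicalComplex (ComplexShape.up ℤ)).obj (G T e he F)).d i (i + 1) =
        S.map (Gd T e he F i) := congrArg S.map (G_d T e he F i)
    exact (ψf_comm T e he F S r hr i).trans
      (congrArg (fun t => t ≫ ψf T e he F S r (i + 1)) h1.symm)

include her in
lemma φ_ψ : (S.mapHomologicalComplex (ComplexShape.up ℤ)).map (φ T e he F) ≫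
    ψ T e he F S r hr = 𝟙 _ := by
  ext n
  change S.map (φf T e he F n) ≫ ψf T e he F S r n = 𝟙 _
  unfold φf
  rw [S.map_comp, Category.assoc, ι_ψf_self]
  exact her _

noncomputable def homotopy :
    Homotopy (𝟙 ((S.mapHomologicalComplex (ComplexShape.up ℤ)).obj (G T e he F)))
      (ψ T e he F S r hr ≫ (S.mapHomologicalComplex (ComplexShape.up ℤ)).map (φ T e he F)) where
  hom i j := if hij : j + 1 = i then Hd T e he F S r her i j hij else 0
  zero i j hij := dif_neg hij
  comm i := by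
    obtain ⟨j, rfl⟩ : ∃ j, i = j + 1 := ⟨i - 1, by omega⟩
    rw [dNext_eq _ (show (ComplexShape.up ℤ).Rel (j + 1) (j + 1 + 1) from rfl),
      prevD_eq _ (show (ComplexShape.up ℤ).Rel j (j + 1) from rfl)]
    have h1 : ((S.mapHomologicalComplex (ComplexShape.up ℤ)).obj (G T e he F)).d (j + 1)
        (j + 1 + 1) = S.map (Gd T e he F (j + 1)) := congrArg S.map (G_d T e he F (j + 1))
    have h2 : ((S.mapHomologicalComplex (ComplexShape.up ℤ)).obj (G T e he F)).d j (j + 1) =
        S.map (Gd T e he F j) := congrArg S.map (G_d T e he F j)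
    rw [h1, h2]
    simp only [dif_pos]
    exact key T e he F S r hr her j

noncomputable def homotopyEquiv :
    HomotopyEquiv ((S.mapHomologicalComplex (ComplexShape.up ℤ)).obj F)
      ((S.mapHomologicalComplex (ComplexShape.up ℤ)).obj (G T e he F)) where
  hom := (S.mapHomologicalComplex (ComplexShape.up ℤ)).map (φ T e he F)
  inv := ψ T e he F S r hr
  homotopyHomInvId := Homotopy.ofEq (φ_ψ T e he F S r hr her)
  homotopyInvHomId := (homotopy T e he F S r hr her).symm

end StalkTotal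

end Groth.Agent.Lib.Helper4.Gode
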