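import Groth.Agent.Lib.Helper4.Gode
import Groth.Agent.Lib.Helper4.CCBase
import Groth.Prelude.Def_CohCx
import Mathlib.Topology.Sheaves.Skyscraper
import Mathlib.Topology.Sheaves.Abelian
import Mathlib.Topology.Sheaves.Flasque
import Mathlib.Algebra.Homology.QuasiIso
import Mathlib.Algebra.Homology.HomotopyCategory

set_option autoImplicit false
open CategoryTheory CategoryTheory.Limits TopologicalSpace Opposite

namespace Groth.Agent.Lib.Helper4.GodeTop
universe u

open Classical

variable {X : TopCat.{u}}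

noncomputable abbrev Sx (x : X) : CohTop.Ab X ⥤ AddCommGrpCat.{u} :=
  sheafToPresheaf (Opens.grothendieckTopology X) AddCommGrpCat.{u} ⋙
    TopCat.Presheaf.stalkFunctor AddCommGrpCat.{u} x

noncomputable def adj (x : X) : Sx x ⊣ skyscraperSheafFunctor (C := AddCommGrpCat.{u}) x :=
  stalkSkyscraperSheafAdjunction x

noncomputable instance (x : X) : (Sx x).IsLeftAdjoint := (adj x).isLeftAdjoint

instance (x : X) : (Sx x).Additive :=
  inferInstanceAs ((TopCat.Sheaf.forget AddCommGrpCat.{u} X ⋙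
    TopCat.Presheaf.stalkFunctor AddCommGrpCat.{u} x).Additive)

noncomputable instance (x : X) : PreservesFiniteColimits (Sx x) := inferInstance

noncomputable instance (x : X) (J : Type) : PreservesColimitsOfShape (Discrete J) (Sx x) :=
  (adj x).leftAdjoint_preservesColimits.preservesColimitsOfShape

noncomputable def sky (x : X) : AddCommGrpCat.{u} ⥤ CohTop.Ab X :=
  skyscraperSheafFunctor (C := AddCommGrpCat.{u}) x

noncomputable def T : CohTop.Ab X ⥤ CohTop.Ab X where
  obj F := ∏ᶜ fun x : X => (sky x).obj ((Sx x).obj F)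
  map f := Limits.Pi.map fun x => (sky x).map ((Sx x).map f)
  map_id F := by
    apply Pi.hom_ext
    intro x
    simp
  map_comp f g := by
    apply Pi.hom_ext
    intro x
    simp

instance (x : X) : (sky (X := X) x).Additive := (adj x).right_adjoint_additive

noncomputable def pr (F : CohTop.Ab X) (x : X) :
    (T (X := X)).obj F ⟶ (sky x).obj ((Sx x).obj F) :=
  Pi.π (fun x : X => (sky x).obj ((Sx x).obj F)) x

lemma T_ext {Z F : CohTop.Ab X} {a b : Z ⟶ (T (X := X)).obj F}
    (h : ∀ x : X, a ≫ pr F x = b ≫ pr F x) : a = b :=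
  Limits.Pi.hom_ext _ _ h

@[reassoc]
lemma T_map_pr {F G : CohTop.Ab X} (f : F ⟶ G) (x : X) :
    (T (X := X)).map f ≫ pr G x = pr F x ≫ (sky x).map ((Sx x).map f) :=
  Limits.Pi.map_π (fun x : X => (sky x).map ((Sx x).map f)) x

instance : (T (X := X)).Additive where
  map_add {F G f g} := by
    apply T_ext
    intro x
    rw [Preadditive.add_comp, T_map_pr, T_map_pr, T_map_pr, (Sx x).map_add, (sky x).map_add,
      Preadditive.comp_add]

noncomputable def e (F : CohTop.Ab X) : F ⟶ (T (X := X)).obj F :=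
  Pi.lift fun x : X => (adj x).unit.app F

@[reassoc]
lemma e_pr (F : CohTop.Ab X) (x : X) : e F ≫ pr F x = (adj x).unit.app F :=
  Pi.lift_π _ _

lemma he {M N : CohTop.Ab X} (f : M ⟶ N) : f ≫ e N = e M ≫ (T (X := X)).map f := by
  apply T_ext
  intro x
  rw [Category.assoc, Category.assoc, e_pr, T_map_pr, e_pr_assoc]
  exact (adj x).unit.naturality f

noncomputable def r (x : X) (F : CohTop.Ab X) :
    (Sx x).obj ((T (X := X)).obj F) ⟶ (Sx x).obj F :=
  (Sx x).map (pr F x) ≫ (adj x).counit.app ((Sx x).obj F)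

lemma hr (x : X) {M N : CohTop.Ab X} (f : M ⟶ N) :
    (Sx x).map ((T (X := X)).map f) ≫ r x N = r x M ≫ (Sx x).map f := by
  unfold r
  rw [← Category.assoc, ← (Sx x).map_comp, T_map_pr, (Sx x).map_comp, Category.assoc,
    Category.assoc]
  congr 1
  exact (adj x).counit.naturality ((Sx x).map f)

lemma her (x : X) (M : CohTop.Ab X) : (Sx x).map (e M) ≫ r x M = 𝟙 _ := by
  unfold r
  rw [← Category.assoc, ← (Sx x).map_comp, e_pr]
  exact (adj x).left_triangle_components M

instance : HasCoproducts.{0} (CohTop.Ab X) := fun J => by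
  infer_instance

section Flasque

open CCBase

lemma isFlasque_of_res_surjective (A : CohTop.Ab X)
    (h : ∀ (U V : Opens X) (hVU : V ≤ U), Function.Surjective (res A hVU)) :
    TopCat.Sheaf.IsFlasque A := by
  constructor
  intro U V i
  rw [AddCommGrpCat.epi_iff_surjective]
  have hi : i = (homOfLE i.unop.le).op := Subsingleton.elim _ _
  rw [hi]
  exact h U.unop V.unop i.unop.le

lemma res_surjective_of_isFlasque (A : CohTop.Ab X) [hA : TopCat.Sheaf.IsFlasque A]
    (U V : Opens X) (hVU : V ≤ U) : Function.Surjective (res A hVU) := by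
  have := hA.epi (homOfLE hVU).op
  rw [AddCommGrpCat.epi_iff_surjective] at this
  exact this

lemma isFlasque_pi {ι : Type u} (f : ι → CohTop.Ab X)
    (h : ∀ i, TopCat.Sheaf.IsFlasque (f i)) : TopCat.Sheaf.IsFlasque (∏ᶜ f) := by
  apply isFlasque_of_res_surjective
  intro U V hVU t
  choose y hy using fun j =>
    res_surjective_of_isFlasque (f j) U V hVU (secMap (Pi.π f j) V t)
  obtain ⟨b, hb⟩ := exists_sec f (V := U) y
  refine ⟨b, ?_⟩
  apply sec_ext f
  intro j
  exact (secMap_res (Pi.π f j) hVU b).trans ((congrArg (res (f j) hVU) (hb j)).trans (hy j))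

lemma isFlasque_sky (x : X) (M : AddCommGrpCat.{u}) :
    TopCat.Sheaf.IsFlasque ((sky (X := X) x).obj M) := by
  constructor
  intro U V i
  by_cases hx : x ∈ unop V
  · have : IsIso ((skyscraperPresheaf x M).map i) := by
      change IsIso (dite _ _ _)
      rw [dif_pos hx]
      exact inferInstanceAs (IsIso (eqToHom _))
    exact inferInstanceAs (Epi ((skyscraperPresheaf x M).map i))
  · have hz : IsZero ((skyscraperPresheaf x M).obj V) :=
      (isTerminalSkyscraperSheafObjObjOfNotMem (A := M) hx).isZero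
    exact ⟨fun g g' _ => hz.eq_of_src g g'⟩

instance isFlasque_T (M : CohTop.Ab X) : TopCat.Sheaf.IsFlasque ((T (X := X)).obj M) :=
  isFlasque_pi _ (fun x => isFlasque_sky x _)

noncomputable def coord {J : Type} (f : J → CohTop.Ab X) (j : J) : ∐ f ⟶ f j :=
  Sigma.desc (fun k => if h : k = j then eqToHom (by rw [h]) else 0)

lemma ι_coord_self {J : Type} (f : J → CohTop.Ab X) (j : J) :
    Sigma.ι f j ≫ coord f j = 𝟙 _ := by
  unfold coord
  rw [Sigma.ι_desc, dif_pos rfl]
  rfl

lemma ι_coord_ne {J : Type} (f : J → CohTop.Ab X) (k j : J) (h : k ≠ j) :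
    Sigma.ι f k ≫ coord f j = 0 := by
  unfold coord
  rw [Sigma.ι_desc, dif_neg h]

lemma id_eq_sum {J : Type} (f : J → CohTop.Ab X) (s : Finset J)
    (hs : ∀ j, j ∉ s → IsZero (f j)) :
    𝟙 (∐ f) = ∑ j ∈ s, coord f j ≫ Sigma.ι f j := by
  apply Sigma.hom_ext
  intro k
  rw [Category.comp_id, Preadditive.comp_sum]
  by_cases hk : k ∈ s
  · rw [Finset.sum_eq_single k]
    · rw [← Category.assoc, ι_coord_self, Category.id_comp]
    · intro j _ hjk
      rw [← Category.assoc, ι_coord_ne f k j (Ne.symm hjk), zero_comp]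
    · intro h
      exact absurd hk h
  · rw [Finset.sum_eq_zero]
    · exact (hs k hk).eq_of_src _ _
    · intro j hj
      have : k ≠ j := fun h => hk (h ▸ hj)
      rw [← Category.assoc, ι_coord_ne f k j this, zero_comp]

lemma isFlasque_sigma {J : Type} (f : J → CohTop.Ab X)
    (h : ∀ j, TopCat.Sheaf.IsFlasque (f j)) (s : Finset J)
    (hs : ∀ j, j ∉ s → IsZero (f j)) : TopCat.Sheaf.IsFlasque (∐ f) := by
  apply isFlasque_of_res_surjective (∐ f)
  intro U V hVU t
  choose y hy using fun j =>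
    res_surjective_of_isFlasque (f j) U V hVU (secMap (coord f j) V t)
  refine ⟨∑ j ∈ s, secMap (Sigma.ι f j) U (y j), ?_⟩
  rw [map_sum]
  have ht : t = secMap (𝟙 (∐ f)) V t := rfl
  rw [ht, id_eq_sum f s hs, secMap_sum]
  apply Finset.sum_congr rfl
  intro j _
  exact (secMap_res (Sigma.ι f j) hVU (y j)).symm.trans
    (congrArg (secMap (Sigma.ι f j) V) (hy j))

end Flasque

section Main

open Gode

noncomputable instance (x : X) : PreservesFiniteLimits (Sx x) :=
  inferInstanceAs (PreservesFiniteLimits (TopCat.Sheaf.forget AddCommGrpCat.{u} X ⋙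
    TopCat.Presheaf.stalkFunctor AddCommGrpCat.{u} x))

lemma quasiIso_of_stalks {F G : CochainComplex (CohTop.Ab X) ℤ} (φ : F ⟶ G)
    (h : ∀ x : X, QuasiIso (((Sx x).mapHomologicalComplex (ComplexShape.up ℤ)).map φ)) :
    QuasiIso φ := by
  rw [quasiIso_iff]
  intro n
  rw [quasiIsoAt_iff, ShortComplex.quasiIso_iff]
  set φsc := (HomologicalComplex.shortComplexFunctor (CohTop.Ab X) (ComplexShape.up ℤ) n).map φ
    with hφsc
  have hst : ∀ x : X, IsIso ((Sx x).map (ShortComplex.homologyMap φsc)) := by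
    intro x
    have h1 : QuasiIsoAt (((Sx x).mapHomologicalComplex (ComplexShape.up ℤ)).map φ) n :=
      (h x).quasiIsoAt n
    rw [quasiIsoAt_iff] at h1
    have h2 : ShortComplex.QuasiIso ((Sx x).mapShortComplex.map φsc) := h1
    rw [ShortComplex.quasiIso_iff] at h2
    have h3 := ShortComplex.mapHomologyIso_hom_naturality φsc (Sx x)
    have h4 := (Iso.eq_inv_comp _).2 h3.symm
    rw [h4]
    have h5 := IsIso.comp_isIso' h2 (Iso.isIso_hom
      (((HomologicalComplex.shortComplexFunctor (CohTop.Ab X) (ComplexShape.up ℤ) n).obj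
        G).mapHomologyIso (Sx x)))
    exact IsIso.comp_isIso' (Iso.isIso_inv _) h5
  have : ∀ x : X, IsIso ((TopCat.Presheaf.stalkFunctor AddCommGrpCat.{u} x).map
      (ShortComplex.homologyMap φsc).1) := hst
  exact TopCat.Presheaf.isIso_of_stalkFunctor_map_iso _

lemma isFlasque_Lo (q : ℕ) (M : CohTop.Ab X) :
    TopCat.Sheaf.IsFlasque
      (Lo (A := CohTop.Ab X) (T (X := X)) e (fun f => he f) q M : CohTop.Ab X) :=
  isFlasque_T _

lemma isFlasque_GX (F : CochainComplex (CohTop.Ab X) ℤ) (a : ℤ) [F.IsStrictlyGE a] (n : ℤ) :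
    TopCat.Sheaf.IsFlasque
      (GX (A := CohTop.Ab X) (T (X := X)) e (fun f => he f) F n : CohTop.Ab X) := by
  let s : Finset (Idx n) := (Finset.range ((n - a).toNat + 1)).image
    (fun q : ℕ => (⟨(q, n - q), by simp⟩ : Idx n))
  refine isFlasque_sigma (fam (T (X := X)) e (fun f => he f) F n)
    (fun i => isFlasque_Lo i.1.1 (F.X i.1.2)) s ?_
  rintro ⟨⟨q, j⟩, hqj⟩ hi
  apply isZero_Lo
  refine F.isZero_of_isStrictlyGE a j ?_
  by_contra hge
  apply hi
  rw [Finset.mem_image]
  refine ⟨q, ?_, ?_⟩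
  · rw [Finset.mem_range]
    simp only at hqj
    omega
  · apply Subtype.ext
    simp only at hqj
    ext
    · rfl
    · simp only
      omega

theorem exists_godement (F : CochainComplex (CohTop.Ab X) ℤ) (a : ℤ) [F.IsStrictlyGE a] :
    ∃ (G : CochainComplex (CohTop.Ab X) ℤ) (φ : F ⟶ G), G.IsStrictlyGE a ∧ QuasiIso φ ∧
      (∀ n : ℤ, TopCat.Sheaf.IsFlasque (G.X n)) ∧
      ∀ x : X, ∃ eq : HomotopyEquiv ((CohCx.stalkCx x).obj F) ((CohCx.stalkCx x).obj G),
        eq.hom = (CohCx.stalkCx x).map φ := by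
  refine ⟨G (T (X := X)) e (fun f => he f) F, φ (T (X := X)) e (fun f => he f) F,
    isStrictlyGE_G (T (X := X)) e (fun f => he f) F a, ?_, ?_, ?_⟩
  · apply quasiIso_of_stalks
    intro x
    exact (homotopyEquiv (T (X := X)) e (fun f => he f) F (Sx x) (r x) (fun f => hr x f)
      (her x)).quasiIso_hom
  · intro n
    exact isFlasque_GX F a n
  · intro x
    exact ⟨homotopyEquiv (T (X := X)) e (fun f => he f) F (Sx x) (r x) (fun f => hr x f)
      (her x), rfl⟩

end Main

end Groth.Agent.Lib.Helper4.GodeTop
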