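import Groth.Agent.Lib.Helper4.Rees
import Mathlib.RingTheory.LocalRing.Quotient
import Mathlib.Tactic

set_option autoImplicit false
universe u

namespace Groth.Agent.Lib.Helper4.Gor

open CategoryTheory CategoryTheory.Abelian Groth.Agent.Lib.Helper4.InjDim Groth.Agent.Lib.Helper4.Rees

variable {A : Type u} [CommRing A] (f : A)

noncomputable def quotProj : ModuleCat.of A A ⟶
    (Φ f).obj (ModuleCat.of (A ⧸ Ideal.span {f}) (A ⧸ Ideal.span {f})) :=
  ModuleCat.ofHom
    (Y := (Φ f).obj (ModuleCat.of (A ⧸ Ideal.span {f}) (A ⧸ Ideal.span {f})))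
    { toFun := fun a => (show A ⧸ Ideal.span {f} from Ideal.Quotient.mk (Ideal.span {f}) a)
      map_add' := fun a b => map_add (Ideal.Quotient.mk (Ideal.span {f})) a b
      map_smul' := fun a b => map_mul (Ideal.Quotient.mk (Ideal.span {f})) a b }

theorem quotProj_exact :
    Function.Exact (f • 𝟙 (ModuleCat.of A A)).hom (quotProj f).hom := by
  intro a
  constructor
  · intro ha
    have h2 : Ideal.Quotient.mk (Ideal.span {f}) (a : A) = 0 := ha
    obtain ⟨b, hb⟩ := Ideal.mem_span_singleton'.mp (Ideal.Quotient.eq_zero_iff_mem.mp h2)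
    exact ⟨b, by rw [← hb, mul_comm]; rfl⟩
  · rintro ⟨b, rfl⟩
    change Ideal.Quotient.mk (Ideal.span {f}) (f • (b : A)) = 0
    rw [smul_eq_mul]
    exact Ideal.Quotient.eq_zero_iff_mem.mpr
      (Ideal.mul_mem_right _ _ (Ideal.mem_span_singleton_self f))

theorem quotProj_w : (f • 𝟙 (ModuleCat.of A A)) ≫ quotProj f = 0 := by
  refine ModuleCat.hom_ext (LinearMap.ext fun v => ?_)
  exact (quotProj_exact f).apply_apply_eq_zero v

theorem quot_shortExact (hf : IsSMulRegular A f) :
    (ShortComplex.mk (f • 𝟙 (ModuleCat.of A A)) (quotProj f) (quotProj_w f)).ShortExact := by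
  refine ModuleCat.shortComplex_shortExact _ (quotProj_exact f) ?_ ?_
  · intro v w hvw
    exact hf hvw
  · intro b
    obtain ⟨a, rfl⟩ := Ideal.Quotient.mk_surjective (show A ⧸ Ideal.span {f} from b)
    exact ⟨a, rfl⟩

theorem rees_self (hf : IsSMulRegular A f) (n : ℕ) (N : ModuleCat.{u} (A ⧸ Ideal.span {f})) :
    Subsingleton (Ext N (ModuleCat.of (A ⧸ Ideal.span {f}) (A ⧸ Ideal.span {f})) (n + 1)) ↔
      Subsingleton (Ext ((Φ f).obj N) (ModuleCat.of A A) (n + 2)) :=
  rees_iff (quot_shortExact f hf) hf n N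

section Local

variable [IsLocalRing A] [IsNoetherianRing A]

theorem quot_isLocalRing (hfm : f ∈ IsLocalRing.maximalIdeal A) :
    IsLocalRing (A ⧸ Ideal.span {f}) := by
  have hne : Ideal.span {f} ≠ ⊤ := by
    intro h
    have : (1 : A) ∈ IsLocalRing.maximalIdeal A := by
      have h1 : (1 : A) ∈ Ideal.span {f} := by rw [h]; trivial
      exact (Ideal.span_le.mpr (Set.singleton_subset_iff.mpr hfm)) h1
    exact (Ideal.ne_top_iff_one _).mp (IsLocalRing.maximalIdeal.isMaximal A).ne_top this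
  have := Ideal.Quotient.nontrivial_iff.mpr hne
  exact IsLocalRing.of_surjective' (Ideal.Quotient.mk (Ideal.span {f})) Ideal.Quotient.mk_surjective

theorem exists_restrict_iso_residue (hfm : f ∈ IsLocalRing.maximalIdeal A) :
    ∃ N : ModuleCat.{u} (A ⧸ Ideal.span {f}),
      Nonempty ((Φ f).obj N ≅ ModuleCat.of A (A ⧸ IsLocalRing.maximalIdeal A)) := by
  have hle : Ideal.span {f} ≤ IsLocalRing.maximalIdeal A :=
    Ideal.span_le.mpr (Set.singleton_subset_iff.mpr hfm)
  letI : Module (A ⧸ Ideal.span {f}) (A ⧸ IsLocalRing.maximalIdeal A) :=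
    Module.compHom _ (Ideal.Quotient.factor hle)
  refine ⟨ModuleCat.of (A ⧸ Ideal.span {f}) (A ⧸ IsLocalRing.maximalIdeal A), ⟨?_⟩⟩
  let e : ((Φ f).obj (ModuleCat.of (A ⧸ Ideal.span {f}) (A ⧸ IsLocalRing.maximalIdeal A)))
      ≃ₗ[A] (A ⧸ IsLocalRing.maximalIdeal A) :=
    { toFun := fun x => x
      invFun := fun x => x
      map_add' := fun _ _ => rfl
      map_smul' := fun a x => by
        obtain ⟨b, rfl⟩ := Ideal.Quotient.mk_surjective
          (show A ⧸ IsLocalRing.maximalIdeal A from x)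
        rfl
      left_inv := fun _ => rfl
      right_inv := fun _ => rfl }
  exact e.toModuleIso

theorem hasInjectiveDimensionLT_succ_of_quot (hfm : f ∈ IsLocalRing.maximalIdeal A)
    (hf : IsSMulRegular A f) (n : ℕ)
    (h : HasInjectiveDimensionLT
      (ModuleCat.of (A ⧸ Ideal.span {f}) (A ⧸ Ideal.span {f})) (n + 1)) :
    HasInjectiveDimensionLT (ModuleCat.of A A) (n + 2) := by
  obtain ⟨N, ⟨e⟩⟩ := exists_restrict_iso_residue f hfm
  apply hasInjectiveDimensionLT_of_ext_residue' (ModuleCat.of A A) (n + 1)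
  intro i hi
  obtain ⟨j, rfl⟩ : ∃ j, i = j + 2 := ⟨i - 2, by omega⟩
  refine ext_subsingleton_of_iso e.symm ?_
  rw [← rees_self f hf j N]
  exact HasInjectiveDimensionLT.subsingleton _ (n + 1) (j + 1) (by omega) _

omit [IsLocalRing A] [IsNoetherianRing A] in
theorem hasInjectiveDimensionLT_quot_of_succ (hf : IsSMulRegular A f) (n : ℕ)
    (h : HasInjectiveDimensionLT (ModuleCat.of A A) (n + 2)) :
    HasInjectiveDimensionLT
      (ModuleCat.of (A ⧸ Ideal.span {f}) (A ⧸ Ideal.span {f})) (n + 1) := by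
  refine HasInjectiveDimensionLT.mk (fun i hi Y e => ?_)
  obtain ⟨j, rfl⟩ : ∃ j, i = j + 1 := ⟨i - 1, by omega⟩
  have : Subsingleton (Ext Y (ModuleCat.of (A ⧸ Ideal.span {f}) (A ⧸ Ideal.span {f})) (j + 1)) := by
    rw [rees_self f hf j Y]
    exact HasInjectiveDimensionLT.subsingleton _ (n + 2) (j + 2) (by omega) _
  exact Subsingleton.elim _ _

end Local

end Groth.Agent.Lib.Helper4.Gor
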