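import Groth.Agent.Lib.Helper4.GorCM
import Mathlib.RingTheory.LocalProperties.InjectiveDimension
import Mathlib.RingTheory.Ideal.KrullsHeightTheorem
import Mathlib.Tactic

set_option autoImplicit false
universe u

namespace Groth.Agent.Lib.Helper4.GorGlobal

open CategoryTheory

noncomputable def locIso (A : Type u) [CommRing A] (p : Ideal A) [p.IsPrime] :
    (ModuleCat.of A A).localizedModule p.primeCompl ≅
      ModuleCat.of (Localization.AtPrime p) (Localization.AtPrime p) := by
  let e1 : LocalizedModule p.primeCompl A ≃ₗ[Localization.AtPrime p] Localization.AtPrime p :=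
    LinearEquiv.extendScalarsOfIsLocalization p.primeCompl (Localization.AtPrime p)
      (IsLocalizedModule.linearEquiv p.primeCompl
        (LocalizedModule.mkLinearMap p.primeCompl A)
        (Algebra.linearMap A (Localization.AtPrime p)))
  let e2 : Shrink.{u} (LocalizedModule p.primeCompl A) ≃ₗ[Localization.AtPrime p]
      Localization.AtPrime p :=
    (Shrink.linearEquiv (Localization.AtPrime p) _).trans e1
  exact e2.toModuleIso

theorem hasInjectiveDimensionLE_of_isGorensteinRing (A : Type u) [CommRing A]
    [hG : LocCoh.IsGorensteinRing A] (n : ℕ) (hn : ringKrullDim A ≤ n) :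
    HasInjectiveDimensionLE (ModuleCat.of A A) n := by
  rw [ModuleCat.hasInjectiveDimensionLE_iff_forall_primeSpectrum]
  intro p
  have _ := hG.isGorensteinLocalRing_localization p.asIdeal
  obtain ⟨d, hd, _, hinj⟩ :=
    Groth.Agent.Lib.Helper4.GorCM.gorenstein_dim (Localization.AtPrime p.asIdeal)
  have hp : ringKrullDim (Localization.AtPrime p.asIdeal) ≤ n := by
    rw [IsLocalization.AtPrime.ringKrullDim_eq_height p.asIdeal (Localization.AtPrime p.asIdeal)]
    exact Ideal.height_le_ringKrullDim_of_isPrime.trans hn
  rw [hd] at hp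
  have hdn : d ≤ n := by exact_mod_cast hp
  have h2 : HasInjectiveDimensionLT
      (ModuleCat.of (Localization.AtPrime p.asIdeal) (Localization.AtPrime p.asIdeal)) (n + 1) :=
    hasInjectiveDimensionLT_of_ge _ (d + 1) (n + 1) (by omega)
  exact hasInjectiveDimensionLT_of_iso (locIso A p.asIdeal).symm (n + 1)

theorem isGorensteinLocalRing_localization_of_hasInjectiveDimensionLT (A : Type u) [CommRing A]
    [IsNoetherianRing A] (n : ℕ) (hn : HasInjectiveDimensionLT (ModuleCat.of A A) n)
    (p : Ideal A) [p.IsPrime] : LocCoh.IsGorensteinLocalRing (Localization.AtPrime p) := by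
  have hn1 : HasInjectiveDimensionLE (ModuleCat.of A A) n :=
    hasInjectiveDimensionLT_of_ge _ n (n + 1) (by omega)
  have h1 := ModuleCat.localizedModule_hasInjectiveDimensionLE n p.primeCompl (ModuleCat.of A A)
  exact { exists_hasInjectiveDimensionLT :=
    ⟨n + 1, hasInjectiveDimensionLT_of_iso (locIso A p) (n + 1)⟩ }

end Groth.Agent.Lib.Helper4.GorGlobal
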