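import Groth.Agent.Lib.Helper68.HColim
import Groth.Agent.Lib.Helper42.ModSheaf
import Groth.Prelude.Def_Coh

set_option autoImplicit false
universe u
open CategoryTheory CategoryTheory.Limits AlgebraicGeometry

namespace Groth.Agent.Lib.Helper4.HHColim

theorem subsingleton_HH_of_isColimit {X : Scheme.{u}} [CompactSpace X] [QuasiSeparatedSpace X]
    {ι : Type u} [Preorder ι] [IsDirected ι (· ≤ ·)] [Nonempty ι]
    (M : ι ⥤ X.Modules) {c : Cocone M} (hc : IsColimit c) (q : ℕ)
    (h : ∀ i, Subsingleton (Coh.HH X (M.obj i) q)) : Subsingleton (Coh.HH X c.pt q) := by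
  have hc' := isColimitOfPreserves (SheafOfModules.toSheaf X.ringCatSheaf) hc
  have : CompactSpace ↑X.toTopCat := ‹CompactSpace X›
  have : QuasiSeparatedSpace ↑X.toTopCat := ‹QuasiSeparatedSpace X›
  have : PrespectralSpace ↑X.toTopCat := inferInstanceAs (PrespectralSpace X)
  exact Groth.Agent.Lib.Helper68.HColim.subsingleton_H_of_isColimit (X := X.toTopCat)
    (M ⋙ SheafOfModules.toSheaf X.ringCatSheaf) hc' q h

theorem subsingleton_HH_of_isColimit' {X : Scheme.{u}} [CompactSpace X] [QuasiSeparatedSpace X]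
    {ι : Type u} [SmallCategory ι] [IsFiltered ι]
    (M : ι ⥤ X.Modules) {c : Cocone M} (hc : IsColimit c) (q : ℕ)
    (h : ∀ i, Subsingleton (Coh.HH X (M.obj i) q)) : Subsingleton (Coh.HH X c.pt q) := by
  obtain ⟨α, _, _, _, F, hF⟩ := IsFiltered.exists_directed ι
  have := hF
  exact subsingleton_HH_of_isColimit (F ⋙ M) ((Functor.Final.isColimitWhiskerEquiv F c).symm hc) q
    (fun i => h (F.obj i))

end Groth.Agent.Lib.Helper4.HHColim
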