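import Groth.Agent.Lib.Helper4.EtExtShriek
import Groth.Agent.Lib.Helper4.BiSplit

set_option autoImplicit false
open CategoryTheory CategoryTheory.Limits AlgebraicGeometry Opposite
universe u

namespace Groth.Agent.Lib.Helper4.MVSeq
open EtCore Abelian EtExtShriek

section Stalk
variable {U X : Scheme.{u}} (j : U ⟶ X) [IsOpenImmersion j]

theorem adjP_counit (G : EtCoh.Ab X) : (adjP j).counit.app G =
    (EtShriek.extZero j).map ((EtRestr.restrPullIso j).inv.app G) ≫
      (EtShriek.extZeroAdj j).counit.app G := by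
  simp [adjP]

theorem isIso_stalk_adj_symm {B : EtCoh.Ab U} {G : EtCoh.Ab X} (φ : B ⟶ (EtCoh.pull j).obj G)
    [IsIso φ] {Ω : Type u} [Field Ω] [IsSepClosed Ω] (ξ : Spec (CommRingCat.of Ω) ⟶ X)
    (hξ : ξ.base default ∈ Set.range j.base) :
    IsIso ((EtCoh.stalk ξ).map (((adjP j).homEquiv B G).symm φ)) := by
  have hr : Set.range ξ.base ⊆ Set.range j.base := by
    rintro _ ⟨a, rfl⟩
    rwa [Subsingleton.elim a default]
  have hl := IsOpenImmersion.lift_fac j ξ hr
  rw [Adjunction.homEquiv_counit, adjP_counit, Functor.map_comp, Functor.map_comp]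
  have h1 : IsIso ((EtCoh.stalk ξ).map ((EtShriek.extZeroAdj j).counit.app G)) := by
    rw [← hl]
    exact ExtZeroOpen.isIso_stalk_counit_of_lift j G _
  infer_instance

theorem isIso_stalk_cU {Ω : Type u} [Field Ω] [IsSepClosed Ω] (ξ : Spec (CommRingCat.of Ω) ⟶ X)
    (hξ : ξ.base default ∈ Set.range j.base) : IsIso ((EtCoh.stalk ξ).map (cU j)) :=
  isIso_stalk_adj_symm j (pullConst j ℤ).inv ξ hξ

theorem isIso_adjP_unit (B : EtCoh.Ab U) : IsIso ((adjP j).unit.app B) := by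
  have h : (adjP j).unit.app B = (EtShriek.extZeroAdj j).unit.app B ≫
      (EtRestr.restrPullIso j).hom.app _ := by
    simp [adjP]
  have := EtRestr.isIso_extZeroAdj_unit j
  rw [h]
  infer_instance

theorem isZero_stalk_AU {Ω : Type u} [Field Ω] [IsSepClosed Ω] (ξ : Spec (CommRingCat.of Ω) ⟶ X)
    (hξ : ξ.base default ∉ Set.range j.base) : IsZero ((EtCoh.stalk ξ).obj (AU j)) :=
  ExtZeroOpen.isZero_stalk_extZero_of_not_mem j _ ξ hξ

end Stalk

section StalkTwo
variable {W U X : Scheme.{u}} (k : W ⟶ U) (j : U ⟶ X) (j₀ : W ⟶ X) (w : k ≫ j = j₀)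
  [IsOpenImmersion j] [IsOpenImmersion j₀]

theorem isIso_mU : IsIso (mU k j j₀ w) := by
  have := isIso_adjP_unit j (EtCoh.const U ℤ)
  unfold mU
  infer_instance

theorem isIso_stalk_aU {Ω : Type u} [Field Ω] [IsSepClosed Ω] (ξ : Spec (CommRingCat.of Ω) ⟶ X)
    (hξ : ξ.base default ∈ Set.range j₀.base) : IsIso ((EtCoh.stalk ξ).map (aU k j j₀ w)) := by
  have := isIso_mU k j j₀ w
  exact isIso_stalk_adj_symm j₀ (mU k j j₀ w) ξ hξ

theorem isIso_stalk_aU_of_not_mem {Ω : Type u} [Field Ω] [IsSepClosed Ω]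
    (ξ : Spec (CommRingCat.of Ω) ⟶ X) (hξ : ξ.base default ∉ Set.range j.base) :
    IsIso ((EtCoh.stalk ξ).map (aU k j j₀ w)) := by
  have h0 : ξ.base default ∉ Set.range j₀.base := by
    rintro ⟨y, hy⟩
    apply hξ
    refine ⟨k.base y, ?_⟩
    rw [← hy, ← w]
    rfl
  exact isIso_of_source_target_iso_zero _ (isZero_stalk_AU j₀ ξ h0).isoZero
    (isZero_stalk_AU j ξ hξ).isoZero

end StalkTwo

theorem isIso_neg {𝒞 : Type*} [Category 𝒞] [Preadditive 𝒞] {P Q : 𝒞} (f : P ⟶ Q) [IsIso f] :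
    IsIso (-f) :=
  ⟨-inv f, by rw [Preadditive.neg_comp, Preadditive.comp_neg, neg_neg, IsIso.hom_inv_id],
    by rw [Preadditive.neg_comp, Preadditive.comp_neg, neg_neg, IsIso.inv_hom_id]⟩

section SES
variable {W U V X : Scheme.{u}} (kU : W ⟶ U) (kV : W ⟶ V) (jU : U ⟶ X) (jV : V ⟶ X) (jW : W ⟶ X)
  (wU : kU ≫ jU = jW) (wV : kV ≫ jV = jW)
  [IsOpenImmersion jU] [IsOpenImmersion jV] [IsOpenImmersion jW]

noncomputable def mvSC : ShortComplex (EtCoh.Ab X) :=
  ShortComplex.mk (biprod.lift (aU kU jU jW wU) (-(aU kV jV jW wV)))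
    (biprod.desc (cU jU) (cU jV)) (by
      rw [biprod.lift_desc, Preadditive.neg_comp, aU_cU, aU_cU, add_neg_cancel])

variable (hcov : ∀ x : X, x ∈ Set.range jU.base ∨ x ∈ Set.range jV.base)
  (hint : Set.range jU.base ∩ Set.range jV.base ⊆ Set.range jW.base)

include hcov hint in
theorem nonempty_splitting {Ω : Type u} [Field Ω] [IsSepClosed Ω]
    (ξ : Spec (CommRingCat.of Ω) ⟶ X) :
    Nonempty ((mvSC kU kV jU jV jW wU wV).map (EtCoh.stalk ξ)).Splitting := by
  have hadd : (EtCoh.stalk ξ).Additive := Functor.additive_of_preserves_binary_products _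
  let T := EtCoh.stalk ξ
  let b := T.mapBinaryBicone (BinaryBiproduct.bicone (AU jU) (AU jV))
  have hpres : PreservesBinaryBiproduct (AU jU) (AU jV) T :=
    preservesBinaryBiproduct_of_preservesBinaryProduct T
  have hb : b.IsBilimit := isBinaryBilimitOfPreserves T (BinaryBiproduct.isBilimit _ _)
  have e1 : T.map (mvSC kU kV jU jV jW wU wV).f ≫ b.fst = T.map (aU kU jU jW wU) := by
    change T.map _ ≫ T.map biprod.fst = _
    rw [← Functor.map_comp]
    congr 1
    exact biprod.lift_fst _ _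
  have e2 : T.map (mvSC kU kV jU jV jW wU wV).f ≫ b.snd = T.map (-(aU kV jV jW wV)) := by
    change T.map _ ≫ T.map biprod.snd = _
    rw [← Functor.map_comp]
    congr 1
    exact biprod.lift_snd _ _
  have e3 : b.inl ≫ T.map (mvSC kU kV jU jV jW wU wV).g = T.map (cU jU) := by
    change T.map biprod.inl ≫ T.map _ = _
    rw [← Functor.map_comp]
    congr 1
    exact biprod.inl_desc _ _
  have e4 : b.inr ≫ T.map (mvSC kU kV jU jV jW wU wV).g = T.map (cU jV) := by
    change T.map biprod.inr ≫ T.map _ = _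
    rw [← Functor.map_comp]
    congr 1
    exact biprod.inr_desc _ _
  by_cases hV : ξ.base default ∈ Set.range jV.base
  · have i1 : IsIso (T.map (mvSC kU kV jU jV jW wU wV).f ≫ b.fst) := by
      rw [e1]
      by_cases hU : ξ.base default ∈ Set.range jU.base
      · exact isIso_stalk_aU kU jU jW wU ξ (hint ⟨hU, hV⟩)
      · exact isIso_stalk_aU_of_not_mem kU jU jW wU ξ hU
    have i2 : IsIso (b.inr ≫ T.map (mvSC kU kV jU jV jW wU wV).g) := by
      rw [e4]
      exact isIso_stalk_cU jV ξ hV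
    exact ⟨@BiSplit.splitting1 _ _ _ _ _ b hb _ _ (T.map (mvSC kU kV jU jV jW wU wV).f)
      (T.map (mvSC kU kV jU jV jW wU wV).g) _ i1 i2⟩
  · have hU : ξ.base default ∈ Set.range jU.base := (hcov _).resolve_right hV
    have i1 : IsIso (T.map (mvSC kU kV jU jV jW wU wV).f ≫ b.snd) := by
      rw [e2, Functor.map_neg]
      have hi := isIso_stalk_aU_of_not_mem kV jV jW wV ξ hV
      exact @isIso_neg _ _ _ _ _ _ hi
    have i2 : IsIso (b.inl ≫ T.map (mvSC kU kV jU jV jW wU wV).g) := by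
      rw [e3]
      exact isIso_stalk_cU jU ξ hU
    exact ⟨@BiSplit.splitting2 _ _ _ _ _ b hb _ _ (T.map (mvSC kU kV jU jV jW wU wV).f)
      (T.map (mvSC kU kV jU jV jW wU wV).g) _ i1 i2⟩

include hcov hint in
theorem mvSC_shortExact : (mvSC kU kV jU jV jW wU wV).ShortExact := by
  have hE : (mvSC kU kV jU jV jW wU wV).Exact := by
    rw [EtStalk.exact_iff_stalk]
    intro Ω _ _ ξ
    obtain ⟨s⟩ := nonempty_splitting kU kV jU jV jW wU wV hcov hint ξ
    exact s.exact
  have hM : Mono (mvSC kU kV jU jV jW wU wV).f := by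
    rw [EtStalk.mono_iff_stalk]
    intro Ω _ _ ξ
    obtain ⟨s⟩ := nonempty_splitting kU kV jU jV jW wU wV hcov hint ξ
    exact s.mono_f
  have hEp : Epi (mvSC kU kV jU jV jW wU wV).g := by
    rw [EtStalk.epi_iff_stalk]
    intro Ω _ _ ξ
    obtain ⟨s⟩ := nonempty_splitting kU kV jU jV jW wU wV hcov hint ξ
    exact s.epi_g
  exact ShortComplex.ShortExact.mk hE

end SES

end Groth.Agent.Lib.Helper4.MVSeq
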