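import Groth.Agent.Lib.Helper4.EtRestr
import Groth.Agent.Lib.Helper4.JContEtale
import Groth.Agent.S0102
import Groth.Prelude.Def_EtCore
import Mathlib.CategoryTheory.Sites.ConstantSheaf
import Mathlib.CategoryTheory.Sites.Over
import Mathlib.CategoryTheory.Sites.Equivalence

set_option autoImplicit false
open CategoryTheory CategoryTheory.Limits AlgebraicGeometry Opposite
universe u

noncomputable section

namespace Groth.Agent.Lib.Helper4.OverEt

variable {X : Scheme.{u}} (V : X.Etale)

instance : Etale V.hom := V.prop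

def phiObj (W : V.left.Etale) : Over V :=
  Over.mk (MorphismProperty.Over.homMk W.hom rfl trivial :
    (EtShriek.compEtale V.hom).obj W ⟶ V)

def phi : V.left.Etale ⥤ Over V where
  obj W := phiObj V W
  map {W W'} g := Over.homMk ((EtShriek.compEtale V.hom).map g) (by
    apply MorphismProperty.Over.Hom.ext
    exact MorphismProperty.Over.w g)
  map_id W := by
    apply Over.OverMorphism.ext
    exact (EtShriek.compEtale V.hom).map_id W
  map_comp g h := by
    apply Over.OverMorphism.ext
    exact (EtShriek.compEtale V.hom).map_comp g h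

theorem phi_comp_forget : phi V ⋙ Over.forget V = EtShriek.compEtale V.hom := rfl

instance : (phi V).Faithful where
  map_injective {W W'} g h e := by
    have h1 : (EtShriek.compEtale V.hom).map g = (EtShriek.compEtale V.hom).map h :=
      congrArg (fun k => k.left) e
    exact (EtShriek.compEtale V.hom).map_injective h1

instance : (phi V).Full where
  map_surjective {W W'} a := by
    have h1 : a.left ≫ (phiObj V W').hom = (phiObj V W).hom := Over.w a
    have h2 : a.left.left ≫ W'.hom = W.hom := congrArg (fun k => k.left) h1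
    refine ⟨MorphismProperty.Over.homMk a.left.left h2 trivial, ?_⟩
    apply Over.OverMorphism.ext
    apply MorphismProperty.Over.Hom.ext
    rfl

def liftObj (Y : Over V) : V.left.Etale :=
  have e : Y.hom.left ≫ V.hom = Y.left.hom := MorphismProperty.Over.w Y.hom
  have hW : EtCoh.etaleMP (Y.hom.left ≫ V.hom) := by
    rw [e]; exact Y.left.prop
  MorphismProperty.Over.mk ⊤ Y.hom.left
    (EtCoh.etaleMP.of_postcomp (W' := EtCoh.etaleMP) Y.hom.left V.hom V.prop hW)

def liftIso (Y : Over V) : (phi V).obj (liftObj V Y) ≅ Y :=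
  Over.isoMk (MorphismProperty.Over.isoMk (Iso.refl _) (by
    have e : Y.hom.left ≫ V.hom = Y.left.hom := MorphismProperty.Over.w Y.hom
    exact (Category.id_comp _).trans e.symm)) (by
    apply MorphismProperty.Over.Hom.ext
    exact Category.id_comp _)

instance : (phi V).EssSurj where
  mem_essImage Y := ⟨liftObj V Y, ⟨liftIso V Y⟩⟩

instance : (phi V).IsEquivalence where

theorem mem_iff_forall_exists {S : Scheme.{u}} (T : S.Etale) (R : Sieve T) :
    R ∈ S.smallEtaleTopology T ↔
      ∀ x : T.left, ∃ (T' : S.Etale) (g : T' ⟶ T) (t : T'.left), R g ∧ g.left.base t = x := by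
  have eX : S.smallEtaleTopology =
      (S.smallPretopology (P := EtCoh.etaleMP) (Q := EtCoh.etaleMP)).toGrothendieck :=
    Scheme.smallGrothendieckTopology_eq_toGrothendieck_smallPretopology S le_rfl
  rw [eX]
  constructor
  · intro h x
    obtain ⟨T', g, t, hg, -, ht⟩ := (Scheme.mem_toGrothendieck_smallPretopology T R).1 h x
    exact ⟨T', g, t, hg, ht⟩
  · intro h
    refine (Scheme.mem_toGrothendieck_smallPretopology T R).2 ?_
    intro x
    obtain ⟨T', g, t, hg, ht⟩ := h x
    exact ⟨T', g, t, hg, inferInstance, ht⟩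

theorem functorPushforward_mem_iff (W : V.left.Etale) (S : Sieve W) :
    S.functorPushforward (phi V) ∈ (X.smallEtaleTopology.over V) ((phi V).obj W) ↔
      S ∈ V.left.smallEtaleTopology W := by
  rw [GrothendieckTopology.mem_over_iff, mem_iff_forall_exists, mem_iff_forall_exists]
  constructor
  · intro h x
    obtain ⟨T', g, t, hg, ht⟩ := h x
    rw [Sieve.overEquiv_iff] at hg
    obtain ⟨W'', s, a, hs, ha⟩ := hg
    refine ⟨W'', s, a.left.left.base t, hs, ?_⟩
    have h1 : g = a.left ≫ (EtShriek.compEtale V.hom).map s := congrArg (fun k => k.left) ha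
    have h2 : g.left = a.left.left ≫ s.left := congrArg (fun k => k.left) h1
    rw [← ht, h2]
    rfl
  · intro h x
    obtain ⟨W', g, w, hg, hw⟩ := h x
    refine ⟨(EtShriek.compEtale V.hom).obj W', (EtShriek.compEtale V.hom).map g, w, ?_, hw⟩
    rw [Sieve.overEquiv_iff]
    refine ⟨W', g, Over.homMk (𝟙 _) ?_, hg, ?_⟩
    · apply MorphismProperty.Over.Hom.ext
      change 𝟙 _ ≫ W'.hom = g.left ≫ W.hom
      rw [Category.id_comp]
      exact (MorphismProperty.Over.w g).symm
    · apply Over.OverMorphism.ext
      apply MorphismProperty.Over.Hom.ext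
      exact (Category.id_comp _).symm

instance isDenseSubsite_phi :
    (phi V).IsDenseSubsite V.left.smallEtaleTopology (X.smallEtaleTopology.over V) where
  functorPushforward_mem_iff {W S} := functorPushforward_mem_iff V W S

abbrev A := AddCommGrpCat.{u + 1}

instance hasLimits_structuredArrow (Y : (Over V)ᵒᵖ) :
    HasLimitsOfShape (StructuredArrow Y (phi V).op) AddCommGrpCat.{u + 1} := by
  infer_instance

def E : Sheaf V.left.smallEtaleTopology AddCommGrpCat.{u + 1} ≌
    Sheaf (X.smallEtaleTopology.over V) AddCommGrpCat.{u + 1} :=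
  Functor.IsDenseSubsite.sheafEquiv V.left.smallEtaleTopology (X.smallEtaleTopology.over V)
    (phi V) AddCommGrpCat.{u + 1}

def phiTopIso : (phi V).obj (EtCoh.top V.left) ≅ Over.mk (𝟙 V) :=
  Over.isoMk (MorphismProperty.Over.isoMk (Iso.refl _) (by
    change 𝟙 _ ≫ V.hom = 𝟙 _ ≫ V.hom
    rfl)) (by
    apply MorphismProperty.Over.Hom.ext
    rfl)

def isTerminalPhiTop : IsTerminal ((phi V).obj (EtCoh.top V.left)) :=
  IsTerminal.ofIso Over.mkIdTerminal (phiTopIso V).symm

def constComm : constantSheaf V.left.smallEtaleTopology AddCommGrpCat.{u + 1} ⋙ (E V).functor ≅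
    constantSheaf (X.smallEtaleTopology.over V) AddCommGrpCat.{u + 1} :=
  equivCommuteConstant V.left.smallEtaleTopology AddCommGrpCat.{u + 1}
    (X.smallEtaleTopology.over V) (phi V) (EtCore.topIsTerminal V.left) (isTerminalPhiTop V)

def invOverIso (F : EtCoh.Ab X) :
    (E V).inverse.obj (EtCoh.restr F V) ≅ (EtShriek.restrAlong V.hom).obj F :=
  (sheafToPresheaf _ _).preimageIso (Iso.refl _)

def invOverPullIso (F : EtCoh.Ab X) :
    (E V).inverse.obj (EtCoh.restr F V) ≅ (EtCoh.pull V.hom).obj F :=
  invOverIso V F ≪≫ (EtRestr.restrPullIso V.hom).app F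

theorem restr_iso_const_iff (F : EtCoh.Ab X) (M : AddCommGrpCat.{u + 1}) :
    Nonempty (EtCoh.restr F V ≅
      (constantSheaf (X.smallEtaleTopology.over V) AddCommGrpCat.{u + 1}).obj M) ↔
    Nonempty ((EtCoh.pull V.hom).obj F ≅
      (constantSheaf V.left.smallEtaleTopology AddCommGrpCat.{u + 1}).obj M) := by
  constructor
  · rintro ⟨e⟩
    exact ⟨(invOverPullIso V F).symm ≪≫ (E V).inverse.mapIso (e ≪≫ ((constComm V).app M).symm) ≪≫
      ((E V).unitIso.app _).symm⟩
  · rintro ⟨e⟩
    exact ⟨((E V).counitIso.app _).symm ≪≫ (E V).functor.mapIso (invOverPullIso V F ≪≫ e) ≪≫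
      (constComm V).app M⟩

end Groth.Agent.Lib.Helper4.OverEt
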