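import Groth.Prelude.Def_EtCore
import Groth.Agent.Lib.Helper4.EtExtShriek
import Groth.Agent.Lib.Helper4.MVSeq
import Groth.Agent.Lib.Helper4.OverEt
import Groth.Agent.Lib.Helper4.JContEtale
import Groth.Agent.Lib.Helper4.EtStalk
import Mathlib.CategoryTheory.Sites.EpiMono

set_option autoImplicit false
open CategoryTheory CategoryTheory.Limits AlgebraicGeometry Opposite
universe u

namespace Groth.Agent.Lib.Helper4.HensLocal
open EtCore Abelian EtExtShriek PullConstComp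

instance pullExact {X Y : Scheme.{u}} (f : X ⟶ Y) : PreservesFiniteLimits (EtCoh.pull f) :=
  EtStalk.preservesFiniteLimits_pull f

theorem Hpull_def {X Y : Scheme.{u}} (f : X ⟶ Y) (G : EtCoh.Ab Y) (n : ℕ) (e : EtCoh.H Y G n) :
    Hpull f G n e = (Ext.mk₀ (pullConst f ℤ).inv).comp (e.mapExactFunctor (EtCoh.pull f))
      (zero_add n) := rfl

theorem Hpull_comp_extClass {X Y : Scheme.{u}} (f : X ⟶ Y) (S : ShortComplex (EtCoh.Ab Y))
    (hS : S.ShortExact) (n : ℕ) (e : EtCoh.H Y S.X₃ n) :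
    Hpull f S.X₁ (n + 1) (e.comp hS.extClass rfl) =
      (Hpull f S.X₃ n e).comp (hS.map_of_exact (EtCoh.pull f)).extClass rfl := by
  rw [Hpull_def, Hpull_def, Ext.mapExactFunctor_comp, Ext.mapExactFunctor_extClass]
  exact (Ext.comp_assoc _ _ _ (zero_add n) rfl (by omega)).symm

theorem Hpull_mk₀ {X Y : Scheme.{u}} (f : X ⟶ Y) {G : EtCoh.Ab Y}
    (φ : EtCoh.const Y ℤ ⟶ G) :
    Hpull f G 0 (Ext.mk₀ φ) = Ext.mk₀ ((pullConst f ℤ).inv ≫ (EtCoh.pull f).map φ) := by
  rw [Hpull_def, Ext.mapExactFunctor_mk₀, Ext.mk₀_comp_mk₀]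

section S4
variable {U Y : Scheme.{u}} (j : U ⟶ Y) [Etale j]

noncomputable def τ : (EtShriek.compEtale j).obj (EtCoh.top U) ⟶ EtCoh.top Y :=
  (topIsTerminal Y).from _

theorem restrPushAdj_unit_app (F : EtCoh.Ab Y) (V : Y.Etaleᵒᵖ) :
    ((EtRestr.restrPushAdj j).unit.app F).hom.app V =
      F.obj.map ((EtRestr.adjSite j).counit.app V.unop).op := by
  simp [EtRestr.restrPushAdj] <;> rfl

theorem sigma_restr (G : EtCoh.Ab Y) :
    σ j G ≫ (gsec U).map ((EtRestr.restrPullIso j).inv.app G) = G.obj.map (τ j).op := by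
  have h1 := Adjunction.unit_leftAdjointUniq_hom_app (EtRestr.restrPushAdj j)
    (EtCoh.pullPushAdj j) G
  have h2 := (pushGsecIso j).hom.naturality ((EtRestr.restrPullIso j).inv.app G)
  have h3 : (EtCoh.pullPushAdj j).unit.app G ≫
      (EtCoh.push j).map ((EtRestr.restrPullIso j).inv.app G) =
      (EtRestr.restrPushAdj j).unit.app G := by
    rw [← h1, Category.assoc, ← Functor.map_comp]
    change _ ≫ (EtCoh.push j).map ((EtRestr.restrPullIso j).hom.app G ≫
      (EtRestr.restrPullIso j).inv.app G) = _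
    rw [← NatTrans.comp_app, Iso.hom_inv_id, NatTrans.id_app, CategoryTheory.Functor.map_id,
      Category.comp_id]
  unfold σ
  simp only [Functor.comp_map] at h2
  rw [Category.assoc, ← h2, ← Category.assoc, ← Functor.map_comp, h3]
  change ((EtRestr.restrPushAdj j).unit.app G).hom.app (op (EtCoh.top Y)) ≫ _ = _
  rw [restrPushAdj_unit_app]
  change G.obj.map _ ≫ G.obj.map _ = _
  rw [← G.obj.map_comp]
  congr 1
  apply Quiver.Hom.unop_inj
  exact (topIsTerminal Y).hom_ext _ _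

noncomputable abbrev Z₀ : AddCommGrpCat.{u + 1} := AddCommGrpCat.of (ULift.{u + 1} ℤ)

theorem base_lift {I Q : EtCoh.Ab Y} (g : I ⟶ Q) (φ : EtCoh.const Y ℤ ⟶ Q)
    (b : Z₀.{u} ⟶ I.obj.obj (op ((EtShriek.compEtale j).obj (EtCoh.top U))))
    (hb : b ≫ g.hom.app (op ((EtShriek.compEtale j).obj (EtCoh.top U))) =
      (constAdj Y).homEquiv Z₀.{u} Q φ ≫ Q.obj.map (τ j).op) :
    ∃ θ : EtCoh.const U ℤ ⟶ (EtCoh.pull j).obj I,
      θ ≫ (EtCoh.pull j).map g = (pullConst j ℤ).inv ≫ (EtCoh.pull j).map φ := by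
  let b' : Z₀.{u} ⟶ (gsec U).obj ((EtShriek.restrAlong j).obj I) := b
  refine ⟨((constAdj U).homEquiv Z₀.{u} _).symm
    (b' ≫ (gsec U).map ((EtRestr.restrPullIso j).hom.app I)), ?_⟩
  apply ((constAdj U).homEquiv Z₀.{u} _).injective
  rw [Adjunction.homEquiv_naturality_right, Equiv.apply_symm_apply]
  have hn := (EtRestr.restrPullIso j).hom.naturality g
  have hL : (b' ≫ (gsec U).map ((EtRestr.restrPullIso j).hom.app I)) ≫
      (gsec U).map ((EtCoh.pull j).map g) =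
      (constAdj Y).homEquiv Z₀.{u} Q φ ≫ Q.obj.map (τ j).op ≫
        (gsec U).map ((EtRestr.restrPullIso j).hom.app Q) := by
    rw [Category.assoc, ← Functor.map_comp, ← hn, Functor.map_comp, ← Category.assoc,
      ← Category.assoc, ← hb]
    rfl
  rw [hL]
  have hS4 : (Q.obj.map (τ j).op : (gsec Y).obj Q ⟶ (gsec U).obj ((EtShriek.restrAlong j).obj Q)) ≫
      (gsec U).map ((EtRestr.restrPullIso j).hom.app Q) = σ j Q := by
    have h := sigma_restr j Q
    have hiso : (gsec U).map ((EtRestr.restrPullIso j).inv.app Q) ≫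
        (gsec U).map ((EtRestr.restrPullIso j).hom.app Q) = 𝟙 _ := by
      rw [← Functor.map_comp, ← NatTrans.comp_app, Iso.inv_hom_id, NatTrans.id_app,
        CategoryTheory.Functor.map_id]
    calc _ = (σ j Q ≫ (gsec U).map ((EtRestr.restrPullIso j).inv.app Q)) ≫
          (gsec U).map ((EtRestr.restrPullIso j).hom.app Q) := by rw [h]; rfl
      _ = σ j Q ≫ (gsec U).map ((EtRestr.restrPullIso j).inv.app Q) ≫
          (gsec U).map ((EtRestr.restrPullIso j).hom.app Q) := Category.assoc _ _ _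
      _ = σ j Q := by rw [hiso, Category.comp_id]
  change _ ≫ ((Q.obj.map (τ j).op : (gsec Y).obj Q ⟶ (gsec U).obj ((EtShriek.restrAlong j).obj Q)) ≫
      (gsec U).map ((EtRestr.restrPullIso j).hom.app Q)) = _
  rw [hS4, Adjunction.homEquiv_unit, Adjunction.homEquiv_unit, Functor.map_comp]
  have h1 := pullConstIso_char j Z₀.{u}
  have h2 := σ_naturality j φ
  have h3 : (constAdj U).unit.app Z₀.{u} ≫ (gsec U).map (pullConst j ℤ).inv =
      (constAdj Y).unit.app Z₀.{u} ≫ σ j (EtCoh.const Y ℤ) := by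
    rw [← h1, Category.assoc, Category.assoc, ← Functor.map_comp]
    change _ ≫ _ ≫ (gsec U).map ((pullConst j ℤ).hom ≫ (pullConst j ℤ).inv) = _
    rw [Iso.hom_inv_id, CategoryTheory.Functor.map_id, Category.comp_id]
  rw [← Category.assoc, h3, Category.assoc, Category.assoc, h2]

end S4

theorem hom_ext_Z₀ {A : AddCommGrpCat.{u + 1}} (f g : Z₀.{u} ⟶ A)
    (h : f (ULift.up 1) = g (ULift.up 1)) : f = g := by
  apply AddCommGrpCat.hom_ext
  have h2 : f.hom.comp AddEquiv.ulift.symm.toAddMonoidHom =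
      g.hom.comp AddEquiv.ulift.symm.toAddMonoidHom := by
    apply AddMonoidHom.ext_int
    exact h
  ext x
  exact DFunLike.congr_fun h2 x.down

noncomputable def ofElem {A : AddCommGrpCat.{u + 1}} (t : A) : Z₀.{u} ⟶ A :=
  AddCommGrpCat.ofHom ((zmultiplesHom A t).comp AddEquiv.ulift.toAddMonoidHom)

theorem ofElem_one {A : AddCommGrpCat.{u + 1}} (t : A) : ofElem t (ULift.up 1) = t := by
  change ((1 : ℤ) • t : A) = t
  exact one_zsmul t

theorem exists_local_lift {Y : Scheme.{u}} {I Q : EtCoh.Ab Y} (g : I ⟶ Q) [Epi g]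
    (a : Z₀.{u} ⟶ Q.obj.obj (op (EtCoh.top Y))) (y : Y) :
    ∃ (V : Y.Etale) (v : V.left) (_ : Etale V.hom), V.hom v = y ∧
      ∃ b : Z₀.{u} ⟶ I.obj.obj (op ((EtShriek.compEtale V.hom).obj (EtCoh.top V.left))),
        b ≫ g.hom.app (op ((EtShriek.compEtale V.hom).obj (EtCoh.top V.left))) =
          a ≫ Q.obj.map (τ V.hom).op := by
  have hls : Sheaf.IsLocallySurjective g := (Sheaf.isLocallySurjective_iff_epi' _ g).2 inferInstance
  have hmem := Presheaf.imageSieve_mem Y.smallEtaleTopology g.hom (a (ULift.up 1))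
  obtain ⟨V, g₀, v, ⟨t, ht⟩, hv⟩ := (OverEt.mem_iff_forall_exists _ _).1 hmem y
  have hV : Etale V.hom := V.prop
  refine ⟨V, v, hV, ?_, ?_⟩
  · have h1 : g₀.left ≫ 𝟙 Y = V.hom := MorphismProperty.Over.w g₀
    have h3 : g₀.left = V.hom := (Category.comp_id _).symm.trans h1
    exact (congrArg (fun f : V.left ⟶ Y => f v) h3.symm).trans hv
  · let e₁ : (EtShriek.compEtale V.hom).obj (EtCoh.top V.left) ⟶ V :=
      MorphismProperty.Over.homMk (𝟙 _) rfl
    refine ⟨ofElem (I.obj.map e₁.op t), ?_⟩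
    apply hom_ext_Z₀
    rw [ConcreteCategory.comp_apply, ConcreteCategory.comp_apply, ofElem_one]
    have h2 := NatTrans.naturality_apply g.hom e₁.op t
    rw [h2, ht, ← ConcreteCategory.comp_apply, ← Q.obj.map_comp]
    congr 2
    rw [← op_comp]
    exact congrArg (fun m => Q.obj.map m.op) ((topIsTerminal Y).hom_ext _ _)

theorem exists_etale_Hpull_eq_zero (Y : Scheme.{u}) (p : ℕ) :
    ∀ (G : EtCoh.Ab Y) (ξ : EtCoh.H Y G (p + 1)) (y : Y),
      ∃ (V : Y.Etale) (v : V.left), V.hom v = y ∧ Hpull V.hom G (p + 1) ξ = 0 := by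
  induction p with
  | zero =>
    intro G ξ y
    let S := ExtAdj.injSC G
    have hS : S.ShortExact := ExtAdj.injSC_shortExact G
    have h1 : ξ.comp (Ext.mk₀ S.f) (add_zero 1) = 0 := Ext.eq_zero_of_injective _
    obtain ⟨ξ', hξ'⟩ := Ext.covariant_sequence_exact₁ _ hS ξ h1 (zero_add 1)
    obtain ⟨φ, rfl⟩ := (Ext.mk₀_bijective _ _).2 ξ'
    have : Epi S.g := hS.epi_g
    obtain ⟨V, v, hV, hv, b, hb⟩ := exists_local_lift S.g ((constAdj Y).homEquiv Z₀.{u} _ φ) y
    obtain ⟨θ, hθ⟩ := base_lift V.hom S.g φ b hb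
    refine ⟨V, v, hv, ?_⟩
    have e1 : Hpull V.hom G (0 + 1) ((Ext.mk₀ φ).comp hS.extClass (zero_add 1)) =
        (Hpull V.hom S.X₃ 0 (Ext.mk₀ φ)).comp
          (hS.map_of_exact (EtCoh.pull V.hom)).extClass (zero_add 1) :=
      Hpull_comp_extClass V.hom S hS 0 (Ext.mk₀ φ)
    rw [← hξ']
    refine e1.trans ?_
    rw [Hpull_mk₀, ← hθ, ← Ext.mk₀_comp_mk₀, Ext.comp_assoc_of_second_deg_zero]
    have e2 := (hS.map_of_exact (EtCoh.pull V.hom)).comp_extClass
    exact (congrArg (fun t => Ext.comp (Ext.mk₀ θ) t (zero_add 1)) e2).trans (Ext.comp_zero _ _ _ _ _)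
  | succ p ih =>
    intro G ξ y
    let S := ExtAdj.injSC G
    have hS : S.ShortExact := ExtAdj.injSC_shortExact G
    have h1 : ξ.comp (Ext.mk₀ S.f) (add_zero (p + 1 + 1)) = 0 := Ext.eq_zero_of_injective _
    obtain ⟨ξ', hξ'⟩ := Ext.covariant_sequence_exact₁ _ hS ξ h1 rfl
    obtain ⟨V, v, hv, hz⟩ := ih S.X₃ ξ' y
    refine ⟨V, v, hv, ?_⟩
    rw [← hξ']
    refine (Hpull_comp_extClass V.hom S hS (p + 1) ξ').trans ?_
    rw [hz, Ext.zero_comp]
    rfl

end Groth.Agent.Lib.Helper4.HensLocal
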