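import Groth.Agent.Lib.Helper4.HensRes

set_option autoImplicit false
open CategoryTheory CategoryTheory.Limits AlgebraicGeometry Opposite
universe u

namespace Groth.Agent.Lib.Helper4.HensMV
open EtCore Abelian EtExtShriek HensLocal HensRes

variable {X : Scheme.{u}} (F : EtCoh.Ab X)

noncomputable abbrev G (W : X.Opens) (p : ℕ) : Type (u + 1) :=
  EtCoh.H ↑W ((EtCoh.pull W.ι).obj F) p

noncomputable abbrev res {W W' : X.Opens} (le : W ≤ W') (p : ℕ) : G F W' p →+ G F W p :=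
  HpullVia (X.homOfLE le) W'.ι W.ι (X.homOfLE_ι le) F p

theorem res_res {W₁ W₂ W₃ : X.Opens} (le₁ : W₁ ≤ W₂) (le₂ : W₂ ≤ W₃) (p : ℕ) (ξ : G F W₃ p) :
    res F le₁ p (res F le₂ p ξ) = res F (le₁.trans le₂) p ξ :=
  HpullVia_trans (X.homOfLE le₁) (X.homOfLE le₂) (X.homOfLE (le₁.trans le₂)) W₁.ι W₂.ι W₃.ι
    (X.homOfLE_ι le₁) (X.homOfLE_ι le₂) (X.homOfLE_ι (le₁.trans le₂)) F p ξ

theorem res_refl {W : X.Opens} (le : W ≤ W) (p : ℕ) (ξ : G F W p) : res F le p ξ = ξ :=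
  HpullVia_id W.ι (X.homOfLE le) (X.homOfLE_rfl W) (X.homOfLE_ι le) F p ξ

theorem eq_zero_of_res_eq_zero {W W' : X.Opens} (le : W ≤ W') (le' : W' ≤ W) (p : ℕ)
    (ξ : G F W' p) (h : res F le p ξ = 0) : ξ = 0 := by
  have h1 := res_res F le' le p ξ
  rw [h, map_zero, res_refl] at h1
  exact h1.symm

theorem mv_inj (U V Wd Yd : X.Opens) (hU : U ≤ Yd) (hV : V ≤ Yd) (hWU : Wd ≤ U) (hWV : Wd ≤ V)
    (hcov : Yd ≤ U ⊔ V) (hint : U ⊓ V ≤ Wd) (p : ℕ) (hsub : Subsingleton (G F Wd p))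
    (ξ : G F Yd (p + 1)) (h1 : res F hU (p + 1) ξ = 0) (h2 : res F hV (p + 1) ξ = 0) : ξ = 0 := by
  have hcov' : ∀ x : (Yd : Scheme.{u}), x ∈ Set.range (X.homOfLE hU).base ∨
      x ∈ Set.range (X.homOfLE hV).base := by
    intro x
    rcases hcov x.2 with hx | hx
    · exact Or.inl ⟨⟨x.1, hx⟩, Subtype.ext (X.homOfLE_apply hU ⟨x.1, hx⟩)⟩
    · exact Or.inr ⟨⟨x.1, hx⟩, Subtype.ext (X.homOfLE_apply hV ⟨x.1, hx⟩)⟩
  have hint' : Set.range (X.homOfLE hU).base ∩ Set.range (X.homOfLE hV).base ⊆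
      Set.range (X.homOfLE (hWU.trans hU)).base := by
    rintro x ⟨⟨a, ha⟩, ⟨b, hb⟩⟩
    have hxU : x.1 ∈ U := by
      rw [← ha]
      have := X.homOfLE_apply hU a
      exact this ▸ a.2
    have hxV : x.1 ∈ V := by
      rw [← hb]
      have := X.homOfLE_apply hV b
      exact this ▸ b.2
    exact ⟨⟨x.1, hint ⟨hxU, hxV⟩⟩, Subtype.ext (X.homOfLE_apply (hWU.trans hU) ⟨x.1, _⟩)⟩
  obtain ⟨δ, -, hker, -, -⟩ := MVMain.mv_main (X.homOfLE hWU) (X.homOfLE hWV) (X.homOfLE hU)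
    (X.homOfLE hV) (X.homOfLE (hWU.trans hU)) (X.homOfLE_homOfLE hWU hU)
    (X.homOfLE_homOfLE hWV hV) ((EtCoh.pull Yd.ι).obj F) hcov' hint'
  have hP : ξ ∈ (MVMain.P (X.homOfLE hU) (X.homOfLE hV) ((EtCoh.pull Yd.ι).obj F) (p + 1)).ker := by
    rw [AddMonoidHom.mem_ker]
    have e1 := (HpullVia_eq_zero_iff (X.homOfLE hU) Yd.ι U.ι (X.homOfLE_ι hU) F (p + 1) ξ).1 h1
    have e2 := (HpullVia_eq_zero_iff (X.homOfLE hV) Yd.ι V.ι (X.homOfLE_ι hV) F (p + 1) ξ).1 h2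
    exact Prod.ext e1 e2
  rw [hker p] at hP
  obtain ⟨z, rfl⟩ := hP
  let i := ((EtCoh.HF (Wd : Scheme.{u}) p).mapIso
    ((viaIso (X.homOfLE (hWU.trans hU)) Yd.ι Wd.ι (X.homOfLE_ι (hWU.trans hU))).app
      F)).addCommGroupIsoToAddEquiv
  have hz : z = 0 := i.injective (hsub.elim _ _)
  rw [hz, map_zero]

end Groth.Agent.Lib.Helper4.HensMV
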