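import Groth.Agent.Lib.Helper4.HensZar

set_option autoImplicit false
open CategoryTheory CategoryTheory.Limits AlgebraicGeometry Opposite
universe u

namespace Groth.Agent.Lib.Helper4.HensMain
open EtCore Abelian EtExtShriek HensLocal HensRes HensMV HensZar

variable {X : Scheme.{u}} (F : EtCoh.Ab X)

theorem le1 (f g : Γ(X, ⊤)) : X.basicOpen (f * (f + g)) ≤ X.basicOpen (f + g) :=
  (X.basicOpen_mul f (f + g)).trans_le inf_le_right

theorem le2 (f g : Γ(X, ⊤)) : X.basicOpen (g * (f + g)) ≤ X.basicOpen (f + g) :=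
  (X.basicOpen_mul g (f + g)).trans_le inf_le_right

def Inj (p : ℕ) : Prop :=
  ∀ (f g : Γ(X, ⊤)) (ξ : G F (X.basicOpen (f + g)) p),
    res F (le1 f g) p ξ = 0 → res F (le2 f g) p ξ = 0 → ξ = 0

def Van (p : ℕ) : Prop := ∀ h : Γ(X, ⊤), Subsingleton (G F (X.basicOpen h) p)

theorem inj_succ_of_van (p : ℕ) (hVan : Van F p) : Inj F (p + 1) := by
  intro f g ξ h1 h2
  refine mv_inj F (X.basicOpen (f * (f + g))) (X.basicOpen (g * (f + g)))
    (X.basicOpen (f * (f + g) * (g * (f + g)))) (X.basicOpen (f + g)) (le1 f g) (le2 f g)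
    ((X.basicOpen_mul _ _).trans_le inf_le_left) ((X.basicOpen_mul _ _).trans_le inf_le_right)
    ?_ (X.basicOpen_mul _ _).ge p (hVan _) ξ h1 h2
  intro x hx
  rcases X.basicOpen_add_le f g hx with h | h
  · exact Or.inl ((X.basicOpen_mul f (f + g)).ge ⟨h, hx⟩)
  · exact Or.inr ((X.basicOpen_mul g (f + g)).ge ⟨h, hx⟩)

theorem van_of_inj [IsAffine X]
    (hX : ∀ x : X, EtCoh.IsStrictlyHenselianLocalRing (X.presheaf.stalk x)) (p : ℕ)
    (hInj : Inj F (p + 1)) : Van F (p + 1) := by
  intro h
  refine subsingleton_of_forall_eq 0 fun ξ => ?_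
  have hmul : ∀ a : Γ(X, ⊤), X.basicOpen (h * a) ≤ X.basicOpen h := fun a =>
    (X.basicOpen_mul h a).trans_le inf_le_left
  let A : Ideal Γ(X, ⊤) :=
    { carrier := {a | res F (hmul a) (p + 1) ξ = 0}
      add_mem' := by
        intro a b ha hb
        have ha' : res F (hmul a) (p + 1) ξ = 0 := ha
        have hb' : res F (hmul b) (p + 1) ξ = 0 := hb
        change res F (hmul (a + b)) (p + 1) ξ = 0
        have le_s : X.basicOpen (h * a + h * b) ≤ X.basicOpen h := by
          rw [← mul_add]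
          exact hmul (a + b)
        have h0 : res F le_s (p + 1) ξ = 0 := by
          apply hInj (h * a) (h * b)
          · rw [res_res]
            have l1 : X.basicOpen (h * a * (h * a + h * b)) ≤ X.basicOpen (h * a) :=
              (X.basicOpen_mul _ _).trans_le inf_le_left
            rw [← res_res F l1 (hmul a), ha', map_zero]
          · rw [res_res]
            have l1 : X.basicOpen (h * b * (h * a + h * b)) ≤ X.basicOpen (h * b) :=
              (X.basicOpen_mul _ _).trans_le inf_le_left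
            rw [← res_res F l1 (hmul b), hb', map_zero]
        have l2 : X.basicOpen (h * (a + b)) ≤ X.basicOpen (h * a + h * b) :=
          le_of_eq (by rw [mul_add])
        rw [← res_res F l2 le_s, h0, map_zero]
      zero_mem' := by
        change res F (hmul 0) (p + 1) ξ = 0
        have : IsEmpty (X.basicOpen (h * 0) : Scheme.{u}) := by
          rw [mul_zero, Scheme.basicOpen_zero]
          exact ⟨fun x => x.2⟩
        have := subsingleton_H_of_isEmpty (X.basicOpen (h * 0) : Scheme.{u})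
          ((EtCoh.pull (X.basicOpen (h * 0)).ι).obj F) (p + 1)
        exact Subsingleton.elim _ _
      smul_mem' := by
        intro c a ha
        have ha' : res F (hmul a) (p + 1) ξ = 0 := ha
        change res F (hmul (c * a)) (p + 1) ξ = 0
        have l1 : X.basicOpen (h * (c * a)) ≤ X.basicOpen (h * a) := by
          rw [X.basicOpen_mul, X.basicOpen_mul, X.basicOpen_mul]
          exact inf_le_inf_left _ inf_le_right
        rw [← res_res F l1 (hmul a), ha', map_zero] }
  have hA : ∀ a, a ∈ A ↔ res F (hmul a) (p + 1) ξ = 0 := fun a => Iff.rfl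
  have hrad : h ∈ A.radical := by
    rw [Ideal.radical_eq_sInf, Ideal.mem_sInf]
    rintro P ⟨hAP, hP⟩
    by_contra hhP
    let x : X := (isAffineOpen_top X).fromSpec ⟨P, hP⟩
    have hmem : ∀ a : Γ(X, ⊤), x ∈ X.basicOpen a ↔ a ∉ P := by
      intro a
      have := (isAffineOpen_top X).fromSpec_preimage_basicOpen a
      have h2 : x ∈ X.basicOpen a ↔
          (⟨P, hP⟩ : Spec Γ(X, ⊤)) ∈ (isAffineOpen_top X).fromSpec ⁻¹ᵁ X.basicOpen a := Iff.rfl
      rw [h2, this]
      exact PrimeSpectrum.mem_basicOpen _ _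
    obtain ⟨a, hxa, ha⟩ := exists_basicOpen_res_eq_zero F hX h p ξ x ((hmem h).2 hhP)
    exact (hmem a).1 hxa (hAP ((hA a).2 (ha _)))
  obtain ⟨N, hN⟩ := hrad
  have hN' := (hA _).1 hN
  have l3 : X.basicOpen h ≤ X.basicOpen (h * h ^ N) := by
    rw [X.basicOpen_mul]
    refine le_inf le_rfl ?_
    rcases Nat.eq_zero_or_pos N with h0 | h0
    · rw [h0, pow_zero, Scheme.basicOpen_one]
      exact le_top
    · rw [X.basicOpen_pow h h0]
  exact eq_zero_of_res_eq_zero F (hmul (h ^ N)) l3 (p + 1) ξ hN'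

theorem main [IsAffine X]
    (hX : ∀ x : X, EtCoh.IsStrictlyHenselianLocalRing (X.presheaf.stalk x))
    (hker : Inj F 1) (q : ℕ) (hq : 1 ≤ q) : Subsingleton (EtCoh.H X F q) := by
  have key : ∀ p : ℕ, Inj F (p + 1) := by
    intro p
    induction p with
    | zero => exact hker
    | succ p ih => exact inj_succ_of_van F (p + 1) (van_of_inj F hX p ih)
  obtain ⟨p, rfl⟩ : ∃ p, q = p + 1 := ⟨q - 1, by omega⟩
  have hv := van_of_inj F hX p (key p) 1
  have hsurj : Function.Surjective (X.basicOpen (1 : Γ(X, ⊤))).ι.base := by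
    intro x
    exact ⟨⟨x, by rw [Scheme.basicOpen_one]; trivial⟩, rfl⟩
  have hinj := Hpull_injective_of_surjective (X.basicOpen (1 : Γ(X, ⊤))).ι hsurj F (p + 1)
  exact hinj.subsingleton

end Groth.Agent.Lib.Helper4.HensMain
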