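import Groth.Agent.Lib.Helper4.MVSeq

set_option autoImplicit false
open CategoryTheory CategoryTheory.Limits AlgebraicGeometry Opposite
universe u

namespace Groth.Agent.Lib.Helper4.MVMain
open EtCore Abelian EtExtShriek MVSeq

variable {W U V X : Scheme.{u}} (kU : W ⟶ U) (kV : W ⟶ V) (jU : U ⟶ X) (jV : V ⟶ X) (jW : W ⟶ X)
  (wU : kU ≫ jU = jW) (wV : kV ≫ jV = jW)
  [IsOpenImmersion jU] [IsOpenImmersion jV] [IsOpenImmersion jW]
  [PreservesFiniteLimits (EtCoh.pull jU)] [PreservesFiniteLimits (EtCoh.pull jV)]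
  [PreservesFiniteLimits (EtCoh.pull jW)]
  [PreservesFiniteLimits (EtCoh.pull kU)] [PreservesFiniteLimits (EtCoh.pull kV)]
  (F : EtCoh.Ab X)

noncomputable def Φ (n : ℕ) : Ext (AU jU ⊞ AU jV) F n ≃+
    EtCoh.H U ((EtCoh.pull jU).obj F) n × EtCoh.H V ((EtCoh.pull jV).obj F) n :=
  Ext.biprodAddEquiv.trans (AddEquiv.prodCongr (ΘE jU F n) (ΘE jV F n))

theorem Φ_apply (n : ℕ) (x : Ext (AU jU ⊞ AU jV) F n) :
    Φ jU jV F n x = (ΘE jU F n ((Ext.mk₀ biprod.inl).comp x (zero_add n)),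
      ΘE jV F n ((Ext.mk₀ biprod.inr).comp x (zero_add n))) := rfl

noncomputable abbrev P (n : ℕ) : EtCoh.H X F n →+
    EtCoh.H U ((EtCoh.pull jU).obj F) n × EtCoh.H V ((EtCoh.pull jV).obj F) n :=
  AddMonoidHom.prod (Hpull jU F n) (Hpull jV F n)

noncomputable abbrev Dn (n : ℕ) :
    EtCoh.H U ((EtCoh.pull jU).obj F) n × EtCoh.H V ((EtCoh.pull jV).obj F) n →+
      EtCoh.H W ((EtCoh.pull jW).obj F) n :=
  (HpullVia kU jU jW wU F n).comp (AddMonoidHom.fst _ _) -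
    (HpullVia kV jV jW wV F n).comp (AddMonoidHom.snd _ _)

noncomputable abbrev gM : AU jU ⊞ AU jV ⟶ EtCoh.const X ℤ := biprod.desc (cU jU) (cU jV)

noncomputable abbrev fM : AU jW ⟶ AU jU ⊞ AU jV :=
  biprod.lift (aU kU jU jW wU) (-(aU kV jV jW wV))

theorem P_eq (n : ℕ) (e : EtCoh.H X F n) :
    P jU jV F n e = Φ jU jV F n ((Ext.mk₀ (gM jU jV)).comp e (zero_add n)) := by
  rw [Φ_apply]
  change (Hpull jU F n e, Hpull jV F n e) = _
  rw [Hpull_eq, Hpull_eq, ← Ext.comp_assoc_of_second_deg_zero, ← Ext.comp_assoc_of_second_deg_zero,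
    Ext.mk₀_comp_mk₀, Ext.mk₀_comp_mk₀, biprod.inl_desc, biprod.inr_desc]

theorem Dn_eq (n : ℕ) (x : Ext (AU jU ⊞ AU jV) F n) :
    Dn kU kV jU jV jW wU wV F n (Φ jU jV F n x) =
      ΘE jW F n ((Ext.mk₀ (fM kU kV jU jV jW wU wV)).comp x (zero_add n)) := by
  rw [Φ_apply]
  change HpullVia kU jU jW wU F n (ΘE jU F n _) - HpullVia kV jV jW wV F n (ΘE jV F n _) = _
  rw [HpullVia_eq, HpullVia_eq, ← map_sub, ← Ext.comp_assoc_of_second_deg_zero,
    ← Ext.comp_assoc_of_second_deg_zero, Ext.mk₀_comp_mk₀, Ext.mk₀_comp_mk₀]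
  congr 1
  have hf : fM kU kV jU jV jW wU wV =
      aU kU jU jW wU ≫ biprod.inl + (-(aU kV jV jW wV ≫ biprod.inr)) := by
    unfold fM
    rw [biprod.lift_eq, Preadditive.neg_comp]
  rw [hf, Ext.mk₀_add, Ext.mk₀_neg, Ext.add_comp, Ext.neg_comp, sub_eq_add_neg]

variable (hcov : ∀ x : X, x ∈ Set.range jU.base ∨ x ∈ Set.range jV.base)
  (hint : Set.range jU.base ∩ Set.range jV.base ⊆ Set.range jW.base)

noncomputable def δ (hS : (mvSC kU kV jU jV jW wU wV).ShortExact) (n : ℕ) :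
    EtCoh.H W ((EtCoh.pull jW).obj F) n →+ EtCoh.H X F (n + 1) :=
  (hS.extClass.precomp F (Nat.add_comm 1 n)).comp (ΘE jW F n).symm.toAddMonoidHom

theorem δ_apply (hS : (mvSC kU kV jU jV jW wU wV).ShortExact) (n : ℕ)
    (x : Ext (AU jW) F n) :
    δ kU kV jU jV jW wU wV F hS n (ΘE jW F n x) = hS.extClass.comp x (Nat.add_comm 1 n) := by
  change hS.extClass.comp ((ΘE jW F n).symm (ΘE jW F n x)) (Nat.add_comm 1 n) = _
  rw [AddEquiv.symm_apply_apply]

include hcov hint in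
theorem mv_main : ∃ δ : ∀ n : ℕ, EtCoh.H W ((EtCoh.pull jW).obj F) n →+ EtCoh.H X F (n + 1),
    (P jU jV F 0).ker = ⊥ ∧
    (∀ n : ℕ, (P jU jV F (n + 1)).ker = (δ n).range) ∧
    (∀ n : ℕ, (Dn kU kV jU jV jW wU wV F n).ker = (P jU jV F n).range) ∧
    (∀ n : ℕ, (δ n).ker = (Dn kU kV jU jV jW wU wV F n).range) := by
  have hS := mvSC_shortExact kU kV jU jV jW wU wV hcov hint
  have hEpi : Epi (gM jU jV) := hS.epi_g
  refine ⟨δ kU kV jU jV jW wU wV F hS, ?_, ?_, ?_, ?_⟩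
  · rw [AddSubgroup.eq_bot_iff_forall]
    intro e he
    rw [AddMonoidHom.mem_ker, P_eq jU jV F] at he
    have h0 : (Ext.mk₀ (gM jU jV)).comp e (zero_add 0) = 0 :=
      (Φ jU jV F 0).injective (he.trans (map_zero _).symm)
    apply Ext.precomp_mk₀_injective_of_epi F (gM jU jV)
    change (Ext.mk₀ (gM jU jV)).comp e (zero_add 0) = (Ext.mk₀ (gM jU jV)).comp 0 (zero_add 0)
    rw [h0, Ext.comp_zero]
  · intro n
    ext e
    rw [AddMonoidHom.mem_ker, AddMonoidHom.mem_range, P_eq jU jV F]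
    constructor
    · intro he
      have h0 : (Ext.mk₀ (gM jU jV)).comp e (zero_add (n + 1)) = 0 :=
        (Φ jU jV F (n + 1)).injective (he.trans (map_zero _).symm)
      obtain ⟨x₁, hx₁⟩ := Ext.contravariant_sequence_exact₃ hS F e h0
        (Nat.add_comm 1 n)
      exact ⟨ΘE jW F n x₁, (δ_apply kU kV jU jV jW wU wV F hS n x₁).trans hx₁⟩
    · rintro ⟨z, rfl⟩
      obtain ⟨x₁, rfl⟩ := (ΘE jW F n).surjective z
      rw [δ_apply]
      have h0 : (Ext.mk₀ (gM jU jV)).comp (hS.extClass.comp x₁ (Nat.add_comm 1 n))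
          (zero_add (n + 1)) = 0 := by
        have ha := Ext.comp_assoc (Ext.mk₀ (gM jU jV)) hS.extClass x₁ (zero_add 1)
          (Nat.add_comm 1 n) (by omega : 0 + 1 + n = n + 1)
        have := hS.comp_extClass
        exact ha.symm.trans ((congrArg (fun t => Ext.comp t x₁ (Nat.add_comm 1 n)) this).trans
          (Ext.zero_comp _ _ _ _ _))
      rw [h0, map_zero]
  · intro n
    ext y
    rw [AddMonoidHom.mem_ker, AddMonoidHom.mem_range]
    obtain ⟨x₂, rfl⟩ := (Φ jU jV F n).surjective y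
    rw [Dn_eq]
    constructor
    · intro h
      have h0 : (Ext.mk₀ (fM kU kV jU jV jW wU wV)).comp x₂ (zero_add n) = 0 :=
        (ΘE jW F n).injective (h.trans (map_zero _).symm)
      obtain ⟨e, he⟩ := Ext.contravariant_sequence_exact₂ hS F x₂ h0
      refine ⟨e, ?_⟩
      rw [P_eq jU jV F]
      exact congrArg _ he
    · rintro ⟨e, he⟩
      rw [P_eq jU jV F] at he
      have h1 := (Φ jU jV F n).injective he
      rw [← h1, ← Ext.comp_assoc_of_second_deg_zero, Ext.mk₀_comp_mk₀]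
      have : fM kU kV jU jV jW wU wV ≫ gM jU jV = 0 := (mvSC kU kV jU jV jW wU wV).zero
      rw [this, Ext.mk₀_zero, Ext.zero_comp, map_zero]
  · intro n
    ext z
    rw [AddMonoidHom.mem_ker, AddMonoidHom.mem_range]
    obtain ⟨x₁, rfl⟩ := (ΘE jW F n).surjective z
    rw [δ_apply]
    constructor
    · intro h
      obtain ⟨x₂, hx₂⟩ := Ext.contravariant_sequence_exact₁ hS F x₁ (Nat.add_comm 1 n) h
      refine ⟨Φ jU jV F n x₂, ?_⟩
      rw [Dn_eq]
      exact congrArg _ hx₂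
    · rintro ⟨y, hy⟩
      obtain ⟨x₂, rfl⟩ := (Φ jU jV F n).surjective y
      rw [Dn_eq] at hy
      have h1 := (ΘE jW F n).injective hy
      rw [← h1]
      have ha := Ext.comp_assoc hS.extClass (Ext.mk₀ (fM kU kV jU jV jW wU wV)) x₂ (add_zero 1)
        (zero_add n) (by omega : 1 + 0 + n = n + 1)
      have := hS.extClass_comp
      exact ha.symm.trans ((congrArg (fun t => Ext.comp t x₂ (Nat.add_comm 1 n)) this).trans
        (Ext.zero_comp _ _ _ _ _))

end Groth.Agent.Lib.Helper4.MVMain
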