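import Groth.Agent.Lib.Helper4.HensLocal
import Groth.Agent.Lib.Helper4.MVMain

set_option autoImplicit false
open CategoryTheory CategoryTheory.Limits AlgebraicGeometry Opposite
universe u

namespace Groth.Agent.Lib.Helper4.HensRes
open EtCore Abelian EtExtShriek HensLocal

section Mono
variable {U X : Scheme.{u}} (j : U ⟶ X) [IsOpenImmersion j]

theorem mono_cU : Mono (cU j) := by
  rw [EtStalk.mono_iff_stalk]
  intro Ω _ _ ξ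
  by_cases h : ξ.base default ∈ Set.range j.base
  · have := MVSeq.isIso_stalk_cU j ξ h
    infer_instance
  · exact (MVSeq.isZero_stalk_AU j ξ h).mono _

theorem isIso_cU_of_surjective (hj : Function.Surjective j.base) : IsIso (cU j) := by
  rw [EtStalk.isIso_iff_stalk]
  intro Ω _ _ ξ
  exact MVSeq.isIso_stalk_cU j ξ (hj _)

theorem aU_id : aU (𝟙 U) j j (Category.id_comp j) = 𝟙 _ := by
  have := mono_cU j
  rw [← cancel_mono (cU j), aU_cU, Category.id_comp]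

end Mono

section Comp
variable {W₁ W₂ W₃ X : Scheme.{u}} (k₁₂ : W₁ ⟶ W₂) (k₂₃ : W₂ ⟶ W₃) (k₁₃ : W₁ ⟶ W₃)
  (j₁ : W₁ ⟶ X) (j₂ : W₂ ⟶ X) (j₃ : W₃ ⟶ X)
  (w₁₂ : k₁₂ ≫ j₂ = j₁) (w₂₃ : k₂₃ ≫ j₃ = j₂) (w₁₃ : k₁₃ ≫ j₃ = j₁)
  [Etale j₁] [Etale j₂] [IsOpenImmersion j₃]

theorem aU_comp : aU k₁₂ j₂ j₁ w₁₂ ≫ aU k₂₃ j₃ j₂ w₂₃ = aU k₁₃ j₃ j₁ w₁₃ := by
  have := mono_cU j₃
  rw [← cancel_mono (cU j₃), Category.assoc, aU_cU, aU_cU, aU_cU]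

theorem HpullVia_trans (F : EtCoh.Ab X) (n : ℕ)
    (ξ : EtCoh.H W₃ ((EtCoh.pull j₃).obj F) n) :
    HpullVia k₁₂ j₂ j₁ w₁₂ F n (HpullVia k₂₃ j₃ j₂ w₂₃ F n ξ) = HpullVia k₁₃ j₃ j₁ w₁₃ F n ξ := by
  obtain ⟨e, rfl⟩ := (ΘE j₃ F n).surjective ξ
  rw [HpullVia_eq, HpullVia_eq, HpullVia_eq, Ext.mk₀_comp_mk₀_assoc,
    aU_comp k₁₂ k₂₃ k₁₃ j₁ j₂ j₃ w₁₂ w₂₃ w₁₃]

end Comp

section Id
variable {U X : Scheme.{u}} (j : U ⟶ X) [IsOpenImmersion j]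

theorem HpullVia_id (k : U ⟶ U) (hk : k = 𝟙 U) (w : k ≫ j = j) (F : EtCoh.Ab X) (n : ℕ)
    (ξ : EtCoh.H U ((EtCoh.pull j).obj F) n) : HpullVia k j j w F n ξ = ξ := by
  subst hk
  obtain ⟨e, rfl⟩ := (ΘE j F n).surjective ξ
  rw [HpullVia_eq, aU_id, Ext.mk₀_id_comp]

theorem Hpull_injective_of_surjective (hj : Function.Surjective j.base) (F : EtCoh.Ab X) (n : ℕ) :
    Function.Injective (Hpull j F n) := by
  have := isIso_cU_of_surjective j hj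
  intro e e' h
  rw [Hpull_eq, Hpull_eq] at h
  have h' := (ΘE j F n).injective h
  have h2 := congrArg (fun t => (Ext.mk₀ (inv (cU j))).comp t (zero_add n)) h'
  simp only [Ext.mk₀_comp_mk₀_assoc, IsIso.inv_hom_id, Ext.mk₀_id_comp] at h2
  exact h2

end Id

section Fac
variable {V' V Y : Scheme.{u}} (e : V' ⟶ V) (k : V ⟶ Y) (k' : V' ⟶ Y) (w : e ≫ k = k')
  [Etale k] [Etale k']

include w in
theorem Hpull_eq_zero_of_fac (G : EtCoh.Ab Y) (n : ℕ) (ξ : EtCoh.H Y G n)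
    (h : Hpull k G n ξ = 0) : Hpull k' G n ξ = 0 := by
  rw [Hpull_eq] at h ⊢
  have h' : (Ext.mk₀ (cU k)).comp ξ (zero_add n) = 0 :=
    (ΘE k G n).injective (h.trans (map_zero _).symm)
  rw [← aU_cU e k k' w, ← Ext.mk₀_comp_mk₀_assoc, h', Ext.comp_zero, map_zero]

end Fac

theorem HpullVia_eq_zero_iff {X Y Z : Scheme.{u}} (f : X ⟶ Y) (t : Y ⟶ Z) (f₀ : X ⟶ Z)
    (w : f ≫ t = f₀) (G : EtCoh.Ab Z) (p : ℕ) (ξ : EtCoh.H Y ((EtCoh.pull t).obj G) p) :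
    HpullVia f t f₀ w G p ξ = 0 ↔ Hpull f ((EtCoh.pull t).obj G) p ξ = 0 := by
  let i := ((EtCoh.HF X p).mapIso
    (((pullComp f t).symm ≪≫ pullCongr w).app G)).addCommGroupIsoToAddEquiv
  have hdef : HpullVia f t f₀ w G p ξ = i (Hpull f ((EtCoh.pull t).obj G) p ξ) := rfl
  rw [hdef]
  exact AddEquiv.map_eq_zero_iff i

theorem subsingleton_H_of_isEmpty (Y : Scheme.{u}) [IsEmpty Y] (G : EtCoh.Ab Y) (n : ℕ) :
    Subsingleton (EtCoh.H Y G n) := by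
  have hG : IsZero G := by
    rw [EtStalk.isZero_iff_stalk]
    intro Ω _ _ ξ
    exact (IsEmpty.false (ξ.base default)).elim
  refine subsingleton_of_forall_eq 0 fun e => ?_
  have h1 : e = e.comp (Ext.mk₀ (𝟙 G)) (add_zero n) := (Ext.comp_mk₀_id e).symm
  rw [h1, hG.eq_of_src (𝟙 G) 0, Ext.mk₀_zero, Ext.comp_zero]

end Groth.Agent.Lib.Helper4.HensRes
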