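import Groth.Prelude.Def_EtZar
import Mathlib.CategoryTheory.Functor.Flat
import Mathlib.CategoryTheory.Sites.Point.Comap
import Groth.Agent.Lib.Helper4.EtStalk
import Mathlib.CategoryTheory.Preadditive.Injective.Basic

set_option autoImplicit false
open CategoryTheory CategoryTheory.Limits AlgebraicGeometry Opposite TopologicalSpace
universe u

namespace Groth.Agent.Lib.Helper4.ZarEt

variable {S : Scheme.{u}}

instance subsingleton_hom_zarToEt (V : S.Etale) (U : S.Opens) :
    Subsingleton (V ⟶ (EtZar.zarToEt S).obj U) := by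
  refine ⟨fun a b => ?_⟩
  apply MorphismProperty.Over.Hom.ext
  have ha : a.left ≫ (Scheme.Opens.ι U) = V.hom := MorphismProperty.Over.w a
  have hb : b.left ≫ (Scheme.Opens.ι U) = V.hom := MorphismProperty.Over.w b
  exact (cancel_mono (Scheme.Opens.ι U)).1 (ha.trans hb.symm)

theorem range_subset_ι (V : S.Etale) (U : S.Opens)
    (h : Set.range (V.hom : V.left ⟶ S).base ⊆ (U : Set S)) :
    Set.range (V.hom : V.left ⟶ S).base ⊆ Set.range (Scheme.Opens.ι U).base := by
  rw [Scheme.Opens.range_ι]
  exact h

noncomputable def toZarLeft (V : S.Etale) (U : S.Opens)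
    (h : Set.range (V.hom : V.left ⟶ S).base ⊆ (U : Set S)) : V.left ⟶ (U : Scheme.{u}) :=
  IsOpenImmersion.lift (Scheme.Opens.ι U) (V.hom : V.left ⟶ S) (range_subset_ι V U h)

theorem toZarLeft_ι (V : S.Etale) (U : S.Opens)
    (h : Set.range (V.hom : V.left ⟶ S).base ⊆ (U : Set S)) :
    toZarLeft V U h ≫ Scheme.Opens.ι U = V.hom :=
  IsOpenImmersion.lift_fac _ _ _

noncomputable def toZar (V : S.Etale) (U : S.Opens)
    (h : Set.range (V.hom : V.left ⟶ S).base ⊆ (U : Set S)) :
    V ⟶ (EtZar.zarToEt S).obj U :=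
  MorphismProperty.Over.homMk (toZarLeft V U h) (toZarLeft_ι V U h)

theorem range_subset_of_hom (V : S.Etale) (U : S.Opens) (a : V ⟶ (EtZar.zarToEt S).obj U) :
    Set.range V.hom.base ⊆ (U : Set S) := by
  have ha : a.left ≫ (Scheme.Opens.ι U) = V.hom := MorphismProperty.Over.w a
  rintro _ ⟨y, rfl⟩
  rw [← ha]
  exact (a.left.base y).2


theorem structuredArrow_hom_ext {V : S.Etale} {a b : StructuredArrow V (EtZar.zarToEt S)}
    (f g : a ⟶ b) : f = g := by
  apply StructuredArrow.hom_ext
  exact Subsingleton.elim _ _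

instance isCofiltered_structuredArrow (V : S.Etale) :
    IsCofiltered (StructuredArrow V (EtZar.zarToEt S)) where
  cone_objs a b := by
    have ha := range_subset_of_hom V a.right a.hom
    have hb := range_subset_of_hom V b.right b.hom
    refine ⟨StructuredArrow.mk (toZar V (a.right ⊓ b.right) (Set.subset_inter ha hb)),
      StructuredArrow.homMk (homOfLE inf_le_left) (Subsingleton.elim _ _),
      StructuredArrow.homMk (homOfLE inf_le_right) (Subsingleton.elim _ _), trivial⟩
  cone_maps a b f g := ⟨a, 𝟙 a, by rw [structuredArrow_hom_ext f g]⟩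
  nonempty := ⟨StructuredArrow.mk (toZar V ⊤ (Set.subset_univ _))⟩

instance representablyFlat_zarToEt : RepresentablyFlat (EtZar.zarToEt S) where
  cofiltered V := inferInstance


section Exact
variable (S) [EtZar.ZarCont S]

theorem coverPreserving_zarToEt :
    CoverPreserving (Opens.grothendieckTopology S) S.smallEtaleTopology (EtZar.zarToEt S) :=
  CoverPreserving.of_isContinuous _ _ _

noncomputable abbrev pullZar : EtZar.Ab S ⥤ EtCoh.Ab S :=
  (EtZar.zarToEt S).sheafPullback AddCommGrpCat.{u+1} (Opens.grothendieckTopology S)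
    S.smallEtaleTopology

noncomputable abbrev adjZar : pullZar S ⊣ EtZar.resZar S :=
  (EtZar.zarToEt S).sheafAdjunctionContinuous AddCommGrpCat.{u+1}
    (Opens.grothendieckTopology S) S.smallEtaleTopology

instance initiallySmall_comp {Ω : Type u} [Field Ω] [IsSepClosed Ω]
    (ξ : Spec (CommRingCat.of Ω) ⟶ S) :
    InitiallySmall.{u} (EtZar.zarToEt S ⋙ (Scheme.pointSmallEtale ξ).fiber).Elements :=
  have : EssentiallySmall.{u} (EtZar.zarToEt S ⋙ (Scheme.pointSmallEtale ξ).fiber).Elements :=
    essentiallySmall_of_small_of_locallySmall _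
  initiallySmall_of_essentiallySmall _

theorem preservesFiniteLimits_pullZar : PreservesFiniteLimits (pullZar S) :=
  EtStalk.preservesFiniteLimits_of_stalk _ fun Ω _ _ ξ => by
    have := PointULift.preservesFiniteLimits_sheafFiber.{u, u + 1}
      ((Scheme.pointSmallEtale ξ).comap (EtZar.zarToEt S) (coverPreserving_zarToEt S))
      AddCommGrpCat.{u + 1}
    exact preservesFiniteLimits_of_natIso
      (GrothendieckTopology.Point.sheafFiberComapIso (Scheme.pointSmallEtale ξ)
        (EtZar.zarToEt S) (coverPreserving_zarToEt S) AddCommGrpCat.{u+1})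

theorem injective_resZar (I : EtCoh.Ab S) [Injective I] : Injective ((EtZar.resZar S).obj I) := by
  have := preservesFiniteLimits_pullZar S
  exact Injective.injective_of_adjoint (adjZar S) I

end Exact

end Groth.Agent.Lib.Helper4.ZarEt
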