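import Groth.Agent.Lib.Helper4.HensMV
import Groth.Agent.Lib.Helper57.ZarHens1

set_option autoImplicit false
open CategoryTheory CategoryTheory.Limits AlgebraicGeometry Opposite
universe u

namespace Groth.Agent.Lib.Helper4.HensZar
open EtCore Abelian EtExtShriek HensLocal HensRes HensMV

lemma eval_map_ringEquiv {R S : Type*} [CommRing R] [CommRing S] (φ : R ≃+* S)
    (g : Polynomial R) (x : R) : (g.map (φ : R →+* S)).eval (φ x) = φ (g.eval x) :=
  Polynomial.eval_map_apply (φ : R →+* S) x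

open Polynomial in
theorem isSepClosed_of_ringEquiv {k k' : Type*} [Field k] [Field k'] (e : k ≃+* k')
    [IsSepClosed k] : IsSepClosed k' := by
  refine IsSepClosed.of_exists_root _ fun p hm hirr hsep => ?_
  have hp : (p.map (e.symm : k' →+* k)).map (e : k →+* k') = p := by
    rw [Polynomial.map_map]
    have : (e : k →+* k').comp (e.symm : k' →+* k) = RingHom.id k' := by
      ext x; simp
    rw [this, Polynomial.map_id]
  have hdeg : (p.map (e.symm : k' →+* k)).degree ≠ 0 := by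
    rw [Polynomial.degree_map]
    exact fun h0 => hirr.not_isUnit (Polynomial.isUnit_iff_degree_eq_zero.2 h0)
  obtain ⟨x, hx⟩ := IsSepClosed.exists_root (p.map (e.symm : k' →+* k)) hdeg hsep.map
  refine ⟨e x, ?_⟩
  rw [← hp, eval_map_ringEquiv, hx.eq_zero, map_zero]

open Polynomial in
theorem henselianLocalRing_of_ringEquiv {R S : Type*} [CommRing R] [CommRing S] (e : R ≃+* S)
    [HenselianLocalRing R] : HenselianLocalRing S := by
  have : IsLocalRing S := e.isLocalRing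
  have hmem : ∀ x : S, x ∈ IsLocalRing.maximalIdeal S ↔ e.symm x ∈ IsLocalRing.maximalIdeal R := by
    intro x
    rw [IsLocalRing.mem_maximalIdeal, IsLocalRing.mem_maximalIdeal, mem_nonunits_iff,
      mem_nonunits_iff]
    exact not_congr (isUnit_map_iff e.symm x).symm
  refine ⟨fun f hf a₀ h1 h2 => ?_⟩
  let f₀ : R[X] := f.map (e.symm : S →+* R)
  have h1' : f₀.eval (e.symm a₀) ∈ IsLocalRing.maximalIdeal R := by
    rw [eval_map_ringEquiv]
    exact (hmem _).1 h1
  have h2' : IsUnit (f₀.derivative.eval (e.symm a₀)) := by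
    rw [Polynomial.derivative_map, eval_map_ringEquiv]
    exact (isUnit_map_iff e.symm _).2 h2
  obtain ⟨a, ha1, ha2⟩ := HenselianLocalRing.is_henselian f₀ (hf.map _) (e.symm a₀) h1' h2'
  refine ⟨e a, ?_, ?_⟩
  · have h3 : f = f₀.map (e : R →+* S) := by
      rw [Polynomial.map_map]
      have : (e : R →+* S).comp (e.symm : S →+* R) = RingHom.id S := by
        ext x; simp
      rw [this, Polynomial.map_id]
    rw [Polynomial.IsRoot.def, h3, eval_map_ringEquiv, ha1.eq_zero, map_zero]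
  · rw [hmem, map_sub, RingEquiv.symm_apply_apply]
    exact ha2

theorem isStrictlyHenselianLocalRing_of_ringEquiv {R S : Type u} [CommRing R] [CommRing S]
    (e : R ≃+* S) (h : EtCoh.IsStrictlyHenselianLocalRing R) :
    EtCoh.IsStrictlyHenselianLocalRing S := by
  obtain ⟨h1, h2⟩ := h
  have h3 : HenselianLocalRing S := henselianLocalRing_of_ringEquiv e
  refine ⟨h3, ?_⟩
  exact isSepClosed_of_ringEquiv (IsLocalRing.ResidueField.mapEquiv e)

variable {X : Scheme.{u}} (F : EtCoh.Ab X)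

theorem exists_open_res_eq_zero
    (hX : ∀ x : X, EtCoh.IsStrictlyHenselianLocalRing (X.presheaf.stalk x)) (W : X.Opens) (p : ℕ)
    (ξ : G F W (p + 1)) (x : X) (hx : x ∈ W) :
    ∃ W₁ : X.Opens, x ∈ W₁ ∧ W₁ ≤ W ∧
      ∀ (W₂ : X.Opens) (le : W₂ ≤ W), W₂ ≤ W₁ → res F le (p + 1) ξ = 0 := by
  let y : (W : Scheme.{u}) := ⟨x, hx⟩
  obtain ⟨V, v, hv, hz⟩ := exists_etale_Hpull_eq_zero (W : Scheme.{u}) p
    ((EtCoh.pull W.ι).obj F) ξ y
  have hV : Etale V.hom := V.prop
  have hS : EtCoh.IsStrictlyHenselianLocalRing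
      ((W : Scheme.{u}).presheaf.stalk (V.hom v)) := by
    rw [hv]
    exact isStrictlyHenselianLocalRing_of_ringEquiv
      (asIso (W.ι.stalkMap y)).commRingCatIsoToRingEquiv (hX _)
  obtain ⟨U₁, hU₁, σ, hσ⟩ :=
    Groth.Agent.Lib.Helper57.ZarHens.exists_zariski_section_aux V.hom v hS
  rw [hv] at hU₁
  refine ⟨W.ι ''ᵁ U₁, ⟨y, hU₁, rfl⟩, W.ι_image_le U₁, ?_⟩
  intro W₂ le hle
  rw [HpullVia_eq_zero_iff]
  have hr : Set.range (X.homOfLE le).base ⊆ Set.range U₁.ι.base := by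
    rintro _ ⟨z, rfl⟩
    obtain ⟨u, hu, huz⟩ := hle z.2
    have : u = X.homOfLE le z := Subtype.ext (huz.trans (X.homOfLE_apply le z).symm)
    rw [← this]
    exact ⟨⟨u, hu⟩, rfl⟩
  have w : (IsOpenImmersion.lift U₁.ι (X.homOfLE le) hr ≫ σ) ≫ V.hom = X.homOfLE le := by
    rw [Category.assoc, hσ, IsOpenImmersion.lift_fac]
  exact Hpull_eq_zero_of_fac (IsOpenImmersion.lift U₁.ι (X.homOfLE le) hr ≫ σ) V.hom
    (X.homOfLE le) w _ _ ξ hz

theorem exists_basicOpen_res_eq_zero [IsAffine X]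
    (hX : ∀ x : X, EtCoh.IsStrictlyHenselianLocalRing (X.presheaf.stalk x)) (h : Γ(X, ⊤)) (p : ℕ)
    (ξ : G F (X.basicOpen h) (p + 1)) (x : X) (hx : x ∈ X.basicOpen h) :
    ∃ (a : Γ(X, ⊤)), x ∈ X.basicOpen a ∧
      ∀ le : X.basicOpen (h * a) ≤ X.basicOpen h, res F le (p + 1) ξ = 0 := by
  obtain ⟨W₁, hxW₁, -, hW₁⟩ := exists_open_res_eq_zero F hX (X.basicOpen h) p ξ x hx
  obtain ⟨_, ⟨_, ⟨a, rfl⟩, rfl⟩, hxa, hle⟩ :=
    (isBasis_basicOpen X).exists_subset_of_mem_open hxW₁ W₁.isOpen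
  refine ⟨a, hxa, fun le => hW₁ _ le ?_⟩
  rw [X.basicOpen_mul]
  exact inf_le_right.trans hle

end Groth.Agent.Lib.Helper4.HensZar
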