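import Mathlib

set_option autoImplicit false
universe w v u
open CategoryTheory CategoryTheory.Limits

namespace Groth.Agent.Lib.Helper4.ImgColim

variable {𝒜 : Type u} [Category.{v} 𝒜] [Abelian 𝒜] {J : Type w} [SmallCategory J]
  {D : J ⥤ 𝒜} (c : Cocone D)

noncomputable def mf {j j' : J} (f : j ⟶ j') : MonoFactorisation (c.ι.app j) where
  I := image (c.ι.app j')
  m := image.ι (c.ι.app j')
  e := D.map f ≫ factorThruImage (c.ι.app j')
  fac := by rw [Category.assoc, image.fac, c.w]

noncomputable def imgMap {j j' : J} (f : j ⟶ j') : image (c.ι.app j) ⟶ image (c.ι.app j') :=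
  image.lift (mf c f)

lemma lift_mf_ι {j j' : J} (f : j ⟶ j') :
    imgMap c f ≫ image.ι (c.ι.app j') = image.ι (c.ι.app j) :=
  image.lift_fac (mf c f)

lemma fac_lift_mf {j j' : J} (f : j ⟶ j') :
    factorThruImage (c.ι.app j) ≫ imgMap c f =
      D.map f ≫ factorThruImage (c.ι.app j') :=
  image.fac_lift (mf c f)

noncomputable def imgF : J ⥤ 𝒜 where
  obj j := image (c.ι.app j)
  map {j j'} f := imgMap c f
  map_id j := by
    rw [← cancel_mono (image.ι (c.ι.app j)), lift_mf_ι, Category.id_comp]
  map_comp {j j' j''} f g := by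
    rw [← cancel_mono (image.ι (c.ι.app j'')), lift_mf_ι, Category.assoc, lift_mf_ι, lift_mf_ι]

@[reassoc (attr := simp)]
lemma imgF_map_ι {j j' : J} (f : j ⟶ j') :
    (imgF c).map f ≫ image.ι (c.ι.app j') = image.ι (c.ι.app j) :=
  lift_mf_ι c f

noncomputable def imgπ : D ⟶ imgF c where
  app j := factorThruImage (c.ι.app j)
  naturality j j' f := (fac_lift_mf c f).symm

noncomputable def imgCocone : Cocone (imgF c) where
  pt := c.pt
  ι := { app := fun j => image.ι (c.ι.app j)
         naturality := fun j j' f => by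
           dsimp
           rw [Category.comp_id]
           exact imgF_map_ι c f }

@[simp] lemma imgF_obj (j : J) : (imgF c).obj j = image (c.ι.app j) := rfl
@[simp] lemma imgCocone_pt : (imgCocone c).pt = c.pt := rfl
@[simp] lemma imgCocone_ι_app (j : J) : (imgCocone c).ι.app j = image.ι (c.ι.app j) := rfl
@[simp] lemma imgπ_app (j : J) : (imgπ c).app j = factorThruImage (c.ι.app j) := rfl

@[reassoc (attr := simp)]
lemma imgπ_app_ι (j : J) : (imgπ c).app j ≫ (imgCocone c).ι.app j = c.ι.app j := by
  simp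

instance (j : J) : Mono ((imgCocone c).ι.app j) :=
  inferInstanceAs (Mono (image.ι (c.ι.app j)))

instance (j : J) : Epi ((imgπ c).app j) :=
  inferInstanceAs (Epi (factorThruImage (c.ι.app j)))

variable {c}

lemma ι_desc (j : J) [HasColimit (imgF c)] :
    colimit.ι (imgF c) j ≫ colimit.desc (imgF c) (imgCocone c) = (imgCocone c).ι.app j :=
  colimit.ι_desc (imgCocone c) j

lemma imgπ_fac (j : J) : (imgπ c).app j ≫ (imgCocone c).ι.app j = c.ι.app j :=
  image.fac (c.ι.app j)

lemma fac_ι_desc (j : J) [HasColimit (imgF c)] :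
    (imgπ c).app j ≫ colimit.ι (imgF c) j ≫ colimit.desc (imgF c) (imgCocone c) =
      c.ι.app j := by
  rw [ι_desc]
  exact imgπ_fac (c := c) j

attribute [local instance] IsFiltered.isConnected in
lemma isIso_desc [IsFiltered J] [HasColimitsOfShape J 𝒜]
    [HasExactColimitsOfShape J 𝒜] (hc : IsColimit c) :
    IsIso (colimit.desc (imgF c) (imgCocone c)) := by
  have hmono : Mono (colimit.desc (imgF c) (imgCocone c)) := by
    let α : imgF c ⟶ (Functor.const J).obj c.pt := (imgCocone c).ι
    have hα : ∀ j, Mono (α.app j) := fun j => inferInstanceAs (Mono ((imgCocone c).ι.app j))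
    have : Mono α := NatTrans.mono_of_mono_app α
    refine colim.map_mono' α (colimit.isColimit _) (isColimitConstCocone J c.pt) _ (fun j => ?_)
    refine (ι_desc (c := c) j).trans ?_
    exact (Category.comp_id _).symm
  have hepi : Epi (colimit.desc (imgF c) (imgCocone c)) := by
    refine ⟨fun {Z} g₁ g₂ h => ?_⟩
    apply hc.hom_ext
    intro j
    have e := fac_ι_desc (c := c) j
    have e1 : c.ι.app j ≫ g₁ =
        ((imgπ c).app j ≫ colimit.ι (imgF c) j ≫ colimit.desc (imgF c) (imgCocone c)) ≫ g₁ :=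
      congrArg (fun t => t ≫ g₁) e.symm
    have e2 : c.ι.app j ≫ g₂ =
        ((imgπ c).app j ≫ colimit.ι (imgF c) j ≫ colimit.desc (imgF c) (imgCocone c)) ≫ g₂ :=
      congrArg (fun t => t ≫ g₂) e.symm
    refine e1.trans (Eq.trans ?_ e2.symm)
    simp only [Category.assoc]
    rw [h]
  exact isIso_of_mono_of_epi _

noncomputable def isColimitImgCocone [IsFiltered J] [HasColimitsOfShape J 𝒜]
    [HasExactColimitsOfShape J 𝒜] (hc : IsColimit c) : IsColimit (imgCocone c) :=
  haveI := isIso_desc hc
  IsColimit.ofIsoColimit (colimit.isColimit (imgF c))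
    (Cocone.ext (asIso (colimit.desc (imgF c) (imgCocone c))) (fun j => ι_desc (c := c) j))

end Groth.Agent.Lib.Helper4.ImgColim
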