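import Groth.Agent.Lib.Helper4.ImgColim
import Groth.Agent.Lib.Helper4.HHColim

set_option autoImplicit false
universe u
open CategoryTheory CategoryTheory.Limits AlgebraicGeometry

namespace Groth.Agent.Lib.Helper4.ImgColimMod

open Groth.Agent.Lib.Helper4.ImgColim

theorem hasExactColimitsOfShape_modules (X : Scheme.{u}) (J : Type u) [SmallCategory J]
    [IsFiltered J] : HasExactColimitsOfShape J X.Modules :=
  Groth.Agent.Lib.Helper42.ModSheaf.hasExactColimitsOfShape_of_isFiltered X.ringCatSheaf J

noncomputable def isColimitImgCocone {X : Scheme.{u}} {J : Type u} [SmallCategory J] [IsFiltered J]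
    {D : J ⥤ X.Modules} {c : Cocone D} (hc : IsColimit c) : IsColimit (imgCocone c) :=
  haveI := hasExactColimitsOfShape_modules X J
  ImgColim.isColimitImgCocone hc

theorem subsingleton_HH_of_images {X : Scheme.{u}} [CompactSpace X] [QuasiSeparatedSpace X]
    {J : Type u} [SmallCategory J] [IsFiltered J] {D : J ⥤ X.Modules} {c : Cocone D}
    (hc : IsColimit c) (q : ℕ)
    (h : ∀ j, Subsingleton (Coh.HH X (image (c.ι.app j)) q)) :
    Subsingleton (Coh.HH X c.pt q) :=
  Groth.Agent.Lib.Helper4.HHColim.subsingleton_HH_of_isColimit' (imgF c) (isColimitImgCocone hc) q h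

end Groth.Agent.Lib.Helper4.ImgColimMod
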