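import Groth.Agent.Lib.Helper4.LHSec
import Groth.Agent.Lib.Helper4.ChDer
import Mathlib.AlgebraicTopology.ExtraDegeneracy
import Mathlib.AlgebraicTopology.AlternatingFaceMapComplex
import Mathlib.Algebra.Homology.ShortComplex.ExactFunctor
import Mathlib.CategoryTheory.Sites.Abelian
import Mathlib.CategoryTheory.Sites.Adjunction

set_option autoImplicit false
open CategoryTheory CategoryTheory.Limits Opposite TopologicalSpace Simplicial

namespace Groth.Agent.Lib.Helper4.LHCech
universe u
open LHSec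

def tupObj (E : Type u) : SimplicialObject (Type u) where
  obj n := Fin (n.unop.len + 1) → E
  map θ := ↾(fun x => x ∘ θ.unop.toOrderHom)
  map_id n := rfl
  map_comp θ θ' := rfl

def tupAug (E : Type u) : SimplicialObject.Augmented (Type u) :=
  (tupObj E).augment PUnit.{u + 1} (↾fun _ => PUnit.unit) (by intros; rfl)

def tupED (E : Type u) (a : E) : (tupAug E).ExtraDegeneracy where
  s' := ↾(fun _ => fun _ => a)
  s n := ↾(fun x => (Fin.cons a x : Fin (n + 2) → E))
  s'_comp_ε := rfl
  s₀_comp_δ₁ := by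
    ext x
    funext (j : Fin 1)
    have : j = 0 := Subsingleton.elim _ _
    subst this
    rfl
  s_comp_δ₀ n := by
    ext x
    funext j
    rfl
  s_comp_δ n i := by
    ext x
    funext j
    refine Fin.cases ?_ (fun j => ?_) j
    · rfl
    · change (Fin.cons a x : Fin (n + 1 + 2) → E) (i.succ.succAbove j.succ) =
        (Fin.cons a (fun k => x (i.succAbove k)) : Fin (n + 2) → E) j.succ
      rw [Fin.succ_succAbove_succ, Fin.cons_succ, Fin.cons_succ]
  s_comp_σ n i := by
    ext x
    funext j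
    refine Fin.cases ?_ (fun j => ?_) j
    · rfl
    · change (Fin.cons a x : Fin (n + 2) → E) (i.succ.predAbove j.succ) =
        (Fin.cons a (fun k => x (i.predAbove k)) : Fin (n + 1 + 2) → E) j.succ
      rw [Fin.succ_predAbove_succ, Fin.cons_succ, Fin.cons_succ]

section Pointwise

variable (E : Type u)

noncomputable abbrev tupCx : ChainComplex AddCommGrpCat.{u} ℕ :=
  AlgebraicTopology.AlternatingFaceMapComplex.obj (tupObj E ⋙ AddCommGrpCat.free)

lemma tupCx_exactAt (p : ℕ) : (tupCx E).ExactAt (p + 1) := by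
  rw [HomologicalComplex.exactAt_iff_isZero_homology]
  by_cases hE : Nonempty E
  · obtain ⟨a⟩ := hE
    let ed := (tupED E a).map AddCommGrpCat.free
    exact (HomologicalComplex.isZero_single_obj_homology (ComplexShape.down ℕ) 0 _ (p + 1)
      (by omega)).of_iso (ed.homotopyEquiv.toHomologyIso (p + 1))
  · have hz : IsZero ((tupCx E).X (p + 1)) := by
      have : IsEmpty (Fin (p + 1 + 1) → E) := ⟨fun x => hE ⟨x 0⟩⟩
      have hs : Subsingleton (FreeAbelianGroup (Fin (p + 1 + 1) → E)) := by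
        refine ⟨fun x y => ?_⟩
        have h1 : ∀ z : FreeAbelianGroup (Fin (p + 1 + 1) → E), z = 0 := by
          intro z
          induction z using FreeAbelianGroup.induction_on with
          | zero => rfl
          | of w => exact (IsEmpty.false w).elim
          | neg w ih => exact (IsEmpty.false w).elim
          | add x y hx hy => rw [hx, hy, add_zero]
        rw [h1 x, h1 y]
      exact AddCommGrpCat.isZero_of_subsingleton
        (AddCommGrpCat.of (FreeAbelianGroup (Fin (p + 1 + 1) → E)))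
    exact ShortComplex.isZero_homology_of_isZero_X₂ _ hz

end Pointwise

section Cech

variable {X S : TopCat.{u}} (f : X ⟶ S)

abbrev XX : (Opens S)ᵒᵖ ⥤ Type u := hU f ⊤

def Pn (n : ℕ) : (Opens S)ᵒᵖ ⥤ Type u where
  obj V := Fin (n + 1) → (XX f).obj V
  map i := ↾(fun x k => (XX f).map i (x k))
  map_id V := rfl
  map_comp i j := rfl

def Pmap {n m : SimplexCategoryᵒᵖ} (θ : n ⟶ m) : Pn f n.unop.len ⟶ Pn f m.unop.len where
  app V := (tupObj ((XX f).obj V)).map θ
  naturality V V' i := rfl

def ZP : SimplicialObject ((Opens S)ᵒᵖ ⥤ AddCommGrpCat.{u}) where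
  obj n := Pn f n.unop.len ⋙ AddCommGrpCat.free
  map θ := Functor.whiskerRight (Pmap f θ) AddCommGrpCat.free
  map_id n := by
    have : Pmap f (𝟙 n) = 𝟙 _ := rfl
    rw [this]
    exact Functor.whiskerRight_id' _
  map_comp θ θ' := by
    have : Pmap f (θ ≫ θ') = Pmap f θ ≫ Pmap f θ' := rfl
    rw [this]
    exact Functor.whiskerRight_comp _ _ _

noncomputable abbrev K : ChainComplex ((Opens S)ᵒᵖ ⥤ AddCommGrpCat.{u}) ℕ :=
  AlgebraicTopology.AlternatingFaceMapComplex.obj (ZP f)

lemma ZP_eval (V : (Opens S)ᵒᵖ) :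
    ZP f ⋙ (evaluation (Opens S)ᵒᵖ AddCommGrpCat.{u}).obj V =
      tupObj ((XX f).obj V) ⋙ AddCommGrpCat.free := rfl

lemma K_eval (V : (Opens S)ᵒᵖ) :
    (((evaluation (Opens S)ᵒᵖ AddCommGrpCat.{u}).obj V).mapHomologicalComplex _).obj (K f) =
      tupCx ((XX f).obj V) :=
  Functor.congr_obj (AlgebraicTopology.map_alternatingFaceMapComplex
    ((evaluation (Opens S)ᵒᵖ AddCommGrpCat.{u}).obj V)) (ZP f)

theorem exact_of_pointwise {J : Type u} [Category.{u} J]
    (S : ShortComplex (J ⥤ AddCommGrpCat.{u}))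
    (h : ∀ j, (S.map ((evaluation J AddCommGrpCat.{u}).obj j)).Exact) : S.Exact := by
  rw [ShortComplex.exact_iff_isZero_homology]
  rw [Functor.isZero_iff]
  intro j
  have e := ShortComplex.mapHomologyIso S ((evaluation J AddCommGrpCat.{u}).obj j)
  exact IsZero.of_iso ((ShortComplex.exact_iff_isZero_homology _).mp (h j)) e.symm

lemma K_exactAt (p : ℕ) : (K f).ExactAt (p + 1) := by
  apply exact_of_pointwise
  intro V
  have h := tupCx_exactAt ((XX f).obj V) p
  rw [← K_eval] at h
  exact h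

end Cech

section HomCx

variable {𝒟 : Type (u + 1)} [Category.{u} 𝒟] [Preadditive 𝒟] (L : ChainComplex 𝒟 ℕ)

noncomputable def homCxObj (G : 𝒟) : CochainComplex AddCommGrpCat.{u} ℕ :=
  CochainComplex.of (fun p => AddCommGrpCat.of (L.X p ⟶ G))
    (fun p => AddCommGrpCat.ofHom (Preadditive.leftComp G (L.d (p + 1) p)))
    (fun p => by
      ext τ
      change L.d (p + 1 + 1) (p + 1) ≫ L.d (p + 1) p ≫ τ = 0
      rw [← Category.assoc, L.d_comp_d, zero_comp])

lemma homCxObj_d (G : 𝒟) (p : ℕ) :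
    (homCxObj L G).d p (p + 1) =
      AddCommGrpCat.ofHom (Preadditive.leftComp G (L.d (p + 1) p)) := by
  unfold homCxObj
  exact CochainComplex.of_d (fun p => AddCommGrpCat.of (L.X p ⟶ G))
    (fun p => AddCommGrpCat.ofHom (Preadditive.leftComp G (L.d (p + 1) p))) p

noncomputable def homCx : 𝒟 ⥤ CochainComplex AddCommGrpCat.{u} ℕ where
  obj G := homCxObj L G
  map {G G'} φ := CochainComplex.ofHom
    (fun p => AddCommGrpCat.ofHom (Preadditive.rightComp (L.X p) φ))
    (fun p => by
      rw [homCxObj_d, homCxObj_d]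
      ext τ
      change L.d (p + 1) p ≫ τ ≫ φ = (L.d (p + 1) p ≫ τ) ≫ φ
      rw [Category.assoc])
  map_id G := by
    ext p τ
    change τ ≫ 𝟙 G = τ
    rw [Category.comp_id]
  map_comp φ ψ := by
    ext p τ
    change τ ≫ φ ≫ ψ = (τ ≫ φ) ≫ ψ
    rw [Category.assoc]

instance : (homCx L).Additive where
  map_add {G G'} φ ψ := by
    ext p τ
    change τ ≫ (φ + ψ) = τ ≫ φ + τ ≫ ψ
    rw [Preadditive.comp_add]

end HomCx

section HomCx2

variable {𝒟 : Type (u + 1)} [Category.{u} 𝒟] [Abelian 𝒟] (L : ChainComplex 𝒟 ℕ)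

theorem isZero_homology_homCx (G : 𝒟) [Injective G] (p : ℕ)
    (hL : L.ExactAt (p + 1)) : IsZero (((homCx L).obj G).homology (p + 1)) := by
  rw [← HomologicalComplex.exactAt_iff_isZero_homology]
  rw [HomologicalComplex.exactAt_iff' _ p (p + 1) (p + 1 + 1) (by simp) (by simp)]
  rw [HomologicalComplex.exactAt_iff' _ (p + 1 + 1) (p + 1) p (by simp) (by simp)] at hL
  rw [ShortComplex.ab_exact_iff]
  intro τ hτ
  have hτ' : L.d (p + 1 + 1) (p + 1) ≫ (show L.X (p + 1) ⟶ G from τ) = 0 := by
    have := hτ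
    change ((homCxObj L G).d (p + 1) (p + 1 + 1)).hom τ = 0 at this
    rw [homCxObj_d] at this
    exact this
  refine ⟨(show L.X p ⟶ G from hL.descToInjective (show L.X (p + 1) ⟶ G from τ) hτ'), ?_⟩
  change ((homCxObj L G).d p (p + 1)).hom _ = τ
  rw [homCxObj_d]
  exact hL.comp_descToInjective _ hτ'

end HomCx2

end Groth.Agent.Lib.Helper4.LHCech
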