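import Groth.Agent.Lib.Helper4.LHCech
import Mathlib.Topology.Sheaves.SheafCondition.UniqueGluing

set_option autoImplicit false
open CategoryTheory CategoryTheory.Limits Opposite TopologicalSpace Simplicial

namespace Groth.Agent.Lib.Helper4.LHCech
universe u
open LHSec

variable {X S : TopCat.{u}} (f : X ⟶ S)

noncomputable def TT : CohTop.Ab S ⥤ ChDer.Ch.{u} :=
  sheafToPresheaf _ _ ⋙ homCx (K f)

instance : (TT f).Additive := by
  unfold TT
  infer_instance

theorem hTT (Q : CohTop.Ab S) [Injective Q] (p : ℕ) :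
    IsZero (((TT f).obj Q).homology (p + 1)) := by
  have : (presheafToSheaf (Opens.grothendieckTopology S)
      AddCommGrpCat.{u}).PreservesMonomorphisms := inferInstance
  have : Injective Q.obj :=
    Injective.injective_of_adjoint
      (sheafificationAdjunction (Opens.grothendieckTopology S) AddCommGrpCat.{u}) Q
  exact isZero_homology_homCx (K f) Q.obj p (K_exactAt f p)

abbrev C0 (M : CohTop.Ab S) : Type u := Pn f 0 ⋙ AddCommGrpCat.free ⟶ M.obj

abbrev C1 (M : CohTop.Ab S) : Type u := Pn f 1 ⋙ AddCommGrpCat.free ⟶ M.obj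

def face (i : Fin 2) : Pn f 1 ⟶ Pn f 0 := Pmap f (SimplexCategory.δ i).op

lemma K_d_comp (M : CohTop.Ab S) (τ : C0 f M) :
    ((K f).d 1 0 ≫ τ : C1 f M) =
      Functor.whiskerRight (face f 0) AddCommGrpCat.free ≫ τ -
        Functor.whiskerRight (face f 1) AddCommGrpCat.free ≫ τ := by
  have h := AlgebraicTopology.AlternatingFaceMapComplex.obj_d_eq (ZP f) 0
  have h' : (K f).d 1 0 = (ZP f).δ 0 - (ZP f).δ 1 := by
    rw [h, Fin.sum_univ_two]
    simp [sub_eq_add_neg]
  rw [h']
  exact Preadditive.sub_comp _ _ _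

lemma fev_sub' {C : Type u} [Category.{u} C] {h : C ⥤ Type u} {M : C ⥤ AddCommGrpCat.{u}}
    (τ τ' : h ⋙ AddCommGrpCat.free ⟶ M) {V : C} (s : h.obj V) :
    fev (τ - τ') s = fev τ s - fev τ' s := rfl

lemma fev_d (M : CohTop.Ab S) (τ : C0 f M) {V : (Opens S)ᵒᵖ} (y : (Pn f 1).obj V) :
    fev ((K f).d 1 0 ≫ τ : C1 f M) y =
      fev τ ((face f 0).app V y) - fev τ ((face f 1).app V y) := by
  rw [K_d_comp, fev_sub', fev_whisker, fev_whisker]

lemma cocycle_const (M : CohTop.Ab S) (τ : C0 f M) (hτ : ((K f).d 1 0 ≫ τ : C1 f M) = 0)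
    {V : (Opens S)ᵒᵖ} (x x' : (Pn f 0).obj V) : fev τ x = fev τ x' := by
  let y : (Pn f 1).obj V := fun k : Fin 2 => if k = 0 then x 0 else x' 0
  have h := fev_d f M τ y
  rw [hτ] at h
  have h0 : (face f 0).app V y = x' := by
    funext (k : Fin 1)
    have : k = 0 := Subsingleton.elim _ _
    subst this
    rfl
  have h1 : (face f 1).app V y = x := by
    funext (k : Fin 1)
    have : k = 0 := Subsingleton.elim _ _
    subst this
    rfl
  rw [h0, h1] at h
  exact (sub_eq_zero.1 h.symm).symm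

section Eps

variable (M : CohTop.Ab S)

noncomputable def epsFun (m : M.obj.obj (op ⊤)) : C0 f M :=
  fmk (fun V _ => (M.obj.map (homOfLE (le_top : V.unop ≤ ⊤)).op).hom m)
    (fun V V' i _ => by
      have : (homOfLE (le_top : V.unop ≤ ⊤)).op ≫ i = (homOfLE (le_top : V'.unop ≤ ⊤)).op :=
        Subsingleton.elim _ _
      rw [← this, M.obj.map_comp]
      rfl)

lemma fev_epsFun (m : M.obj.obj (op ⊤)) {V : (Opens S)ᵒᵖ} (x : (Pn f 0).obj V) :
    fev (epsFun f M m) x = (M.obj.map (homOfLE (le_top : V.unop ≤ ⊤)).op).hom m :=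
  fev_fmk _ _ _

lemma epsFun_cocycle (m : M.obj.obj (op ⊤)) :
    ((K f).d 1 0 ≫ epsFun f M m : C1 f M) = 0 := by
  apply free_hom_ext
  intro V y
  rw [fev_d, fev_epsFun, fev_epsFun, sub_self]
  rfl

noncomputable def epsHom : M.obj.obj (op ⊤) ⟶ ((TT f).obj M).X 0 :=
  AddCommGrpCat.ofHom
    { toFun := epsFun f M
      map_zero' := free_hom_ext (fun V x => by
        rw [fev_epsFun, map_zero]
        rfl)
      map_add' := fun m m' => free_hom_ext (fun V x => by
        refine (fev_epsFun f M (m + m') x).trans ?_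
        refine Eq.trans ?_ (fev_add (epsFun f M m) (epsFun f M m') x).symm
        rw [fev_epsFun, fev_epsFun, map_add]) }

lemma epsHom_apply (m : M.obj.obj (op ⊤)) : (epsHom f M).hom m = epsFun f M m := rfl

lemma TT_d_apply (τ : C0 f M) :
    (((TT f).obj M).d 0 1).hom τ = ((K f).d 1 0 ≫ τ : C1 f M) := by
  have h : ((TT f).obj M).d 0 1 =
      AddCommGrpCat.ofHom (Preadditive.leftComp M.obj ((K f).d (0 + 1) 0)) :=
    homCxObj_d (K f) M.obj 0
  rw [h]
  rfl

lemma epsHom_d : epsHom f M ≫ ((TT f).obj M).d 0 1 = 0 := by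
  apply AddCommGrpCat.hom_ext
  apply AddMonoidHom.ext
  intro m
  change (((TT f).obj M).d 0 1).hom (epsFun f M m) = 0
  rw [TT_d_apply]
  exact epsFun_cocycle f M m

variable (hcov : ∀ x : S, ∃ V : Opens S, x ∈ V ∧ Nonempty ((XX f).obj (op V)))

abbrev Idx : Type u := {V : Opens S // Nonempty ((XX f).obj (op V))}

include hcov in
lemma cover_top : (⊤ : Opens S) ≤ iSup (fun i : Idx f => i.1) := by
  intro x _
  obtain ⟨V, hxV, hV⟩ := hcov x
  exact Opens.mem_iSup.2 ⟨⟨V, hV⟩, hxV⟩

include hcov in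
lemma epsFun_injective : Function.Injective (epsFun f M) := by
  intro m m' h
  refine TopCat.Sheaf.eq_of_locally_eq' (F := M) (fun i : Idx f => i.1) ⊤
    (fun i => homOfLE le_top) (cover_top f hcov) m m' (fun i => ?_)
  have e1 := fev_epsFun f M m (V := op i.1) (fun _ => Classical.choice i.2)
  have e2 := fev_epsFun f M m' (V := op i.1) (fun _ => Classical.choice i.2)
  rw [h] at e1
  exact e1.symm.trans e2

include hcov in
lemma epsFun_exact (τ : C0 f M) (hτ : ((K f).d 1 0 ≫ τ : C1 f M) = 0) :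
    ∃ m, epsFun f M m = τ := by
  let mV : ∀ i : Idx f, M.obj.obj (op i.1) := fun i =>
    fev τ (V := op i.1) (fun _ => Classical.choice i.2)
  have hcompat : TopCat.Presheaf.IsCompatible (X := S) M.obj (fun i : Idx f => i.1) mV := by
    intro i j
    have e1 := fev_naturality τ (Opens.infLELeft i.1 j.1).op
      (fun _ : Fin 1 => Classical.choice i.2)
    have e2 := fev_naturality τ (Opens.infLERight i.1 j.1).op
      (fun _ : Fin 1 => Classical.choice j.2)
    exact e1.trans ((cocycle_const f M τ hτ _ _).trans e2.symm)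
  obtain ⟨m, hm, -⟩ := TopCat.Sheaf.existsUnique_gluing' (F := M) (fun i : Idx f => i.1) ⊤
    (fun i => homOfLE le_top) (cover_top f hcov) mV hcompat
  refine ⟨m, ?_⟩
  apply free_hom_ext
  intro V x
  rw [fev_epsFun]
  have h1 := hm ⟨V.unop, ⟨x 0⟩⟩
  exact h1.trans (cocycle_const f M τ hτ _ _)

end Eps

section Eta

variable (hcov : ∀ x : S, ∃ V : Opens S, x ∈ V ∧ Nonempty ((XX f).obj (op V)))

noncomputable def liftC (M : CohTop.Ab S) : M.obj.obj (op ⊤) ⟶ ((TT f).obj M).cycles 0 :=
  ((TT f).obj M).liftCycles (epsHom f M) 1 (by simp) (epsHom_d f M)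

lemma liftC_i (M : CohTop.Ab S) : liftC f M ≫ ((TT f).obj M).iCycles 0 = epsHom f M :=
  HomologicalComplex.liftCycles_i _ _ _ _ _

include hcov in
lemma isIso_liftC (M : CohTop.Ab S) : IsIso (liftC f M) := by
  have hmono : Mono (liftC f M) := by
    have hε : Mono (epsHom f M) :=
      (AddCommGrpCat.mono_iff_injective _).2 (epsFun_injective f M hcov)
    have h := liftC_i f M
    rw [← h] at hε
    exact mono_of_mono (liftC f M) (((TT f).obj M).iCycles 0)
  have hepi : Epi (liftC f M) := by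
    rw [AddCommGrpCat.epi_iff_surjective]
    intro z
    let x : C0 f M := (((TT f).obj M).iCycles 0).hom z
    have hx : ((K f).d 1 0 ≫ x : C1 f M) = 0 := by
      rw [← TT_d_apply]
      have := ((TT f).obj M).iCycles_d 0 1
      exact congrArg (fun t => t.hom z) this
    obtain ⟨m, hm⟩ := epsFun_exact f M hcov x hx
    refine ⟨m, ?_⟩
    have hinj : Function.Injective (((TT f).obj M).iCycles 0).hom :=
      (AddCommGrpCat.mono_iff_injective _).1 inferInstance
    apply hinj
    have h2 := congrArg (fun t => t.hom m) (liftC_i f M)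
    exact h2.trans hm
  exact isIso_of_mono_of_epi _

noncomputable def etaHom (M : CohTop.Ab S) : M.obj.obj (op ⊤) ⟶ (TT f ⋙ ChDer.S0.{u}).obj M :=
  liftC f M ≫ ((TT f).obj M).homologyπ 0

include hcov in
lemma isIso_etaHom (M : CohTop.Ab S) : IsIso (etaHom f M) := by
  have h1 := isIso_liftC f hcov M
  have h2 := ChDer.isIso_homologyπ_zero ((TT f).obj M)
  exact @IsIso.comp_isIso _ _ _ _ _ (liftC f M) (((TT f).obj M).homologyπ 0) h1 h2

lemma epsHom_naturality {M M' : CohTop.Ab S} (φ : M ⟶ M') :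
    epsHom f M ≫ ((TT f).map φ).f 0 = φ.hom.app (op ⊤) ≫ epsHom f M' := by
  apply AddCommGrpCat.hom_ext
  apply AddMonoidHom.ext
  intro m
  change (epsFun f M m ≫ φ.hom : C0 f M') = epsFun f M' ((φ.hom.app (op ⊤)).hom m)
  apply free_hom_ext
  intro V x
  rw [fev_comp, fev_epsFun, fev_epsFun]
  have := φ.hom.naturality (homOfLE (le_top : V.unop ≤ ⊤)).op
  exact congrArg (fun t => t.hom m) this

lemma etaHom_naturality {M M' : CohTop.Ab S} (φ : M ⟶ M') :
    etaHom f M ≫ (TT f ⋙ ChDer.S0.{u}).map φ = φ.hom.app (op ⊤) ≫ etaHom f M' := by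
  unfold etaHom
  change (liftC f M ≫ ((TT f).obj M).homologyπ 0) ≫
    HomologicalComplex.homologyMap ((TT f).map φ) 0 = _
  rw [Category.assoc, HomologicalComplex.homologyπ_naturality, ← Category.assoc, ← Category.assoc]
  congr 1
  rw [← cancel_mono (((TT f).obj M').iCycles 0), Category.assoc, Category.assoc,
    HomologicalComplex.cyclesMap_i, ← Category.assoc, liftC_i, liftC_i]
  exact epsHom_naturality f φ

end Eta

end Groth.Agent.Lib.Helper4.LHCech
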