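import Groth.Agent.Lib.Helper4.LHSec
import Groth.Prelude.Def_CohPull
import Mathlib.Topology.Sheaves.SheafCondition.UniqueGluing
import Mathlib.CategoryTheory.Sites.LocallyBijective
import Mathlib.Topology.Sheaves.Functors

set_option autoImplicit false
open CategoryTheory CategoryTheory.Limits Opposite TopologicalSpace

namespace Groth.Agent.Lib.Helper4.LHPull
universe u
open LHSec

variable {T S : TopCat.{u}} (g : T ⟶ S)

noncomputable def NpreFun : CohTop.Ab S ⥤ ((Opens T)ᵒᵖ ⥤ AddCommGrpCat.{u}) :=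
  sheafToPresheaf _ _ ⋙ preadditiveYoneda ⋙ (Functor.whiskeringLeft _ _ _).obj (Zh g).op

variable {g}

abbrev Nsec (M : CohTop.Ab S) (U : Opens T) : Type u := ZhObj g U ⟶ M.obj

lemma Npre_map_apply (M : CohTop.Ab S) {U U' : Opens T} (j : U' ⟶ U) (τ : Nsec (g := g) M U) :
    (((NpreFun g).obj M).map j.op).hom τ = (Zh g).map j ≫ τ := rfl

lemma fev_res (M : CohTop.Ab S) {U U' : Opens T} (j : U' ⟶ U) (τ : Nsec (g := g) M U)
    {V : (Opens S)ᵒᵖ} (s : (hU g U').obj V) :
    fev (show Nsec (g := g) M U' from (((NpreFun g).obj M).map j.op).hom τ) s =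
      fev τ (((hFun g).map j).app V s) :=
  fev_whisker ((hFun g).map j) τ s

lemma NpreFun_map_apply {M M' : CohTop.Ab S} (φ : M ⟶ M') (U : Opens T) (τ : Nsec (g := g) M U) :
    (((NpreFun g).map φ).app (op U)).hom τ = τ ≫ φ.hom := rfl

section Sheaf

variable (M : CohTop.Ab S) {ι : Type u} (U : ι → Opens T)
  (sf : ∀ i, Nsec (g := g) M (U i))
  (hsf : ∀ i j, (Zh g).map (Opens.infLELeft (U i) (U j)) ≫ sf i =
    (Zh g).map (Opens.infLERight (U i) (U j)) ≫ sf j)

include hsf in
lemma key {i j : ι} {V₀ : Opens S} (a : Sec g (U i) V₀) (b : Sec g (U j) V₀)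
    (hab : ∀ v, a.1 v = b.1 v) : fev (sf i) (V := op V₀) a = fev (sf j) (V := op V₀) b := by
  let sij : Sec g (U i ⊓ U j) V₀ := a.resTo (le_refl V₀) (fun v => ⟨a.2.2 v, by
    have := b.2.2 v
    rw [← hab] at this
    exact this⟩)
  have hb : b = ((hFun g).map (Opens.infLERight (U i) (U j))).app (op V₀) sij :=
    Sec.ext' (fun v => (hab v).symm)
  have e1 : fev ((Zh g).map (Opens.infLELeft (U i) (U j)) ≫ sf i) (V := op V₀) sij =
      fev (sf i) (V := op V₀) a :=
    fev_whisker ((hFun g).map (Opens.infLELeft (U i) (U j))) (sf i) (V := op V₀) sij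
  have e2 : fev ((Zh g).map (Opens.infLERight (U i) (U j)) ≫ sf j) (V := op V₀) sij =
      fev (sf j) (V := op V₀) b := by
    rw [hb]
    exact fev_whisker ((hFun g).map (Opens.infLERight (U i) (U j))) (sf j) (V := op V₀) sij
  have e3 := congrArg (fun t : ZhObj g (U i ⊓ U j) ⟶ M.obj => fev t (V := op V₀) sij) (hsf i j)
  exact e1.symm.trans (e3.trans e2)

lemma cover_pre {V : Opens S} (s : Sec g (iSup U) V) : V ≤ iSup (fun i => s.pre (U i)) := by
  intro v hv
  have h1 : s.1 ⟨v, hv⟩ ∈ iSup U := s.2.2 _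
  obtain ⟨i, hi⟩ := Opens.mem_iSup.1 h1
  exact Opens.mem_iSup.2 ⟨i, Sec.mem_pre.2 ⟨hv, hi⟩⟩

include hsf in
lemma compat_pre {V : Opens S} (s : Sec g (iSup U) V) :
    TopCat.Presheaf.IsCompatible (X := S) M.obj (fun i => s.pre (U i))
      (fun i => fev (sf i) (V := op (s.pre (U i))) (s.cut (U i))) := by
  intro i j
  have e1 := fev_naturality (sf i) (Opens.infLELeft (s.pre (U i)) (s.pre (U j))).op (s.cut (U i))
  have e2 := fev_naturality (sf j) (Opens.infLERight (s.pre (U i)) (s.pre (U j))).op (s.cut (U j))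
  refine e1.trans (Eq.trans ?_ e2.symm)
  exact key M U sf hsf _ _ (fun v => rfl)

include hsf in
lemma exists_glue {V : Opens S} (s : Sec g (iSup U) V) :
    ∃! m : M.obj.obj (op V), ∀ i, M.obj.map (homOfLE (s.pre_le (U i))).op m =
      fev (sf i) (V := op (s.pre (U i))) (s.cut (U i)) :=
  TopCat.Sheaf.existsUnique_gluing' (F := M) (fun i => s.pre (U i)) V
    (fun i => homOfLE (s.pre_le (U i))) (cover_pre U s) _ (compat_pre M U sf hsf s)

noncomputable def glue {V : Opens S} (s : Sec g (iSup U) V) : M.obj.obj (op V) :=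
  (exists_glue M U sf hsf s).choose

lemma glue_spec {V : Opens S} (s : Sec g (iSup U) V) (i : ι) :
    M.obj.map (homOfLE (s.pre_le (U i))).op (glue M U sf hsf s) =
      fev (sf i) (V := op (s.pre (U i))) (s.cut (U i)) :=
  (exists_glue M U sf hsf s).choose_spec.1 i

lemma glue_uniq {V : Opens S} (s : Sec g (iSup U) V) (m : M.obj.obj (op V))
    (hm : ∀ i, M.obj.map (homOfLE (s.pre_le (U i))).op m =
      fev (sf i) (V := op (s.pre (U i))) (s.cut (U i))) : m = glue M U sf hsf s :=
  (exists_glue M U sf hsf s).choose_spec.2 m hm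

lemma map_map_eq {V₁ V₂ V₃ : Opens S} (a : V₂ ⟶ V₁) (b : V₃ ⟶ V₂) (c : V₃ ⟶ V₁)
    (m : M.obj.obj (op V₁)) : M.obj.map b.op (M.obj.map a.op m) = M.obj.map c.op m := by
  rw [← ConcreteCategory.comp_apply, ← M.obj.map_comp]
  rfl

lemma glue_naturality (V V' : (Opens S)ᵒᵖ) (i₀ : V ⟶ V') (s : (hU g (iSup U)).obj V) :
    (M.obj.map i₀).hom (glue M U sf hsf (V := V.unop) s) =
      glue M U sf hsf (V := V'.unop) ((hU g (iSup U)).map i₀ s) := by
  apply glue_uniq
  intro i
  have hle : Sec.pre (V := V'.unop) ((hU g (iSup U)).map i₀ s) (U i) ≤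
      Sec.pre (V := V.unop) s (U i) := by
    intro x hx
    obtain ⟨hx', h⟩ := Sec.mem_pre.1 hx
    exact Sec.mem_pre.2 ⟨leOfHom i₀.unop hx', h⟩
  have e1 : M.obj.map (homOfLE (Sec.pre_le (V := V'.unop) ((hU g (iSup U)).map i₀ s) (U i))).op
      ((M.obj.map i₀).hom (glue M U sf hsf (V := V.unop) s)) =
      M.obj.map (homOfLE hle).op (M.obj.map (homOfLE (Sec.pre_le (V := V.unop) s (U i))).op
        (glue M U sf hsf (V := V.unop) s)) :=
    (map_map_eq M i₀.unop _ (homOfLE (hle.trans (Sec.pre_le (V := V.unop) s (U i)))) _).trans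
      (map_map_eq M _ _ _ _).symm
  rw [e1, glue_spec]
  exact fev_naturality (sf i) (homOfLE hle).op (Sec.cut (V := V.unop) s (U i))

noncomputable def glued : Nsec (g := g) M (iSup U) :=
  fmk (fun V s => glue M U sf hsf (V := V.unop) s) (glue_naturality M U sf hsf)

lemma fev_glued {V : Opens S} (s : Sec g (iSup U) V) :
    fev (glued M U sf hsf) (V := op V) s = glue M U sf hsf s :=
  fev_fmk _ _ _

lemma glued_isGluing (i : ι) :
    (Zh g).map (Opens.leSupr U i) ≫ glued M U sf hsf = sf i := by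
  apply free_hom_ext
  intro V s
  have e0 : fev ((Zh g).map (Opens.leSupr U i) ≫ glued M U sf hsf) s =
      fev (glued M U sf hsf) (((hFun g).map (Opens.leSupr U i)).app V s) :=
    fev_whisker ((hFun g).map (Opens.leSupr U i)) (glued M U sf hsf) s
  refine e0.trans ?_
  refine (fev_glued M U sf hsf (V := V.unop) _).trans ?_
  symm
  apply glue_uniq
  intro j
  have e1 := fev_naturality (sf i)
    (homOfLE (Sec.pre_le (V := V.unop) (((hFun g).map (Opens.leSupr U i)).app V s) (U j))).op s
  refine e1.trans ?_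
  exact key M U sf hsf _ _ (fun v => rfl)

lemma glued_uniq (τ : Nsec (g := g) M (iSup U))
    (hτ : ∀ i, (Zh g).map (Opens.leSupr U i) ≫ τ = sf i) : τ = glued M U sf hsf := by
  apply free_hom_ext
  intro V s
  refine Eq.trans ?_ (fev_glued M U sf hsf (V := V.unop) s).symm
  apply glue_uniq
  intro i
  have e1 := fev_naturality τ (homOfLE (Sec.pre_le (V := V.unop) s (U i))).op s
  refine e1.trans ?_
  have e2 := fev_whisker ((hFun g).map (Opens.leSupr U i)) τ
    (V := op (Sec.pre (V := V.unop) s (U i))) (Sec.cut (V := V.unop) s (U i))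
  have e3 := congrArg (fun t : ZhObj g (U i) ⟶ M.obj =>
    fev t (V := op (Sec.pre (V := V.unop) s (U i))) (Sec.cut (V := V.unop) s (U i))) (hτ i)
  exact e2.symm.trans e3

end Sheaf

theorem isSheaf_Npre (M : CohTop.Ab S) :
    Presheaf.IsSheaf (Opens.grothendieckTopology T) ((NpreFun g).obj M) := by
  have : TopCat.Presheaf.IsSheaf (X := T) ((NpreFun g).obj M) := by
    rw [TopCat.Presheaf.isSheaf_iff_isSheafUniqueGluing]
    intro ι U sf hsf
    have hsf' : ∀ i j, (Zh g).map (Opens.infLELeft (U i) (U j)) ≫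
        (show Nsec (g := g) M (U i) from sf i) =
        (Zh g).map (Opens.infLERight (U i) (U j)) ≫ (show Nsec (g := g) M (U j) from sf j) := hsf
    exact ⟨glued M U sf hsf', fun i => glued_isGluing M U sf hsf' i,
      fun τ hτ => glued_uniq M U sf hsf' τ hτ⟩
  exact this

variable (g) in
noncomputable def Nfun : CohTop.Ab S ⥤ CohTop.Ab T :=
  ObjectProperty.lift _ (NpreFun g) (fun M => isSheaf_Npre M)

lemma Nfun_comp_forget : Nfun g ⋙ sheafToPresheaf _ _ = NpreFun g := rfl

section Phi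

variable (hg : IsOpenMap g.hom)

variable (g) in
noncomputable def Pfun : CohTop.Ab S ⥤ ((Opens T)ᵒᵖ ⥤ AddCommGrpCat.{u}) :=
  sheafToPresheaf _ _ ⋙ (Functor.whiskeringLeft _ _ _).obj hg.functor.op

lemma map_map_eq' (M : CohTop.Ab S) {V₁ V₂ V₃ : (Opens S)ᵒᵖ} (a : V₁ ⟶ V₂) (b : V₂ ⟶ V₃)
    (c : V₁ ⟶ V₃) (m : M.obj.obj V₁) :
    (M.obj.map b).hom ((M.obj.map a).hom m) = (M.obj.map c).hom m := by
  have : a ≫ b = c := Subsingleton.elim _ _
  rw [← this, M.obj.map_comp]
  rfl

noncomputable def phiFun (M : CohTop.Ab S) (U : Opens T) (m : M.obj.obj (op (hg.functor.obj U))) :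
    Nsec (g := g) M U :=
  fmk (fun V s => (M.obj.map (homOfLE (Sec.sec_le hg (V := V.unop) s)).op).hom m)
    (fun V V' i s => map_map_eq' M _ _ _ m)

lemma fev_phiFun (M : CohTop.Ab S) (U : Opens T) (m : M.obj.obj (op (hg.functor.obj U)))
    {V : (Opens S)ᵒᵖ} (s : (hU g U).obj V) :
    fev (phiFun hg M U m) s = (M.obj.map (homOfLE (Sec.sec_le hg (V := V.unop) s)).op).hom m :=
  fev_fmk _ _ _

noncomputable def phiApp (M : CohTop.Ab S) (U : Opens T) :
    M.obj.obj (op (hg.functor.obj U)) ⟶ AddCommGrpCat.of (Nsec (g := g) M U) :=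
  AddCommGrpCat.ofHom
    { toFun := phiFun hg M U
      map_zero' := free_hom_ext (fun V s => by
        rw [fev_phiFun, map_zero]
        rfl)
      map_add' := fun m m' => free_hom_ext (fun V s => by
        rw [fev_add, fev_phiFun, fev_phiFun, fev_phiFun, map_add]) }

lemma phiApp_apply (M : CohTop.Ab S) (U : Opens T) (m : M.obj.obj (op (hg.functor.obj U))) :
    (phiApp hg M U).hom m = phiFun hg M U m := rfl

noncomputable def phiM (M : CohTop.Ab S) : (Pfun g hg).obj M ⟶ (NpreFun g).obj M where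
  app U := phiApp hg M U.unop
  naturality U U' j := by
    apply AddCommGrpCat.hom_ext
    apply AddMonoidHom.ext
    intro m
    change phiFun hg M U'.unop ((M.obj.map (hg.functor.map j.unop).op).hom m) =
      (Zh g).map j.unop ≫ phiFun hg M U.unop m
    apply free_hom_ext
    intro V s
    have e2 := fev_whisker ((hFun g).map j.unop) (phiFun hg M U.unop m) s
    refine Eq.trans ?_ e2.symm
    refine (fev_phiFun hg M U'.unop _ s).trans ?_
    refine Eq.trans ?_ (fev_phiFun hg M U.unop m (((hFun g).map j.unop).app V s)).symm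
    exact map_map_eq' M _ _ _ m

variable (g) in
noncomputable def phi : Pfun g hg ⟶ NpreFun g where
  app M := phiM hg M
  naturality M M' ψ := by
    ext U : 2
    apply AddCommGrpCat.hom_ext
    apply AddMonoidHom.ext
    intro m
    change phiFun hg M' U.unop ((ψ.hom.app (op (hg.functor.obj U.unop))).hom m) =
      phiFun hg M U.unop m ≫ ψ.hom
    apply free_hom_ext
    intro V s
    refine (fev_phiFun hg M' U.unop _ s).trans ?_
    refine Eq.trans ?_ (fev_comp (phiFun hg M U.unop m) ψ.hom s).symm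
    rw [fev_phiFun]
    have := ψ.hom.naturality (homOfLE (Sec.sec_le hg (V := V.unop) s)).op
    exact (congrArg (fun t => t.hom m) this).symm

end Phi

section LocBij

variable (hg : IsOpenMap g.hom)

noncomputable def secUp {U W : Opens T} (hWU : W ≤ U) (hW : Set.InjOn g.hom (W : Set T)) :
    Sec g U (hg.functor.obj W) :=
  ((hFun g).map (homOfLE hWU)).app (op (hg.functor.obj W)) (Sec.inv g hg W hW)

lemma fev_phiFun_secUp (M : CohTop.Ab S) {U W : Opens T} (hWU : W ≤ U)
    (hW : Set.InjOn g.hom (W : Set T)) (m : M.obj.obj (op (hg.functor.obj U))) :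
    fev (phiFun hg M U m) (V := op (hg.functor.obj W)) (secUp hg hWU hW) =
      (M.obj.map (hg.functor.map (homOfLE hWU)).op).hom m :=
  fev_phiFun hg M U m (V := op (hg.functor.obj W)) (secUp hg hWU hW)

variable (hinj : ∀ t : T, ∃ W : Opens T, t ∈ W ∧ Set.InjOn g.hom (W : Set T))

include hinj in
lemma locInj (M : CohTop.Ab S) :
    Presheaf.IsLocallyInjective (Opens.grothendieckTopology T) (phiM hg M) where
  equalizerSieve_mem {X} x y h := by
    intro t ht
    obtain ⟨W, htW, hW⟩ := hinj t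
    have hW' : Set.InjOn g.hom ((W ⊓ X.unop : Opens T) : Set T) :=
      hW.mono Set.inter_subset_left
    refine ⟨W ⊓ X.unop, homOfLE inf_le_right, ?_, ⟨htW, ht⟩⟩
    have h' := congrArg (fun τ : Nsec (g := g) M X.unop =>
      fev τ (V := op (hg.functor.obj (W ⊓ X.unop))) (secUp hg inf_le_right hW')) h
    exact (fev_phiFun_secUp hg M inf_le_right hW' x).symm.trans
      (h'.trans (fev_phiFun_secUp hg M inf_le_right hW' y))

include hinj in
lemma locSurj (M : CohTop.Ab S) :
    Presheaf.IsLocallySurjective (Opens.grothendieckTopology T) (phiM hg M) where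
  imageSieve_mem {U} τ := by
    intro t ht
    obtain ⟨W, htW, hW⟩ := hinj t
    have hW' : Set.InjOn g.hom ((W ⊓ U : Opens T) : Set T) :=
      hW.mono Set.inter_subset_left
    refine ⟨W ⊓ U, homOfLE inf_le_right, ?_, ⟨htW, ht⟩⟩
    refine ⟨fev (show Nsec (g := g) M U from τ) (V := op (hg.functor.obj (W ⊓ U)))
      (secUp hg inf_le_right hW'), ?_⟩
    change phiFun hg M (W ⊓ U) _ = (Zh g).map (homOfLE inf_le_right) ≫
      (show Nsec (g := g) M U from τ)
    apply free_hom_ext
    intro V s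
    refine (fev_phiFun hg M (W ⊓ U) _ s).trans ?_
    have e2 := fev_whisker ((hFun g).map (homOfLE (inf_le_right : W ⊓ U ≤ U)))
      (show Nsec (g := g) M U from τ) s
    refine Eq.trans ?_ e2.symm
    refine (fev_naturality (show Nsec (g := g) M U from τ)
      (homOfLE (Sec.sec_le hg (V := V.unop) s)).op (secUp hg inf_le_right hW')).trans ?_
    congr 1
    have : (hU g (W ⊓ U)).map (homOfLE (Sec.sec_le hg (V := V.unop) s)).op
        (Sec.inv g hg (W ⊓ U) hW') = s := Sec.eq_of_injOn hW' _ _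
    exact congrArg (fun r => ((hFun g).map (homOfLE (inf_le_right : W ⊓ U ≤ U))).app V r) this

end LocBij

section Iso

variable (hg : IsOpenMap g.hom)
  (hinj : ∀ t : T, ∃ W : Opens T, t ∈ W ∧ Set.InjOn g.hom (W : Set T))

include hinj in
lemma isIso_map_phiM (M : CohTop.Ab S) :
    IsIso ((presheafToSheaf (Opens.grothendieckTopology T) AddCommGrpCat.{u}).map (phiM hg M)) := by
  rw [← GrothendieckTopology.W_iff]
  have := locInj hg hinj M
  have := locSurj hg hinj M
  exact GrothendieckTopology.W_of_isLocallyBijective _ _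

include hinj in
lemma isIso_whisker_phi :
    IsIso (Functor.whiskerRight (phi g hg)
      (presheafToSheaf (Opens.grothendieckTopology T) AddCommGrpCat.{u})) := by
  rw [NatTrans.isIso_iff_isIso_app]
  intro M
  exact isIso_map_phiM hg hinj M

variable (g) in
noncomputable def pullIso : CohTop.pull g ≅ Nfun g :=
  have hg' : IsOpenMap g := hg
  TopCat.Sheaf.pullbackIso AddCommGrpCat.{u} g ≪≫
    Functor.isoWhiskerLeft (sheafToPresheaf _ _)
      (Functor.isoWhiskerRight hg'.pullbackIso (presheafToSheaf _ _)) ≪≫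
    @asIso _ _ _ _ (Functor.whiskerRight (phi g hg)
      (presheafToSheaf (Opens.grothendieckTopology T) AddCommGrpCat.{u}))
      (isIso_whisker_phi hg hinj) ≪≫
    Functor.isoWhiskerLeft (Nfun g)
      (asIso (sheafificationAdjunction (Opens.grothendieckTopology T) AddCommGrpCat.{u}).counit) ≪≫
    Functor.rightUnitor _

end Iso

end Groth.Agent.Lib.Helper4.LHPull
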