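import Groth.Prelude.Def_CohTop
import Mathlib.Algebra.Category.Grp.Adjunctions
import Mathlib.CategoryTheory.Preadditive.Yoneda.Basic

set_option autoImplicit false
open CategoryTheory CategoryTheory.Limits Opposite TopologicalSpace

namespace Groth.Agent.Lib.Helper4.LHSec
universe u

section Free

variable {C : Type u} [Category.{u} C] {h h' : C ⥤ Type u} {M M' : C ⥤ AddCommGrpCat.{u}}

def fev (τ : h ⋙ AddCommGrpCat.free ⟶ M) {V : C} (s : h.obj V) : M.obj V :=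
  (τ.app V).hom (FreeAbelianGroup.of s)

lemma fev_naturality (τ : h ⋙ AddCommGrpCat.free ⟶ M) {V V' : C} (i : V ⟶ V') (s : h.obj V) :
    (M.map i).hom (fev τ s) = fev τ (h.map i s) := by
  have h1 := τ.naturality i
  have h2 := congrArg (fun t => t.hom (FreeAbelianGroup.of s)) h1
  simp only [AddCommGrpCat.hom_comp, AddMonoidHom.coe_comp, Function.comp_apply] at h2
  unfold fev
  rw [← h2]
  congr 1

lemma free_hom_ext {τ τ' : h ⋙ AddCommGrpCat.free ⟶ M}
    (H : ∀ (V : C) (s : h.obj V), fev τ s = fev τ' s) : τ = τ' := by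
  ext V : 2
  apply AddCommGrpCat.hom_ext
  apply FreeAbelianGroup.lift_ext
  intro s
  exact H V s

def fmk (m : ∀ V : C, h.obj V → M.obj V)
    (hm : ∀ (V V' : C) (i : V ⟶ V') (s : h.obj V), (M.map i).hom (m V s) = m V' (h.map i s)) :
    h ⋙ AddCommGrpCat.free ⟶ M where
  app V := AddCommGrpCat.ofHom (FreeAbelianGroup.lift (m V))
  naturality V V' i := by
    apply AddCommGrpCat.hom_ext
    apply FreeAbelianGroup.lift_ext
    intro s
    have e1 : ((h ⋙ AddCommGrpCat.free).map i).hom (FreeAbelianGroup.of s) =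
        FreeAbelianGroup.of (h.map i s) := FreeAbelianGroup.map_of_apply s
    change FreeAbelianGroup.lift (m V')
        (((h ⋙ AddCommGrpCat.free).map i).hom (FreeAbelianGroup.of s)) =
      (M.map i).hom (FreeAbelianGroup.lift (m V) (FreeAbelianGroup.of s))
    rw [e1, FreeAbelianGroup.lift_apply_of, FreeAbelianGroup.lift_apply_of]
    exact (hm V V' i s).symm

lemma fev_fmk (m : ∀ V : C, h.obj V → M.obj V)
    (hm : ∀ (V V' : C) (i : V ⟶ V') (s : h.obj V), (M.map i).hom (m V s) = m V' (h.map i s))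
    {V : C} (s : h.obj V) : fev (fmk m hm) s = m V s := by
  unfold fev fmk
  exact FreeAbelianGroup.lift_apply_of _ _

lemma fev_add (τ τ' : h ⋙ AddCommGrpCat.free ⟶ M) {V : C} (s : h.obj V) :
    fev (τ + τ') s = fev τ s + fev τ' s := rfl

lemma fev_zero {V : C} (s : h.obj V) :
    fev (0 : h ⋙ AddCommGrpCat.free ⟶ M) s = 0 := rfl

lemma fev_comp (τ : h ⋙ AddCommGrpCat.free ⟶ M) (φ : M ⟶ M') {V : C} (s : h.obj V) :
    fev (τ ≫ φ) s = (φ.app V).hom (fev τ s) := rfl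

lemma fev_whisker (α : h' ⟶ h) (τ : h ⋙ AddCommGrpCat.free ⟶ M) {V : C} (s : h'.obj V) :
    fev (Functor.whiskerRight α AddCommGrpCat.free ≫ τ) s = fev τ (α.app V s) := by
  unfold fev
  simp only [NatTrans.comp_app, Functor.whiskerRight_app, AddCommGrpCat.hom_comp,
    AddMonoidHom.coe_comp, Function.comp_apply]
  congr 1

end Free

section Sec

variable {T S : TopCat.{u}} (g : T ⟶ S)

def Sec (U : Opens T) (V : Opens S) : Type u :=
  {s : C(V, T) // (∀ v : V, g.hom (s v) = v.1) ∧ ∀ v : V, s v ∈ U}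

namespace Sec

variable {g} {U U' U'' : Opens T} {V V' V'' : Opens S}

lemma ext' {s s' : Sec g U V} (h : ∀ v, s.1 v = s'.1 v) : s = s' :=
  Subtype.ext (ContinuousMap.ext h)

def resTo (s : Sec g U V) (h : V' ≤ V) (hU : ∀ v : V', s.1 ⟨v.1, h v.2⟩ ∈ U') : Sec g U' V' :=
  ⟨⟨fun v => s.1 ⟨v.1, h v.2⟩, s.1.continuous.comp (continuous_subtype_val.subtype_mk _)⟩,
    fun v => s.2.1 ⟨v.1, h v.2⟩, hU⟩

lemma resTo_apply (s : Sec g U V) (h : V' ≤ V) (hU : ∀ v : V', s.1 ⟨v.1, h v.2⟩ ∈ U')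
    (v : V') : (s.resTo h hU).1 v = s.1 ⟨v.1, h v.2⟩ := rfl

lemma resTo_resTo (s : Sec g U V) (h : V' ≤ V) (hU : ∀ v : V', s.1 ⟨v.1, h v.2⟩ ∈ U')
    (h' : V'' ≤ V') (hU' : ∀ v : V'', (s.resTo h hU).1 ⟨v.1, h' v.2⟩ ∈ U'') :
    (s.resTo h hU).resTo h' hU' = s.resTo (h'.trans h) hU' := rfl

lemma resTo_self (s : Sec g U V) (hU : ∀ v : V, s.1 ⟨v.1, le_refl V v.2⟩ ∈ U) :
    s.resTo (le_refl V) hU = s := rfl

lemma sec_le (hg : IsOpenMap g.hom) (s : Sec g U V) : V ≤ hg.functor.obj U := by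
  intro v hv
  exact ⟨s.1 ⟨v, hv⟩, s.2.2 _, s.2.1 _⟩

lemma eq_of_injOn (hU : Set.InjOn g.hom (U : Set T)) (s s' : Sec g U V) : s = s' := by
  apply ext'
  intro v
  apply hU (s.2.2 v) (s'.2.2 v)
  rw [s.2.1, s'.2.1]

def pre (s : Sec g U V) (U' : Opens T) : Opens S :=
  ⟨Subtype.val '' (s.1 ⁻¹' (U' : Set T)),
    V.2.isOpenMap_subtype_val _ (U'.2.preimage s.1.continuous)⟩

lemma mem_pre {s : Sec g U V} {x : S} : x ∈ s.pre U' ↔ ∃ hx : x ∈ V, s.1 ⟨x, hx⟩ ∈ U' := by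
  constructor
  · rintro ⟨v, hv, rfl⟩
    exact ⟨v.2, hv⟩
  · rintro ⟨hx, h⟩
    exact ⟨⟨x, hx⟩, h, rfl⟩

lemma pre_le (s : Sec g U V) (U' : Opens T) : s.pre U' ≤ V := by
  intro x hx
  exact (mem_pre.1 hx).1

def cut (s : Sec g U V) (U' : Opens T) : Sec g U' (s.pre U') :=
  s.resTo (s.pre_le U') (fun v => (mem_pre.1 v.2).2)

end Sec

def hU (U : Opens T) : (Opens S)ᵒᵖ ⥤ Type u where
  obj V := Sec g U V.unop
  map {V V'} i := ↾(fun s => Sec.resTo s (leOfHom i.unop) (fun v => s.2.2 _))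
  map_id V := rfl
  map_comp i j := rfl

def hFun : Opens T ⥤ ((Opens S)ᵒᵖ ⥤ Type u) where
  obj U := hU g U
  map {U U'} j :=
    { app := fun V => ↾(fun s => Sec.resTo s (le_refl V.unop) (fun v => leOfHom j (s.2.2 _)))
      naturality := fun V V' i => rfl }
  map_id U := rfl
  map_comp i j := rfl

abbrev ZhObj (U : Opens T) : (Opens S)ᵒᵖ ⥤ AddCommGrpCat.{u} := hU g U ⋙ AddCommGrpCat.free

def Zh : Opens T ⥤ ((Opens S)ᵒᵖ ⥤ AddCommGrpCat.{u}) where
  obj U := ZhObj g U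
  map {U U'} j := Functor.whiskerRight ((hFun g).map j) AddCommGrpCat.free
  map_id U := by
    rw [(hFun g).map_id]
    exact Functor.whiskerRight_id' _
  map_comp i j := by
    rw [(hFun g).map_comp]
    exact Functor.whiskerRight_comp _ _ _

noncomputable def Sec.inv (hg : IsOpenMap g.hom) (W : Opens T) (hW : Set.InjOn g.hom (W : Set T)) :
    Sec g W (hg.functor.obj W) := by
  let sfun : hg.functor.obj W → T := fun v => (v.2 : ∃ t, t ∈ (W : Set T) ∧ g.hom t = v.1).choose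
  have h1 : ∀ v, sfun v ∈ W := fun v =>
    (v.2 : ∃ t, t ∈ (W : Set T) ∧ g.hom t = v.1).choose_spec.1
  have h2 : ∀ v, g.hom (sfun v) = v.1 := fun v =>
    (v.2 : ∃ t, t ∈ (W : Set T) ∧ g.hom t = v.1).choose_spec.2
  have key : ∀ O : Set T, sfun ⁻¹' O = Subtype.val ⁻¹' (g.hom '' ((W : Set T) ∩ O)) := by
    intro O
    ext v
    constructor
    · intro hv
      exact ⟨sfun v, ⟨h1 v, hv⟩, h2 v⟩
    · rintro ⟨t, ⟨ht1, ht2⟩, ht3⟩
      have : sfun v = t := hW (h1 v) ht1 ((h2 v).trans ht3.symm)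
      change sfun v ∈ O
      rw [this]
      exact ht2
  refine ⟨⟨sfun, continuous_def.2 fun O hO => ?_⟩, h2, h1⟩
  rw [key]
  exact (hg _ (W.2.inter hO)).preimage continuous_subtype_val

end Sec

end Groth.Agent.Lib.Helper4.LHSec
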