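import Mathlib.Algebra.Group.Subgroup.Basic
import Mathlib.Algebra.Group.Prod
import Mathlib.Data.Finite.Prod
import Mathlib.Tactic.Abel

set_option autoImplicit false

namespace Groth.Agent.Lib.Helper4.LocConst

theorem alg_ext {E B M N : Type*} [AddCommGroup E] [AddCommGroup B] [AddCommGroup M]
    [AddCommGroup N] (ι : M →+ E) (π : E →+ B) (β : N →+ B) (hπι : ∀ m, π (ι m) = 0)
    (e : N → E) (he : ∀ n, π (e n) = β n) (μ : N → N → M)
    (hμ : ∀ n n', e n + e n' - e (n + n') = ι (μ n n')) :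
    ∃ Q : AddSubgroup (E × N), (∀ m, (ι m, (0 : N)) ∈ Q) ∧ (∀ q ∈ Q, π q.1 = β q.2) ∧
      (∀ n, ∃ q ∈ Q, q.2 = n) ∧ (∀ q ∈ Q, q.2 = 0 → ∃ m, q.1 = ι m) ∧
      (Finite M → Finite N → Finite Q) := by
  have he0 : e 0 = ι (μ 0 0) := by
    have := hμ 0 0
    rw [add_zero, add_sub_cancel_right] at this
    exact this
  let Q : AddSubgroup (E × N) :=
    { carrier := {x | ∃ m, x.1 = ι m + e x.2}
      zero_mem' := ⟨-μ 0 0, by
        change (0 : E) = ι (-μ 0 0) + e 0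
        rw [he0, map_neg, neg_add_cancel]⟩
      add_mem' := by
        rintro x y ⟨m, hm⟩ ⟨m', hm'⟩
        refine ⟨m + m' + μ x.2 y.2, ?_⟩
        change x.1 + y.1 = ι (m + m' + μ x.2 y.2) + e (x.2 + y.2)
        rw [hm, hm', map_add, map_add, ← hμ]
        abel
      neg_mem' := by
        rintro x ⟨m, hm⟩
        refine ⟨-m - μ 0 0 - μ x.2 (-x.2), ?_⟩
        change -x.1 = ι (-m - μ 0 0 - μ x.2 (-x.2)) + e (-x.2)
        have h1 := hμ x.2 (-x.2)
        rw [add_neg_cancel, he0] at h1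
        rw [hm, map_sub, map_sub, map_neg, ← h1]
        abel }
  refine ⟨Q, ?_, ?_, ?_, ?_, ?_⟩
  · intro m
    refine ⟨m - μ 0 0, ?_⟩
    change ι m = ι (m - μ 0 0) + e 0
    rw [he0, map_sub, sub_add_cancel]
  · rintro q ⟨m, hm⟩
    rw [hm, map_add, hπι, zero_add, he]
  · intro n
    exact ⟨(e n, n), ⟨0, by simp⟩, rfl⟩
  · rintro q ⟨m, hm⟩ h0
    refine ⟨m + μ 0 0, ?_⟩
    rw [hm, h0, he0, map_add]
  · intro hM hN
    let f : M × N → Q := fun p => ⟨(ι p.1 + e p.2, p.2), ⟨p.1, rfl⟩⟩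
    refine Finite.of_surjective f ?_
    rintro ⟨⟨q1, q2⟩, ⟨m, hm⟩⟩
    refine ⟨(m, q2), ?_⟩
    apply Subtype.ext
    change (ι m + e q2, q2) = (q1, q2)
    rw [← hm]

end Groth.Agent.Lib.Helper4.LocConst
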