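import Mathlib.LinearAlgebra.Finsupp.LinearCombination
import Mathlib.RingTheory.Noetherian.Basic
import Mathlib.RingTheory.Finiteness.Basic
import Mathlib.LinearAlgebra.Prod
import Mathlib.RingTheory.Finiteness.Prod
import Mathlib.RingTheory.Finiteness.Cardinality

set_option autoImplicit false

namespace Groth.Agent.Lib.Helper4.LocConstMod

variable {Λ : Type*} [CommRing Λ]

theorem rel_lemma {E M N : Type*} [AddCommGroup E] [AddCommGroup M] [AddCommGroup N]
    [Module Λ E] [Module Λ M] [Module Λ N] (ι : M →ₗ[Λ] E) {r s : ℕ} (gen : Fin r → N)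
    (e : Fin r → E) (ρ : Fin s → (Fin r → Λ))
    (hρ : Submodule.span Λ (Set.range ρ) = LinearMap.ker (Fintype.linearCombination Λ gen))
    (h : ∀ k, ∃ m, Fintype.linearCombination Λ e (ρ k) = ι m) :
    ∀ l : Fin r → Λ, Fintype.linearCombination Λ gen l = 0 →
      ∃ m, Fintype.linearCombination Λ e l = ι m := by
  intro l hl
  have hmem : l ∈ Submodule.span Λ (Set.range ρ) := by
    rw [hρ]
    exact hl
  have hle : Submodule.span Λ (Set.range ρ) ≤
      Submodule.comap (Fintype.linearCombination Λ e) (LinearMap.range ι) := by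
    rw [Submodule.span_le]
    rintro _ ⟨k, rfl⟩
    obtain ⟨m, hm⟩ := h k
    exact ⟨m, hm.symm⟩
  obtain ⟨m, hm⟩ := hle hmem
  exact ⟨m, hm.symm⟩

theorem alg_ext_mod {E B M N : Type*} [AddCommGroup E] [AddCommGroup B] [AddCommGroup M]
    [AddCommGroup N] [Module Λ E] [Module Λ B] [Module Λ M] [Module Λ N]
    (ι : M →ₗ[Λ] E) (π : E →ₗ[Λ] B) (β : N →ₗ[Λ] B) (hπι : ∀ m, π (ι m) = 0)
    {r : ℕ} (gen : Fin r → N) (hgen : Submodule.span Λ (Set.range gen) = ⊤)
    (e : Fin r → E) (he : ∀ i, π (e i) = β (gen i))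
    (hR : ∀ l : Fin r → Λ, Fintype.linearCombination Λ gen l = 0 →
      ∃ m, Fintype.linearCombination Λ e l = ι m) :
    ∃ Q : Submodule Λ (E × N), (∀ m, (ι m, (0 : N)) ∈ Q) ∧ (∀ q ∈ Q, π q.1 = β q.2) ∧
      (∀ n, ∃ q ∈ Q, q.2 = n) ∧ (∀ q ∈ Q, q.2 = 0 → ∃ m, q.1 = ι m) ∧
      (Module.Finite Λ M → Module.Finite Λ Q) := by
  let Φ : (M × (Fin r → Λ)) →ₗ[Λ] (E × N) :=
    LinearMap.prod (LinearMap.coprod ι (Fintype.linearCombination Λ e))
      ((Fintype.linearCombination Λ gen).comp (LinearMap.snd Λ M (Fin r → Λ)))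
  have hΦ : ∀ m l, Φ (m, l) = (ι m + Fintype.linearCombination Λ e l,
      Fintype.linearCombination Λ gen l) := fun m l => rfl
  have hπe : ∀ l : Fin r → Λ, π (Fintype.linearCombination Λ e l) =
      β (Fintype.linearCombination Λ gen l) := by
    intro l
    rw [Fintype.linearCombination_apply, Fintype.linearCombination_apply, map_sum, map_sum]
    refine Finset.sum_congr rfl fun i _ => ?_
    rw [map_smul, map_smul, he]
  refine ⟨LinearMap.range Φ, ?_, ?_, ?_, ?_, ?_⟩
  · intro m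
    refine ⟨(m, 0), ?_⟩
    rw [hΦ, map_zero, map_zero, add_zero]
  · rintro _ ⟨⟨m, l⟩, rfl⟩
    rw [hΦ]
    change π (ι m + Fintype.linearCombination Λ e l) = β (Fintype.linearCombination Λ gen l)
    rw [map_add, hπι, zero_add, hπe]
  · intro n
    have hn : n ∈ LinearMap.range (Fintype.linearCombination Λ gen) := by
      rw [Fintype.range_linearCombination, hgen]
      trivial
    obtain ⟨l, hl⟩ := hn
    exact ⟨Φ (0, l), ⟨(0, l), rfl⟩, hl⟩
  · rintro _ ⟨⟨m, l⟩, rfl⟩ h0
    rw [hΦ] at h0 ⊢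
    obtain ⟨m', hm'⟩ := hR l h0
    refine ⟨m + m', ?_⟩
    change ι m + Fintype.linearCombination Λ e l = ι (m + m')
    rw [hm', map_add]
  · intro hM
    exact Module.Finite.range Φ

end Groth.Agent.Lib.Helper4.LocConstMod
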