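import Groth.Agent.Lib.Helper4.LocConstMod
import Groth.Prelude.Def_EtMod2
import Groth.Agent.Lib.Helper4.OverEt

set_option autoImplicit false
open CategoryTheory CategoryTheory.Limits AlgebraicGeometry Opposite
universe u

noncomputable section

namespace Groth.Agent.Lib.Helper4.LocConstMod

variable {Λ : Type (u + 1)} [CommRing Λ] {X : Scheme.{u}}

abbrev adjMapV (F : EtModW.Mod Λ X) (V : X.Etale) {M : (ModuleCat.{u + 1} Λ)}
    (a : M ⟶ F.obj.obj (op V)) :
    (constantSheaf (X.smallEtaleTopology.over V) (ModuleCat.{u + 1} Λ)).obj M ⟶ EtModW.restr Λ F V :=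
  adjMap (X.smallEtaleTopology.over V) Over.mkIdTerminal (EtModW.restr Λ F V) a

structure IsConstAt (F : EtModW.Mod Λ X) (V : X.Etale) {M : (ModuleCat.{u + 1} Λ)}
    (a : M ⟶ F.obj.obj (op V)) : Prop where
  inj : ∀ (W : X.Etale) (g : W ⟶ V) (m : M), F.obj.map g.op (a.hom m) = 0 →
    m = 0 ∨ ⊥ ∈ X.smallEtaleTopology W
  surj : ∀ (W : X.Etale) (g : W ⟶ V) (s : F.obj.obj (op W)),
    ∃ S ∈ X.smallEtaleTopology W, ∀ (Z : X.Etale) (h : Z ⟶ W), S h →
      ∃ m : M, F.obj.map h.op s = F.obj.map (h ≫ g).op (a.hom m)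

theorem from_eq {V : X.Etale} (Y : Over V) :
    (Over.mkIdTerminal (X := V)).from Y = Over.homMk Y.hom :=
  Over.mkIdTerminal.hom_ext _ _

theorem constMap_app_apply (F : EtModW.Mod Λ X) (V : X.Etale) {M : (ModuleCat.{u + 1} Λ)}
    (a : M ⟶ F.obj.obj (op V)) (Y : Over V) (m : M) :
    ((constMap (X.smallEtaleTopology.over V) Over.mkIdTerminal (EtModW.restr Λ F V) a).app (op Y)).hom m =
      F.obj.map Y.hom.op (a.hom m) := by
  rw [constMap_app, from_eq]
  rfl

theorem isIso_adjMapV_iff (F : EtModW.Mod Λ X) (V : X.Etale) {M : (ModuleCat.{u + 1} Λ)}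
    (a : M ⟶ F.obj.obj (op V)) : IsIso (adjMapV F V a) ↔ IsConstAt F V a := by
  rw [isIso_adjMap_iff]
  constructor
  · rintro ⟨h1, h2⟩
    refine ⟨?_, ?_⟩
    · intro W g m hm
      by_cases h0 : m = 0
      · exact Or.inl h0
      · right
        have := h1.equalizerSieve_mem (X := op (Over.mk g)) (m : M) (0 : M) (by
          erw [constMap_app_apply, constMap_app_apply]
          rw [map_zero, map_zero]
          exact hm)
        rw [GrothendieckTopology.mem_over_iff] at this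
        refine X.smallEtaleTopology.superset_covering ?_ this
        intro Z f hf
        rw [Sieve.overEquiv_iff] at hf
        exact (h0 hf).elim
    · intro W g s
      have := h2.imageSieve_mem (U := Over.mk g) s
      rw [GrothendieckTopology.mem_over_iff] at this
      refine ⟨_, this, ?_⟩
      intro Z h hh
      rw [Sieve.overEquiv_iff] at hh
      obtain ⟨t, ht⟩ := hh
      refine ⟨t, ?_⟩
      erw [constMap_app_apply] at ht
      exact ht.symm
  · rintro ⟨h1, h2⟩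
    refine ⟨⟨?_⟩, ⟨?_⟩⟩
    · intro Y x y hxy
      erw [constMap_app_apply, constMap_app_apply] at hxy
      have hsub : F.obj.map Y.unop.hom.op (a.hom (x - y)) = 0 := by
        rw [map_sub, map_sub, hxy, sub_self]
      rcases h1 _ Y.unop.hom (x - y) hsub with h0 | h0
      · have : x = y := sub_eq_zero.1 h0
        subst this
        rw [Presheaf.equalizerSieve_self_eq_top]
        exact GrothendieckTopology.top_mem _ _
      · rw [GrothendieckTopology.mem_over_iff]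
        refine X.smallEtaleTopology.superset_covering bot_le h0
    · intro Y s
      obtain ⟨S, hS, hS2⟩ := h2 Y.left Y.hom s
      refine GrothendieckTopology.superset_covering _ ?_
        (GrothendieckTopology.overEquiv_symm_mem_over _ Y S hS)
      intro Z f hf
      rw [Sieve.overEquiv_symm_iff] at hf
      obtain ⟨m, hm⟩ := hS2 _ f.left hf
      refine ⟨m, ?_⟩
      erw [constMap_app_apply]
      rw [← Over.w f]
      exact hm.symm

theorem adjMapV_comp_map {F G : EtModW.Mod Λ X} (φ : F ⟶ G) (V : X.Etale) {M : (ModuleCat.{u + 1} Λ)}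
    (a : M ⟶ F.obj.obj (op V)) :
    adjMapV F V a ≫ (X.smallEtaleTopology.overPullback (ModuleCat.{u + 1} Λ) V).map φ =
      adjMapV G V (a ≫ φ.hom.app (op V)) :=
  ((constantSheafAdj (X.smallEtaleTopology.over V) (ModuleCat.{u + 1} Λ)
    Over.mkIdTerminal).homEquiv_naturality_right_symm a
      ((X.smallEtaleTopology.overPullback (ModuleCat.{u + 1} Λ) V).map φ)).symm

theorem map_comp_adjMapV (F : EtModW.Mod Λ X) (V : X.Etale) {M M' : (ModuleCat.{u + 1} Λ)}
    (c : M' ⟶ M) (a : M ⟶ F.obj.obj (op V)) :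
    (constantSheaf (X.smallEtaleTopology.over V) (ModuleCat.{u + 1} Λ)).map c ≫ adjMapV F V a =
      adjMapV F V (c ≫ a) :=
  ((constantSheafAdj (X.smallEtaleTopology.over V) (ModuleCat.{u + 1} Λ)
    Over.mkIdTerminal).homEquiv_naturality_left_symm (Y := EtModW.restr Λ F V) c a).symm

theorem exists_isConstAt_of_iso (F : EtModW.Mod Λ X) (V : X.Etale) (M : (ModuleCat.{u + 1} Λ))
    (α : EtModW.restr Λ F V ≅
      (constantSheaf (X.smallEtaleTopology.over V) (ModuleCat.{u + 1} Λ)).obj M) :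
    ∃ a : M ⟶ F.obj.obj (op V), IsConstAt F V a := by
  refine ⟨(constantSheafAdj (X.smallEtaleTopology.over V) (ModuleCat.{u + 1} Λ)
    Over.mkIdTerminal).homEquiv M (EtModW.restr Λ F V) α.inv, ?_⟩
  rw [← isIso_adjMapV_iff]
  have : adjMapV F V ((constantSheafAdj (X.smallEtaleTopology.over V) (ModuleCat.{u + 1} Λ)
    Over.mkIdTerminal).homEquiv M (EtModW.restr Λ F V) α.inv) = α.inv := Equiv.symm_apply_apply _ _
  rw [this]
  infer_instance

def IsConstAt.iso {F : EtModW.Mod Λ X} {V : X.Etale} {M : (ModuleCat.{u + 1} Λ)}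
    {a : M ⟶ F.obj.obj (op V)} (h : IsConstAt F V a) :
    (constantSheaf (X.smallEtaleTopology.over V) (ModuleCat.{u + 1} Λ)).obj M ≅ EtModW.restr Λ F V :=
  haveI := (isIso_adjMapV_iff F V a).2 h
  asIso (adjMapV F V a)

theorem IsConstAt.restrict {F : EtModW.Mod Λ X} {V : X.Etale} {M : (ModuleCat.{u + 1} Λ)}
    {a : M ⟶ F.obj.obj (op V)} (h : IsConstAt F V a) {W : X.Etale} (g : W ⟶ V) :
    IsConstAt F W (a ≫ F.obj.map g.op) := by
  have key : ∀ (Z : X.Etale) (k : Z ⟶ W) (m : M),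
      F.obj.map k.op ((a ≫ F.obj.map g.op).hom m) = F.obj.map (k ≫ g).op (a.hom m) := by
    intro Z k m
    rw [op_comp, F.obj.map_comp]
    rfl
  refine ⟨?_, ?_⟩
  · intro Z k m hm
    rw [key] at hm
    exact h.inj Z (k ≫ g) m hm
  · intro Z k s
    obtain ⟨S, hS, hS2⟩ := h.surj Z (k ≫ g) s
    refine ⟨S, hS, ?_⟩
    intro Z' l hl
    obtain ⟨m, hm⟩ := hS2 Z' l hl
    refine ⟨m, ?_⟩
    rw [key, hm, Category.assoc]

theorem bot_mem_iff (W : X.Etale) : ⊥ ∈ X.smallEtaleTopology W ↔ IsEmpty W.left := by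
  rw [OverEt.mem_iff_forall_exists]
  constructor
  · intro h
    refine ⟨fun x => ?_⟩
    obtain ⟨_, _, _, hR, _⟩ := h x
    exact hR.elim
  · intro h x
    exact (h.false x).elim

theorem exists_common_sieve {W : X.Etale} {ι : Type*} [Finite ι]
    (P : ι → ∀ ⦃Z : X.Etale⦄, (Z ⟶ W) → Prop)
    (hP : ∀ i, ∃ S ∈ X.smallEtaleTopology W, ∀ (Z : X.Etale) (h : Z ⟶ W), S h → P i h) :
    ∃ S ∈ X.smallEtaleTopology W, ∀ (Z : X.Etale) (h : Z ⟶ W), S h → ∀ i, P i h := by
  classical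
  have := Fintype.ofFinite ι
  have key : ∀ s : Finset ι, ∃ S ∈ X.smallEtaleTopology W,
      ∀ (Z : X.Etale) (h : Z ⟶ W), S h → ∀ i ∈ s, P i h := by
    intro s
    induction s using Finset.induction_on with
    | empty => exact ⟨⊤, GrothendieckTopology.top_mem _ _, fun _ _ _ i hi => by simp at hi⟩
    | insert b t hb ih =>
      obtain ⟨S₁, hS₁, h₁⟩ := ih
      obtain ⟨S₂, hS₂, h₂⟩ := hP b
      refine ⟨S₁ ⊓ S₂, GrothendieckTopology.intersection_covering _ hS₁ hS₂, ?_⟩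
      intro Z h hh i hi
      rcases Finset.mem_insert.1 hi with rfl | hi
      · exact h₂ Z h hh.2
      · exact h₁ Z h hh.1 i hi
  obtain ⟨S, hS, h⟩ := key Finset.univ
  exact ⟨S, hS, fun Z k hk i => h Z k hk i (Finset.mem_univ i)⟩

theorem core {F G : EtModW.Mod Λ X} (φ : F ⟶ G) (P : X.Etale) (p : P.left)
    {M N : (ModuleCat.{u + 1} Λ)} [Module.Finite Λ M] (a : M ⟶ F.obj.obj (op P))
    (b : N ⟶ G.obj.obj (op P)) (hb : IsConstAt G P b) :
    ∃ (Z : X.Etale) (h : Z ⟶ P) (z : Z.left) (c : M ⟶ N), h.left.base z = p ∧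
      (a ≫ F.obj.map h.op) ≫ φ.hom.app (op Z) = c ≫ (b ≫ G.obj.map h.op) := by
  obtain ⟨r, gen, hgen⟩ := Module.Finite.exists_fin (R := Λ) (M := M)
  obtain ⟨S, hS, hS2⟩ := exists_common_sieve (W := P) (ι := Fin r)
    (fun i Z h => ∃ n : N, G.obj.map h.op ((φ.hom.app (op P)).hom (a.hom (gen i))) =
      G.obj.map (h ≫ 𝟙 P).op (b.hom n))
    (fun i => hb.surj P (𝟙 P) ((φ.hom.app (op P)).hom (a.hom (gen i))))
  obtain ⟨Z, h, z, hSh, hz⟩ := (OverEt.mem_iff_forall_exists P S).1 hS p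
  have hne : ¬ (⊥ ∈ X.smallEtaleTopology Z) := by
    rw [bot_mem_iff]
    exact fun hE => hE.false z
  have hbZ := hb.restrict h
  have hinj : Function.Injective (b ≫ G.obj.map h.op).hom := by
    rw [injective_iff_map_eq_zero]
    intro n hn
    have h0 : G.obj.map (𝟙 Z).op ((b ≫ G.obj.map h.op).hom n) = 0 := by
      rw [hn, map_zero]
    exact (hbZ.inj Z (𝟙 Z) n h0).resolve_right hne
  have hgenex : ∀ i : Fin r, ∃ n : N, (φ.hom.app (op Z)).hom ((a ≫ F.obj.map h.op).hom (gen i)) =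
      (b ≫ G.obj.map h.op).hom n := by
    intro i
    obtain ⟨n, hn⟩ := hS2 Z h hSh i
    refine ⟨n, ?_⟩
    rw [Category.comp_id] at hn
    have hnat := congrArg (fun k => k.hom (a.hom (gen i))) (φ.hom.naturality h.op)
    exact hnat.trans hn
  let ψ : M →ₗ[Λ] G.obj.obj (op Z) := ((a ≫ F.obj.map h.op) ≫ φ.hom.app (op Z)).hom
  have htop : Submodule.comap ψ (LinearMap.range (b ≫ G.obj.map h.op).hom) = ⊤ := by
    rw [eq_top_iff, ← hgen, Submodule.span_le]
    rintro _ ⟨i, rfl⟩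
    obtain ⟨n, hn⟩ := hgenex i
    exact ⟨n, hn.symm⟩
  have hex : ∀ m : M, ∃ n : N, ψ m = (b ≫ G.obj.map h.op).hom n := by
    intro m
    have : m ∈ Submodule.comap ψ (LinearMap.range (b ≫ G.obj.map h.op).hom) := by
      rw [htop]
      trivial
    obtain ⟨n, hn⟩ := this
    exact ⟨n, hn.symm⟩
  choose c₀ hc₀ using hex
  have hadd : ∀ m m', c₀ (m + m') = c₀ m + c₀ m' := by
    intro m m'
    apply hinj
    rw [map_add, ← hc₀, ← hc₀, ← hc₀, map_add]
  have hsmul : ∀ (l : Λ) (m : M), c₀ (l • m) = l • c₀ m := by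
    intro l m
    apply hinj
    rw [map_smul, ← hc₀, ← hc₀, map_smul]
  let c : M →ₗ[Λ] N :=
    { toFun := c₀
      map_add' := hadd
      map_smul' := hsmul }
  refine ⟨Z, h, z, ModuleCat.ofHom c, hz, ?_⟩
  ext m
  exact hc₀ m

theorem exists_common_refinement (V₁ V₂ : X.Etale) (y₁ : V₁.left) (y₂ : V₂.left)
    (h : V₁.hom.base y₁ = V₂.hom.base y₂) :
    ∃ (P : X.Etale) (g₁ : P ⟶ V₁) (g₂ : P ⟶ V₂) (p : P.left),
      g₁.left.base p = y₁ ∧ g₂.left.base p = y₂ := by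
  obtain ⟨z, hz1, hz2⟩ := Scheme.Pullback.exists_preimage_pullback (f := V₁.hom) (g := V₂.hom) y₁ y₂ h
  refine ⟨Scheme.Etale.mk (pullback.fst V₁.hom V₂.hom ≫ V₁.hom),
    MorphismProperty.Over.homMk (pullback.fst V₁.hom V₂.hom) rfl trivial,
    MorphismProperty.Over.homMk (pullback.snd V₁.hom V₂.hom) pullback.condition.symm trivial,
    z, hz1, hz2⟩

theorem local_hom {F G : EtModW.Mod Λ X} (φ : F ⟶ G) (x : X) (V₁ V₂ : X.Etale) (y₁ : V₁.left)
    (y₂ : V₂.left) (hy₁ : V₁.hom.base y₁ = x) (hy₂ : V₂.hom.base y₂ = x)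
    (M N : (ModuleCat.{u + 1} Λ)) [Module.Finite Λ M]
    (α₁ : EtModW.restr Λ F V₁ ≅
      (constantSheaf (X.smallEtaleTopology.over V₁) (ModuleCat.{u + 1} Λ)).obj M)
    (β₂ : EtModW.restr Λ G V₂ ≅
      (constantSheaf (X.smallEtaleTopology.over V₂) (ModuleCat.{u + 1} Λ)).obj N) :
    ∃ (Z : X.Etale) (z : Z.left) (c : M ⟶ N)
      (α : EtModW.restr Λ F Z ≅ (constantSheaf (X.smallEtaleTopology.over Z) (ModuleCat.{u + 1} Λ)).obj M)
      (β : EtModW.restr Λ G Z ≅ (constantSheaf (X.smallEtaleTopology.over Z) (ModuleCat.{u + 1} Λ)).obj N),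
      Z.hom.base z = x ∧
      (X.smallEtaleTopology.overPullback (ModuleCat.{u + 1} Λ) Z).map φ ≫ β.hom =
        α.hom ≫ (constantSheaf (X.smallEtaleTopology.over Z) (ModuleCat.{u + 1} Λ)).map c := by
  obtain ⟨a₁, ha₁⟩ := exists_isConstAt_of_iso F V₁ M α₁
  obtain ⟨b₂, hb₂⟩ := exists_isConstAt_of_iso G V₂ N β₂
  obtain ⟨P, g₁, g₂, p, hp₁, hp₂⟩ := exists_common_refinement V₁ V₂ y₁ y₂ (hy₁.trans hy₂.symm)
  obtain ⟨Z, h, z, c, hz, hc⟩ := core φ P p (a₁ ≫ F.obj.map g₁.op) (b₂ ≫ G.obj.map g₂.op)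
    (hb₂.restrict g₂)
  have haZ := (ha₁.restrict g₁).restrict h
  have hbZ := (hb₂.restrict g₂).restrict h
  refine ⟨Z, z, c, haZ.iso.symm, hbZ.iso.symm, ?_, ?_⟩
  · have h1 : Z.hom = h.left ≫ g₁.left ≫ V₁.hom := by
      rw [MorphismProperty.Over.w g₁, MorphismProperty.Over.w h]
    rw [h1, Scheme.Hom.comp_base, Scheme.Hom.comp_base]
    change V₁.hom.base (g₁.left.base (h.left.base z)) = x
    rw [hz, hp₁, hy₁]
  · rw [Iso.symm_hom, Iso.symm_hom, Iso.comp_inv_eq, Category.assoc, Iso.eq_inv_comp]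
    change adjMapV F Z _ ≫ _ = _ ≫ adjMapV G Z _
    rw [adjMapV_comp_map, map_comp_adjMapV, hc]

end Groth.Agent.Lib.Helper4.LocConstMod
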