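import Groth.Agent.Lib.Helper4.LocConstKer
import Groth.Agent.Lib.Helper4.LocConstAlg
import Groth.Agent.Lib.Helper4.FlasqueSurj
import Mathlib.Algebra.Homology.ShortComplex.ShortExact
import Mathlib.Algebra.Homology.ShortComplex.ExactFunctor
import Mathlib.Algebra.Homology.ShortComplex.Ab
import Mathlib.CategoryTheory.Sites.EpiMono

set_option autoImplicit false
open CategoryTheory CategoryTheory.Limits AlgebraicGeometry Opposite
universe u

noncomputable section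

namespace Groth.Agent.Lib.Helper4.LocConst

variable {X : Scheme.{u}}

theorem IsConstAt.injective {F : EtCoh.Ab X} {V : X.Etale} {M : AddCommGrpCat.{u + 1}}
    {a : M ⟶ F.obj.obj (op V)} (h : IsConstAt F V a) (v : V.left) : Function.Injective a.hom := by
  have hne : ¬ (⊥ ∈ X.smallEtaleTopology V) := by
    rw [bot_mem_iff]
    exact fun hE => hE.false v
  rw [injective_iff_map_eq_zero]
  intro n hn
  have h0 : F.obj.map (𝟙 V).op (a.hom n) = 0 := by
    rw [hn, map_zero]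
  exact (h.inj V (𝟙 V) n h0).resolve_right hne

theorem ext_local (S : ShortComplex (EtCoh.Ab X)) (hS : S.ShortExact) (Z : X.Etale) (z : Z.left)
    {M N : AddCommGrpCat.{u + 1}} [Finite M] [Finite N]
    (a : M ⟶ S.X₁.obj.obj (op Z)) (ha : IsConstAt S.X₁ Z a)
    (b : N ⟶ S.X₃.obj.obj (op Z)) (hb : IsConstAt S.X₃ Z b)
    (e : N → S.X₂.obj.obj (op Z)) (he : ∀ n, (S.g.hom.app (op Z)).hom (e n) = b.hom n)
    (μ : N → N → M)
    (hμ : ∀ n n', e n + e n' - e (n + n') = (S.f.hom.app (op Z)).hom (a.hom (μ n n'))) :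
    ∃ (A : AddCommGrpCat.{u + 1}), Finite A ∧ Nonempty (EtCoh.restr S.X₂ Z ≅
      (constantSheaf (X.smallEtaleTopology.over Z) AddCommGrpCat.{u + 1}).obj A) := by
  have hzero : ∀ m, (S.g.hom.app (op Z)).hom ((a ≫ S.f.hom.app (op Z)).hom m) = 0 := by
    intro m
    have h1 : (FlasqueSurj.secF Z).map S.f ≫ (FlasqueSurj.secF Z).map S.g = 0 := by
      rw [← Functor.map_comp, S.zero, Functor.map_zero]
    have := congrArg (fun k => k.hom (a.hom m)) h1
    exact this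
  obtain ⟨Q, h1, h2, h3, h4, h5⟩ := alg_ext (a ≫ S.f.hom.app (op Z)).hom (S.g.hom.app (op Z)).hom
    b.hom hzero e he μ hμ
  have hfin : Finite Q := h5 inferInstance inferInstance
  have hainj : Function.Injective (a ≫ S.f.hom.app (op Z)).hom := by
    have := hS.mono_f
    exact (FlasqueSurj.sections_injective S.f Z).comp (ha.injective z)
  let Qc : AddCommGrpCat.{u + 1} := AddCommGrpCat.of Q
  let j : M ⟶ Qc := AddCommGrpCat.ofHom
    (AddMonoidHom.mk' (fun m => (⟨((a ≫ S.f.hom.app (op Z)).hom m, 0), h1 m⟩ : Q)) (by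
      intro m m'
      apply Subtype.ext
      change ((a ≫ S.f.hom.app (op Z)).hom (m + m'), (0 : N)) =
        ((a ≫ S.f.hom.app (op Z)).hom m + (a ≫ S.f.hom.app (op Z)).hom m', (0 : N) + 0)
      rw [map_add, add_zero]))
  let s : Qc ⟶ N := AddCommGrpCat.ofHom ((AddMonoidHom.snd _ _).comp Q.subtype)
  let q₁ : Qc ⟶ S.X₂.obj.obj (op Z) := AddCommGrpCat.ofHom ((AddMonoidHom.fst _ _).comp Q.subtype)
  have hjs : j ≫ s = 0 := by
    ext m
    rfl
  let T : ShortComplex AddCommGrpCat.{u + 1} := ShortComplex.mk j s hjs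
  have hT : T.ShortExact := by
    refine ShortComplex.ShortExact.mk' ?_ ?_ ?_
    · rw [ShortComplex.ab_exact_iff]
      intro q hq
      obtain ⟨m, hm⟩ := h4 q.1 q.2 hq
      refine ⟨m, ?_⟩
      apply Subtype.ext
      apply Prod.ext
      · exact hm.symm
      · exact hq.symm
    · rw [AddCommGrpCat.mono_iff_injective]
      intro m m' hmm
      apply hainj
      exact congrArg (fun q : Q => q.1.1) hmm
    · rw [AddCommGrpCat.epi_iff_surjective]
      intro n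
      obtain ⟨q, hq, hqn⟩ := h3 n
      exact ⟨⟨q, hq⟩, hqn⟩
  have hTop : (T.map (constantSheaf (X.smallEtaleTopology.over Z) AddCommGrpCat.{u + 1})).ShortExact :=
    hT.map_of_exact _
  have hBot : (S.map (X.smallEtaleTopology.overPullback AddCommGrpCat.{u + 1} Z)).ShortExact :=
    hS.map_of_exact _
  let φ : T.map (constantSheaf (X.smallEtaleTopology.over Z) AddCommGrpCat.{u + 1}) ⟶
      S.map (X.smallEtaleTopology.overPullback AddCommGrpCat.{u + 1} Z) :=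
    { τ₁ := adjMapV S.X₁ Z a
      τ₂ := adjMapV S.X₂ Z q₁
      τ₃ := adjMapV S.X₃ Z b
      comm₁₂ := by
        change adjMapV S.X₁ Z a ≫ (X.smallEtaleTopology.overPullback AddCommGrpCat.{u + 1} Z).map S.f =
          (constantSheaf _ _).map j ≫ adjMapV S.X₂ Z q₁
        rw [map_comp_adjMapV, adjMapV_comp_map]
        rfl
      comm₂₃ := by
        change adjMapV S.X₂ Z q₁ ≫ (X.smallEtaleTopology.overPullback AddCommGrpCat.{u + 1} Z).map S.g =
          (constantSheaf _ _).map s ≫ adjMapV S.X₃ Z b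
        rw [map_comp_adjMapV, adjMapV_comp_map]
        congr 1
        ext q
        exact h2 q.1 q.2 }
  have i1 : IsIso φ.τ₁ := (isIso_adjMapV_iff _ _ _).2 ha
  have i3 : IsIso φ.τ₃ := (isIso_adjMapV_iff _ _ _).2 hb
  have i2 : IsIso φ.τ₂ := ShortComplex.isIso₂_of_shortExact_of_isIso₁₃ φ hTop hBot
  exact ⟨Qc, hfin, ⟨(asIso φ.τ₂).symm⟩⟩

theorem flc_ext (S : ShortComplex (EtCoh.Ab X)) (hS : S.ShortExact)
    (h₁ : EtCoh.IsFiniteLocallyConstant S.X₁) (h₃ : EtCoh.IsFiniteLocallyConstant S.X₃) :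
    EtCoh.IsFiniteLocallyConstant S.X₂ := by
  apply flc_of_pointwise
  intro x
  obtain ⟨ι₁, U₁, hU₁, hM⟩ := h₁
  obtain ⟨ι₂, U₂, hU₂, hN⟩ := h₃
  obtain ⟨i, y₁, hy₁⟩ := hU₁ x
  obtain ⟨j, y₂, hy₂⟩ := hU₂ x
  obtain ⟨M₀, iM₀, fM₀, ⟨α₁⟩⟩ := hM i
  obtain ⟨N₀, iN₀, fN₀, ⟨β₂⟩⟩ := hN j
  have hfM : Finite (AddCommGrpCat.of (ULift.{u + 1} M₀)) :=
    inferInstanceAs (Finite (ULift.{u + 1} M₀))
  have hfN : Finite (AddCommGrpCat.of (ULift.{u + 1} N₀)) :=
    inferInstanceAs (Finite (ULift.{u + 1} N₀))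
  obtain ⟨a₁, ha₁⟩ := exists_isConstAt_of_iso S.X₁ (U₁ i) _ α₁
  obtain ⟨b₂, hb₂⟩ := exists_isConstAt_of_iso S.X₃ (U₂ j) _ β₂
  obtain ⟨P, g₁, g₂, p, hp₁, hp₂⟩ := exists_common_refinement (U₁ i) (U₂ j) y₁ y₂ (hy₁.trans hy₂.symm)
  have haP := ha₁.restrict g₁
  have hbP := hb₂.restrict g₂
  have hepi : Epi S.g := hS.epi_g
  have hls : Sheaf.IsLocallySurjective S.g := (Sheaf.isLocallySurjective_iff_epi' (φ := S.g)).2 hepi
  obtain ⟨S₁, hS₁, hS₁'⟩ := exists_common_sieve (W := P) (ι := AddCommGrpCat.of (ULift.{u + 1} N₀))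
    (fun n W h => ∃ t : S.X₂.obj.obj (op W), (S.g.hom.app (op W)).hom t =
      S.X₃.obj.map h.op ((b₂ ≫ S.X₃.obj.map g₂.op).hom n))
    (fun n => ⟨_, Presheaf.imageSieve_mem X.smallEtaleTopology S.g.hom
      ((b₂ ≫ S.X₃.obj.map g₂.op).hom n), fun W h hh => hh⟩)
  obtain ⟨W, k₁, w, hSh, hw⟩ := (OverEt.mem_iff_forall_exists P S₁).1 hS₁ p
  choose e₀ he₀ using hS₁' W k₁ hSh
  have hbW := hbP.restrict k₁
  have haW := haP.restrict k₁
  have hγ : ∀ nn : (AddCommGrpCat.of (ULift.{u + 1} N₀)) × (AddCommGrpCat.of (ULift.{u + 1} N₀)),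
      ∃ γ : S.X₁.obj.obj (op W), (S.f.hom.app (op W)).hom γ =
        e₀ nn.1 + e₀ nn.2 - e₀ (nn.1 + nn.2) := by
    intro nn
    apply FlasqueSurj.sections_exact S hS W
    have he₀' : ∀ n, (S.g.hom.app (op W)).hom (e₀ n) =
        ((b₂ ≫ S.X₃.obj.map g₂.op) ≫ S.X₃.obj.map k₁.op).hom n := he₀
    change (S.g.hom.app (op W)).hom (e₀ nn.1 + e₀ nn.2 - e₀ (nn.1 + nn.2)) = 0
    rw [map_sub, map_add, he₀', he₀', he₀', map_add, sub_self]
  choose γ hγ using hγ
  obtain ⟨S₂, hS₂, hS₂'⟩ := exists_common_sieve (W := W)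
    (ι := (AddCommGrpCat.of (ULift.{u + 1} N₀)) × (AddCommGrpCat.of (ULift.{u + 1} N₀)))
    (fun nn Z k => ∃ m : AddCommGrpCat.of (ULift.{u + 1} M₀),
      S.X₁.obj.map k.op (γ nn) = S.X₁.obj.map (k ≫ 𝟙 W).op
        (((a₁ ≫ S.X₁.obj.map g₁.op) ≫ S.X₁.obj.map k₁.op).hom m))
    (fun nn => haW.surj W (𝟙 W) (γ nn))
  obtain ⟨Z, k, z, hSk, hz⟩ := (OverEt.mem_iff_forall_exists W S₂).1 hS₂ w
  choose μ hμ using hS₂' Z k hSk
  have haZ := haW.restrict k
  have hbZ := hbW.restrict k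
  obtain ⟨A, hA, hiso⟩ := ext_local S hS Z z _ haZ _ hbZ (fun n => S.X₂.obj.map k.op (e₀ n)) (by
      intro n
      have hnat := congrArg (fun t => t.hom (e₀ n)) (S.g.hom.naturality k.op)
      refine hnat.trans ?_
      change S.X₃.obj.map k.op ((S.g.hom.app (op W)).hom (e₀ n)) = _
      rw [he₀]
      rfl) (fun n n' => μ (n, n')) (by
      intro n n'
      have hnat := congrArg (fun t => t.hom (γ (n, n'))) (S.f.hom.naturality k.op)
      have h1 : S.X₂.obj.map k.op (e₀ n) + S.X₂.obj.map k.op (e₀ n') -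
          S.X₂.obj.map k.op (e₀ (n + n')) =
          S.X₂.obj.map k.op ((S.f.hom.app (op W)).hom (γ (n, n'))) := by
        rw [hγ, map_sub, map_add]
      rw [h1]
      refine hnat.symm.trans ?_
      change (S.f.hom.app (op Z)).hom (S.X₁.obj.map k.op (γ (n, n'))) = _
      rw [hμ (n, n'), Category.comp_id]
      rfl)
  refine ⟨Z, z, ?_, A, hA, hiso⟩
  have h1 : Z.hom = k.left ≫ k₁.left ≫ g₁.left ≫ (U₁ i).hom := by
    rw [MorphismProperty.Over.w g₁, MorphismProperty.Over.w k₁, MorphismProperty.Over.w k]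
  rw [h1, Scheme.Hom.comp_base, Scheme.Hom.comp_base, Scheme.Hom.comp_base]
  change (U₁ i).hom.base (g₁.left.base (k₁.left.base (k.left.base z))) = x
  rw [hz, hw, hp₁, hy₁]

end Groth.Agent.Lib.Helper4.LocConst
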