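import Groth.Agent.Lib.Helper4.LocConstKerMod
import Groth.Agent.Lib.Helper4.LocConstAlgMod
import Mathlib.Algebra.Homology.ShortComplex.ShortExact
import Mathlib.Algebra.Homology.ShortComplex.ExactFunctor
import Mathlib.Algebra.Homology.ShortComplex.ModuleCat
import Mathlib.CategoryTheory.Sites.EpiMono

set_option autoImplicit false
open CategoryTheory CategoryTheory.Limits AlgebraicGeometry Opposite
universe u

noncomputable section

namespace Groth.Agent.Lib.Helper4.LocConstMod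

variable {Λ : Type (u + 1)} [CommRing Λ] {X : Scheme.{u}}

abbrev secF (T : X.Etale) : EtModW.Mod Λ X ⥤ ModuleCat.{u + 1} Λ :=
  (sheafSections X.smallEtaleTopology (ModuleCat.{u + 1} Λ)).obj (op T)

instance (T : X.Etale) : (secF (Λ := Λ) T).Additive where

instance (T : X.Etale) : PreservesLimits (secF (Λ := Λ) T) := by
  have h : secF (Λ := Λ) T = sheafToPresheaf _ _ ⋙ (evaluation _ _).obj (op T) := rfl
  rw [h]
  infer_instance

theorem sections_exact (S : ShortComplex (EtModW.Mod Λ X)) (hS : S.ShortExact) (T : X.Etale)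
    (x : S.X₂.obj.obj (op T)) (hx : (S.g.hom.app (op T)).hom x = 0) :
    ∃ y : S.X₁.obj.obj (op T), (S.f.hom.app (op T)).hom y = x := by
  have hex : (S.map (secF T)).Exact :=
    hS.exact.map_of_mono_of_preservesKernel (secF T) hS.mono_f inferInstance
  exact (ShortComplex.moduleCat_exact_iff _).1 hex x hx

theorem sections_injective {F G : EtModW.Mod Λ X} (φ : F ⟶ G) [Mono φ] (T : X.Etale) :
    Function.Injective (φ.hom.app (op T)).hom := by
  have : Mono ((secF T).map φ) := inferInstance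
  exact (ModuleCat.mono_iff_injective _).1 this

theorem IsConstAt.injective {F : EtModW.Mod Λ X} {V : X.Etale} {M : ModuleCat.{u + 1} Λ}
    {a : M ⟶ F.obj.obj (op V)} (h : IsConstAt F V a) (v : V.left) : Function.Injective a.hom := by
  have hne : ¬ (⊥ ∈ X.smallEtaleTopology V) := by
    rw [bot_mem_iff]
    exact fun hE => hE.false v
  rw [injective_iff_map_eq_zero]
  intro n hn
  have h0 : F.obj.map (𝟙 V).op (a.hom n) = 0 := by
    rw [hn, map_zero]
  exact (h.inj V (𝟙 V) n h0).resolve_right hne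

theorem ext_local (S : ShortComplex (EtModW.Mod Λ X)) (hS : S.ShortExact) (Z : X.Etale) (z : Z.left)
    {M N : ModuleCat.{u + 1} Λ} [Module.Finite Λ M]
    (a : M ⟶ S.X₁.obj.obj (op Z)) (ha : IsConstAt S.X₁ Z a)
    (b : N ⟶ S.X₃.obj.obj (op Z)) (hb : IsConstAt S.X₃ Z b)
    {r : ℕ} (gen : Fin r → N) (hgen : Submodule.span Λ (Set.range gen) = ⊤)
    (e : Fin r → S.X₂.obj.obj (op Z))
    (he : ∀ i, (S.g.hom.app (op Z)).hom (e i) = b.hom (gen i))
    (hR : ∀ l : Fin r → Λ, Fintype.linearCombination Λ gen l = 0 →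
      ∃ m, Fintype.linearCombination Λ e l = (a ≫ S.f.hom.app (op Z)).hom m) :
    ∃ (A : ModuleCat.{u + 1} Λ), Module.Finite Λ A ∧ Nonempty (EtModW.restr Λ S.X₂ Z ≅
      (constantSheaf (X.smallEtaleTopology.over Z) (ModuleCat.{u + 1} Λ)).obj A) := by
  have hzero : ∀ m, (S.g.hom.app (op Z)).hom ((a ≫ S.f.hom.app (op Z)).hom m) = 0 := by
    intro m
    have h1 : (secF Z).map S.f ≫ (secF Z).map S.g = 0 := by
      rw [← Functor.map_comp, S.zero, Functor.map_zero]
    have := congrArg (fun k => k.hom (a.hom m)) h1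
    exact this
  obtain ⟨Q, h1, h2, h3, h4, h5⟩ := alg_ext_mod (a ≫ S.f.hom.app (op Z)).hom
    (S.g.hom.app (op Z)).hom b.hom hzero gen hgen e he hR
  have hfin : Module.Finite Λ Q := h5 inferInstance
  have hainj : Function.Injective (a ≫ S.f.hom.app (op Z)).hom := by
    have := hS.mono_f
    exact (sections_injective S.f Z).comp (ha.injective z)
  let Qc : ModuleCat.{u + 1} Λ := ModuleCat.of Λ Q
  let j : M ⟶ Qc := ModuleCat.ofHom
    (LinearMap.codRestrict Q (LinearMap.prod (a ≫ S.f.hom.app (op Z)).hom 0) (fun m => h1 m))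
  let s : Qc ⟶ N := ModuleCat.ofHom ((LinearMap.snd Λ _ _).comp Q.subtype)
  let q₁ : Qc ⟶ S.X₂.obj.obj (op Z) := ModuleCat.ofHom ((LinearMap.fst Λ _ _).comp Q.subtype)
  have hjs : j ≫ s = 0 := by
    ext m
    rfl
  let T : ShortComplex (ModuleCat.{u + 1} Λ) := ShortComplex.mk j s hjs
  have hT : T.ShortExact := by
    refine ShortComplex.ShortExact.mk' ?_ ?_ ?_
    · rw [ShortComplex.moduleCat_exact_iff]
      intro q hq
      obtain ⟨m, hm⟩ := h4 q.1 q.2 hq
      refine ⟨m, ?_⟩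
      apply Subtype.ext
      apply Prod.ext
      · exact hm.symm
      · exact hq.symm
    · rw [ModuleCat.mono_iff_injective]
      intro m m' hmm
      apply hainj
      exact congrArg (fun q : Q => q.1.1) hmm
    · rw [ModuleCat.epi_iff_surjective]
      intro n
      obtain ⟨q, hq, hqn⟩ := h3 n
      exact ⟨⟨q, hq⟩, hqn⟩
  have hTop : (T.map (constantSheaf (X.smallEtaleTopology.over Z) (ModuleCat.{u + 1} Λ))).ShortExact :=
    hT.map_of_exact _
  have hBot : (S.map (X.smallEtaleTopology.overPullback (ModuleCat.{u + 1} Λ) Z)).ShortExact :=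
    hS.map_of_exact _
  let φ : T.map (constantSheaf (X.smallEtaleTopology.over Z) (ModuleCat.{u + 1} Λ)) ⟶
      S.map (X.smallEtaleTopology.overPullback (ModuleCat.{u + 1} Λ) Z) :=
    { τ₁ := adjMapV S.X₁ Z a
      τ₂ := adjMapV S.X₂ Z q₁
      τ₃ := adjMapV S.X₃ Z b
      comm₁₂ := by
        change adjMapV S.X₁ Z a ≫ (X.smallEtaleTopology.overPullback (ModuleCat.{u + 1} Λ) Z).map S.f =
          (constantSheaf _ _).map j ≫ adjMapV S.X₂ Z q₁
        rw [map_comp_adjMapV, adjMapV_comp_map]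
        rfl
      comm₂₃ := by
        change adjMapV S.X₂ Z q₁ ≫ (X.smallEtaleTopology.overPullback (ModuleCat.{u + 1} Λ) Z).map S.g =
          (constantSheaf _ _).map s ≫ adjMapV S.X₃ Z b
        rw [map_comp_adjMapV, adjMapV_comp_map]
        congr 1
        ext q
        exact h2 q.1 q.2 }
  have i1 : IsIso φ.τ₁ := (isIso_adjMapV_iff _ _ _).2 ha
  have i3 : IsIso φ.τ₃ := (isIso_adjMapV_iff _ _ _).2 hb
  have i2 : IsIso φ.τ₂ := ShortComplex.isIso₂_of_shortExact_of_isIso₁₃ φ hTop hBot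
  exact ⟨Qc, hfin, ⟨(asIso φ.τ₂).symm⟩⟩

theorem ft_ext [IsNoetherianRing Λ] (S : ShortComplex (EtModW.Mod Λ X)) (hS : S.ShortExact)
    (h₁ : EtModW.IsFTLocConst Λ S.X₁) (h₃ : EtModW.IsFTLocConst Λ S.X₃) :
    EtModW.IsFTLocConst Λ S.X₂ := by
  apply ft_of_pointwise
  intro x
  obtain ⟨ι₁, U₁, hU₁, hM⟩ := h₁
  obtain ⟨ι₂, U₂, hU₂, hN⟩ := h₃
  obtain ⟨i, y₁, hy₁⟩ := hU₁ x
  obtain ⟨j, y₂, hy₂⟩ := hU₂ x
  obtain ⟨M, iM, mM, fM, ⟨α₁⟩⟩ := hM i
  obtain ⟨N, iN, mN, fN, ⟨β₂⟩⟩ := hN j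
  have hfM : Module.Finite Λ (ModuleCat.of Λ M) := fM
  obtain ⟨a₁, ha₁⟩ := exists_isConstAt_of_iso S.X₁ (U₁ i) (ModuleCat.of Λ M) α₁
  obtain ⟨b₂, hb₂⟩ := exists_isConstAt_of_iso S.X₃ (U₂ j) (ModuleCat.of Λ N) β₂
  obtain ⟨P, g₁, g₂, p, hp₁, hp₂⟩ := exists_common_refinement (U₁ i) (U₂ j) y₁ y₂ (hy₁.trans hy₂.symm)
  have haP := ha₁.restrict g₁
  have hbP := hb₂.restrict g₂
  have hepi : Epi S.g := hS.epi_g
  have hls : Sheaf.IsLocallySurjective S.g := (Sheaf.isLocallySurjective_iff_epi' (φ := S.g)).2 hepi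
  obtain ⟨r, gen, hgen⟩ := Module.Finite.exists_fin (R := Λ) (M := N)
  obtain ⟨S₁, hS₁, hS₁'⟩ := exists_common_sieve (W := P) (ι := Fin r)
    (fun i W h => ∃ t : S.X₂.obj.obj (op W), (S.g.hom.app (op W)).hom t =
      S.X₃.obj.map h.op ((b₂ ≫ S.X₃.obj.map g₂.op).hom (gen i)))
    (fun i => ⟨_, Presheaf.imageSieve_mem X.smallEtaleTopology S.g.hom
      ((b₂ ≫ S.X₃.obj.map g₂.op).hom (gen i)), fun W h hh => hh⟩)
  obtain ⟨W, k₁, w, hSh, hw⟩ := (OverEt.mem_iff_forall_exists P S₁).1 hS₁ p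
  choose e₀ he₀ using hS₁' W k₁ hSh
  have hbW := hbP.restrict k₁
  have haW := haP.restrict k₁
  have hkerfin : Module.Finite Λ (LinearMap.ker (Fintype.linearCombination Λ gen)) := by
    have : IsNoetherian Λ (Fin r → Λ) := isNoetherian_of_isNoetherianRing_of_finite Λ _
    infer_instance
  obtain ⟨s, ρ', hρ'⟩ := Module.Finite.exists_fin (R := Λ)
    (M := LinearMap.ker (Fintype.linearCombination Λ gen))
  let ρ : Fin s → (Fin r → Λ) := fun k => (ρ' k).1
  have hρ : Submodule.span Λ (Set.range ρ) = LinearMap.ker (Fintype.linearCombination Λ gen) := by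
    have h1 : Set.range ρ = (LinearMap.ker (Fintype.linearCombination Λ gen)).subtype '' Set.range ρ' := by
      ext l
      constructor
      · rintro ⟨k, rfl⟩
        exact ⟨ρ' k, ⟨k, rfl⟩, rfl⟩
      · rintro ⟨_, ⟨k, rfl⟩, rfl⟩
        exact ⟨k, rfl⟩
    rw [h1, ← Submodule.map_span, hρ', Submodule.map_top, Submodule.range_subtype]
  have he₀' : ∀ i, (S.g.hom.app (op W)).hom (e₀ i) =
      ((b₂ ≫ S.X₃.obj.map g₂.op) ≫ S.X₃.obj.map k₁.op).hom (gen i) := he₀
  have hγ : ∀ k : Fin s, ∃ γ : S.X₁.obj.obj (op W), (S.f.hom.app (op W)).hom γ =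
      Fintype.linearCombination Λ e₀ (ρ k) := by
    intro k
    apply sections_exact S hS W
    rw [Fintype.linearCombination_apply, map_sum]
    have h2 : ∀ i, (S.g.hom.app (op W)).hom (ρ k i • e₀ i) =
        ρ k i • ((b₂ ≫ S.X₃.obj.map g₂.op) ≫ S.X₃.obj.map k₁.op).hom (gen i) := by
      intro i
      rw [map_smul, he₀']
    rw [Finset.sum_congr rfl (fun i _ => h2 i)]
    have h3 : (∑ i, ρ k i • ((b₂ ≫ S.X₃.obj.map g₂.op) ≫ S.X₃.obj.map k₁.op).hom (gen i)) =
        ((b₂ ≫ S.X₃.obj.map g₂.op) ≫ S.X₃.obj.map k₁.op).hom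
          (Fintype.linearCombination Λ gen (ρ k)) := by
      rw [Fintype.linearCombination_apply, map_sum]
      exact Finset.sum_congr rfl fun i _ => (map_smul _ _ _).symm
    rw [h3]
    have h4 : Fintype.linearCombination Λ gen (ρ k) = 0 := (ρ' k).2
    rw [h4, map_zero]
  choose γ hγ using hγ
  obtain ⟨S₂, hS₂, hS₂'⟩ := exists_common_sieve (W := W) (ι := Fin s)
    (fun k' Z k => ∃ m : ModuleCat.of Λ M,
      S.X₁.obj.map k.op (γ k') = S.X₁.obj.map (k ≫ 𝟙 W).op
        (((a₁ ≫ S.X₁.obj.map g₁.op) ≫ S.X₁.obj.map k₁.op).hom m))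
    (fun k' => haW.surj W (𝟙 W) (γ k'))
  obtain ⟨Z, k, z, hSk, hz⟩ := (OverEt.mem_iff_forall_exists W S₂).1 hS₂ w
  choose μ hμ using hS₂' Z k hSk
  have haZ := haW.restrict k
  have hbZ := hbW.restrict k
  have hlin : ∀ l : Fin r → Λ, Fintype.linearCombination Λ (fun i => S.X₂.obj.map k.op (e₀ i)) l =
      S.X₂.obj.map k.op (Fintype.linearCombination Λ e₀ l) := by
    intro l
    rw [Fintype.linearCombination_apply, Fintype.linearCombination_apply, map_sum]
    exact Finset.sum_congr rfl fun i _ => (map_smul _ _ _).symm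
  obtain ⟨A, hA, hiso⟩ := ext_local S hS Z z _ haZ _ hbZ gen hgen
    (fun i => S.X₂.obj.map k.op (e₀ i)) (by
      intro i
      have hnat := congrArg (fun t => t.hom (e₀ i)) (S.g.hom.naturality k.op)
      refine hnat.trans ?_
      change S.X₃.obj.map k.op ((S.g.hom.app (op W)).hom (e₀ i)) = _
      rw [he₀]
      rfl) (by
      apply rel_lemma _ gen _ ρ hρ
      intro k'
      refine ⟨μ k', ?_⟩
      rw [hlin, ← hγ]
      have hnat := congrArg (fun t => t.hom (γ k')) (S.f.hom.naturality k.op)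
      refine hnat.symm.trans ?_
      change (S.f.hom.app (op Z)).hom (S.X₁.obj.map k.op (γ k')) = _
      rw [hμ k', Category.comp_id]
      rfl)
  refine ⟨Z, z, ?_, A, hA, hiso⟩
  have h1 : Z.hom = k.left ≫ k₁.left ≫ g₁.left ≫ (U₁ i).hom := by
    rw [MorphismProperty.Over.w g₁, MorphismProperty.Over.w k₁, MorphismProperty.Over.w k]
  rw [h1, Scheme.Hom.comp_base, Scheme.Hom.comp_base, Scheme.Hom.comp_base]
  change (U₁ i).hom.base (g₁.left.base (k₁.left.base (k.left.base z))) = x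
  rw [hz, hw, hp₁, hy₁]

end Groth.Agent.Lib.Helper4.LocConstMod
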