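import Groth.Agent.Lib.Helper4.LocConstEt
import Mathlib.CategoryTheory.Sites.CoverLifting
import Mathlib.CategoryTheory.Sites.Pullback
import Mathlib.CategoryTheory.Sites.Limits
import Mathlib.CategoryTheory.Limits.Preserves.Shapes.Kernels
import Mathlib.Algebra.Category.Grp.EpiMono

set_option autoImplicit false
open CategoryTheory CategoryTheory.Limits AlgebraicGeometry Opposite
universe u

noncomputable section

namespace Groth.Agent.Lib.Helper4.LocConst

variable {X : Scheme.{u}}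

def overPullbackAdj (V : X.Etale) :
    X.smallEtaleTopology.overPullback AddCommGrpCat.{u + 1} V ⊣
      (Over.forget V).sheafPushforwardCocontinuous AddCommGrpCat.{u + 1}
        (X.smallEtaleTopology.over V) X.smallEtaleTopology :=
  (Over.forget V).sheafAdjunctionCocontinuous AddCommGrpCat.{u + 1}
    (X.smallEtaleTopology.over V) X.smallEtaleTopology

instance (V : X.Etale) : (X.smallEtaleTopology.overPullback AddCommGrpCat.{u + 1} V).IsLeftAdjoint :=
  (overPullbackAdj V).isLeftAdjoint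

instance (V : X.Etale) :
    PreservesFiniteLimits (constantSheaf (X.smallEtaleTopology.over V) AddCommGrpCat.{u + 1}) := by
  unfold constantSheaf
  infer_instance

instance (V : X.Etale) :
    (constantSheaf (X.smallEtaleTopology.over V) AddCommGrpCat.{u + 1}).IsLeftAdjoint :=
  (constantSheafAdj (X.smallEtaleTopology.over V) AddCommGrpCat.{u + 1}
    Over.mkIdTerminal).isLeftAdjoint

theorem restr_kernel_cokernel_iso {F G : EtCoh.Ab X} (φ : F ⟶ G) (Z : X.Etale)
    {M N : AddCommGrpCat.{u + 1}} (c : M ⟶ N)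
    (α : EtCoh.restr F Z ≅ (constantSheaf (X.smallEtaleTopology.over Z) AddCommGrpCat.{u + 1}).obj M)
    (β : EtCoh.restr G Z ≅ (constantSheaf (X.smallEtaleTopology.over Z) AddCommGrpCat.{u + 1}).obj N)
    (sq : (X.smallEtaleTopology.overPullback AddCommGrpCat.{u + 1} Z).map φ ≫ β.hom =
        α.hom ≫ (constantSheaf (X.smallEtaleTopology.over Z) AddCommGrpCat.{u + 1}).map c) :
    Nonempty (EtCoh.restr (kernel φ) Z ≅
      (constantSheaf (X.smallEtaleTopology.over Z) AddCommGrpCat.{u + 1}).obj (kernel c)) ∧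
    Nonempty (EtCoh.restr (cokernel φ) Z ≅
      (constantSheaf (X.smallEtaleTopology.over Z) AddCommGrpCat.{u + 1}).obj (cokernel c)) := by
  constructor
  · exact ⟨PreservesKernel.iso (X.smallEtaleTopology.overPullback AddCommGrpCat.{u + 1} Z) φ ≪≫
      kernel.mapIso _ _ α β sq ≪≫
      (PreservesKernel.iso (constantSheaf (X.smallEtaleTopology.over Z) AddCommGrpCat.{u + 1}) c).symm⟩
  · exact ⟨PreservesCokernel.iso (X.smallEtaleTopology.overPullback AddCommGrpCat.{u + 1} Z) φ ≪≫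
      cokernel.mapIso _ _ α β sq ≪≫
      (PreservesCokernel.iso (constantSheaf (X.smallEtaleTopology.over Z) AddCommGrpCat.{u + 1}) c).symm⟩

def Model (n : ℕ) : Type := Fin n

instance (n : ℕ) : Finite (Model n) := inferInstanceAs (Finite (Fin n))

theorem exists_small_model (A : AddCommGrpCat.{u + 1}) [Finite A] :
    ∃ (K : Type) (_ : AddCommGroup K) (_ : Finite K),
      Nonempty (A ≅ AddCommGrpCat.of (ULift.{u + 1} K)) := by
  obtain ⟨n, ⟨e₀⟩⟩ := Finite.exists_equiv_fin A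
  let e : A ≃ Model n := e₀
  letI : AddCommGroup (Model n) := e.symm.addCommGroup
  refine ⟨Model n, inferInstance, inferInstance, ⟨?_⟩⟩
  have hadd : ∀ x y : A, e (x + y) = e x + e y := by
    intro x y
    change e (x + y) = e.symm.symm (e.symm (e x) + e.symm (e y))
    simp
  let e' : A ≃+ ULift.{u + 1} (Model n) :=
    { toEquiv := e.trans Equiv.ulift.symm
      map_add' := by
        intro x y
        apply Equiv.ulift.injective
        exact hadd x y }
  exact (AddEquiv.toAddCommGrpIso e')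

theorem flc_of_pointwise (H : EtCoh.Ab X)
    (h : ∀ x : X, ∃ (Z : X.Etale) (z : Z.left), Z.hom.base z = x ∧
      ∃ (A : AddCommGrpCat.{u + 1}), Finite A ∧ Nonempty (EtCoh.restr H Z ≅
        (constantSheaf (X.smallEtaleTopology.over Z) AddCommGrpCat.{u + 1}).obj A)) :
    EtCoh.IsFiniteLocallyConstant H := by
  choose Z z hz A hA hiso using h
  refine ⟨X, Z, fun x => ⟨x, z x, hz x⟩, fun x => ?_⟩
  have := hA x
  obtain ⟨K, iK, fK, ⟨e⟩⟩ := exists_small_model (A x)
  obtain ⟨e'⟩ := hiso x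
  exact ⟨K, iK, fK, ⟨e' ≪≫
    (constantSheaf (X.smallEtaleTopology.over (Z x)) AddCommGrpCat.{u + 1}).mapIso e⟩⟩

theorem exists_local_data {F G : EtCoh.Ab X} (φ : F ⟶ G)
    (hF : EtCoh.IsFiniteLocallyConstant F) (hG : EtCoh.IsFiniteLocallyConstant G) (x : X) :
    ∃ (Z : X.Etale) (z : Z.left) (M N : AddCommGrpCat.{u + 1}) (c : M ⟶ N)
      (α : EtCoh.restr F Z ≅ (constantSheaf (X.smallEtaleTopology.over Z) AddCommGrpCat.{u + 1}).obj M)
      (β : EtCoh.restr G Z ≅ (constantSheaf (X.smallEtaleTopology.over Z) AddCommGrpCat.{u + 1}).obj N),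
      Finite M ∧ Finite N ∧ Z.hom.base z = x ∧
      (X.smallEtaleTopology.overPullback AddCommGrpCat.{u + 1} Z).map φ ≫ β.hom =
        α.hom ≫ (constantSheaf (X.smallEtaleTopology.over Z) AddCommGrpCat.{u + 1}).map c := by
  obtain ⟨ι₁, U₁, hU₁, hM⟩ := hF
  obtain ⟨ι₂, U₂, hU₂, hN⟩ := hG
  obtain ⟨i, y₁, hy₁⟩ := hU₁ x
  obtain ⟨j, y₂, hy₂⟩ := hU₂ x
  obtain ⟨M₀, iM₀, fM₀, ⟨α₁⟩⟩ := hM i
  obtain ⟨N₀, iN₀, fN₀, ⟨β₂⟩⟩ := hN j
  have hfM : Finite (AddCommGrpCat.of (ULift.{u + 1} M₀)) :=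
    inferInstanceAs (Finite (ULift.{u + 1} M₀))
  have hfN : Finite (AddCommGrpCat.of (ULift.{u + 1} N₀)) :=
    inferInstanceAs (Finite (ULift.{u + 1} N₀))
  obtain ⟨Z, z, c, α, β, hz, hc⟩ := local_hom φ x (U₁ i) (U₂ j) y₁ y₂ hy₁ hy₂
    (AddCommGrpCat.of (ULift.{u + 1} M₀)) (AddCommGrpCat.of (ULift.{u + 1} N₀)) α₁ β₂
  exact ⟨Z, z, _, _, c, α, β, hfM, hfN, hz, hc⟩

theorem flc_kernel_cokernel {F G : EtCoh.Ab X} (φ : F ⟶ G)
    (hF : EtCoh.IsFiniteLocallyConstant F) (hG : EtCoh.IsFiniteLocallyConstant G) :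
    EtCoh.IsFiniteLocallyConstant (kernel φ) ∧ EtCoh.IsFiniteLocallyConstant (cokernel φ) := by
  constructor
  · apply flc_of_pointwise
    intro x
    obtain ⟨Z, z, M, N, c, α, β, hM, hN, hz, hc⟩ := exists_local_data φ hF hG x
    refine ⟨Z, z, hz, kernel c, ?_, (restr_kernel_cokernel_iso φ Z c α β hc).1⟩
    exact Finite.of_injective _ ((AddCommGrpCat.mono_iff_injective (kernel.ι c)).1 inferInstance)
  · apply flc_of_pointwise
    intro x
    obtain ⟨Z, z, M, N, c, α, β, hM, hN, hz, hc⟩ := exists_local_data φ hF hG x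
    refine ⟨Z, z, hz, cokernel c, ?_, (restr_kernel_cokernel_iso φ Z c α β hc).2⟩
    exact Finite.of_surjective _ ((AddCommGrpCat.epi_iff_surjective (cokernel.π c)).1 inferInstance)

end Groth.Agent.Lib.Helper4.LocConst
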