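import Groth.Agent.Lib.Helper4.LocConstEtMod
import Mathlib.CategoryTheory.Sites.CoverLifting
import Mathlib.CategoryTheory.Sites.Pullback
import Mathlib.CategoryTheory.Sites.Limits
import Mathlib.CategoryTheory.Limits.Preserves.Shapes.Kernels
import Mathlib.Algebra.Category.ModuleCat.EpiMono
import Mathlib.RingTheory.Noetherian.Basic

set_option autoImplicit false
open CategoryTheory CategoryTheory.Limits AlgebraicGeometry Opposite
universe u

noncomputable section

namespace Groth.Agent.Lib.Helper4.LocConstMod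

variable {Λ : Type (u + 1)} [CommRing Λ] {X : Scheme.{u}}

def overPullbackAdj (V : X.Etale) :
    X.smallEtaleTopology.overPullback (ModuleCat.{u + 1} Λ) V ⊣
      (Over.forget V).sheafPushforwardCocontinuous (ModuleCat.{u + 1} Λ)
        (X.smallEtaleTopology.over V) X.smallEtaleTopology :=
  (Over.forget V).sheafAdjunctionCocontinuous (ModuleCat.{u + 1} Λ)
    (X.smallEtaleTopology.over V) X.smallEtaleTopology

instance (V : X.Etale) : (X.smallEtaleTopology.overPullback (ModuleCat.{u + 1} Λ) V).IsLeftAdjoint :=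
  (overPullbackAdj V).isLeftAdjoint

instance (V : X.Etale) :
    PreservesFiniteLimits (constantSheaf (X.smallEtaleTopology.over V) (ModuleCat.{u + 1} Λ)) := by
  unfold constantSheaf
  infer_instance

instance (V : X.Etale) :
    (constantSheaf (X.smallEtaleTopology.over V) (ModuleCat.{u + 1} Λ)).IsLeftAdjoint :=
  (constantSheafAdj (X.smallEtaleTopology.over V) (ModuleCat.{u + 1} Λ)
    Over.mkIdTerminal).isLeftAdjoint

theorem restr_kernel_cokernel_iso {F G : EtModW.Mod Λ X} (φ : F ⟶ G) (Z : X.Etale)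
    {M N : (ModuleCat.{u + 1} Λ)} (c : M ⟶ N)
    (α : EtModW.restr Λ F Z ≅ (constantSheaf (X.smallEtaleTopology.over Z) (ModuleCat.{u + 1} Λ)).obj M)
    (β : EtModW.restr Λ G Z ≅ (constantSheaf (X.smallEtaleTopology.over Z) (ModuleCat.{u + 1} Λ)).obj N)
    (sq : (X.smallEtaleTopology.overPullback (ModuleCat.{u + 1} Λ) Z).map φ ≫ β.hom =
        α.hom ≫ (constantSheaf (X.smallEtaleTopology.over Z) (ModuleCat.{u + 1} Λ)).map c) :
    Nonempty (EtModW.restr Λ (kernel φ) Z ≅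
      (constantSheaf (X.smallEtaleTopology.over Z) (ModuleCat.{u + 1} Λ)).obj (kernel c)) ∧
    Nonempty (EtModW.restr Λ (cokernel φ) Z ≅
      (constantSheaf (X.smallEtaleTopology.over Z) (ModuleCat.{u + 1} Λ)).obj (cokernel c)) := by
  constructor
  · exact ⟨PreservesKernel.iso (X.smallEtaleTopology.overPullback (ModuleCat.{u + 1} Λ) Z) φ ≪≫
      kernel.mapIso _ _ α β sq ≪≫
      (PreservesKernel.iso (constantSheaf (X.smallEtaleTopology.over Z) (ModuleCat.{u + 1} Λ)) c).symm⟩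
  · exact ⟨PreservesCokernel.iso (X.smallEtaleTopology.overPullback (ModuleCat.{u + 1} Λ) Z) φ ≪≫
      cokernel.mapIso _ _ α β sq ≪≫
      (PreservesCokernel.iso (constantSheaf (X.smallEtaleTopology.over Z) (ModuleCat.{u + 1} Λ)) c).symm⟩

theorem ft_of_pointwise (H : EtModW.Mod Λ X)
    (h : ∀ x : X, ∃ (Z : X.Etale) (z : Z.left), Z.hom.base z = x ∧
      ∃ (A : (ModuleCat.{u + 1} Λ)), Module.Finite Λ A ∧ Nonempty (EtModW.restr Λ H Z ≅
        (constantSheaf (X.smallEtaleTopology.over Z) (ModuleCat.{u + 1} Λ)).obj A)) :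
    EtModW.IsFTLocConst Λ H := by
  choose Z z hz A hA hiso using h
  refine ⟨X, Z, fun x => ⟨x, z x, hz x⟩, fun x => ?_⟩
  obtain ⟨e'⟩ := hiso x
  exact ⟨A x, inferInstance, inferInstance, hA x, ⟨e'⟩⟩

theorem exists_local_data {F G : EtModW.Mod Λ X} (φ : F ⟶ G)
    (hF : EtModW.IsFTLocConst Λ F) (hG : EtModW.IsFTLocConst Λ G) (x : X) :
    ∃ (Z : X.Etale) (z : Z.left) (M N : (ModuleCat.{u + 1} Λ)) (c : M ⟶ N)
      (α : EtModW.restr Λ F Z ≅ (constantSheaf (X.smallEtaleTopology.over Z) (ModuleCat.{u + 1} Λ)).obj M)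
      (β : EtModW.restr Λ G Z ≅ (constantSheaf (X.smallEtaleTopology.over Z) (ModuleCat.{u + 1} Λ)).obj N),
      Module.Finite Λ M ∧ Module.Finite Λ N ∧ Z.hom.base z = x ∧
      (X.smallEtaleTopology.overPullback (ModuleCat.{u + 1} Λ) Z).map φ ≫ β.hom =
        α.hom ≫ (constantSheaf (X.smallEtaleTopology.over Z) (ModuleCat.{u + 1} Λ)).map c := by
  obtain ⟨ι₁, U₁, hU₁, hM⟩ := hF
  obtain ⟨ι₂, U₂, hU₂, hN⟩ := hG
  obtain ⟨i, y₁, hy₁⟩ := hU₁ x
  obtain ⟨j, y₂, hy₂⟩ := hU₂ x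
  obtain ⟨M, iM, mM, fM, ⟨α₁⟩⟩ := hM i
  obtain ⟨N, iN, mN, fN, ⟨β₂⟩⟩ := hN j
  have hfM : Module.Finite Λ (ModuleCat.of Λ M) := fM
  have hfN : Module.Finite Λ (ModuleCat.of Λ N) := fN
  obtain ⟨Z, z, c, α, β, hz, hc⟩ := local_hom φ x (U₁ i) (U₂ j) y₁ y₂ hy₁ hy₂
    (ModuleCat.of Λ M) (ModuleCat.of Λ N) α₁ β₂
  exact ⟨Z, z, _, _, c, α, β, hfM, hfN, hz, hc⟩

theorem ft_kernel_cokernel [IsNoetherianRing Λ] {F G : EtModW.Mod Λ X} (φ : F ⟶ G)
    (hF : EtModW.IsFTLocConst Λ F) (hG : EtModW.IsFTLocConst Λ G) :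
    EtModW.IsFTLocConst Λ (kernel φ) ∧ EtModW.IsFTLocConst Λ (cokernel φ) := by
  constructor
  · apply ft_of_pointwise
    intro x
    obtain ⟨Z, z, M, N, c, α, β, hM, hN, hz, hc⟩ := exists_local_data φ hF hG x
    refine ⟨Z, z, hz, kernel c, ?_, (restr_kernel_cokernel_iso φ Z c α β hc).1⟩
    have : IsNoetherian Λ M := isNoetherian_of_isNoetherianRing_of_finite Λ M
    exact Module.Finite.of_injective (kernel.ι c).hom
      ((ModuleCat.mono_iff_injective (kernel.ι c)).1 inferInstance)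
  · apply ft_of_pointwise
    intro x
    obtain ⟨Z, z, M, N, c, α, β, hM, hN, hz, hc⟩ := exists_local_data φ hF hG x
    refine ⟨Z, z, hz, cokernel c, ?_, (restr_kernel_cokernel_iso φ Z c α β hc).2⟩
    exact Module.Finite.of_surjective (cokernel.π c).hom
      ((ModuleCat.epi_iff_surjective (cokernel.π c)).1 inferInstance)

end Groth.Agent.Lib.Helper4.LocConstMod
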