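import Mathlib.CategoryTheory.Sites.ConstantSheaf
import Mathlib.CategoryTheory.Sites.LocallyBijective
import Mathlib.CategoryTheory.Sites.Localization
import Mathlib.Algebra.Category.ModuleCat.Basic

set_option autoImplicit false
open CategoryTheory CategoryTheory.Limits Opposite
universe w v u

noncomputable section

namespace Groth.Agent.Lib.Helper4.LocConstMod

variable {Λ : Type w} [CommRing Λ]
variable {D : Type u} [Category.{v} D] (K : GrothendieckTopology D) {T : D} (hT : IsTerminal T)
variable [HasWeakSheafify K (ModuleCat.{w} Λ)] [K.WEqualsLocallyBijective (ModuleCat.{w} Λ)]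

def constMap (F : Sheaf K (ModuleCat.{w} Λ)) {M : (ModuleCat.{w} Λ)} (a : M ⟶ F.obj.obj (op T)) :
    (Functor.const Dᵒᵖ).obj M ⟶ F.obj :=
  ((constantPresheafAdj (ModuleCat.{w} Λ) hT).homEquiv M F.obj).symm a

theorem constMap_app (F : Sheaf K (ModuleCat.{w} Λ)) {M : (ModuleCat.{w} Λ)}
    (a : M ⟶ F.obj.obj (op T)) (Y : D) :
    (constMap K hT F a).app (op Y) = a ≫ F.obj.map (hT.from Y).op := by
  simp [constMap, Adjunction.homEquiv_counit]

def adjMap (F : Sheaf K (ModuleCat.{w} Λ)) {M : (ModuleCat.{w} Λ)} (a : M ⟶ F.obj.obj (op T)) :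
    (constantSheaf K (ModuleCat.{w} Λ)).obj M ⟶ F :=
  ((constantSheafAdj K (ModuleCat.{w} Λ) hT).homEquiv M F).symm a

theorem toSheafify_adjMap (F : Sheaf K (ModuleCat.{w} Λ)) {M : (ModuleCat.{w} Λ)}
    (a : M ⟶ F.obj.obj (op T)) :
    toSheafify K ((Functor.const Dᵒᵖ).obj M) ≫ (adjMap K hT F a).hom = constMap K hT F a := by
  have h1 : adjMap K hT F a =
      ((sheafificationAdjunction K (ModuleCat.{w} Λ)).homEquiv _ F).symm (constMap K hT F a) := by
    apply ((sheafificationAdjunction K (ModuleCat.{w} Λ)).homEquiv _ F).injective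
    rw [Equiv.apply_symm_apply]
    apply ((constantPresheafAdj (ModuleCat.{w} Λ) hT).homEquiv M F.obj).injective
    have h := congrFun (congrFun (Adjunction.comp_homEquiv (constantPresheafAdj (ModuleCat.{w} Λ) hT)
      (sheafificationAdjunction K (ModuleCat.{w} Λ))) M) F
    have h' : ((constantPresheafAdj (ModuleCat.{w} Λ) hT).homEquiv M F.obj)
        (((sheafificationAdjunction K (ModuleCat.{w} Λ)).homEquiv ((Functor.const Dᵒᵖ).obj M) F)
          (adjMap K hT F a)) = a := by
      have h3 := congrArg (fun e => e (adjMap K hT F a)) h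
      exact h3.symm.trans (Equiv.apply_symm_apply _ _)
    rw [h']
    exact (Equiv.apply_symm_apply _ _).symm
  have h2 := (sheafificationAdjunction K (ModuleCat.{w} Λ)).homEquiv_unit
    (X := (Functor.const Dᵒᵖ).obj M) (Y := F) (f := adjMap K hT F a)
  rw [h1, Equiv.apply_symm_apply] at h2
  rw [h2, h1]
  rfl

theorem isIso_adjMap_iff (F : Sheaf K (ModuleCat.{w} Λ)) {M : (ModuleCat.{w} Λ)}
    (a : M ⟶ F.obj.obj (op T)) :
    IsIso (adjMap K hT F a) ↔
      Presheaf.IsLocallyInjective K (constMap K hT F a) ∧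
        Presheaf.IsLocallySurjective K (constMap K hT F a) := by
  rw [← K.W_iff_isLocallyBijective, ← K.W_sheafToPresheaf_map_iff_isIso]
  have h := toSheafify_adjMap K hT F a
  have hW := K.W_toSheafify ((Functor.const Dᵒᵖ).obj M)
  constructor
  · intro h2
    rw [← h]
    exact K.W.comp_mem _ _ hW h2
  · intro h2
    rw [← h] at h2
    exact K.W.of_precomp _ _ hW h2

end Groth.Agent.Lib.Helper4.LocConstMod
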