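import Mathlib
import Groth.Agent.Lib.Helper72.SchDense

universe u

open CategoryTheory CategoryTheory.Limits AlgebraicGeometry TopologicalSpace

namespace Groth.Agent.Lib.Helper4.NeronDescG

lemma ext_of_schDominant_of_isSeparated {W X Y Z : Scheme.{u}} {f g : X ⟶ Y} (s : Y ⟶ Z)
    [IsSeparated s] (h : f ≫ s = g ≫ s) (ι : W ⟶ X) [IsSchemeTheoreticallyDominant ι]
    (hU : ι ≫ f = ι ≫ g) : f = g := by
  let X' : Over Z := Over.mk (f ≫ s)
  let Y' : Over Z := Over.mk s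
  let U' : Over Z := Over.mk (ι ≫ f ≫ s)
  let f' : X' ⟶ Y' := Over.homMk f
  let g' : X' ⟶ Y' := Over.homMk g
  let ι' : U' ⟶ X' := Over.homMk ι
  have : IsSeparated Y'.hom := ‹_›
  have hlift : (equalizer.lift ι' (show ι' ≫ f' = ι' ≫ g' by ext1; exact hU)).left ≫
      (equalizer.ι f' g').left = ι := by
    rw [← Over.comp_left, equalizer.lift_ι]; rfl
  have hker : (equalizer.ι f' g').left.ker = ⊥ := by
    have h1 := Scheme.Hom.le_ker_comp
      (equalizer.lift ι' (show ι' ≫ f' = ι' ≫ g' by ext1; exact hU)).left (equalizer.ι f' g').left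
    rw [hlift, ι.ker_eq_bot] at h1
    exact le_bot_iff.mp h1
  have : IsIso (equalizer.ι f' g').left := IsClosedImmersion.isIso_iff_ker_eq_bot.mpr hker
  rw [← cancel_epi (equalizer.ι f' g').left]
  exact congr($(equalizer.condition f' g').left)

theorem glue_of_local {Y N S : Scheme.{u}} (q : Y ⟶ S) (πN : N ⟶ S) [IsSeparated πN]
    (V : Y.Opens)
    (hV : ∀ W : Y.Opens, IsSchemeTheoreticallyDominant (Y.homOfLE (inf_le_left : W ⊓ V ≤ W)))
    (a : V.toScheme ⟶ N) (ha : a ≫ πN = V.ι ≫ q)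
    (hloc : ∀ y : Y, ∃ (W : Y.Opens) (_ : y ∈ W) (f : W.toScheme ⟶ N), f ≫ πN = W.ι ≫ q ∧
      Y.homOfLE (inf_le_left : W ⊓ V ≤ W) ≫ f = Y.homOfLE (inf_le_right : W ⊓ V ≤ V) ≫ a) :
    ∃ b : Y ⟶ N, b ≫ πN = q ∧ V.ι ≫ b = a := by
  choose W hyW f hfπ hfa using hloc
  let 𝒰 : Y.OpenCover := Y.openCoverOfIsOpenCover W (IsOpenCover.mk (by
    rw [eq_top_iff]
    intro y _
    exact Opens.mem_iSup.2 ⟨y, hyW y⟩))
  have hcompat : ∀ y z : Y, pullback.fst (W y).ι (W z).ι ≫ f y =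
      pullback.snd (W y).ι (W z).ι ≫ f z := by
    intro y z
    have sq := isPullback_opens_inf (W y) (W z)
    have e1 : sq.isoPullback.hom ≫ pullback.fst (W y).ι (W z).ι = Y.homOfLE inf_le_left :=
      sq.isoPullback_hom_fst
    have e2 : sq.isoPullback.hom ≫ pullback.snd (W y).ι (W z).ι = Y.homOfLE inf_le_right :=
      sq.isoPullback_hom_snd
    rw [← cancel_epi sq.isoPullback.hom, ← Category.assoc, ← Category.assoc, e1, e2]
    have := hV (W y ⊓ W z)
    refine ext_of_schDominant_of_isSeparated πN ?_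
      (Y.homOfLE (inf_le_left : (W y ⊓ W z) ⊓ V ≤ W y ⊓ W z)) ?_
    · rw [Category.assoc, Category.assoc, hfπ, hfπ, Scheme.homOfLE_ι_assoc,
        Scheme.homOfLE_ι_assoc]
    · have h1 : Y.homOfLE (inf_le_left : (W y ⊓ W z) ⊓ V ≤ W y ⊓ W z) ≫
          Y.homOfLE (inf_le_left : W y ⊓ W z ≤ W y) =
          Y.homOfLE (le_inf (inf_le_left.trans inf_le_left) inf_le_right :
            (W y ⊓ W z) ⊓ V ≤ W y ⊓ V) ≫ Y.homOfLE (inf_le_left : W y ⊓ V ≤ W y) := by
        rw [Scheme.homOfLE_homOfLE, Scheme.homOfLE_homOfLE]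
      have h2 : Y.homOfLE (inf_le_left : (W y ⊓ W z) ⊓ V ≤ W y ⊓ W z) ≫
          Y.homOfLE (inf_le_right : W y ⊓ W z ≤ W z) =
          Y.homOfLE (le_inf (inf_le_left.trans inf_le_right) inf_le_right :
            (W y ⊓ W z) ⊓ V ≤ W z ⊓ V) ≫ Y.homOfLE (inf_le_left : W z ⊓ V ≤ W z) := by
        rw [Scheme.homOfLE_homOfLE, Scheme.homOfLE_homOfLE]
      rw [← Category.assoc, ← Category.assoc, h1, h2, Category.assoc, Category.assoc, hfa, hfa,
        ← Category.assoc, ← Category.assoc, Scheme.homOfLE_homOfLE, Scheme.homOfLE_homOfLE]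
  refine ⟨𝒰.glueMorphisms f hcompat, ?_, ?_⟩
  · apply 𝒰.hom_ext
    intro (y : Y)
    have h1 : 𝒰.f y ≫ 𝒰.glueMorphisms f hcompat = f y := 𝒰.ι_glueMorphisms f hcompat y
    rw [← Category.assoc, h1]
    exact hfπ y
  · apply (𝒰.pullback₁ V.ι).hom_ext
    intro (y : Y)
    have h1 : 𝒰.f y ≫ 𝒰.glueMorphisms f hcompat = f y := 𝒰.ι_glueMorphisms f hcompat y
    change pullback.fst V.ι (W y).ι ≫ V.ι ≫ 𝒰.glueMorphisms f hcompat =
      pullback.fst V.ι (W y).ι ≫ a
    have h2 : pullback.fst V.ι (W y).ι ≫ V.ι ≫ 𝒰.glueMorphisms f hcompat =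
        pullback.snd V.ι (W y).ι ≫ f y := by
      rw [pullback.condition_assoc]
      exact congrArg (fun t => pullback.snd V.ι (W y).ι ≫ t) h1
    rw [h2]
    have sq := (isPullback_opens_inf (W y) V).flip
    have e1 : sq.isoPullback.hom ≫ pullback.fst V.ι (W y).ι = Y.homOfLE inf_le_right :=
      sq.isoPullback_hom_fst
    have e2 : sq.isoPullback.hom ≫ pullback.snd V.ι (W y).ι = Y.homOfLE inf_le_left :=
      sq.isoPullback_hom_snd
    rw [← cancel_epi sq.isoPullback.hom, ← Category.assoc, ← Category.assoc, e1, e2]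
    exact hfa y

end Groth.Agent.Lib.Helper4.NeronDescG
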