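import Groth.Agent.S0009

set_option autoImplicit false

namespace Groth.Agent.Lib.Helper4.PruferSerreT8

open CategoryTheory AlgebraicGeometry

universe u

theorem surjective_of_HH_one {X : Scheme.{u}} (S : ShortComplex X.Modules) (hS : S.ShortExact)
    (h : Subsingleton (Coh.HH X S.X₁ 1)) :
    Function.Surjective (S.g.val.app (Opposite.op ⊤)).hom :=
  Groth.Agent.S0009.surjective_of_H1 hS h

end Groth.Agent.Lib.Helper4.PruferSerreT8
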