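import Groth.Agent.S0102
import Groth.Agent.S0671
import Groth.Agent.Lib.Helper4.ExtZeroBC

set_option autoImplicit false
open CategoryTheory CategoryTheory.Limits AlgebraicGeometry Opposite
universe u

namespace Groth.Agent.Lib.Helper4.PushSupp

theorem map_eq_zero_iff {S : Scheme.{u}} (F : EtCoh.Ab S) (U : S.Etale) (σ : EtCoh.sect F U)
    (V : S.Etale) (φ : V ⟶ U) :
    F.obj.map φ.op σ = 0 ↔ Set.range φ.left.base ⊆ (EtShriek.sectSupp F U σ)ᶜ := by
  constructor
  · rintro h0 _ ⟨v, rfl⟩
    intro hv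
    exact hv V φ ⟨v, rfl⟩ h0
  · intro hsub
    have hsep := Sheaf.isSeparated F
    let R : Sieve V :=
      { arrows := fun T g => F.obj.map (g ≫ φ).op σ = 0
        downward_closed := by
          intro T T' g hg k
          rw [Category.assoc, op_comp, Functor.map_comp]
          change F.obj.map k.op (F.obj.map (g ≫ φ).op σ) = 0
          rw [hg, map_zero] }
    have hR : R ∈ S.smallEtaleTopology V := by
      apply Groth.Agent.S0102.mem_of_forall_exists
      intro x
      have hx : φ.left.base x ∉ EtShriek.sectSupp F U σ := hsub ⟨x, rfl⟩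
      simp only [EtShriek.sectSupp, Set.mem_ofPred_eq, not_forall, not_not] at hx
      obtain ⟨W', g, ⟨w, hw⟩, h0⟩ := hx
      have : Etale φ.left := inferInstance
      have : Etale g.left := inferInstance
      have : Etale V.hom := V.prop
      let T : S.Etale := Scheme.Etale.mk (pullback.fst φ.left g.left ≫ V.hom)
      let k : T ⟶ V := MorphismProperty.Over.homMk (pullback.fst φ.left g.left) rfl
      have hφ : φ.left ≫ U.hom = V.hom := MorphismProperty.Over.w φ
      have hg : g.left ≫ U.hom = W'.hom := MorphismProperty.Over.w g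
      let k' : T ⟶ W' := MorphismProperty.Over.homMk (pullback.snd φ.left g.left) (by
        change pullback.snd φ.left g.left ≫ W'.hom = pullback.fst φ.left g.left ≫ V.hom
        rw [← hg, ← hφ, ← Category.assoc, ← Category.assoc, pullback.condition])
      have hk : k ≫ φ = k' ≫ g := by
        apply MorphismProperty.Over.Hom.ext
        exact pullback.condition
      obtain ⟨z, hz1, hz2⟩ := Scheme.Pullback.exists_preimage_pullback (f := φ.left) (g := g.left)
        x w hw.symm
      refine ⟨T, k, z, ?_, hz1⟩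
      change F.obj.map (k ≫ φ).op σ = 0
      rw [hk, op_comp, Functor.map_comp]
      change F.obj.map k'.op (F.obj.map g.op σ) = 0
      rw [h0, map_zero]
    refine hsep V R hR _ _ ?_
    intro T g hg
    rw [map_zero]
    have : F.obj.map g.op (F.obj.map φ.op σ) = F.obj.map (g ≫ φ).op σ := by
      rw [op_comp, Functor.map_comp]
      rfl
    rw [this]
    exact hg

theorem hom_mem_supp {S : Scheme.{u}} (F : EtCoh.Ab S) (U : S.Etale) (σ : EtCoh.sect F U)
    (y : U.left) (hy : y ∈ EtShriek.sectSupp F U σ) : U.hom.base y ∈ EtPBC.supp F :=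
  Groth.Agent.S0671.subset_supp F
    (Set.mem_iUnion.2 ⟨U, Set.mem_iUnion.2 ⟨σ, ⟨y, hy, rfl⟩⟩⟩)

theorem isZero_stalk_push_of_universallyClosed {X Y : Scheme.{u}} (f : X ⟶ Y)
    [UniversallyClosed f] (G : EtCoh.Ab X) {Ω : Type u} [Field Ω] [IsSepClosed Ω]
    (ξ : Spec (CommRingCat.of Ω) ⟶ Y)
    (hξ : ∀ x : X, f.base x = ξ.base default → x ∉ EtPBC.supp G) :
    IsZero ((EtCoh.stalk ξ).obj ((EtCoh.push f).obj G)) := by
  set Φ := Scheme.pointSmallEtale ξ with hΦ
  set P : (Y.Etale)ᵒᵖ ⥤ AddCommGrpCat.{u+1} := ((EtCoh.push f).obj G).obj with hP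
  change IsZero (Φ.presheafFiber.obj P)
  rw [IsZero.iff_id_eq_zero]
  apply Φ.presheafFiber_hom_ext
  intro W w
  rw [Category.comp_id, comp_zero]
  ext σ
  change Φ.toPresheafFiber W w P σ = 0
  rw [Groth.Agent.S0671.germ_eq_zero_iff ((EtCoh.push f).obj G) ξ W w σ]
  let pt : ↥(Spec (CommRingCat.of Ω)) := default
  let w' : Over.mk ξ ⟶ (Scheme.Etale.forget Y).obj W := w
  have hw' : w'.left ≫ W.hom = ξ := Over.w w'
  let V : X.Etale := (EtCoh.bc f).obj W
  let σ' : EtCoh.sect G V := σ
  let Zσ : Set V.left := EtShriek.sectSupp G V σ'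
  have hZ : IsClosed Zσ := Groth.Agent.S0671.isClosed_sectSupp G V σ'
  let q : V.left ⟶ W.left := pullback.fst W.hom f
  have hq : UniversallyClosed q :=
    MorphismProperty.pullback_fst (P := @UniversallyClosed) _ _ inferInstance
  have hC : IsClosed (q.base '' Zσ) := q.isClosedMap _ hZ
  have hw₀ : w'.left.base pt ∉ q.base '' Zσ := by
    rintro ⟨y, hy, hqy⟩
    have hs := hom_mem_supp G V σ' y hy
    refine hξ _ ?_ hs
    have h1 : (pullback.fst W.hom f ≫ W.hom).base y = (pullback.snd W.hom f ≫ f).base y := by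
      rw [pullback.condition]
    have h2 : (w'.left ≫ W.hom).base pt = ξ.base pt := by rw [hw']
    change f.base ((pullback.snd W.hom f).base y) = ξ.base pt
    refine Eq.trans h1.symm ?_
    change W.hom.base (q.base y) = _
    rw [hqy]
    exact h2
  let O : W.left.Opens := ⟨(q.base '' Zσ)ᶜ, hC.isOpen_compl⟩
  have : Etale W.hom := W.prop
  let W' : Y.Etale := Scheme.Etale.mk (O.ι ≫ W.hom)
  let ι' : W' ⟶ W := MorphismProperty.Over.homMk O.ι rfl
  have hr : Set.range w'.left.base ⊆ Set.range O.ι.base := by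
    rintro _ ⟨a, rfl⟩
    rw [Subsingleton.elim (α := ↥(Spec (CommRingCat.of Ω))) a pt]
    exact (Set.ext_iff.1 (Scheme.Opens.range_ι O) _).2 hw₀
  let l : Spec (CommRingCat.of Ω) ⟶ O.toScheme := IsOpenImmersion.lift O.ι w'.left hr
  have hl : l ≫ O.ι = w'.left := IsOpenImmersion.lift_fac _ _ _
  let w'' : Φ.fiber.obj W' := (Over.homMk l (by
    change l ≫ O.ι ≫ W.hom = ξ
    exact ((Category.assoc _ _ _).symm.trans ((congrArg (· ≫ W.hom) hl).trans hw'))) :
      Over.mk ξ ⟶ (Scheme.Etale.forget Y).obj W')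
  refine ⟨W', ι', w'', ?_, ?_⟩
  · exact Over.OverMorphism.ext hl
  · change G.obj.map ((EtCoh.bc f).map ι').op σ' = 0
    rw [map_eq_zero_iff]
    rintro _ ⟨y', rfl⟩ hy'
    have h1 := ExtZeroBC.bc_map_fst f ι'
    have h2 : q.base (((EtCoh.bc f).map ι').left.base y') =
        O.ι.base ((pullback.fst W'.hom f).base y') :=
      congrArg (fun k : ((EtCoh.bc f).obj W').left ⟶ W.left => k.base y') h1
    have h3 : q.base (((EtCoh.bc f).map ι').left.base y') ∈ q.base '' Zσ := ⟨_, hy', rfl⟩
    rw [h2] at h3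
    exact ((pullback.fst W'.hom f).base y').2 h3

end Groth.Agent.Lib.Helper4.PushSupp
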