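import Groth.Agent.Lib.Helper4.ClosedRecoll
import Groth.Agent.Lib.Helper4.EtRestr
import Groth.Prelude.Def_W4c1etweilhu916Glue

set_option autoImplicit false
open CategoryTheory CategoryTheory.Limits AlgebraicGeometry Opposite
universe u

namespace Groth.Agent.Lib.Helper4.Recoll

theorem isPullback_of_stalk {X : Scheme.{u}} {P A B C : EtCoh.Ab X} {fst : P ⟶ A} {snd : P ⟶ B}
    {f : A ⟶ C} {g : B ⟶ C} (w : fst ≫ f = snd ≫ g)
    (h : ∀ (Ω : Type u) [Field Ω] [IsSepClosed Ω] (ξ : Spec (CommRingCat.of Ω) ⟶ X),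
      IsPullback ((EtCoh.stalk ξ).map fst) ((EtCoh.stalk ξ).map snd)
        ((EtCoh.stalk ξ).map f) ((EtCoh.stalk ξ).map g)) :
    IsPullback fst snd f g := by
  let c := pullback.lift fst snd w
  have hc : IsIso c := (EtStalk.isIso_iff_stalk c).2 fun Ω _ _ ξ => by
    have h1 := map_lift_pullbackComparison (EtCoh.stalk ξ) f g w
    have h2 : pullback.lift ((EtCoh.stalk ξ).map fst) ((EtCoh.stalk ξ).map snd)
        (by simp only [← Functor.map_comp, w]) = (h Ω ξ).isoPullback.hom := by
      apply pullback.hom_ext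
      · rw [pullback.lift_fst, IsPullback.isoPullback_hom_fst]
      · rw [pullback.lift_snd, IsPullback.isoPullback_hom_snd]
    rw [h2] at h1
    have h3 : IsIso ((EtCoh.stalk ξ).map c ≫ pullbackComparison (EtCoh.stalk ξ) f g) := by
      rw [h1]; infer_instance
    exact IsIso.of_isIso_comp_right _ (pullbackComparison (EtCoh.stalk ξ) f g)
  exact IsPullback.of_iso_pullback ⟨w⟩ (asIso c) (pullback.lift_fst _ _ _) (pullback.lift_snd _ _ _)

section
variable {U X : Scheme.{u}} (j : U ⟶ X) [IsOpenImmersion j]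

theorem isIso_pull_unit_open (F : EtCoh.Ab X) :
    IsIso ((EtCoh.pull j).map ((EtCoh.pullPushAdj j).unit.app F)) := by
  have h := (EtCoh.pullPushAdj j).left_triangle_components F
  have : IsIso ((EtCoh.pullPushAdj j).counit.app ((EtCoh.pull j).obj F)) :=
    EtRestr.isIso_pullPushAdj_counit_app j _
  have h2 : IsIso ((EtCoh.pull j).map ((EtCoh.pullPushAdj j).unit.app F) ≫
      (EtCoh.pullPushAdj j).counit.app ((EtCoh.pull j).obj F)) := by
    rw [h]
    exact IsIso.id _
  exact IsIso.of_isIso_comp_right _ ((EtCoh.pullPushAdj j).counit.app ((EtCoh.pull j).obj F))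

theorem isIso_stalk_unit_open (F : EtCoh.Ab X) {Ω : Type u} [Field Ω] [IsSepClosed Ω]
    (v : Spec (CommRingCat.of Ω) ⟶ U) :
    IsIso ((EtCoh.stalk (v ≫ j)).map ((EtCoh.pullPushAdj j).unit.app F)) := by
  have h2 := isIso_pull_unit_open j F
  have h3 : IsIso ((EtCoh.pull j ⋙ EtCoh.stalk v).map ((EtCoh.pullPushAdj j).unit.app F)) := by
    dsimp only [Functor.comp_map]
    infer_instance
  exact (PointULift.isIso_map_iff_of_natIso (EtStalkPull.stalkPullIso j v) _).1 h3

end

section
variable {X Z U : Scheme.{u}} (i : Z ⟶ X) [IsClosedImmersion i] (j : U ⟶ X) [IsOpenImmersion j]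
  (hZU : Set.range j.base = (Set.range i.base)ᶜ)

include hZU in
theorem dichotomy {Ω : Type u} [Field Ω] [IsSepClosed Ω] (ξ : Spec (CommRingCat.of Ω) ⟶ X) :
    (∃ v : Spec (CommRingCat.of Ω) ⟶ U, v ≫ j = ξ ∧
        Disjoint (Set.range ξ.base) (Set.range i.base)) ∨
    (∃ ζ : Spec (CommRingCat.of Ω) ⟶ Z, ζ ≫ i = ξ) := by
  let pt : ↥(Spec (CommRingCat.of Ω)) := default
  have hr : Set.range ξ.base = {ξ.base pt} := by
    ext y
    constructor
    · rintro ⟨a, rfl⟩
      rw [Subsingleton.elim (α := ↥(Spec (CommRingCat.of Ω))) a pt]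
      rfl
    · rintro rfl
      exact ⟨pt, rfl⟩
  by_cases h : ξ.base pt ∈ Set.range i.base
  · right
    have hsub : Set.range ξ.base ⊆ Set.range i.base := by
      rw [hr]
      exact Set.singleton_subset_iff.2 h
    exact ClosedRecoll.exists_lift_geomPt i ξ hsub
  · left
    have hsub : Set.range ξ.base ⊆ Set.range j.base := by
      rw [hr, hZU]
      exact Set.singleton_subset_iff.2 h
    refine ⟨IsOpenImmersion.lift j ξ hsub, IsOpenImmersion.lift_fac _ _ _, ?_⟩
    rw [hr, Set.disjoint_singleton_left]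
    exact h

include hZU in
theorem isZero_pull_push (K : EtCoh.Ab Z) :
    IsZero ((EtCoh.pull j).obj ((EtCoh.push i).obj K)) := by
  rw [EtStalk.isZero_iff_stalk]
  intro Ω _ _ v
  have e := (EtStalkPull.stalkPullIso j v).app ((EtCoh.push i).obj K)
  refine IsZero.of_iso ?_ e
  apply Groth.Agent.S0069.result i K (v ≫ j)
  rw [Set.disjoint_left]
  rintro _ ⟨a, rfl⟩ hmem
  have : (v ≫ j).base a ∈ Set.range j.base := ⟨v.base a, rfl⟩
  rw [hZU] at this
  exact this hmem

include hZU in
theorem isPullback_units (F : EtCoh.Ab X) :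
    IsPullback ((EtCoh.pullPushAdj j).unit.app F) ((EtCoh.pullPushAdj i).unit.app F)
      ((EtCoh.pullPushAdj i).unit.app ((EtCoh.push j).obj ((EtCoh.pull j).obj F)))
      ((EtCoh.push i).map ((EtCoh.pull i).map ((EtCoh.pullPushAdj j).unit.app F))) := by
  have w : (EtCoh.pullPushAdj j).unit.app F ≫
      (EtCoh.pullPushAdj i).unit.app ((EtCoh.push j).obj ((EtCoh.pull j).obj F)) =
      (EtCoh.pullPushAdj i).unit.app F ≫
        (EtCoh.push i).map ((EtCoh.pull i).map ((EtCoh.pullPushAdj j).unit.app F)) :=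
    (EtCoh.pullPushAdj i).unit.naturality ((EtCoh.pullPushAdj j).unit.app F)
  apply isPullback_of_stalk w
  intro Ω _ _ ξ
  have wξ : (EtCoh.stalk ξ).map ((EtCoh.pullPushAdj j).unit.app F) ≫
      (EtCoh.stalk ξ).map
        ((EtCoh.pullPushAdj i).unit.app ((EtCoh.push j).obj ((EtCoh.pull j).obj F))) =
      (EtCoh.stalk ξ).map ((EtCoh.pullPushAdj i).unit.app F) ≫
        (EtCoh.stalk ξ).map
          ((EtCoh.push i).map ((EtCoh.pull i).map ((EtCoh.pullPushAdj j).unit.app F))) := by
    rw [← Functor.map_comp, ← Functor.map_comp, w]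
  rcases dichotomy i j hZU ξ with ⟨v, rfl, hd⟩ | ⟨ζ, rfl⟩
  · have h1 := isIso_stalk_unit_open j F v
    have hz1 := Groth.Agent.S0069.result i ((EtCoh.pull i).obj F) (v ≫ j) hd
    have hz2 := Groth.Agent.S0069.result i
      ((EtCoh.pull i).obj ((EtCoh.push j).obj ((EtCoh.pull j).obj F))) (v ≫ j) hd
    have h2 : IsIso ((EtCoh.stalk (v ≫ j)).map
        ((EtCoh.push i).map ((EtCoh.pull i).map ((EtCoh.pullPushAdj j).unit.app F)))) :=
      ⟨0, hz1.eq_of_src _ _, hz2.eq_of_src _ _⟩
    exact IsPullback.of_horiz_isIso ⟨wξ⟩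
  · have h1 := ClosedRecoll.isIso_stalk_unit i F ζ
    have h2 := ClosedRecoll.isIso_stalk_unit i ((EtCoh.push j).obj ((EtCoh.pull j).obj F)) ζ
    exact IsPullback.of_vert_isIso ⟨wξ⟩

include hZU in
theorem faithful : (EtCore.recollTriple i j).Faithful where
  map_injective {F F'} a b hab := by
    have hl : (EtCoh.pull i).map a = (EtCoh.pull i).map b := congrArg CommaMorphism.left hab
    have hr : (EtCoh.pull j).map a = (EtCoh.pull j).map b := congrArg CommaMorphism.right hab
    apply (isPullback_units i j hZU F').hom_ext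
    · have na := (EtCoh.pullPushAdj j).unit.naturality a
      have nb := (EtCoh.pullPushAdj j).unit.naturality b
      exact na.trans ((congrArg (fun t => (EtCoh.pullPushAdj j).unit.app F ≫
        (EtCoh.push j).map t) hr).trans nb.symm)
    · have na := (EtCoh.pullPushAdj i).unit.naturality a
      have nb := (EtCoh.pullPushAdj i).unit.naturality b
      exact na.trans ((congrArg (fun t => (EtCoh.pullPushAdj i).unit.app F ≫
        (EtCoh.push i).map t) hl).trans nb.symm)

include hZU in
theorem full : (EtCore.recollTriple i j).Full where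
  map_surjective {F F'} φ := by
    let α : (EtCoh.pull i).obj F ⟶ (EtCoh.pull i).obj F' := φ.left
    let β : (EtCoh.pull j).obj F ⟶ (EtCoh.pull j).obj F' := φ.right
    have hφ : α ≫ (EtCoh.pull i).map ((EtCoh.pullPushAdj j).unit.app F') =
        (EtCoh.pull i).map ((EtCoh.pullPushAdj j).unit.app F) ≫
          (EtCoh.pull i).map ((EtCoh.push j).map β) := φ.w
    let a2 : F ⟶ (EtCoh.push j).obj ((EtCoh.pull j).obj F') :=
      (EtCoh.pullPushAdj j).unit.app F ≫ (EtCoh.push j).map β
    let a1 : F ⟶ (EtCoh.push i).obj ((EtCoh.pull i).obj F') :=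
      (EtCoh.pullPushAdj i).unit.app F ≫ (EtCoh.push i).map α
    have comm : a2 ≫ (EtCoh.pullPushAdj i).unit.app
          ((EtCoh.push j).obj ((EtCoh.pull j).obj F')) =
        a1 ≫ (EtCoh.push i).map ((EtCoh.pull i).map ((EtCoh.pullPushAdj j).unit.app F')) := by
      have n := (EtCoh.pullPushAdj i).unit.naturality a2
      refine n.trans ?_
      change (EtCoh.pullPushAdj i).unit.app F ≫ (EtCoh.push i).map ((EtCoh.pull i).map a2) = _
      rw [Category.assoc, ← Functor.map_comp, hφ, ← Functor.map_comp]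
    let a : F ⟶ F' := (isPullback_units i j hZU F').lift a2 a1 comm
    have ha2 : a ≫ (EtCoh.pullPushAdj j).unit.app F' = a2 := IsPullback.lift_fst _ _ _ _
    have ha1 : a ≫ (EtCoh.pullPushAdj i).unit.app F' = a1 := IsPullback.lift_snd _ _ _ _
    refine ⟨a, ?_⟩
    apply CommaMorphism.ext
    · change (EtCoh.pull i).map a = α
      apply ((EtCoh.pullPushAdj i).homEquiv _ _).injective
      rw [Adjunction.homEquiv_unit, Adjunction.homEquiv_unit]
      exact ((EtCoh.pullPushAdj i).unit.naturality a).symm.trans ha1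
    · change (EtCoh.pull j).map a = β
      apply ((EtCoh.pullPushAdj j).homEquiv _ _).injective
      rw [Adjunction.homEquiv_unit, Adjunction.homEquiv_unit]
      exact ((EtCoh.pullPushAdj j).unit.naturality a).symm.trans ha2

include hZU in
theorem essSurj : (EtCore.recollTriple i j).EssSurj where
  mem_essImage Y := by
    let G : EtCoh.Ab Z := Y.left
    let H : EtCoh.Ab U := Y.right
    let φ : G ⟶ (EtCoh.pull i).obj ((EtCoh.push j).obj H) := Y.hom
    let ηH := (EtCoh.pullPushAdj i).unit.app ((EtCoh.push j).obj H)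
    let F : EtCoh.Ab X := pullback ηH ((EtCoh.push i).map φ)
    let p2 : F ⟶ (EtCoh.push j).obj H := pullback.fst ηH ((EtCoh.push i).map φ)
    let p1 : F ⟶ (EtCoh.push i).obj G := pullback.snd ηH ((EtCoh.push i).map φ)
    have hp : p2 ≫ ηH = p1 ≫ (EtCoh.push i).map φ := pullback.condition
    have hpb : IsPullback p2 p1 ηH ((EtCoh.push i).map φ) := IsPullback.of_hasPullback _ _
    have hfli : PreservesFiniteLimits (EtCoh.pull i) := EtStalk.preservesFiniteLimits_pull i
    have hflj : PreservesFiniteLimits (EtCoh.pull j) := EtStalk.preservesFiniteLimits_pull j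
    have hpbi := hpb.map (EtCoh.pull i)
    have hpbj := hpb.map (EtCoh.pull j)
    have hi1 : IsIso ((EtCoh.pull i).map p1) := by
      have : IsIso ((EtCoh.pull i).map ηH) := ClosedRecoll.isIso_pull_unit i _
      exact hpbi.isIso_snd_of_isIso
    have hj2 : IsIso ((EtCoh.pull j).map p2) := by
      have : IsIso ((EtCoh.pull j).map ((EtCoh.push i).map φ)) :=
        ⟨0, (isZero_pull_push i j hZU _).eq_of_src _ _, (isZero_pull_push i j hZU _).eq_of_src _ _⟩
      exact hpbj.isIso_fst_of_isIso
    have hεi : IsIso ((EtCoh.pullPushAdj i).counit.app G) := ClosedStalk.isIso_counit_app i G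
    have hεj : IsIso ((EtCoh.pullPushAdj j).counit.app H) :=
      EtRestr.isIso_pullPushAdj_counit_app j H
    let l : (EtCoh.pull i).obj F ≅ G :=
      asIso ((EtCoh.pull i).map p1) ≪≫ asIso ((EtCoh.pullPushAdj i).counit.app G)
    let r : (EtCoh.pull j).obj F ≅ H :=
      asIso ((EtCoh.pull j).map p2) ≪≫ asIso ((EtCoh.pullPushAdj j).counit.app H)
    refine ⟨F, ⟨Comma.isoMk l r ?_⟩⟩
    change ((EtCoh.pull i).map p1 ≫ (EtCoh.pullPushAdj i).counit.app G) ≫ φ =
      (EtCoh.pull i).map ((EtCoh.pullPushAdj j).unit.app F) ≫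
        (EtCoh.pull i).map ((EtCoh.push j).map
          ((EtCoh.pull j).map p2 ≫ (EtCoh.pullPushAdj j).counit.app H))
    have hR : (EtCoh.pullPushAdj j).unit.app F ≫ (EtCoh.push j).map
        ((EtCoh.pull j).map p2 ≫ (EtCoh.pullPushAdj j).counit.app H) = p2 := by
      rw [Functor.map_comp, ← Category.assoc]
      have n := (EtCoh.pullPushAdj j).unit.naturality p2
      have t := (EtCoh.pullPushAdj j).right_triangle_components H
      exact (congrArg (· ≫ (EtCoh.push j).map ((EtCoh.pullPushAdj j).counit.app H)) n.symm).trans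
        ((Category.assoc _ _ _).trans ((congrArg (p2 ≫ ·) t).trans (Category.comp_id _)))
    rw [← Functor.map_comp, hR]
    have n := (EtCoh.pullPushAdj i).counit.naturality φ
    have t := (EtCoh.pullPushAdj i).left_triangle_components ((EtCoh.push j).obj H)
    rw [Category.assoc]
    refine (congrArg ((EtCoh.pull i).map p1 ≫ ·) n.symm).trans ?_
    refine (Category.assoc _ _ _).symm.trans ?_
    change ((EtCoh.pull i).map p1 ≫ (EtCoh.pull i).map ((EtCoh.push i).map φ)) ≫ _ = _
    rw [← Functor.map_comp, ← hp, Functor.map_comp, Category.assoc]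
    exact (congrArg ((EtCoh.pull i).map p2 ≫ ·) t).trans (Category.comp_id _)

include hZU in
theorem isEquivalence : (EtCore.recollTriple i j).IsEquivalence :=
  { faithful := faithful i j hZU
    full := full i j hZU
    essSurj := essSurj i j hZU }

end

end Groth.Agent.Lib.Helper4.Recoll
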