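import Groth.Agent.Lib.Helper4.InjDim
import Mathlib.Algebra.Category.ModuleCat.ChangeOfRingsExact
import Mathlib.Algebra.Category.ModuleCat.Projective
import Mathlib.Algebra.Category.ModuleCat.Ext.DimensionShifting
import Mathlib.Tactic

set_option autoImplicit false
universe u

namespace Groth.Agent.Lib.Helper4.Rees

open CategoryTheory CategoryTheory.Abelian

variable {A : Type u} [CommRing A] (f : A)

noncomputable abbrev Φ : ModuleCat.{u} (A ⧸ Ideal.span {f}) ⥤ ModuleCat.{u} A :=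
  ModuleCat.restrictScalars (Ideal.Quotient.mk (Ideal.span {f}))

theorem smul_restrict_eq_zero (N : ModuleCat.{u} (A ⧸ Ideal.span {f})) (x : (Φ f).obj N) :
    f • x = 0 := by
  rw [ModuleCat.restrictScalars.smul_def]
  have : (Ideal.Quotient.mk (Ideal.span {f})) f = 0 :=
    Ideal.Quotient.eq_zero_iff_mem.mpr (Ideal.mem_span_singleton_self f)
  rw [this, zero_smul]
  rfl

theorem smul_id_restrict_eq_zero (N : ModuleCat.{u} (A ⧸ Ideal.span {f})) :
    f • 𝟙 ((Φ f).obj N) = 0 := by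
  ext x
  exact smul_restrict_eq_zero f N x

theorem smul_ext_restrict_eq_zero (N : ModuleCat.{u} (A ⧸ Ideal.span {f})) (Y : ModuleCat.{u} A)
    {n : ℕ} (x : Ext ((Φ f).obj N) Y n) : f • x = 0 := by
  have smul_eq : f • x = (Ext.mk₀ (f • 𝟙 ((Φ f).obj N))).comp x (zero_add n) := by
    simp [Ext.mk₀_smul]
  rw [smul_eq, smul_id_restrict_eq_zero]
  simp

theorem restrict_full {N N' : ModuleCat.{u} (A ⧸ Ideal.span {f})}
    (h : (Φ f).obj N ⟶ (Φ f).obj N') : ∃ g : N ⟶ N', (Φ f).map g = h := by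
  refine ⟨ModuleCat.ofHom
    { toFun := fun x => h.hom x
      map_add' := fun x y => h.hom.map_add x y
      map_smul' := fun b x => ?_ }, ?_⟩
  · obtain ⟨a, rfl⟩ := Ideal.Quotient.mk_surjective b
    exact h.hom.map_smul a x
  · ext x
    rfl

section Free

variable (ι : Type u)

noncomputable def freeProj : ModuleCat.of A (ι →₀ A) ⟶
    (Φ f).obj (ModuleCat.of (A ⧸ Ideal.span {f}) (ι →₀ (A ⧸ Ideal.span {f}))) :=
  ModuleCat.ofHom
    (Y := (Φ f).obj (ModuleCat.of (A ⧸ Ideal.span {f}) (ι →₀ (A ⧸ Ideal.span {f}))))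
    { toFun := fun v => (show ι →₀ (A ⧸ Ideal.span {f}) from
        Finsupp.mapRange (Ideal.Quotient.mk (Ideal.span {f})) (map_zero _) v)
      map_add' := fun v w => by
        change (Finsupp.mapRange (Ideal.Quotient.mk (Ideal.span {f})) (map_zero _) (v + w) :
          ι →₀ (A ⧸ Ideal.span {f})) =
          (Finsupp.mapRange (Ideal.Quotient.mk (Ideal.span {f})) (map_zero _) v :
            ι →₀ (A ⧸ Ideal.span {f})) +
          (Finsupp.mapRange (Ideal.Quotient.mk (Ideal.span {f})) (map_zero _) w :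
            ι →₀ (A ⧸ Ideal.span {f}))
        ext i
        simp
      map_smul' := fun a v => by
        change (Finsupp.mapRange (Ideal.Quotient.mk (Ideal.span {f})) (map_zero _) (a • v) :
          ι →₀ (A ⧸ Ideal.span {f})) =
          (Ideal.Quotient.mk (Ideal.span {f}) a) •
          (Finsupp.mapRange (Ideal.Quotient.mk (Ideal.span {f})) (map_zero _) v :
            ι →₀ (A ⧸ Ideal.span {f}))
        ext i
        simp }

theorem freeProj_apply (v : ι →₀ A) (i : ι) :
    (show ι →₀ (A ⧸ Ideal.span {f}) from (freeProj f ι).hom v) i =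
      Ideal.Quotient.mk (Ideal.span {f}) (v i) := rfl

theorem freeProj_surjective : Function.Surjective (freeProj f ι).hom := by
  classical
  intro w
  let w' : ι →₀ (A ⧸ Ideal.span {f}) := w
  let s : (A ⧸ Ideal.span {f}) → A := fun b =>
    if b = 0 then 0 else Function.surjInv Ideal.Quotient.mk_surjective b
  have hs0 : s 0 = 0 := by simp [s]
  have hs : ∀ b, Ideal.Quotient.mk (Ideal.span {f}) (s b) = b := by
    intro b
    by_cases hb : b = 0
    · simp [s, hb]
    · simp only [s, hb, if_false]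
      exact Function.surjInv_eq Ideal.Quotient.mk_surjective b
  refine ⟨Finsupp.mapRange s hs0 w', ?_⟩
  change (show ι →₀ (A ⧸ Ideal.span {f}) from
    (freeProj f ι).hom (Finsupp.mapRange s hs0 w')) = w'
  apply Finsupp.ext
  intro i
  rw [freeProj_apply, Finsupp.mapRange_apply, hs]

theorem freeProj_exact :
    Function.Exact (f • 𝟙 (ModuleCat.of A (ι →₀ A))).hom (freeProj f ι).hom := by
  classical
  intro v
  constructor
  · intro hv
    have hmem : ∀ i, (v : ι →₀ A) i ∈ Ideal.span {f} := by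
      intro i
      have := congrArg (fun t : ι →₀ (A ⧸ Ideal.span {f}) => t i) hv
      have h2 : Ideal.Quotient.mk (Ideal.span {f}) ((v : ι →₀ A) i) = 0 := this
      exact Ideal.Quotient.eq_zero_iff_mem.mp h2
    let t : A → A := fun a =>
      if a = 0 then 0 else if h : ∃ b, b * f = a then h.choose else 0
    have ht0 : t 0 = 0 := by simp [t]
    have ht : ∀ a ∈ Ideal.span {f}, f * t a = a := by
      intro a ha
      by_cases ha0 : a = 0
      · simp [t, ha0]
      · have h : ∃ b, b * f = a := Ideal.mem_span_singleton'.mp ha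
        simp only [t, ha0, if_false, h, dif_pos]
        rw [mul_comm]
        exact h.choose_spec
    refine ⟨Finsupp.mapRange t ht0 (v : ι →₀ A), ?_⟩
    change f • (Finsupp.mapRange t ht0 (v : ι →₀ A)) = (v : ι →₀ A)
    apply Finsupp.ext
    intro i
    rw [Finsupp.smul_apply, Finsupp.mapRange_apply, smul_eq_mul, ht _ (hmem i)]
  · rintro ⟨w, rfl⟩
    change (show ι →₀ (A ⧸ Ideal.span {f}) from
      (freeProj f ι).hom (f • (w : ι →₀ A))) = 0
    apply Finsupp.ext
    intro i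
    rw [freeProj_apply, Finsupp.smul_apply, smul_eq_mul]
    exact Ideal.Quotient.eq_zero_iff_mem.mpr
      (Ideal.mul_mem_right _ _ (Ideal.mem_span_singleton_self f))

noncomputable def freeSC : ShortComplex (ModuleCat.{u} A) :=
  ShortComplex.mk (f • 𝟙 (ModuleCat.of A (ι →₀ A))) (freeProj f ι) (by
    refine ModuleCat.hom_ext (LinearMap.ext fun v => ?_)
    exact (freeProj_exact f ι).apply_apply_eq_zero v)

theorem freeSC_shortExact (hf : IsSMulRegular A f) : (freeSC f ι).ShortExact := by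
  refine ModuleCat.shortComplex_shortExact _ (freeProj_exact f ι) ?_ (freeProj_surjective f ι)
  intro v w hvw
  change f • (v : ι →₀ A) = f • (w : ι →₀ A) at hvw
  apply Finsupp.ext
  intro i
  have := congrArg (fun t : ι →₀ A => t i) hvw
  exact hf this

theorem ext_restrict_free_subsingleton (hf : IsSMulRegular A f) (Y : ModuleCat.{u} A) (j : ℕ) :
    Subsingleton (Ext ((Φ f).obj (ModuleCat.of (A ⧸ Ideal.span {f})
      (ι →₀ (A ⧸ Ideal.span {f})))) Y (j + 2)) := by
  have hS := freeSC_shortExact f ι hf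
  have hproj : Projective (ModuleCat.of A (ι →₀ A)) := inferInstance
  have hproj1 : Projective (freeSC f ι).X₁ := hproj
  have hproj2 : Projective (freeSC f ι).X₂ := hproj
  refine ⟨fun a b => ?_⟩
  suffices h : ∀ x : Ext (freeSC f ι).X₃ Y (j + 2), x = 0 by
    exact (h a).trans (h b).symm
  intro x
  obtain ⟨x₁, hx₁⟩ := Ext.contravariant_sequence_exact₃ hS Y x
    (Ext.eq_zero_of_projective _) (add_comm 1 (j + 1))
  rw [← hx₁, Ext.eq_zero_of_projective x₁, Ext.comp_zero]

end Free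

section Main

variable {f}
variable {M : ModuleCat.{u} A} {Mbar : ModuleCat.{u} (A ⧸ Ideal.span {f})}
  {π : M ⟶ (Φ f).obj Mbar} {w : (f • 𝟙 M) ≫ π = 0}
  (hS : (ShortComplex.mk (f • 𝟙 M) π w).ShortExact)

noncomputable def φ (N : ModuleCat.{u} (A ⧸ Ideal.span {f})) (g : N ⟶ Mbar) :
    Ext ((Φ f).obj N) M 1 :=
  (Ext.mk₀ ((Φ f).map g)).comp hS.extClass (zero_add 1)

theorem φ_natural {N K : ModuleCat.{u} (A ⧸ Ideal.span {f})} (u : K ⟶ N) (g : N ⟶ Mbar) :
    φ hS K (u ≫ g) = (Ext.mk₀ ((Φ f).map u)).comp (φ hS N g) (zero_add 1) := by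
  unfold φ
  rw [Functor.map_comp, ← Ext.mk₀_comp_mk₀, Ext.comp_assoc_of_second_deg_zero]

include hS in
theorem hom_restrict_eq_zero (N : ModuleCat.{u} (A ⧸ Ideal.span {f}))
    (h : (Φ f).obj N ⟶ M) : h = 0 := by
  have hmono : Mono (f • 𝟙 M) := hS.mono_f
  rw [← cancel_mono (f • 𝟙 M)]
  rw [Limits.zero_comp]
  have : h ≫ (f • 𝟙 M) = (f • 𝟙 ((Φ f).obj N)) ≫ h := by
    rw [Linear.comp_smul, Linear.smul_comp, Category.comp_id, Category.id_comp]
  rw [this, smul_id_restrict_eq_zero, Limits.zero_comp]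

theorem φ_injective (N : ModuleCat.{u} (A ⧸ Ideal.span {f})) (g : N ⟶ Mbar)
    (hg : φ hS N g = 0) : g = 0 := by
  obtain ⟨x₂, hx₂⟩ := Ext.covariant_sequence_exact₃ ((Φ f).obj N) hS
    (Ext.mk₀ ((Φ f).map g)) rfl hg
  obtain ⟨h, rfl⟩ := (Ext.mk₀_bijective _ _).2 x₂
  have h0 : h = 0 := hom_restrict_eq_zero hS N h
  rw [h0, Ext.mk₀_zero, Ext.zero_comp] at hx₂
  have h1 : (Φ f).map g = 0 := by
    apply (Ext.mk₀_bijective _ _).1
    rw [← hx₂, Ext.mk₀_zero]
  exact (Φ f).map_injective (by rw [h1, Functor.map_zero])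

theorem φ_surjective (N : ModuleCat.{u} (A ⧸ Ideal.span {f}))
    (y : Ext ((Φ f).obj N) M 1) : ∃ g : N ⟶ Mbar, φ hS N g = y := by
  have hy : y.comp (Ext.mk₀ (f • 𝟙 M)) (add_zero 1) = 0 := by
    have : y.comp (Ext.mk₀ (f • 𝟙 M)) (add_zero 1) = f • y := by
      simp [Ext.mk₀_smul]
    rw [this, smul_ext_restrict_eq_zero]
  obtain ⟨x₃, hx₃⟩ := Ext.covariant_sequence_exact₁ ((Φ f).obj N) hS y hy rfl
  obtain ⟨h, rfl⟩ := (Ext.mk₀_bijective _ _).2 x₃
  obtain ⟨g, rfl⟩ := restrict_full f h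
  exact ⟨g, hx₃⟩

theorem φ_sub (N : ModuleCat.{u} (A ⧸ Ideal.span {f})) (g g' : N ⟶ Mbar) :
    φ hS N (g - g') = φ hS N g - φ hS N g' := by
  unfold φ
  rw [sub_eq_add_neg, Functor.map_add, Functor.map_neg, Ext.mk₀_add, Ext.mk₀_neg, Ext.add_comp,
    Ext.neg_comp, ← sub_eq_add_neg]

theorem φ_inj (N : ModuleCat.{u} (A ⧸ Ideal.span {f})) (g g' : N ⟶ Mbar)
    (h : φ hS N g = φ hS N g') : g = g' := by
  have := φ_injective hS N (g - g') (by rw [φ_sub, h, sub_self])
  exact sub_eq_zero.mp this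

section Shift

variable (T : ShortComplex (ModuleCat.{u} (A ⧸ Ideal.span {f}))) (hT : T.ShortExact)
  [Projective T.X₂]
  (hfree : ∀ (Y : ModuleCat.{u} A) (j : ℕ), Subsingleton (Ext ((Φ f).obj T.X₂) Y (j + 2)))

include hS hT in
theorem P_one_aux (h : Subsingleton (Ext ((Φ f).obj T.X₃) M 2)) :
    Subsingleton (Ext T.X₃ Mbar 1) := by
  have hΦT : (T.map (Φ f)).ShortExact := hT.map_of_exact (Φ f)
  refine ⟨fun a b => ?_⟩
  suffices H : ∀ x : Ext T.X₃ Mbar 1, x = 0 by rw [H a, H b]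
  intro x
  obtain ⟨x₁, hx₁⟩ := Ext.contravariant_sequence_exact₃ hT Mbar x
    (Ext.eq_zero_of_projective _) (add_zero 1)
  obtain ⟨g, rfl⟩ := (Ext.mk₀_bijective _ _).2 x₁
  obtain ⟨y₂, hy₂⟩ := Ext.contravariant_sequence_exact₁ hΦT M (φ hS T.X₁ g) (n₁ := 2) rfl
    (Subsingleton.elim (h := h) _ _)
  obtain ⟨g', rfl⟩ := φ_surjective hS T.X₂ y₂
  have hg : g = T.f ≫ g' := by
    apply φ_inj hS
    rw [φ_natural]
    exact hy₂.symm
  rw [← hx₁, hg, ← Ext.mk₀_comp_mk₀]
  exact hT.extClass_comp_assoc _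

include hS hT hfree in
theorem Q_one_aux (h : Subsingleton (Ext T.X₃ Mbar 1)) :
    Subsingleton (Ext ((Φ f).obj T.X₃) M 2) := by
  have hΦT : (T.map (Φ f)).ShortExact := hT.map_of_exact (Φ f)
  refine ⟨fun a b => ?_⟩
  suffices H : ∀ z : Ext (T.map (Φ f)).X₃ M 2, z = 0 by exact (H a).trans (H b).symm
  intro z
  obtain ⟨y, hy⟩ := Ext.contravariant_sequence_exact₃ hΦT M z
    (Subsingleton.elim (h := hfree M 0) _ _) (n₀ := 1) rfl
  obtain ⟨g, rfl⟩ := φ_surjective hS T.X₁ y
  obtain ⟨x₂, hx₂⟩ := Ext.contravariant_sequence_exact₁ hT Mbar (Ext.mk₀ g) (add_zero 1)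
    (Subsingleton.elim (h := h) _ _)
  obtain ⟨g', rfl⟩ := (Ext.mk₀_bijective _ _).2 x₂
  rw [Ext.mk₀_comp_mk₀] at hx₂
  have hg : T.f ≫ g' = g := (Ext.mk₀_bijective _ _).1 hx₂
  rw [← hy, ← hg, φ_natural]
  exact hΦT.extClass_comp_assoc _

include hT in
theorem shift_B (n : ℕ) :
    Subsingleton (Ext T.X₁ Mbar (n + 1)) ↔ Subsingleton (Ext T.X₃ Mbar (n + 2)) := by
  constructor
  · intro h
    refine ⟨fun a b => ?_⟩
    suffices H : ∀ x : Ext T.X₃ Mbar (n + 2), x = 0 by rw [H a, H b]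
    intro x
    obtain ⟨x₁, hx₁⟩ := Ext.contravariant_sequence_exact₃ hT Mbar x
      (Ext.eq_zero_of_projective _) (add_comm 1 (n + 1))
    rw [← hx₁, Subsingleton.elim (h := h) x₁ 0, Ext.comp_zero]
  · intro h
    refine ⟨fun a b => ?_⟩
    suffices H : ∀ x : Ext T.X₁ Mbar (n + 1), x = 0 by rw [H a, H b]
    intro x
    obtain ⟨x₂, hx₂⟩ := Ext.contravariant_sequence_exact₁ hT Mbar x (add_comm 1 (n + 1))
      (Subsingleton.elim (h := h) _ _)
    rw [← hx₂, Ext.eq_zero_of_projective x₂, Ext.comp_zero]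

include hT hfree in
theorem shift_A (Y : ModuleCat.{u} A) (n : ℕ) :
    Subsingleton (Ext ((Φ f).obj T.X₁) Y (n + 2)) ↔
      Subsingleton (Ext ((Φ f).obj T.X₃) Y (n + 3)) := by
  have hΦT : (T.map (Φ f)).ShortExact := hT.map_of_exact (Φ f)
  constructor
  · intro h
    refine ⟨fun a b => ?_⟩
    suffices H : ∀ x : Ext (T.map (Φ f)).X₃ Y (n + 3), x = 0 by exact (H a).trans (H b).symm
    intro x
    obtain ⟨x₁, hx₁⟩ := Ext.contravariant_sequence_exact₃ hΦT Y x
      (Subsingleton.elim (h := hfree Y (n + 1)) _ _) (add_comm 1 (n + 2))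
    have h' : Subsingleton (Ext (T.map (Φ f)).X₁ Y (n + 2)) := h
    rw [← hx₁, Subsingleton.elim (h := h') x₁ 0, Ext.comp_zero]
  · intro h
    refine ⟨fun a b => ?_⟩
    suffices H : ∀ x : Ext (T.map (Φ f)).X₁ Y (n + 2), x = 0 by exact (H a).trans (H b).symm
    intro x
    obtain ⟨x₂, hx₂⟩ := Ext.contravariant_sequence_exact₁ hΦT Y x (add_comm 1 (n + 2))
      (Subsingleton.elim (h := h) _ _)
    have h' : Subsingleton (Ext (T.map (Φ f)).X₂ Y (n + 2)) := hfree Y n
    rw [← hx₂, Subsingleton.elim (h := h') x₂ 0, Ext.comp_zero]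

end Shift

include hS in
theorem rees_iff (hf : IsSMulRegular A f) (n : ℕ) (N : ModuleCat.{u} (A ⧸ Ideal.span {f})) :
    Subsingleton (Ext N Mbar (n + 1)) ↔ Subsingleton (Ext ((Φ f).obj N) M (n + 2)) := by
  induction n generalizing N with
  | zero =>
    let p : (N →₀ (A ⧸ Ideal.span {f})) →ₗ[A ⧸ Ideal.span {f}] N :=
      Finsupp.linearCombination (A ⧸ Ideal.span {f}) id
    have hp : Function.Surjective p := fun m => ⟨Finsupp.single m 1, by simp [p]⟩
    have hT := LinearMap.shortExact_shortComplexKer hp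
    have hproj : Projective p.shortComplexKer.X₂ :=
      inferInstanceAs (Projective (ModuleCat.of (A ⧸ Ideal.span {f}) (N →₀ (A ⧸ Ideal.span {f}))))
    exact ⟨Q_one_aux hS p.shortComplexKer hT (fun Y j => ext_restrict_free_subsingleton f N hf Y j),
      P_one_aux hS p.shortComplexKer hT⟩
  | succ n ih =>
    let p : (N →₀ (A ⧸ Ideal.span {f})) →ₗ[A ⧸ Ideal.span {f}] N :=
      Finsupp.linearCombination (A ⧸ Ideal.span {f}) id
    have hp : Function.Surjective p := fun m => ⟨Finsupp.single m 1, by simp [p]⟩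
    have hT := LinearMap.shortExact_shortComplexKer hp
    have hproj : Projective p.shortComplexKer.X₂ :=
      inferInstanceAs (Projective (ModuleCat.of (A ⧸ Ideal.span {f}) (N →₀ (A ⧸ Ideal.span {f}))))
    have h1 := shift_B (Mbar := Mbar) p.shortComplexKer hT n
    have h2 := shift_A p.shortComplexKer hT
      (fun Y j => ext_restrict_free_subsingleton f N hf Y j) M n
    have h3 := ih p.shortComplexKer.X₁
    exact h1.symm.trans (h3.trans h2)

end Main

end Groth.Agent.Lib.Helper4.Rees
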