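import Groth.Agent.Lib.Helper4.ResInj
import Mathlib.CategoryTheory.Preadditive.Biproducts

set_option autoImplicit false
open CategoryTheory CategoryTheory.Limits HomologicalComplex

namespace Groth.Agent.Lib.Helper4.ResCone
universe v u v' u'

variable {A : Type u} [Category.{v} A] [Abelian A]

section Cone

variable (Q : CochainComplex A ℕ)

noncomputable abbrev coneX (n : ℕ) : A := Q.X n ⊞ Q.X (n + 1)

noncomputable def coneD (n : ℕ) : coneX Q n ⟶ coneX Q (n + 1) :=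
  biprod.fst ≫ Q.d n (n + 1) ≫ biprod.inl - biprod.snd ≫ biprod.inl -
    biprod.snd ≫ Q.d (n + 1) (n + 1 + 1) ≫ biprod.inr

lemma coneD_sq (n : ℕ) : coneD Q n ≫ coneD Q (n + 1) = 0 := by
  unfold coneD coneX
  apply biprod.hom_ext' <;> apply biprod.hom_ext <;>
    simp [Preadditive.sub_comp, Preadditive.comp_sub]

noncomputable def cone : CochainComplex A ℕ :=
  CochainComplex.of (coneX Q) (coneD Q) (coneD_sq Q)

lemma inl_coneD (n : ℕ) : (biprod.inl : Q.X n ⟶ coneX Q n) ≫ coneD Q n =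
    Q.d n (n + 1) ≫ (biprod.inl : Q.X (n + 1) ⟶ coneX Q (n + 1)) := by
  unfold coneD
  simp [Preadditive.comp_sub]

noncomputable def ι : Q ⟶ cone Q where
  f n := (biprod.inl : Q.X n ⟶ coneX Q n)
  comm' i j hij := by
    obtain rfl : i + 1 = j := hij
    have hd : (cone Q).d i (i + 1) = coneD Q i := CochainComplex.of_d _ _ _
    change (biprod.inl : Q.X i ⟶ coneX Q i) ≫ (cone Q).d i (i + 1) =
      Q.d i (i + 1) ≫ (biprod.inl : Q.X (i + 1) ⟶ coneX Q (i + 1))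
    rw [hd]
    exact inl_coneD Q i

instance : Mono (ι Q) := by
  apply mono_of_mono_f
  intro n
  exact inferInstanceAs (Mono (biprod.inl : Q.X n ⟶ Q.X n ⊞ Q.X (n + 1)))

noncomputable def hh (n : ℕ) : coneX Q (n + 1) ⟶ coneX Q n :=
  -(biprod.fst ≫ biprod.inr)

lemma hh_spec (n : ℕ) : hh Q n ≫ coneD Q n + coneD Q (n + 1) ≫ hh Q (n + 1) = 𝟙 _ := by
  unfold hh coneD coneX
  apply biprod.hom_ext' <;> apply biprod.hom_ext <;>
    simp [Preadditive.sub_comp, Preadditive.comp_sub, Preadditive.add_comp, Preadditive.comp_add]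

end Cone

theorem exists_contraction (Q : CochainComplex A ℕ) [Injective Q] :
    ∃ s : ∀ n : ℕ, Q.X (n + 1) ⟶ Q.X n,
      ∀ n : ℕ, s n ≫ Q.d n (n + 1) + Q.d (n + 1) (n + 1 + 1) ≫ s (n + 1) = 𝟙 _ := by
  let r : cone Q ⟶ Q := Injective.factorThru (𝟙 Q) (ι Q)
  have hr : ι Q ≫ r = 𝟙 Q := Injective.comp_factorThru _ _
  obtain ⟨rf, hrf⟩ : ∃ rf : ∀ n, coneX Q n ⟶ Q.X n, ∀ n, rf n = r.f n := ⟨fun n => r.f n, fun n => rfl⟩
  refine ⟨fun n => (biprod.inl : Q.X (n + 1) ⟶ coneX Q (n + 1)) ≫ hh Q n ≫ rf n, fun n => ?_⟩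
  have hd : ∀ k, (cone Q).d k (k + 1) = coneD Q k := fun k => CochainComplex.of_d _ _ _
  have h1 : rf n ≫ Q.d n (n + 1) = coneD Q n ≫ rf (n + 1) := by
    rw [hrf, hrf, ← hd]
    exact r.comm n (n + 1)
  have h2 : Q.d (n + 1) (n + 1 + 1) ≫ (biprod.inl : Q.X (n + 1 + 1) ⟶ coneX Q (n + 1 + 1)) =
      (biprod.inl : Q.X (n + 1) ⟶ coneX Q (n + 1)) ≫ coneD Q (n + 1) :=
    (inl_coneD Q (n + 1)).symm
  have h3 : (biprod.inl : Q.X (n + 1) ⟶ coneX Q (n + 1)) ≫ rf (n + 1) = 𝟙 _ := by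
    rw [hrf]
    have := congrArg (fun φ => φ.f (n + 1)) hr
    exact this
  calc ((biprod.inl : Q.X (n + 1) ⟶ coneX Q (n + 1)) ≫ hh Q n ≫ rf n) ≫ Q.d n (n + 1) +
        Q.d (n + 1) (n + 1 + 1) ≫
          ((biprod.inl : Q.X (n + 1 + 1) ⟶ coneX Q (n + 1 + 1)) ≫ hh Q (n + 1) ≫ rf (n + 1))
      = (biprod.inl : Q.X (n + 1) ⟶ coneX Q (n + 1)) ≫
          (hh Q n ≫ coneD Q n + coneD Q (n + 1) ≫ hh Q (n + 1)) ≫ rf (n + 1) := by
        rw [Preadditive.add_comp, Preadditive.comp_add]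
        congr 1
        · simp only [Category.assoc, h1]
        · rw [reassoc_of% h2]
          simp only [Category.assoc]
    _ = 𝟙 _ := by
        rw [hh_spec, Category.id_comp]
        exact h3

lemma exact_of_homotopy {B : Type u'} [Category.{v'} B] [Abelian B] (S : ShortComplex B)
    (s : S.X₂ ⟶ S.X₁) (s' : S.X₃ ⟶ S.X₂) (h : s ≫ S.f + S.g ≫ s' = 𝟙 _) : S.Exact := by
  rw [ShortComplex.exact_iff_epi_kernel_lift]
  have : (kernel.ι S.g ≫ s) ≫ kernel.lift S.g S.f S.zero = 𝟙 _ := by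
    rw [← cancel_mono (kernel.ι S.g), Category.assoc, Category.assoc, kernel.lift_ι,
      Category.id_comp]
    have h' := congrArg (fun φ => kernel.ι S.g ≫ φ) h
    simp only [Preadditive.comp_add, kernel.condition_assoc, zero_comp, add_zero,
      Category.comp_id] at h'
    exact h'
  exact (IsSplitEpi.mk' ⟨_, this⟩).epi  

theorem exactAt_map_succ {B : Type u'} [Category.{v'} B] [Abelian B] (G : A ⥤ B) [G.Additive]
    (Q : CochainComplex A ℕ) [Injective Q] (n : ℕ) :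
    ((G.mapHomologicalComplex (ComplexShape.up ℕ)).obj Q).ExactAt (n + 1) := by
  obtain ⟨s, hs⟩ := exists_contraction Q
  rw [HomologicalComplex.exactAt_iff' _ n (n + 1) (n + 1 + 1) (by simp) (by simp)]
  apply exact_of_homotopy _ (G.map (s n)) (G.map (s (n + 1)))
  change G.map (s n) ≫ G.map (Q.d n (n + 1)) + G.map (Q.d (n + 1) (n + 1 + 1)) ≫ G.map (s (n + 1)) =
    𝟙 (G.obj (Q.X (n + 1)))
  rw [← G.map_comp, ← G.map_comp, ← G.map_add, hs, G.map_id]

theorem exactAt_succ (Q : CochainComplex A ℕ) [Injective Q] (n : ℕ) : Q.ExactAt (n + 1) := by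
  obtain ⟨s, hs⟩ := exists_contraction Q
  rw [HomologicalComplex.exactAt_iff' _ n (n + 1) (n + 1 + 1) (by simp) (by simp)]
  exact exact_of_homotopy _ (s n) (s (n + 1)) (hs n)

end Groth.Agent.Lib.Helper4.ResCone
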