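import Groth.Agent.Lib.Helper4.E1SS
import Mathlib.Algebra.Homology.Double
import Mathlib.CategoryTheory.Preadditive.Injective.Resolution
import Mathlib.CategoryTheory.Abelian.RightDerived

set_option autoImplicit false
open CategoryTheory CategoryTheory.Limits HomologicalComplex

namespace Groth.Agent.Lib.Helper4.ResInj
universe v u v' u'

section Eval

variable {A : Type u} [Category.{v} A] [Abelian A]

theorem injective_X (Q : CochainComplex A ℕ) [Injective Q] (m : ℕ) : Injective (Q.X m) := by
  have hrel : (ComplexShape.up ℕ).Rel m (m + 1) := rfl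
  have hne : m ≠ m + 1 := by omega
  constructor
  intro a b g f hf
  let Da := double (𝟙 a) hrel
  let Db := double (𝟙 b) hrel
  let Df : Da ⟶ Db :=
    mkHomFromDouble hrel hne (f ≫ (doubleXIso₀ (𝟙 b) hrel).inv)
      (f ≫ (doubleXIso₁ (𝟙 b) hrel hne).inv)
      (by rw [Category.assoc, double_d (𝟙 b) hrel hne]; simp)
      (by
        intro k hk
        rw [Category.assoc, double_d_eq_zero₀ _ _ _ _ hne.symm, comp_zero, comp_zero])
  have hDf : Mono Df := by
    apply mono_of_mono_f
    intro k
    by_cases h0 : k = m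
    · subst h0
      have : Df.f k = (doubleXIso₀ (𝟙 a) hrel).hom ≫ f ≫ (doubleXIso₀ (𝟙 b) hrel).inv :=
        mkHomFromDouble_f₀ _ _ _ _ _ _
      rw [this]
      infer_instance
    · by_cases h1 : k = m + 1
      · subst h1
        have : Df.f (m + 1) =
            (doubleXIso₁ (𝟙 a) hrel hne).hom ≫ f ≫ (doubleXIso₁ (𝟙 b) hrel hne).inv :=
          mkHomFromDouble_f₁ _ _ _ _ _ _
        rw [this]
        infer_instance
      · exact (isZero_double_X (𝟙 a) hrel k h0 h1).mono _
  let gh : Da ⟶ Q :=
    mkHomFromDouble hrel hne g (g ≫ Q.d m (m + 1)) (by simp) (by simp)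
  let hh : Db ⟶ Q := Injective.factorThru gh Df
  have hfac : Df ≫ hh = gh := Injective.comp_factorThru gh Df
  refine ⟨(doubleXIso₀ (𝟙 b) hrel).inv ≫ hh.f m, ?_⟩
  have h1 := congrArg (fun φ => (doubleXIso₀ (𝟙 a) hrel).inv ≫ φ.f m) hfac
  simp only [comp_f] at h1
  have h2 : Df.f m = (doubleXIso₀ (𝟙 a) hrel).hom ≫ f ≫ (doubleXIso₀ (𝟙 b) hrel).inv :=
    mkHomFromDouble_f₀ _ _ _ _ _ _
  have h3 : gh.f m = (doubleXIso₀ (𝟙 a) hrel).hom ≫ g := mkHomFromDouble_f₀ _ _ _ _ _ _
  rw [h2, h3] at h1
  simpa using h1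

end Eval

section MapRes

variable {C : Type u} [Category.{v} C] [Abelian C] {D : Type u'} [Category.{v'} D] [Abelian D]

noncomputable def mapInjRes (F : C ⥤ D) [F.Additive] [F.PreservesHomology]
    (hF : ∀ X : C, Injective X → Injective (F.obj X)) {Z : C} (I : InjectiveResolution Z) :
    InjectiveResolution (F.obj Z) where
  cocomplex := (F.mapHomologicalComplex _).obj I.cocomplex
  injective n := hF _ (I.injective n)
  ι := (HomologicalComplex.singleMapHomologicalComplex F (ComplexShape.up ℕ) 0).inv.app Z ≫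
    (F.mapHomologicalComplex _).map I.ι
  quasiIso := inferInstance

end MapRes

section EvalDer

variable {A : Type u} [Category.{v} A] [Abelian A] [HasInjectiveResolutions A]
  [HasInjectiveResolutions (CochainComplex A ℕ)]
  {B : Type u'} [Category.{v'} B] [Abelian B] (G : A ⥤ B) [G.Additive]

theorem nonempty_rightDerived_eval_iso (K : CochainComplex A ℕ) (m q : ℕ) :
    Nonempty (((eval A (ComplexShape.up ℕ) m ⋙ G).rightDerived q).obj K ≅
      (G.rightDerived q).obj (K.X m)) := by
  let E := eval A (ComplexShape.up ℕ) m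
  let J := injectiveResolution K
  let J' : InjectiveResolution (K.X m) :=
    mapInjRes E (fun Q hQ => injective_X Q m) J
  let i1 := J.isoRightDerivedObj (E ⋙ G) q
  let i2 := J'.isoRightDerivedObj G q
  let c : ((E ⋙ G).mapHomologicalComplex (ComplexShape.up ℕ)).obj J.cocomplex ≅
      (G.mapHomologicalComplex (ComplexShape.up ℕ)).obj J'.cocomplex :=
    HomologicalComplex.Hom.isoOfComponents (fun i => Iso.refl _) (by
      intro i j hij
      simp only [Iso.refl_hom]
      exact (Category.id_comp _).trans (Category.comp_id _).symm)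
  exact ⟨i1 ≪≫ (HomologicalComplex.homologyFunctor B (ComplexShape.up ℕ) q).mapIso c ≪≫ i2.symm⟩

end EvalDer

end Groth.Agent.Lib.Helper4.ResInj
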