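import Groth.Agent.Lib.Helper4.ResCone
import Groth.Agent.Lib.Helper68.RightDerivedLES
import Groth.Agent.Lib.Helper68.AcycTransfer
import Mathlib.Algebra.Homology.HomologySequence

set_option autoImplicit false
open CategoryTheory CategoryTheory.Limits HomologicalComplex

namespace Groth.Agent.Lib.Helper4.ResShift
universe v u w

variable {A : Type u} [Category.{v} A] [Abelian A]

noncomputable abbrev Z0 : CochainComplex A ℕ ⥤ A :=
  HomologicalComplex.homologyFunctor A (ComplexShape.up ℕ) 0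

def Res (K : CochainComplex A ℕ) : Prop := ∀ n : ℕ, K.ExactAt (n + 1)

lemma isIso_homologyπ_zero (K : CochainComplex A ℕ) : IsIso (K.homologyπ 0) :=
  K.isIso_homologyπ 0 0 (by simp) (K.shape _ _ (by simp))

lemma mono_homologyMap_zero {K L : CochainComplex A ℕ} (f : K ⟶ L) [Mono f] :
    Mono (HomologicalComplex.homologyMap f 0) := by
  have := isIso_homologyπ_zero K
  have := isIso_homologyπ_zero L
  have : Mono (f.f 0) := inferInstance
  have : Mono (HomologicalComplex.cyclesMap f 0) := by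
    have h : HomologicalComplex.cyclesMap f 0 ≫ L.iCycles 0 = K.iCycles 0 ≫ f.f 0 := by simp
    exact mono_of_mono_fac h
  have h : HomologicalComplex.homologyMap f 0 =
      inv (K.homologyπ 0) ≫ HomologicalComplex.cyclesMap f 0 ≫ L.homologyπ 0 := by
    rw [IsIso.eq_inv_comp]
    exact HomologicalComplex.homologyπ_naturality f 0
  rw [h]
  infer_instance

instance : PreservesFiniteLimits (Z0 (A := A)) := by
  refine ((Z0 (A := A)).preservesFiniteLimits_tfae.out 0 3).1 ?_
  intro S hS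
  have := hS.mono_f
  exact ⟨hS.homology_exact₂ 0, mono_homologyMap_zero S.f⟩

section SES

variable {S : ShortComplex (CochainComplex A ℕ)} (hS : S.ShortExact)

include hS in
lemma res_X₃ (h1 : Res S.X₁) (h2 : Res S.X₂) : Res S.X₃ := by
  intro n
  rw [HomologicalComplex.exactAt_iff_isZero_homology]
  have e := hS.homology_exact₃ (n + 1) (n + 1 + 1) rfl
  apply e.isZero_of_both_zeros
  · exact ((HomologicalComplex.exactAt_iff_isZero_homology _ _).1 (h2 n)).eq_of_src _ _
  · exact ((HomologicalComplex.exactAt_iff_isZero_homology _ _).1 (h1 (n + 1))).eq_of_tgt _ _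

include hS in
lemma shortExact_map_Z0 (h1 : Res S.X₁) : (S.map (Z0 (A := A))).ShortExact := by
  have := hS.mono_f
  have hm : Mono (S.map (Z0 (A := A))).f := mono_homologyMap_zero S.f
  have he : Epi (S.map (Z0 (A := A))).g := by
    have e := hS.homology_exact₃ 0 1 rfl
    exact e.epi_f (((HomologicalComplex.exactAt_iff_isZero_homology _ _).1 (h1 0)).eq_of_tgt _ _)
  exact ShortComplex.ShortExact.mk' (hS.homology_exact₂ 0) hm he

end SES

theorem injective_Z0 (J : CochainComplex A ℕ) [Injective J] : Injective ((Z0 (A := A)).obj J) := by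
  have hiso := isIso_homologyπ_zero J
  suffices hc : Injective (J.cycles 0) from
    Injective.of_iso (@asIso _ _ _ _ (J.homologyπ 0) hiso) hc
  constructor
  intro a b g f hf
  let Sa := (HomologicalComplex.single A (ComplexShape.up ℕ) 0).obj a
  let Sb := (HomologicalComplex.single A (ComplexShape.up ℕ) 0).obj b
  let Sf : Sa ⟶ Sb := (HomologicalComplex.single A (ComplexShape.up ℕ) 0).map f
  have hSf : Mono Sf := by
    apply mono_of_mono_f
    intro k
    by_cases hk : k = 0
    · subst hk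
      have : Sf.f 0 = (singleObjXSelf (ComplexShape.up ℕ) 0 a).hom ≫ f ≫
          (singleObjXSelf (ComplexShape.up ℕ) 0 b).inv := by
        simp [Sf, HomologicalComplex.single_map_f_self]
      rw [this]
      infer_instance
    · exact (HomologicalComplex.isZero_single_obj_X (ComplexShape.up ℕ) 0 a k hk).mono _
  let gh : Sa ⟶ J := mkHomFromSingle (g ≫ J.iCycles 0) (by
    intro k hk
    obtain rfl : 0 + 1 = k := hk
    simp)
  let hh : Sb ⟶ J := Injective.factorThru gh Sf
  have hfac : Sf ≫ hh = gh := Injective.comp_factorThru gh Sf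
  let h0 : b ⟶ J.X 0 := (singleObjXSelf (ComplexShape.up ℕ) 0 b).inv ≫ hh.f 0
  have hh0 : h0 ≫ J.d 0 1 = 0 := by
    simp only [h0, Category.assoc]
    rw [hh.comm 0 1]
    have : Sb.d 0 1 = 0 := HomologicalComplex.single_obj_d _ _ _ _ _
    rw [this, zero_comp, comp_zero]
  refine ⟨J.liftCycles h0 1 (by simp) hh0, ?_⟩
  rw [← cancel_mono (J.iCycles 0), Category.assoc, HomologicalComplex.liftCycles_i]
  have h1 := congrArg (fun φ => (singleObjXSelf (ComplexShape.up ℕ) 0 a).inv ≫ φ.f 0) hfac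
  simp only [comp_f] at h1
  have h2 : Sf.f 0 = (singleObjXSelf (ComplexShape.up ℕ) 0 a).hom ≫ f ≫
      (singleObjXSelf (ComplexShape.up ℕ) 0 b).inv := by
    simp [Sf, HomologicalComplex.single_map_f_self]
  have h3 : gh.f 0 = (singleObjXSelf (ComplexShape.up ℕ) 0 a).hom ≫ g ≫ J.iCycles 0 :=
    mkHomFromSingle_f _ _
  rw [h2, h3] at h1
  simp only [Category.assoc, Iso.inv_hom_id_assoc] at h1
  exact h1

section Shift

open Groth.Agent.Lib.Helper68.RightDerivedLES Groth.Agent.Lib.Helper68.AcycTransfer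

variable [EnoughInjectives A] [EnoughInjectives (CochainComplex A ℕ)]
  {B : Type w} [Category.{v} B] [Abelian B] (G : A ⥤ B) [G.Additive] [PreservesFiniteLimits G]

lemma cokerIso {X₂ X₃ X₁ Y₂ Y₃ Y₁ : B} (a : X₂ ⟶ X₃) (b : X₃ ⟶ X₁) (w : a ≫ b = 0)
    (hx : (ShortComplex.mk a b w).Exact) [Epi b]
    (a' : Y₂ ⟶ Y₃) (b' : Y₃ ⟶ Y₁) (w' : a' ≫ b' = 0)
    (hy : (ShortComplex.mk a' b' w').Exact) [Epi b']
    (e₂ : X₂ ≅ Y₂) (e₃ : X₃ ≅ Y₃) (comm : a ≫ e₃.hom = e₂.hom ≫ a') : Nonempty (X₁ ≅ Y₁) := by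
  have : Epi (ShortComplex.mk a b w).g := inferInstanceAs (Epi b)
  have : Epi (ShortComplex.mk a' b' w').g := inferInstanceAs (Epi b')
  let i1 := IsColimit.coconePointUniqueUpToIso hx.gIsCokernel (cokernelIsCokernel a)
  let i2 := IsColimit.coconePointUniqueUpToIso hy.gIsCokernel (cokernelIsCokernel a')
  exact ⟨i1 ≪≫ cokernel.mapIso a a' e₂ e₃ comm ≪≫ i2.symm⟩

theorem nonempty_iso_succ : ∀ (n : ℕ) (K : CochainComplex A ℕ), Res K →
    Nonempty (((Z0 (A := A) ⋙ G).rightDerived (n + 1)).obj K ≅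
      (G.rightDerived (n + 1)).obj ((Z0 (A := A)).obj K)) := by
  intro n
  induction n with
  | zero =>
    intro K hK
    let Ψ := Z0 (A := A) ⋙ G
    have hS := injSeq_shortExact K
    have hZ := shortExact_map_Z0 hS hK
    have : Injective ((injSeq K).map (Z0 (A := A))).X₂ :=
      injective_Z0 (Injective.under K)
    have h1 : Epi (δ Ψ hS 0) :=
      epi_δ Ψ hS 0 (Functor.isZero_rightDerived_obj_injective_succ Ψ 0 _)
    have h2 : Epi (δ G hZ 0) :=
      epi_δ G hZ 0 (Functor.isZero_rightDerived_obj_injective_succ G 0 _)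
    let e₂ : (Ψ.rightDerived 0).obj (injSeq K).X₂ ≅
        (G.rightDerived 0).obj ((injSeq K).map (Z0 (A := A))).X₂ :=
      Ψ.rightDerivedZeroIsoSelf.app _ ≪≫ (G.rightDerivedZeroIsoSelf.app _).symm
    let e₃ : (Ψ.rightDerived 0).obj (injSeq K).X₃ ≅
        (G.rightDerived 0).obj ((injSeq K).map (Z0 (A := A))).X₃ :=
      Ψ.rightDerivedZeroIsoSelf.app _ ≪≫ (G.rightDerivedZeroIsoSelf.app _).symm
    refine @cokerIso _ _ _ _ _ _ _ _ _ ((Ψ.rightDerived 0).map (injSeq K).g) (δ Ψ hS 0) _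
      (exact₃ Ψ hS 0) h1 ((G.rightDerived 0).map ((injSeq K).map (Z0 (A := A))).g) (δ G hZ 0) _
      (exact₃ G hZ 0) h2 e₂ e₃ ?_
    have n1 := Ψ.rightDerivedZeroIsoSelf.hom.naturality (injSeq K).g
    have n2 := G.rightDerivedZeroIsoSelf.inv.naturality ((injSeq K).map (Z0 (A := A))).g
    simp only [e₂, e₃, Iso.trans_hom, Iso.app_hom, Iso.symm_hom, Iso.app_inv]
    rw [reassoc_of% n1, Category.assoc]
    congr 1
  | succ n ih =>
    intro K hK
    let Ψ := Z0 (A := A) ⋙ G
    have hS := injSeq_shortExact K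
    have hZ := shortExact_map_Z0 hS hK
    have : Injective ((injSeq K).map (Z0 (A := A))).X₂ :=
      injective_Z0 (Injective.under K)
    have hJ : Res (injSeq K).X₂ := fun m => ResCone.exactAt_succ (Injective.under K) m
    have hK' : Res (injSeq K).X₃ := res_X₃ hS hK hJ
    have h1 : IsIso (δ Ψ hS (n + 1)) :=
      isIso_δ Ψ hS (n + 1) (Functor.isZero_rightDerived_obj_injective_succ Ψ n _)
        (Functor.isZero_rightDerived_obj_injective_succ Ψ (n + 1) _)
    have h2 : IsIso (δ G hZ (n + 1)) :=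
      isIso_δ G hZ (n + 1) (Functor.isZero_rightDerived_obj_injective_succ G n _)
        (Functor.isZero_rightDerived_obj_injective_succ G (n + 1) _)
    obtain ⟨i⟩ := ih _ hK'
    exact ⟨(@asIso _ _ _ _ (δ Ψ hS (n + 1)) h1).symm ≪≫ i ≪≫ @asIso _ _ _ _ (δ G hZ (n + 1)) h2⟩

theorem nonempty_iso (n : ℕ) (K : CochainComplex A ℕ) (hK : Res K) :
    Nonempty (((Z0 (A := A) ⋙ G).rightDerived n).obj K ≅
      (G.rightDerived n).obj ((Z0 (A := A)).obj K)) := by
  cases n with
  | zero =>
    exact ⟨(Z0 (A := A) ⋙ G).rightDerivedZeroIsoSelf.app _ ≪≫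
      (G.rightDerivedZeroIsoSelf.app _).symm⟩
  | succ n => exact nonempty_iso_succ G n K hK

end Shift

end Groth.Agent.Lib.Helper4.ResShift
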