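import Mathlib
import Groth.Prelude.Def_CInt

set_option autoImplicit false

universe u

open TensorProduct AlgebraicGeometry CategoryTheory TopologicalSpace

namespace Groth.Agent.Lib.Helper4.SDG0

theorem G0 {X X' : Scheme.{u}} (f : X' ⟶ X) (V : X.Opens)
    (H : ∀ (U : X.Opens) (U' : X'.Opens), IsAffineOpen U → IsAffineOpen U' → U' ≤ f ⁻¹ᵁ U →
      ∀ s : Γ(X', U'), X'.presheaf.map (homOfLE (inf_le_left : U' ⊓ f ⁻¹ᵁ V ≤ U')).op s = 0 →
        s = 0) : CInt.IsSchematicallyDense (f ⁻¹ᵁ V) := by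
  intro W'
  refine (injective_iff_map_eq_zero (X'.presheaf.map
    (homOfLE (inf_le_left : W' ⊓ f ⁻¹ᵁ V ≤ W')).op).hom).2 ?_
  intro s hs
  have key : ∀ x : W', ∃ (U' : X'.Opens) (hU'W : U' ≤ W'), (x : X') ∈ U' ∧
      X'.presheaf.map (homOfLE hU'W).op s = 0 := by
    intro x
    obtain ⟨_, ⟨U, hU : IsAffineOpen U, rfl⟩, hxU, -⟩ :=
      (X.isBasis_affineOpens).exists_subset_of_mem_open
        (show f.base (x : X') ∈ (⊤ : X.Opens).1 from trivial) (⊤ : X.Opens).2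
    have hxW : (x : X') ∈ (W' ⊓ f ⁻¹ᵁ U : X'.Opens) := ⟨x.2, hxU⟩
    obtain ⟨_, ⟨U', hU' : IsAffineOpen U', rfl⟩, hxU', hU'le⟩ :=
      (X'.isBasis_affineOpens).exists_subset_of_mem_open hxW (W' ⊓ f ⁻¹ᵁ U : X'.Opens).2
    have h1 : U' ≤ W' := fun y hy => (hU'le hy).1
    have h2 : U' ≤ f ⁻¹ᵁ U := fun y hy => (hU'le hy).2
    refine ⟨U', h1, hxU', H U U' hU hU' h2 _ ?_⟩
    have e : X'.presheaf.map (homOfLE (inf_le_left : U' ⊓ f ⁻¹ᵁ V ≤ U')).op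
        (X'.presheaf.map (homOfLE h1).op s) =
        X'.presheaf.map (homOfLE (inf_le_inf_right _ h1 : U' ⊓ f ⁻¹ᵁ V ≤ W' ⊓ f ⁻¹ᵁ V)).op
          (X'.presheaf.map (homOfLE (inf_le_left : W' ⊓ f ⁻¹ᵁ V ≤ W')).op s) := by
      rw [← CommRingCat.comp_apply, ← Functor.map_comp, ← CommRingCat.comp_apply,
        ← Functor.map_comp]
      rfl
    rw [e]
    have hs' : X'.presheaf.map (homOfLE (inf_le_left : W' ⊓ f ⁻¹ᵁ V ≤ W')).op s = 0 := hs
    rw [hs', map_zero]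
  choose U' hU'W hxU' hres using key
  refine X'.sheaf.eq_of_locally_eq' U' W' (fun x => homOfLE (hU'W x)) ?_ s 0 ?_
  · intro y hy
    exact Opens.mem_iSup.2 ⟨⟨y, hy⟩, hxU' ⟨y, hy⟩⟩
  · intro x
    have := hres x
    rw [map_zero]
    exact this

end Groth.Agent.Lib.Helper4.SDG0
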