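import Mathlib
import Groth.Prelude.Def_CInt

set_option autoImplicit false

universe u

open TensorProduct AlgebraicGeometry CategoryTheory TopologicalSpace

namespace Groth.Agent.Lib.Helper4.SDG1

theorem G1 {X X' : Scheme.{u}} (f : X' ⟶ X) (V : X.Opens) (U : X.Opens) (U' : X'.Opens)
    (hU' : IsAffineOpen U') (hUU' : U' ≤ f ⁻¹ᵁ U) (s : Γ(X', U'))
    (hs : X'.presheaf.map (homOfLE (inf_le_left : U' ⊓ f ⁻¹ᵁ V ≤ U')).op s = 0) (a : Γ(X, U))
    (ha : X.basicOpen a ≤ V) : ∃ n : ℕ, (f.appLE U U' hUU').hom a ^ n * s = 0 := by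
  have hle : X'.basicOpen ((f.appLE U U' hUU').hom a) ≤ U' ⊓ f ⁻¹ᵁ V := by
    have h1 : X'.basicOpen ((f.appLE U U' hUU').hom a) = U' ⊓ f ⁻¹ᵁ (X.basicOpen a) :=
      Scheme.basicOpen_appLE f U' U hUU' a
    rw [h1]
    exact inf_le_inf_left _ (fun x hx => ha hx)
  refine exists_pow_mul_eq_zero_of_res_basicOpen_eq_zero_of_isAffineOpen X' hU' s _ ?_
  have h2 : X'.presheaf.map (homOfLE (X'.basicOpen_le ((f.appLE U U' hUU').hom a))).op s =
      X'.presheaf.map (homOfLE hle).op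
        (X'.presheaf.map (homOfLE (inf_le_left : U' ⊓ f ⁻¹ᵁ V ≤ U')).op s) := by
    rw [← CommRingCat.comp_apply, ← Functor.map_comp]
    rfl
  change X'.presheaf.map (homOfLE (X'.basicOpen_le ((f.appLE U U' hUU').hom a))).op s = 0
  rw [h2, hs, map_zero]

end Groth.Agent.Lib.Helper4.SDG1
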