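import Mathlib
import Groth.Prelude.Def_CInt

set_option autoImplicit false

universe u

open TensorProduct AlgebraicGeometry CategoryTheory TopologicalSpace

namespace Groth.Agent.Lib.Helper4.SDG2

theorem G2 {X : Scheme.{u}} (V : X.Opens) (hV : CInt.IsSchematicallyDense V) (U : X.Opens)
    (hU : IsAffineOpen U) (g x : Γ(X, U))
    (h : ∀ a : Γ(X, U), X.basicOpen a ≤ V → ∃ n : ℕ, (g * a) ^ n * x = 0) :
    ∃ m : ℕ, g ^ m * x = 0 := by
  refine exists_pow_mul_eq_zero_of_res_basicOpen_eq_zero_of_isAffineOpen X hU x g ?_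
  change X.presheaf.map (homOfLE (X.basicOpen_le g)).op x = 0
  apply hV (X.basicOpen g)
  rw [map_zero]
  set D : X.Opens := X.basicOpen g ⊓ V with hD
  set y : Γ(X, D) := X.presheaf.map (homOfLE (inf_le_left : X.basicOpen g ⊓ V ≤ X.basicOpen g)).op
    (X.presheaf.map (homOfLE (X.basicOpen_le g)).op x) with hy
  have hDU : D ≤ U := inf_le_left.trans (X.basicOpen_le g)
  have hyx : y = X.presheaf.map (homOfLE hDU).op x := by
    rw [hy, ← CommRingCat.comp_apply, ← Functor.map_comp]
    rfl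
  have key : ∀ p : D, ∃ (W : X.Opens) (hWD : W ≤ D), (p : X) ∈ W ∧
      X.presheaf.map (homOfLE hWD).op y = 0 := by
    intro p
    obtain ⟨a, haV, hpa⟩ := hU.exists_basicOpen_le (V := V) ⟨p.1, p.2.2⟩ (hDU p.2)
    obtain ⟨n, hn⟩ := h a haV
    have hW : X.basicOpen (g * a) ≤ D := by
      rw [Scheme.basicOpen_mul]
      exact inf_le_inf_left _ haV
    refine ⟨X.basicOpen (g * a), hW, ?_, ?_⟩
    · rw [Scheme.basicOpen_mul]
      exact ⟨p.2.1, hpa⟩
    · have e1 : X.presheaf.map (homOfLE hW).op y =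
          X.presheaf.map (homOfLE (X.basicOpen_le (g * a))).op x := by
        rw [hyx, ← CommRingCat.comp_apply, ← Functor.map_comp]
        rfl
      rw [e1]
      have hu : IsUnit (X.presheaf.map (homOfLE (X.basicOpen_le (g * a))).op (g * a)) :=
        RingedSpace.isUnit_res_basicOpen X.toRingedSpace (g * a)
      have h0 : (X.presheaf.map (homOfLE (X.basicOpen_le (g * a))).op (g * a)) ^ n *
          X.presheaf.map (homOfLE (X.basicOpen_le (g * a))).op x = 0 := by
        rw [← map_pow, ← map_mul, hn, map_zero]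
      exact (hu.pow n).mul_right_eq_zero.mp h0
  choose W hWD hpW hres using key
  refine X.sheaf.eq_of_locally_eq' W D (fun p => homOfLE (hWD p)) ?_ y 0 ?_
  · intro q hq
    exact Opens.mem_iSup.2 ⟨⟨q, hq⟩, hpW ⟨q, hq⟩⟩
  · intro p
    have := hres p
    rw [map_zero]
    exact this

end Groth.Agent.Lib.Helper4.SDG2
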