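import Mathlib.CategoryTheory.Sites.SheafCohomology.Basic
import Mathlib.Algebra.Homology.DerivedCategory.Ext.ExactSequences
import Mathlib.CategoryTheory.Sites.LocallySurjective

set_option autoImplicit false
open CategoryTheory CategoryTheory.Limits Opposite

namespace Groth.Agent.Lib.Helper4.SiteDimShift
open Abelian

universe w' w v u
variable {C : Type u} [Category.{v} C] {J : GrothendieckTopology C}
  [HasSheafify J AddCommGrpCat.{w}] [HasExt.{w'} (Sheaf J AddCommGrpCat.{w})]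

theorem subsingleton_H1_of_surjective {T : C} (hT : IsTerminal T)
    (S : ShortComplex (Sheaf J AddCommGrpCat.{w})) (hS : S.ShortExact)
    (h2 : Subsingleton (Sheaf.H S.X₂ 1))
    (hsurj : Function.Surjective (S.g.hom.app (op T))) :
    Subsingleton (Sheaf.H S.X₁ 1) := by
  suffices h : ∀ a : Sheaf.H S.X₁ 1, a = 0 from ⟨fun a b => (h a).trans (h b).symm⟩
  intro x₁
  obtain ⟨x₃, hx₃⟩ := Ext.covariant_sequence_exact₁ _ hS x₁ (h2.elim _ _) (rfl : 0 + 1 = 1)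
  obtain ⟨z, hz⟩ := hsurj (Sheaf.H.equiv₀ S.X₃ hT x₃)
  let x₂ : Sheaf.H S.X₂ 0 := (Sheaf.H.equiv₀ S.X₂ hT).symm z
  have hx₂ : Sheaf.H.map S.g 0 x₂ = x₃ := by
    apply (Sheaf.H.equiv₀ S.X₃ hT).injective
    have hn := Sheaf.H.equiv₀_naturality (hT := hT) S.g x₂
    rw [← hn]
    have : Sheaf.H.equiv₀ S.X₂ hT x₂ = z := (Sheaf.H.equiv₀ S.X₂ hT).apply_symm_apply z
    rw [this]
    exact hz
  have hx₂' : x₂.comp (Ext.mk₀ S.g) (add_zero 0) = x₃ := hx₂
  rw [← hx₃, ← hx₂', Ext.comp_assoc_of_second_deg_zero, ShortComplex.ShortExact.comp_extClass,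
    Ext.comp_zero]

theorem subsingleton_H_succ (S : ShortComplex (Sheaf J AddCommGrpCat.{w})) (hS : S.ShortExact)
    (q : ℕ) (h2 : Subsingleton (Sheaf.H S.X₂ (q + 1))) (h3 : Subsingleton (Sheaf.H S.X₃ q)) :
    Subsingleton (Sheaf.H S.X₁ (q + 1)) := by
  suffices h : ∀ a : Sheaf.H S.X₁ (q + 1), a = 0 from ⟨fun a b => (h a).trans (h b).symm⟩
  intro x₁
  obtain ⟨x₃, hx₃⟩ := Ext.covariant_sequence_exact₁ _ hS x₁ (h2.elim _ _)
    (rfl : q + 1 = q + 1)
  have : x₃ = 0 := h3.elim _ _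
  rw [← hx₃, this, Ext.zero_comp]

end Groth.Agent.Lib.Helper4.SiteDimShift
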