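import Groth.Agent.Lib.Helper4.FlcPull
import Groth.Agent.Lib.Helper4.CIn
import Groth.Prelude.Def_PBC
import Mathlib.AlgebraicGeometry.Morphisms.Immersion
import Mathlib.AlgebraicGeometry.Morphisms.ClosedImmersion
import Mathlib.AlgebraicGeometry.IdealSheaf.Subscheme

set_option autoImplicit false
open CategoryTheory CategoryTheory.Limits AlgebraicGeometry Opposite Topology
universe u

noncomputable section

namespace Groth.Agent.Lib.Helper4.Strata
open Groth.Agent.Lib.Helper4.CIn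

variable {X : Scheme.{u}}

def Strata (F : EtCoh.Ab X) (S : Set X) : Prop :=
  ∃ (κ : Type) (_ : Finite κ) (T : κ → Scheme.{u}) (g : ∀ i, T i ⟶ X),
    (∀ i, IsImmersion (g i)) ∧
    (∀ i, CIn S (Set.range (g i))) ∧
    Pairwise (fun i j => Disjoint (Set.range (g i)) (Set.range (g j))) ∧
    (⋃ i, Set.range (g i)) = S ∧
    ∀ i, EtCoh.IsFiniteLocallyConstant ((EtCoh.pull (g i)).obj F)

theorem strata_iff (F : EtCoh.Ab X) (S : Set X) : Strata F S ↔ EtPBC.AdaptedStrata F S := by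
  constructor
  · rintro ⟨κ, hκ, T, g, h1, h2, h3, h4, h5⟩
    obtain ⟨n, ⟨e⟩⟩ := Finite.exists_equiv_fin κ
    refine ⟨n, fun i => T (e.symm i), fun i => g (e.symm i), fun i => h1 _, fun i => h2 _, ?_, ?_,
      fun i _ => h5 _⟩
    · intro i j hij
      exact h3 (fun h => hij (e.symm.injective h))
    · rw [← h4]
      ext x
      simp only [Set.mem_iUnion]
      constructor
      · rintro ⟨i, hi⟩
        exact ⟨e.symm i, hi⟩
      · rintro ⟨i, hi⟩
        obtain ⟨k, rfl⟩ := e.symm.surjective i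
        exact ⟨k, hi⟩
  · rintro ⟨n, T, g, h1, h2, h3, h4, h5⟩
    exact ⟨Fin n, inferInstance, T, g, h1, h2, h3, h4, fun i => h5 i⟩

theorem strata_empty (F : EtCoh.Ab X) : Strata F ∅ :=
  ⟨Empty, inferInstance, fun i => i.elim, fun i => i.elim, fun i => i.elim, fun i => i.elim,
    fun i => i.elim, by simp, fun i => i.elim⟩

section Restr

variable {T : Scheme.{u}} (g : T ⟶ X) (C : Set X) (hC : IsClosed C)

def preCloseds : TopologicalSpace.Closeds T := ⟨g ⁻¹' C, hC.preimage g.continuous⟩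

abbrev restrObj : Scheme.{u} := (Scheme.IdealSheafData.vanishingIdeal (preCloseds g C hC)).subscheme

abbrev restrι : restrObj g C hC ⟶ T :=
  (Scheme.IdealSheafData.vanishingIdeal (preCloseds g C hC)).subschemeι

theorem range_restrι : Set.range (restrι g C hC) = g ⁻¹' C := by
  rw [Scheme.IdealSheafData.range_subschemeι, Scheme.IdealSheafData.coe_support_vanishingIdeal]
  rfl

theorem range_restrι_comp : Set.range (restrι g C hC ≫ g) = Set.range g ∩ C := by
  rw [Scheme.Hom.comp_base, TopCat.coe_comp, Set.range_comp, range_restrι,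
    Set.image_preimage_eq_inter_range, Set.inter_comm]

end Restr

theorem flc_comp (F : EtCoh.Ab X) {T T' : Scheme.{u}} (c : T' ⟶ T) (g : T ⟶ X)
    (h : EtCoh.IsFiniteLocallyConstant ((EtCoh.pull g).obj F)) :
    EtCoh.IsFiniteLocallyConstant ((EtCoh.pull (c ≫ g)).obj F) :=
  FlcPull.isFiniteLocallyConstant_of_iso ((EtCore.pullComp c g).app F).symm
    (FlcPull.isFiniteLocallyConstant_pull c _ h)

theorem strata_union (F : EtCoh.Ab X) {S₁ S₂ : Set X} (hS₁ : IsOpen S₁) (hS₂ : IsOpen S₂)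
    (hc₁ : IsCompact S₁) (hc₂ : IsCompact S₂) (hQ : IsQuasiSeparated (S₁ ∪ S₂))
    (h₁ : Strata F S₁) (h₂ : Strata F S₂) : Strata F (S₁ ∪ S₂) := by
  obtain ⟨κ₁, hκ₁, T₁, g₁, a1, a2, a3, a4, a5⟩ := h₁
  obtain ⟨κ₂, hκ₂, T₂, g₂, b1, b2, b3, b4, b5⟩ := h₂
  have hC : IsClosed S₁ᶜ := hS₁.isClosed_compl
  have hS : IsOpen (S₁ ∪ S₂) := hS₁.union hS₂
  have hr₁ : ∀ i, Set.range (g₁ i) ⊆ S₁ := fun i => by
    rw [← a4]; exact Set.subset_iUnion (fun i => Set.range (g₁ i)) i
  have hr₂ : ∀ i, Set.range (g₂ i) ⊆ S₂ := fun i => by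
    rw [← b4]; exact Set.subset_iUnion (fun i => Set.range (g₂ i)) i
  let T : κ₁ ⊕ κ₂ → Scheme.{u} := Sum.elim T₁ (fun j => restrObj (g₂ j) S₁ᶜ hC)
  let g : ∀ k, T k ⟶ X := fun k => match k with
    | Sum.inl i => g₁ i
    | Sum.inr j => restrι (g₂ j) S₁ᶜ hC ≫ g₂ j
  have hrange_inr : ∀ j, Set.range (g (Sum.inr j)) = Set.range (g₂ j) ∩ S₁ᶜ :=
    fun j => range_restrι_comp (g₂ j) S₁ᶜ hC
  have hcS₁ : CIn (S₁ ∪ S₂) S₁ :=
    cin_of_isOpen_isCompact hS hQ hS₁ hc₁ Set.subset_union_left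
  refine ⟨κ₁ ⊕ κ₂, inferInstance, T, g, ?_, ?_, ?_, ?_, ?_⟩
  · rintro (i | j)
    · exact a1 i
    · have := b1 j
      change IsImmersion (restrι (g₂ j) S₁ᶜ hC ≫ g₂ j)
      infer_instance
  · rintro (i | j)
    · exact cin_mono hS hQ hS₁ hc₁ Set.subset_union_left (hr₁ i) (a2 i)
    · rw [hrange_inr]
      exact (cin_mono hS hQ hS₂ hc₂ Set.subset_union_right (hr₂ j) (b2 j)).inter hcS₁.compl
  · rintro (i | j) (i' | j') hne
    · exact a3 (fun h => hne (congrArg Sum.inl h))
    · change Disjoint (Set.range (g₁ i)) (Set.range (g (Sum.inr j')))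
      rw [hrange_inr]
      exact Set.disjoint_of_subset (hr₁ i) Set.inter_subset_right disjoint_compl_right
    · change Disjoint (Set.range (g (Sum.inr j))) (Set.range (g₁ i'))
      rw [hrange_inr]
      exact Set.disjoint_of_subset Set.inter_subset_right (hr₁ i') disjoint_compl_left
    · change Disjoint (Set.range (g (Sum.inr j))) (Set.range (g (Sum.inr j')))
      rw [hrange_inr, hrange_inr]
      exact Set.disjoint_of_subset Set.inter_subset_left Set.inter_subset_left
        (b3 (fun h => hne (congrArg Sum.inr h)))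
  · ext x
    simp only [Set.mem_iUnion, Sum.exists, Set.mem_union]
    constructor
    · rintro (⟨i, hi⟩ | ⟨j, hj⟩)
      · exact Or.inl (hr₁ i hi)
      · have : x ∈ Set.range (g₂ j) ∩ S₁ᶜ := by rw [← hrange_inr]; exact hj
        exact Or.inr (hr₂ j this.1)
    · intro hx
      by_cases hx₁ : x ∈ S₁
      · rw [← a4] at hx₁
        obtain ⟨i, hi⟩ := Set.mem_iUnion.1 hx₁
        exact Or.inl ⟨i, hi⟩
      · have hx₂ : x ∈ S₂ := hx.resolve_left hx₁
        rw [← b4] at hx₂
        obtain ⟨j, hj⟩ := Set.mem_iUnion.1 hx₂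
        refine Or.inr ⟨j, ?_⟩
        change x ∈ Set.range (g (Sum.inr j))
        rw [hrange_inr]
        exact ⟨hj, hx₁⟩
  · rintro (i | j)
    · exact a5 i
    · exact flc_comp F _ _ (b5 j)

theorem strata_biUnion (F : EtCoh.Ab X) {α : Type*} (t : Finset α) (W : α → Set X) (Q : Set X)
    (hQ : IsQuasiSeparated Q)
    (h : ∀ a ∈ t, IsOpen (W a) ∧ IsCompact (W a) ∧ W a ⊆ Q ∧ Strata F (W a)) :
    Strata F (⋃ a ∈ t, W a) := by
  classical
  induction t using Finset.induction_on with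
  | empty =>
    simp only [Finset.notMem_empty, Set.iUnion_of_empty, Set.iUnion_empty]
    exact strata_empty F
  | insert b t hb ih =>
    have ht : ∀ a ∈ t, IsOpen (W a) ∧ IsCompact (W a) ∧ W a ⊆ Q ∧ Strata F (W a) :=
      fun a ha => h a (Finset.mem_insert_of_mem ha)
    obtain ⟨hb1, hb2, hb3, hb4⟩ := h b (Finset.mem_insert_self b t)
    have hU : (⋃ a ∈ insert b t, W a) = (⋃ a ∈ t, W a) ∪ W b := by
      rw [Finset.set_biUnion_insert, Set.union_comm]
    rw [hU]
    have hopen : IsOpen (⋃ a ∈ t, W a) := isOpen_biUnion fun a ha => (ht a ha).1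
    have hcomp : IsCompact (⋃ a ∈ t, W a) := t.isCompact_biUnion fun a ha => (ht a ha).2.1
    have hsub : (⋃ a ∈ t, W a) ∪ W b ⊆ Q :=
      Set.union_subset (Set.iUnion₂_subset fun a ha => (ht a ha).2.2.1) hb3
    exact strata_union F hopen hb1 hcomp hb2 (hQ.of_subset hsub) (ih ht) hb4

theorem strata_image (F : EtCoh.Ab X) {U : Scheme.{u}} (j : U ⟶ X) [IsImmersion j] {S' : Set U}
    (h : Strata ((EtCoh.pull j).obj F) S') : Strata F (j '' S') := by
  obtain ⟨κ, hκ, T, g, a1, a2, a3, a4, a5⟩ := h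
  have hrange : ∀ i, Set.range (g i ≫ j) = j '' Set.range (g i) := fun i => by
    rw [Scheme.Hom.comp_base, TopCat.coe_comp, Set.range_comp]
  have hemb : Topology.IsEmbedding j := j.isEmbedding
  refine ⟨κ, hκ, T, fun i => g i ≫ j, fun i => ?_, fun i => ?_, ?_, ?_, fun i => ?_⟩
  · have := a1 i
    infer_instance
  · rw [hrange]
    exact cin_image_of_isEmbedding hemb (a2 i)
  · intro i i' hne
    change Disjoint (Set.range (g i ≫ j)) (Set.range (g i' ≫ j))
    rw [hrange, hrange]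
    exact Set.disjoint_image_of_injective hemb.injective (a3 hne)
  · rw [← a4, Set.image_iUnion]
    exact Set.iUnion_congr hrange
  · exact FlcPull.isFiniteLocallyConstant_of_iso ((EtCore.pullComp (g i) j).app F).symm (a5 i)

end Groth.Agent.Lib.Helper4.Strata
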