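import Groth.Agent.Lib.Helper4.Strata
import Mathlib.AlgebraicGeometry.Morphisms.Affine
import Mathlib.AlgebraicGeometry.Morphisms.QuasiSeparated
import Mathlib.AlgebraicGeometry.PullbackCarrier

set_option autoImplicit false
open CategoryTheory CategoryTheory.Limits AlgebraicGeometry Opposite Topology
universe u

noncomputable section

namespace Groth.Agent.Lib.Helper4.Strata
open Groth.Agent.Lib.Helper4.CIn

theorem cin_preimage {X Y : Type*} [TopologicalSpace X] [TopologicalSpace Y] (f : X → Y)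
    (hf : Continuous f) {S : Set Y} {S' : Set X} (hSS' : S' ⊆ f ⁻¹' S) (hS : IsOpen S)
    (hSc : IsCompact S) (hS' : IsOpen S') (hQ : IsQuasiSeparated S')
    (hqc : ∀ K : Set Y, K ⊆ S → IsOpen K → IsCompact K → IsCompact (f ⁻¹' K ∩ S'))
    {A : Set Y} (hA : CIn S A) : CIn S' (f ⁻¹' A) := by
  have : QuasiSeparatedSpace S' := (isQuasiSeparated_iff_quasiSeparatedSpace S' hS').1 hQ
  have : CompactSpace S := isCompact_iff_compactSpace.1 hSc
  let φ : S' → S := Set.MapsTo.restrict f S' S hSS'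
  have hφ : Continuous φ := Continuous.restrict (f := f) (s := S') (t := S) hSS' hf
  have h1 : (Subtype.val : S' → X) ⁻¹' (f ⁻¹' A) = φ ⁻¹' ((Subtype.val : S → Y) ⁻¹' A) := rfl
  unfold CIn
  rw [h1]
  refine IsConstructible.preimage hφ ?_ hA
  intro s hs hsr
  have hsc : IsCompact s := hsr.isCompact
  have hK1 : IsOpen ((Subtype.val : S → Y) '' s) := hS.isOpenMap_subtype_val _ hs
  have hK2 : IsCompact ((Subtype.val : S → Y) '' s) := hsc.image continuous_subtype_val
  have hK3 : (Subtype.val : S → Y) '' s ⊆ S := by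
    rintro _ ⟨y, _, rfl⟩
    exact y.2
  have h2 := hqc _ hK3 hK1 hK2
  have h3 : IsCompact (φ ⁻¹' s) := by
    rw [Subtype.isCompact_iff]
    have : (Subtype.val : S' → X) '' (φ ⁻¹' s) = f ⁻¹' ((Subtype.val : S → Y) '' s) ∩ S' := by
      ext x
      constructor
      · rintro ⟨y, hy, rfl⟩
        exact ⟨⟨φ y, hy, rfl⟩, y.2⟩
      · rintro ⟨⟨z, hz, hzx⟩, hx⟩
        refine ⟨⟨x, hx⟩, ?_, rfl⟩
        have : φ ⟨x, hx⟩ = z := Subtype.ext hzx.symm
        rw [Set.mem_preimage, this]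
        exact hz
    rw [this]
    exact h2
  exact h3.isRetrocompact (hs.preimage hφ)

variable {X Y : Scheme.{u}}

theorem strata_of_iso {F G : EtCoh.Ab X} (e : F ≅ G) {S : Set X} (h : Strata F S) : Strata G S := by
  obtain ⟨κ, hκ, T, g, a1, a2, a3, a4, a5⟩ := h
  exact ⟨κ, hκ, T, g, a1, a2, a3, a4, fun i =>
    FlcPull.isFiniteLocallyConstant_of_iso ((EtCoh.pull (g i)).mapIso e) (a5 i)⟩

theorem strata_preimage (f : X ⟶ Y) (F : EtCoh.Ab Y) {S : Set Y}
    (hc : ∀ A : Set Y, CIn S A → CIn (f ⁻¹' S) (f ⁻¹' A)) (h : Strata F S) :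
    Strata ((EtCoh.pull f).obj F) (f ⁻¹' S) := by
  obtain ⟨κ, hκ, T, g, a1, a2, a3, a4, a5⟩ := h
  have hrange : ∀ i, Set.range (pullback.snd (g i) f) = f ⁻¹' Set.range (g i) := fun i =>
    Scheme.Pullback.range_snd (g i) f
  refine ⟨κ, hκ, fun i => pullback (g i) f, fun i => pullback.snd (g i) f, fun i => ?_, fun i => ?_,
    ?_, ?_, fun i => ?_⟩
  · have := a1 i
    infer_instance
  · rw [hrange]
    exact hc _ (a2 i)
  · intro i j hne
    change Disjoint (Set.range (pullback.snd (g i) f)) (Set.range (pullback.snd (g j) f))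
    rw [hrange, hrange]
    exact (a3 hne).preimage _
  · rw [← a4, Set.preimage_iUnion]
    exact Set.iUnion_congr hrange
  · have h1 := flc_comp F (pullback.fst (g i) f) (g i) (a5 i)
    rw [pullback.condition] at h1
    exact FlcPull.isFiniteLocallyConstant_of_iso ((EtCore.pullComp _ f).app F) h1

theorem cin_preimage_scheme (f : X ⟶ Y) [CompactSpace X] [QuasiSeparatedSpace X] {S : Set Y}
    (hS : IsOpen S) (hSc : IsCompact S) (hfS : f ⁻¹' S = Set.univ)
    (hqc : ∀ K : Set Y, K ⊆ S → IsOpen K → IsCompact K → IsCompact (f ⁻¹' K))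
    {A : Set Y} (hA : CIn S A) : CIn (f ⁻¹' S) (f ⁻¹' A) := by
  refine cin_preimage f f.continuous (le_refl _) hS hSc (hS.preimage f.continuous) ?_ ?_ hA
  · rw [hfS]
    exact isQuasiSeparated_univ
  · intro K hK1 hK2 hK3
    rw [hfS, Set.inter_univ]
    exact hqc K hK1 hK2 hK3

theorem isCompact_preimage_of_affine (f : X ⟶ Y) [IsAffine X] (W : Y.Opens) (hW : IsAffineOpen W)
    (hfW : Set.range f ⊆ W) (K : Set Y) (hKW : K ⊆ W) (hK : IsOpen K)
    (hKc : IsCompact K) : IsCompact (f ⁻¹' K) := by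
  have hle : Set.range f ⊆ Set.range W.ι := by
    rw [Scheme.Opens.range_ι]
    exact hfW
  let f' : X ⟶ W.toScheme := IsOpenImmersion.lift W.ι f hle
  have hf' : f' ≫ W.ι = f := IsOpenImmersion.lift_fac _ _ _
  have : IsAffine W.toScheme := hW
  have h1 : IsCompact (W.ι ⁻¹' K) := by
    rw [W.ι.isEmbedding.isInducing.isCompact_preimage_iff]
    · exact hKc
    · rw [Scheme.Opens.range_ι]
      exact hKW
  have h2 := QuasiCompact.isCompact_preimage (f := f') _ (hK.preimage W.ι.continuous) h1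
  have h3 : f ⁻¹' K = f' ⁻¹' (W.ι ⁻¹' K) := by
    rw [← Set.preimage_comp, ← TopCat.coe_comp, ← Scheme.Hom.comp_base, hf']
  rw [h3]
  exact h2

end Groth.Agent.Lib.Helper4.Strata
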