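import Groth.Agent.Lib.Helper4.StrataPull
import Groth.Agent.Lib.Helper4.LocConstExt
import Groth.Agent.Lib.Helper4.EtStalk

set_option autoImplicit false
open CategoryTheory CategoryTheory.Limits AlgebraicGeometry Opposite Topology
universe u

noncomputable section

namespace Groth.Agent.Lib.Helper4.Strata
open Groth.Agent.Lib.Helper4.CIn

variable {X : Scheme.{u}}

def Strata₂ (F G : EtCoh.Ab X) (S : Set X) : Prop :=
  ∃ (κ : Type) (_ : Finite κ) (T : κ → Scheme.{u}) (g : ∀ i, T i ⟶ X),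
    (∀ i, IsImmersion (g i)) ∧
    (∀ i, CIn S (Set.range (g i))) ∧
    Pairwise (fun i j => Disjoint (Set.range (g i)) (Set.range (g j))) ∧
    (⋃ i, Set.range (g i)) = S ∧
    ∀ i, EtCoh.IsFiniteLocallyConstant ((EtCoh.pull (g i)).obj F) ∧
      EtCoh.IsFiniteLocallyConstant ((EtCoh.pull (g i)).obj G)

theorem strata₂_of_strata (F G : EtCoh.Ab X) {S : Set X} (hF : Strata F S) (hG : Strata G S) :
    Strata₂ F G S := by
  obtain ⟨κ₁, hκ₁, T₁, g₁, a1, a2, a3, a4, a5⟩ := hF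
  obtain ⟨κ₂, hκ₂, T₂, g₂, b1, b2, b3, b4, b5⟩ := hG
  have hrange : ∀ p : κ₁ × κ₂, Set.range (pullback.fst (g₁ p.1) (g₂ p.2) ≫ g₁ p.1) =
      Set.range (g₁ p.1) ∩ Set.range (g₂ p.2) := by
    intro p
    rw [Scheme.Hom.comp_base, TopCat.coe_comp, Set.range_comp, Scheme.Pullback.range_fst,
      Set.image_preimage_eq_inter_range, Set.inter_comm]
  refine ⟨κ₁ × κ₂, inferInstance, fun p => pullback (g₁ p.1) (g₂ p.2),
    fun p => pullback.fst (g₁ p.1) (g₂ p.2) ≫ g₁ p.1, ?_, ?_, ?_, ?_, ?_⟩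
  · intro p
    have := a1 p.1
    have := b1 p.2
    infer_instance
  · intro p
    rw [hrange]
    exact (a2 p.1).inter (b2 p.2)
  · intro p q hpq
    change Disjoint (Set.range (pullback.fst (g₁ p.1) (g₂ p.2) ≫ g₁ p.1))
      (Set.range (pullback.fst (g₁ q.1) (g₂ q.2) ≫ g₁ q.1))
    rw [hrange, hrange]
    by_cases h1 : p.1 = q.1
    · have h2 : p.2 ≠ q.2 := fun h2 => hpq (Prod.ext h1 h2)
      exact Set.disjoint_of_subset Set.inter_subset_right Set.inter_subset_right (b3 h2)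
    · exact Set.disjoint_of_subset Set.inter_subset_left Set.inter_subset_left (a3 h1)
  · ext x
    simp only [Set.mem_iUnion]
    constructor
    · rintro ⟨p, hp⟩
      rw [hrange] at hp
      rw [← a4]
      exact Set.mem_iUnion.2 ⟨p.1, hp.1⟩
    · intro hx
      have hx1 := hx
      rw [← a4] at hx1
      rw [← b4] at hx
      obtain ⟨i, hi⟩ := Set.mem_iUnion.1 hx1
      obtain ⟨j, hj⟩ := Set.mem_iUnion.1 hx
      refine ⟨(i, j), ?_⟩
      rw [hrange]
      exact ⟨hi, hj⟩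
  · intro p
    refine ⟨flc_comp F _ _ (a5 p.1), ?_⟩
    have h := flc_comp G (pullback.snd (g₁ p.1) (g₂ p.2)) (g₂ p.2) (b5 p.2)
    rwa [← pullback.condition] at h

theorem strata_of_strata₂ (F G H : EtCoh.Ab X) {S : Set X} (h : Strata₂ F G S)
    (hH : ∀ {T : Scheme.{u}} (g : T ⟶ X), EtCoh.IsFiniteLocallyConstant ((EtCoh.pull g).obj F) →
      EtCoh.IsFiniteLocallyConstant ((EtCoh.pull g).obj G) →
      EtCoh.IsFiniteLocallyConstant ((EtCoh.pull g).obj H)) : Strata H S := by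
  obtain ⟨κ, hκ, T, g, a1, a2, a3, a4, a5⟩ := h
  exact ⟨κ, hκ, T, g, a1, a2, a3, a4, fun i => hH (g i) (a5 i).1 (a5 i).2⟩

theorem flc_pull_kernel {F G : EtCoh.Ab X} (φ : F ⟶ G) {T : Scheme.{u}} (g : T ⟶ X)
    (hF : EtCoh.IsFiniteLocallyConstant ((EtCoh.pull g).obj F))
    (hG : EtCoh.IsFiniteLocallyConstant ((EtCoh.pull g).obj G)) :
    EtCoh.IsFiniteLocallyConstant ((EtCoh.pull g).obj (kernel φ)) := by
  have : PreservesFiniteLimits (EtCoh.pull g) := EtStalk.preservesFiniteLimits_pull g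
  exact FlcPull.isFiniteLocallyConstant_of_iso (PreservesKernel.iso (EtCoh.pull g) φ).symm
    (LocConst.flc_kernel_cokernel ((EtCoh.pull g).map φ) hF hG).1

theorem flc_pull_cokernel {F G : EtCoh.Ab X} (φ : F ⟶ G) {T : Scheme.{u}} (g : T ⟶ X)
    (hF : EtCoh.IsFiniteLocallyConstant ((EtCoh.pull g).obj F))
    (hG : EtCoh.IsFiniteLocallyConstant ((EtCoh.pull g).obj G)) :
    EtCoh.IsFiniteLocallyConstant ((EtCoh.pull g).obj (cokernel φ)) := by
  exact FlcPull.isFiniteLocallyConstant_of_iso (PreservesCokernel.iso (EtCoh.pull g) φ).symm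
    (LocConst.flc_kernel_cokernel ((EtCoh.pull g).map φ) hF hG).2

theorem flc_pull_ext (S : ShortComplex (EtCoh.Ab X)) (hS : S.ShortExact) {T : Scheme.{u}}
    (g : T ⟶ X) (h₁ : EtCoh.IsFiniteLocallyConstant ((EtCoh.pull g).obj S.X₁))
    (h₃ : EtCoh.IsFiniteLocallyConstant ((EtCoh.pull g).obj S.X₃)) :
    EtCoh.IsFiniteLocallyConstant ((EtCoh.pull g).obj S.X₂) := by
  have : PreservesFiniteLimits (EtCoh.pull g) := EtStalk.preservesFiniteLimits_pull g
  exact LocConst.flc_ext (S.map (EtCoh.pull g)) (hS.map_of_exact (EtCoh.pull g)) h₁ h₃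

end Groth.Agent.Lib.Helper4.Strata
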