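import Mathlib.RingTheory.Etale.StandardEtale
import Mathlib.AlgebraicGeometry.Sites.EtalePoint
import Groth.Prelude.Def_EtBase

set_option autoImplicit false
open CategoryTheory CategoryTheory.Limits AlgebraicGeometry Opposite Polynomial
universe u

namespace Groth.Agent.Lib.Helper4.StrictHensGeom

theorem exists_etale_nbhd_geom {S : Scheme.{u}} {Ω : Type u} [Field Ω] (U : S.Etale)
    (u : Spec (CommRingCat.of Ω) ⟶ U.left) (P₀ : StandardEtalePair Γ(U.left, ⊤)) (ω : Ω)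
    (h0 : P₀.f.eval₂ (u.appTop ≫ (Scheme.ΓSpecIso (CommRingCat.of Ω)).hom).hom ω = 0)
    (h1 : P₀.g.eval₂ (u.appTop ≫ (Scheme.ΓSpecIso (CommRingCat.of Ω)).hom).hom ω ≠ 0) :
    ∃ (T : S.Etale) (g : T ⟶ U) (t : Spec (CommRingCat.of Ω) ⟶ T.left) (r : Γ(T.left, ⊤)),
      t ≫ g.left = u ∧ P₀.f.eval₂ g.left.appTop.hom r = 0 ∧
      IsUnit (P₀.g.eval₂ g.left.appTop.hom r) ∧
      (t.appTop ≫ (Scheme.ΓSpecIso (CommRingCat.of Ω)).hom).hom r = ω := by
  have : Etale U.hom := U.prop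
  obtain ⟨R, c, hc, hmem, -⟩ := Scheme.exists_affine_mem_range_and_range_subset
    (x := u.base default) (U := ⊤) (by simp)
  have hrange : Set.range u.base ⊆ Set.range c.base := by
    rintro _ ⟨a, rfl⟩
    rwa [Subsingleton.elim a default]
  let u' : Spec (CommRingCat.of Ω) ⟶ Spec R := IsOpenImmersion.lift c u hrange
  have hu' : u' ≫ c = u := IsOpenImmersion.lift_fac c u hrange
  let θ : R ⟶ CommRingCat.of Ω := Spec.preimage u'
  have hθ : Spec.map θ = u' := Spec.map_preimage u'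
  let ρ : Γ(U.left, ⊤) ⟶ R := c.appTop ≫ (Scheme.ΓSpecIso R).hom
  have hρθ : ρ ≫ θ = u.appTop ≫ (Scheme.ΓSpecIso (CommRingCat.of Ω)).hom := by
    rw [← hu', ← hθ, Scheme.Hom.comp_appTop, Category.assoc, Category.assoc,
      Scheme.ΓSpecIso_naturality]
  let P : StandardEtalePair R := P₀.map ρ.hom
  let _ : Algebra R Ω := θ.hom.toAlgebra
  have halg : algebraMap R Ω = θ.hom := rfl
  have e0 : ∀ Q : Γ(U.left, ⊤)[X], Polynomial.aeval ω (Q.map ρ.hom) =
      Q.eval₂ (u.appTop ≫ (Scheme.ΓSpecIso (CommRingCat.of Ω)).hom).hom ω := by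
    intro Q
    rw [Polynomial.aeval_def, Polynomial.eval₂_map, halg, ← hρθ]
    rfl
  have hmap : P.HasMap ω := by
    refine ⟨?_, ?_⟩
    · change Polynomial.aeval ω (P₀.f.map ρ.hom) = 0
      rw [e0]
      exact h0
    · change IsUnit (Polynomial.aeval ω (P₀.g.map ρ.hom))
      rw [e0]
      exact isUnit_iff_ne_zero.2 h1
  let ψ : P.Ring →ₐ[R] Ω := P.lift ω hmap
  have hψX : ψ P.X = ω := P.lift_X ω hmap
  let B : CommRingCat := CommRingCat.of P.Ring
  let φ : R ⟶ B := CommRingCat.ofHom (algebraMap R P.Ring)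
  let ψ' : B ⟶ CommRingCat.of Ω := CommRingCat.ofHom ψ.toRingHom
  have hφψ : φ ≫ ψ' = θ := by
    ext x
    exact ψ.commutes x
  have hφ : Etale (Spec.map φ) := by
    rw [HasRingHomProperty.Spec_iff (P := @Etale)]
    exact RingHom.etale_algebraMap.2 inferInstance
  let T : S.Etale := Scheme.Etale.mk (Spec.map φ ≫ c ≫ U.hom)
  let g : T ⟶ U := MorphismProperty.Over.homMk (Spec.map φ ≫ c) (Category.assoc _ _ _)
  let r : Γ(Spec B, ⊤) := (Scheme.ΓSpecIso B).inv P.X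
  have hθ' : (Spec.map φ ≫ c).appTop = ρ ≫ φ ≫ (Scheme.ΓSpecIso B).inv := by
    rw [Scheme.Hom.comp_appTop, Scheme.ΓSpecIso_inv_naturality, Category.assoc,
      Iso.hom_inv_id_assoc]
  have key : ∀ Q : Γ(U.left, ⊤)[X], Polynomial.eval₂ (Spec.map φ ≫ c).appTop.hom r Q =
      (Scheme.ΓSpecIso B).inv.hom (Polynomial.aeval P.X (Q.map ρ.hom)) := by
    intro Q
    rw [hθ']
    have h1 : Polynomial.eval₂ (ρ ≫ φ ≫ (Scheme.ΓSpecIso B).inv).hom r Q =
        (Scheme.ΓSpecIso B).inv.hom (Polynomial.eval₂ (ρ ≫ φ).hom P.X Q) := by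
      rw [Polynomial.hom_eval₂]
      rfl
    rw [h1, Polynomial.aeval_def, Polynomial.eval₂_map]
    rfl
  refine ⟨T, g, Spec.map ψ', r, ?_, ?_, ?_, ?_⟩
  · change Spec.map ψ' ≫ Spec.map φ ≫ c = u
    rw [← Spec.map_comp_assoc, hφψ, hθ, hu']
  · change Polynomial.eval₂ (Spec.map φ ≫ c).appTop.hom r P₀.f = 0
    rw [key]
    change (Scheme.ΓSpecIso B).inv.hom (Polynomial.aeval P.X P.f) = 0
    rw [P.hasMap_X.1, map_zero]
  · change IsUnit (Polynomial.eval₂ (Spec.map φ ≫ c).appTop.hom r P₀.g)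
    rw [key]
    exact (P.hasMap_X.2).map (Scheme.ΓSpecIso B).inv.hom
  · change ((Spec.map ψ').appTop ≫ (Scheme.ΓSpecIso (CommRingCat.of Ω)).hom).hom
      ((Scheme.ΓSpecIso B).inv.hom P.X) = ω
    rw [Scheme.ΓSpecIso_naturality]
    change ψ'.hom ((Scheme.ΓSpecIso B).hom.hom ((Scheme.ΓSpecIso B).inv.hom P.X)) = ω
    have : (Scheme.ΓSpecIso B).hom.hom ((Scheme.ΓSpecIso B).inv.hom P.X) = P.X := by
      change ((Scheme.ΓSpecIso B).inv ≫ (Scheme.ΓSpecIso B).hom).hom P.X = P.X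
      rw [Iso.inv_hom_id]
      rfl
    rw [this]
    exact hψX

end Groth.Agent.Lib.Helper4.StrictHensGeom
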