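import Groth.Agent.S0468
import Groth.Agent.Lib.Helper26.MVTop
import Mathlib.Algebra.Homology.DerivedCategory.Ext.ExactSequences

set_option autoImplicit false
universe u

open CategoryTheory TopologicalSpace Opposite CategoryTheory.Limits TopCat Abelian

namespace Groth.Agent.Lib.Helper4.VanA

variable {X : TopCat.{u}}

def Van (d : ℕ) (F : CohTop.Ab X) : Prop := ∀ p : ℕ, d < p → Subsingleton (CohTop.H F p)

lemma Van.of_iso {d : ℕ} {F G : CohTop.Ab X} (e : F ≅ G) (h : Van d F) : Van d G := by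
  intro p hp
  have := h p hp
  refine ⟨fun a b => ?_⟩
  have key : ∀ x : CohTop.H G p, x = 0 := fun x => by
    have h1 : x.comp (Ext.mk₀ e.inv) (add_zero p) = 0 :=
      Subsingleton.elim (α := CohTop.H F p) _ _
    have h2 := congrArg (fun y => y.comp (Ext.mk₀ e.hom) (add_zero p)) h1
    simp only [Ext.zero_comp] at h2
    rwa [Ext.comp_assoc_of_third_deg_zero, Ext.mk₀_comp_mk₀, Iso.inv_hom_id, Ext.comp_mk₀_id] at h2
  exact (key a).trans (key b).symm

lemma Van.of_isZero {d : ℕ} {F : CohTop.Ab X} (hF : IsZero F) : Van d F := by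
  intro p _
  refine ⟨fun a b => ?_⟩
  have key : ∀ x : CohTop.H F p, x = 0 := fun x => by
    have h1 : x.comp (Ext.mk₀ (𝟙 F)) (add_zero p) = x := Ext.comp_mk₀_id x
    rw [← h1, hF.eq_of_src (𝟙 F) 0, Ext.mk₀_zero, Ext.comp_zero]
  exact (key a).trans (key b).symm

lemma Van.ext₂ {d : ℕ} {S : ShortComplex (CohTop.Ab X)} (hS : S.ShortExact)
    (h1 : Van d S.X₁) (h3 : Van d S.X₃) : Van d S.X₂ := by
  intro p hp
  have := h1 p hp
  have := h3 p hp
  refine ⟨fun a b => ?_⟩
  have key : ∀ x : CohTop.H S.X₂ p, x = 0 := fun x => by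
    have hx : x.comp (Ext.mk₀ S.g) (add_zero p) = 0 :=
      Subsingleton.elim (α := CohTop.H S.X₃ p) _ _
    obtain ⟨y, hy⟩ := Ext.covariant_sequence_exact₂ _ hS x hx
    rw [← hy, Subsingleton.elim (α := CohTop.H S.X₁ p) y 0, Ext.zero_comp]
  exact (key a).trans (key b).symm

lemma Van.ext₃ {d : ℕ} {S : ShortComplex (CohTop.Ab X)} (hS : S.ShortExact)
    (h1 : Van d S.X₁) (h2 : Van d S.X₂) : Van d S.X₃ := by
  intro p hp
  have := h1 (p + 1) (by omega)
  have := h2 p hp
  refine ⟨fun a b => ?_⟩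
  have key : ∀ x : CohTop.H S.X₃ p, x = 0 := fun x => by
    have hx : x.comp hS.extClass (rfl : p + 1 = p + 1) = 0 :=
      Subsingleton.elim (α := CohTop.H S.X₁ (p + 1)) _ _
    obtain ⟨y, hy⟩ := Ext.covariant_sequence_exact₃ _ hS x rfl hx
    rw [← hy, Subsingleton.elim (α := CohTop.H S.X₂ p) y 0, Ext.zero_comp]
  exact (key a).trans (key b).symm

lemma Van.biprod {d : ℕ} {A B : CohTop.Ab X} (hA : Van d A) (hB : Van d B) : Van d (A ⊞ B) := by
  have hS : (ShortComplex.mk (biprod.inl : A ⟶ A ⊞ B) (biprod.snd : A ⊞ B ⟶ B)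
      biprod.inl_snd).ShortExact :=
    (ShortComplex.Splitting.ofHasBinaryBiproduct A B).shortExact
  exact Van.ext₂ hS hA hB

open Groth.Agent.Lib.Helper53 Groth.Agent.Lib.Helper26.MVTop in
theorem subsingleton_HU_top_of_subsingleton_H (F : CohTop.Ab X) (n : ℕ)
    [Subsingleton (CohTop.H F n)] : Subsingleton (CohTop.HU F n (⊤ : Opens X)) := by
  refine ⟨fun a b => ?_⟩
  have key : ∀ x : CohTop.HU F n (⊤ : Opens X), x = 0 := fun x => by
    have h1 : (Ext.mk₀ (freeSheafTopIso (X := X)).inv).comp x (zero_add n) = 0 :=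
      Subsingleton.elim (α := CohTop.H F n) _ _
    have h2 := congrArg (fun y => (Ext.mk₀ (freeSheafTopIso (X := X)).hom).comp y (zero_add n)) h1
    simp only [Ext.comp_zero] at h2
    rwa [← Ext.comp_assoc_of_second_deg_zero, Ext.mk₀_comp_mk₀, Iso.hom_inv_id,
      Ext.mk₀_id_comp] at h2
  exact (key a).trans (key b).symm

theorem Van.of_colimit [CompactSpace X] [PrespectralSpace X] [QuasiSeparatedSpace X] {d : ℕ}
    {ι : Type u} [Preorder ι] [IsDirected ι (· ≤ ·)] [Nonempty ι]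
    (D : ι ⥤ CohTop.Ab X) (c : Cocone D) (hc : IsColimit c) (h : ∀ i, Van d (D.obj i)) :
    Van d c.pt := by
  intro p hp
  have hpres := Groth.Agent.S0468.result (X := X) (⊤ : Opens X) isCompact_univ ι p
  let Φ : CohTop.Ab X ⥤ AddCommGrpCat.{u} :=
    (Sheaf.cohomologyPresheafFunctor (Opens.grothendieckTopology X) p).flip.obj (op (⊤ : Opens X))
  have hc' : IsColimit (Φ.mapCocone c) := isColimitOfPreserves Φ hc
  have hz : ∀ i, IsZero ((D ⋙ Φ).obj i) := by
    intro i
    have := h i p hp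
    have h2 : Subsingleton (CohTop.HU (D.obj i) p (⊤ : Opens X)) :=
      subsingleton_HU_top_of_subsingleton_H (D.obj i) p
    have : Subsingleton ↑((D ⋙ Φ).obj i) := h2
    exact AddCommGrpCat.isZero_of_subsingleton _
  have hid : 𝟙 (Φ.mapCocone c).pt = 0 := by
    apply hc'.hom_ext
    intro i
    exact (hz i).eq_of_src _ _
  have h3 : Subsingleton (CohTop.HU c.pt p (⊤ : Opens X)) := by
    refine ⟨fun a b => ?_⟩
    have key : ∀ x : CohTop.HU c.pt p (⊤ : Opens X), x = 0 := fun x => by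
      have := congrArg (fun φ : (Φ.mapCocone c).pt ⟶ (Φ.mapCocone c).pt => φ x) hid
      exact this
    exact (key a).trans (key b).symm
  exact Groth.Agent.Lib.Helper26.MVTop.subsingleton_H_of_subsingleton_HU_top c.pt p

end Groth.Agent.Lib.Helper4.VanA
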