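import Groth.Prelude.Def_CohTop
import Groth.Agent.Lib.Helper53.SheafExact
import Mathlib.Topology.Sheaves.SheafCondition.UniqueGluing
import Mathlib.Topology.LocallyConstant.Basic

set_option autoImplicit false
universe u

open CategoryTheory TopologicalSpace Opposite CategoryTheory.Limits TopCat

namespace Groth.Agent.Lib.Helper4.VanB

variable {X : TopCat.{u}}

def sec (g : X → ℕ) (O : Opens X) : AddSubgroup (O → ℤ) where
  carrier := {f | IsLocallyConstant f ∧ ∀ x : O, (g x.1 : ℤ) ∣ f x}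
  zero_mem' := ⟨IsLocallyConstant.const 0, fun _ => dvd_zero _⟩
  add_mem' := fun ha hb => ⟨ha.1.add hb.1, fun x => dvd_add (ha.2 x) (hb.2 x)⟩
  neg_mem' := fun ha => ⟨ha.1.neg, fun x => (dvd_neg).2 (ha.2 x)⟩

lemma mem_sec {g : X → ℕ} {O : Opens X} {f : O → ℤ} :
    f ∈ sec g O ↔ IsLocallyConstant f ∧ ∀ x : O, (g x.1 : ℤ) ∣ f x := Iff.rfl

def resHom (g : X → ℕ) {O O' : Opens X} (h : O' ≤ O) : sec g O →+ sec g O' where
  toFun f := ⟨fun x => f.1 ⟨x.1, h x.2⟩,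
    f.2.1.comp_continuous (f := fun x : O' => (⟨x.1, h x.2⟩ : O))
      (continuous_subtype_val.subtype_mk _), fun x => f.2.2 ⟨x.1, h x.2⟩⟩
  map_zero' := rfl
  map_add' _ _ := rfl

def pre (g : X → ℕ) : (Opens X)ᵒᵖ ⥤ AddCommGrpCat.{u} where
  obj O := AddCommGrpCat.of (sec g O.unop)
  map {O O'} i := AddCommGrpCat.ofHom (resHom g (leOfHom i.unop))
  map_id _ := rfl
  map_comp _ _ := rfl

def fn {g : X → ℕ} {O : Opens X} (f : ToType ((pre g).obj (op O))) : O → ℤ :=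
  Subtype.val (show sec g O from f)

def mk {g : X → ℕ} {O : Opens X} (f : O → ℤ) (hf : f ∈ sec g O) : ToType ((pre g).obj (op O)) :=
  (⟨f, hf⟩ : sec g O)

@[simp] lemma fn_mk {g : X → ℕ} {O : Opens X} (f : O → ℤ) (hf : f ∈ sec g O) : fn (mk f hf) = f := rfl

lemma fn_mem {g : X → ℕ} {O : Opens X} (f : ToType ((pre g).obj (op O))) : fn f ∈ sec g O :=
  (show sec g O from f).2

lemma fn_injective {g : X → ℕ} {O : Opens X} : Function.Injective (fn (g := g) (O := O)) :=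
  fun _ _ h => Subtype.ext h

@[simp] lemma fn_zero {g : X → ℕ} {O : Opens X} : fn (0 : ToType ((pre g).obj (op O))) = 0 := rfl
@[simp] lemma fn_add {g : X → ℕ} {O : Opens X} (a b : ToType ((pre g).obj (op O))) :
    fn (a + b) = fn a + fn b := rfl
@[simp] lemma fn_neg {g : X → ℕ} {O : Opens X} (a : ToType ((pre g).obj (op O))) :
    fn (-a) = -fn a := rfl

lemma fn_map (g : X → ℕ) {O O' : Opens X} (i : op O ⟶ op O') (f : ToType ((pre g).obj (op O)))
    (x : O') : fn ((pre g).map i f) x = fn f ⟨x.1, leOfHom i.unop x.2⟩ := rfl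

lemma pre_isSheaf (g : X → ℕ) : TopCat.Presheaf.IsSheaf (pre g) := by
  rw [TopCat.Presheaf.isSheaf_iff_isSheafUniqueGluing]
  intro ι U sf hsf
  have hcompat : ∀ (i j : ι) (x : X) (hi : x ∈ U i) (hj : x ∈ U j),
      fn (sf i) ⟨x, hi⟩ = fn (sf j) ⟨x, hj⟩ := by
    intro i j x hi hj
    have h1 := congrArg (fun t : ToType ((pre g).obj (op (U i ⊓ U j))) => fn t ⟨x, ⟨hi, hj⟩⟩) (hsf i j)
    exact h1
  have hidx : ∀ x : ↥(iSup U), ∃ i, x.1 ∈ U i := fun x => Opens.mem_iSup.1 x.2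
  let F : ↥(iSup U) → ℤ := fun x => fn (sf (hidx x).choose) ⟨x.1, (hidx x).choose_spec⟩
  have hF : ∀ (i : ι) (x : X) (hi : x ∈ U i) (hx : x ∈ iSup U),
      F ⟨x, hx⟩ = fn (sf i) ⟨x, hi⟩ := fun i x hi hx => hcompat _ _ _ _ _
  have hFmem : F ∈ sec g (iSup U) := by
    refine ⟨?_, ?_⟩
    · rw [IsLocallyConstant.iff_exists_open]
      intro x
      obtain ⟨i, hi⟩ := hidx x
      obtain ⟨W, hW, hxW, hWc⟩ := (IsLocallyConstant.iff_exists_open _).1 (fn_mem (sf i)).1 ⟨x.1, hi⟩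
      refine ⟨{y | ∃ h : y.1 ∈ U i, (⟨y.1, h⟩ : U i) ∈ W}, ?_, ⟨hi, hxW⟩, ?_⟩
      · have hc : Continuous (fun y : {y : ↥(iSup U) // y.1 ∈ U i} => (⟨y.1.1, y.2⟩ : U i)) :=
          (continuous_subtype_val.comp continuous_subtype_val).subtype_mk _
        have hopen : IsOpen {y : ↥(iSup U) | y.1 ∈ U i} :=
          (U i).isOpen.preimage continuous_subtype_val
        have := (hW.preimage hc)
        have h2 := hopen.isOpenMap_subtype_val _ this
        convert h2 using 1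
        ext y
        simp only [Set.mem_setOf_eq, Set.mem_image, Set.mem_preimage, Subtype.exists]
        constructor
        · rintro ⟨h, hw⟩
          exact ⟨y.1, y.2, h, hw, rfl⟩
        · rintro ⟨a, ha, h, hw, rfl⟩
          exact ⟨h, hw⟩
      · rintro y ⟨h, hw⟩
        rw [hF i y.1 h y.2, hF i x.1 hi x.2]
        exact hWc _ hw
    · intro x
      obtain ⟨i, hi⟩ := hidx x
      rw [hF i x.1 hi x.2]
      exact (fn_mem (sf i)).2 ⟨x.1, hi⟩
  refine ⟨mk F hFmem, ?_, ?_⟩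
  · intro i
    apply fn_injective
    funext x
    rw [fn_map]
    exact hF i x.1 x.2 _
  · intro s hs
    apply fn_injective
    funext x
    obtain ⟨i, hi⟩ := hidx x
    have h1 := congrArg (fun t : ToType ((pre g).obj (op (U i))) => fn t ⟨x.1, hi⟩) (hs i)
    simp only [fn_map] at h1
    rw [fn_mk, hF i x.1 hi x.2]
    exact h1

abbrev K (g : X → ℕ) : CohTop.Ab X := ⟨pre g, pre_isSheaf g⟩

def inclHom {a b : X → ℕ} (h : ∀ x, a x ∣ b x) (O : Opens X) : sec b O →+ sec a O where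
  toFun f := ⟨f.1, f.2.1, fun x => (Int.natCast_dvd_natCast.2 (h x.1)).trans (f.2.2 x)⟩
  map_zero' := rfl
  map_add' _ _ := rfl

def incl {a b : X → ℕ} (h : ∀ x, a x ∣ b x) : K b ⟶ K a :=
  ⟨{ app := fun O => AddCommGrpCat.ofHom (inclHom h O.unop)
     naturality := fun _ _ _ => rfl }⟩

lemma fn_incl {a b : X → ℕ} (h : ∀ x, a x ∣ b x) (O : Opens X)
    (f : ToType ((K b).obj.obj (op O))) :
    fn (g := a) ((incl h).hom.app (op O) f) = fn (g := b) f := rfl

lemma hom_ext_fn {F : CohTop.Ab X} {g : X → ℕ} (φ ψ : F ⟶ K g)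
    (h : ∀ (O : Opens X) (s : ToType (F.obj.obj (op O))),
      fn (g := g) (φ.hom.app (op O) s) = fn (g := g) (ψ.hom.app (op O) s)) : φ = ψ := by
  apply ObjectProperty.hom_ext
  ext O s
  exact fn_injective (h O.unop s)

instance mono_incl {a b : X → ℕ} (h : ∀ x, a x ∣ b x) : Mono (incl h) := by
  constructor
  intro Z φ ψ hφψ
  apply hom_ext_fn
  intro O s
  have h1 := congrArg (fun θ : Z ⟶ K a => fn (g := a) (θ.hom.app (op O) s)) hφψ
  exact h1

lemma incl_comp {a b c : X → ℕ} (h1 : ∀ x, a x ∣ b x) (h2 : ∀ x, b x ∣ c x) :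
    incl h2 ≫ incl h1 = incl (fun x => (h1 x).trans (h2 x)) := rfl

section biprod

variable {A B C : CohTop.Ab X}

lemma add_app (φ ψ : A ⟶ B) (O : Opens X) (z : ToType (A.obj.obj (op O))) :
    (φ + ψ).hom.app (op O) z = φ.hom.app (op O) z + ψ.hom.app (op O) z := rfl

lemma neg_app (φ : A ⟶ B) (O : Opens X) (z : ToType (A.obj.obj (op O))) :
    (-φ).hom.app (op O) z = - φ.hom.app (op O) z := rfl

lemma comp_app (φ : A ⟶ B) (ψ : B ⟶ C) (O : Opens X) (z : ToType (A.obj.obj (op O))) :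
    (φ ≫ ψ).hom.app (op O) z = ψ.hom.app (op O) (φ.hom.app (op O) z) := rfl

lemma biprod_decomp (O : Opens X) (z : ToType ((A ⊞ B).obj.obj (op O))) :
    z = (biprod.inl : A ⟶ A ⊞ B).hom.app (op O) ((biprod.fst : A ⊞ B ⟶ A).hom.app (op O) z) +
      (biprod.inr : B ⟶ A ⊞ B).hom.app (op O) ((biprod.snd : A ⊞ B ⟶ B).hom.app (op O) z) := by
  have h := congrArg (fun θ : A ⊞ B ⟶ A ⊞ B => θ.hom.app (op O) z) (biprod.total (X := A) (Y := B))
  exact h.symm

lemma biprod_sec_ext (O : Opens X) (z z' : ToType ((A ⊞ B).obj.obj (op O)))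
    (h1 : (biprod.fst : A ⊞ B ⟶ A).hom.app (op O) z = (biprod.fst : A ⊞ B ⟶ A).hom.app (op O) z')
    (h2 : (biprod.snd : A ⊞ B ⟶ B).hom.app (op O) z = (biprod.snd : A ⊞ B ⟶ B).hom.app (op O) z') :
    z = z' := by
  rw [biprod_decomp O z, biprod_decomp O z', h1, h2]

lemma desc_apply (φ : A ⟶ C) (ψ : B ⟶ C) (O : Opens X) (z : ToType ((A ⊞ B).obj.obj (op O))) :
    (biprod.desc φ ψ).hom.app (op O) z =
      φ.hom.app (op O) ((biprod.fst : A ⊞ B ⟶ A).hom.app (op O) z) +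
      ψ.hom.app (op O) ((biprod.snd : A ⊞ B ⟶ B).hom.app (op O) z) := by
  have h : biprod.desc φ ψ = biprod.fst ≫ φ + biprod.snd ≫ ψ := by
    apply biprod.hom_ext' <;> simp
  rw [h]
  rfl

lemma lift_fst_apply (φ : C ⟶ A) (ψ : C ⟶ B) (O : Opens X) (t : ToType (C.obj.obj (op O))) :
    (biprod.fst : A ⊞ B ⟶ A).hom.app (op O) ((biprod.lift φ ψ).hom.app (op O) t) =
      φ.hom.app (op O) t :=
  congrArg (fun θ : C ⟶ A => θ.hom.app (op O) t) (biprod.lift_fst φ ψ)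

lemma lift_snd_apply (φ : C ⟶ A) (ψ : C ⟶ B) (O : Opens X) (t : ToType (C.obj.obj (op O))) :
    (biprod.snd : A ⊞ B ⟶ B).hom.app (op O) ((biprod.lift φ ψ).hom.app (op O) t) =
      ψ.hom.app (op O) t :=
  congrArg (fun θ : C ⟶ B => θ.hom.app (op O) t) (biprod.lift_snd φ ψ)

lemma inl_fst_apply (O : Opens X) (t : ToType (A.obj.obj (op O))) :
    (biprod.fst : A ⊞ B ⟶ A).hom.app (op O) ((biprod.inl : A ⟶ A ⊞ B).hom.app (op O) t) = t :=
  congrArg (fun θ : A ⟶ A => θ.hom.app (op O) t) (biprod.inl_fst (X := A) (Y := B))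

lemma inl_snd_apply (O : Opens X) (t : ToType (A.obj.obj (op O))) :
    (biprod.snd : A ⊞ B ⟶ B).hom.app (op O) ((biprod.inl : A ⟶ A ⊞ B).hom.app (op O) t) = 0 :=
  congrArg (fun θ : A ⟶ B => θ.hom.app (op O) t) (biprod.inl_snd (X := A) (Y := B))

lemma inr_fst_apply (O : Opens X) (t : ToType (B.obj.obj (op O))) :
    (biprod.fst : A ⊞ B ⟶ A).hom.app (op O) ((biprod.inr : B ⟶ A ⊞ B).hom.app (op O) t) = 0 :=
  congrArg (fun θ : B ⟶ A => θ.hom.app (op O) t) (biprod.inr_fst (X := A) (Y := B))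

lemma inr_snd_apply (O : Opens X) (t : ToType (B.obj.obj (op O))) :
    (biprod.snd : A ⊞ B ⟶ B).hom.app (op O) ((biprod.inr : B ⟶ A ⊞ B).hom.app (op O) t) = t :=
  congrArg (fun θ : B ⟶ B => θ.hom.app (op O) t) (biprod.inr_snd (X := A) (Y := B))

lemma desc_inl_apply (φ : A ⟶ C) (ψ : B ⟶ C) (O : Opens X) (t : ToType (A.obj.obj (op O))) :
    (biprod.desc φ ψ).hom.app (op O) ((biprod.inl : A ⟶ A ⊞ B).hom.app (op O) t) =
      φ.hom.app (op O) t :=
  congrArg (fun θ : A ⟶ C => θ.hom.app (op O) t) (biprod.inl_desc φ ψ)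

lemma desc_inr_apply (φ : A ⟶ C) (ψ : B ⟶ C) (O : Opens X) (t : ToType (B.obj.obj (op O))) :
    (biprod.desc φ ψ).hom.app (op O) ((biprod.inr : B ⟶ A ⊞ B).hom.app (op O) t) =
      ψ.hom.app (op O) t :=
  congrArg (fun θ : B ⟶ C => θ.hom.app (op O) t) (biprod.inr_desc φ ψ)

end biprod

def Sheafy (b : X → ℕ) : Prop := ∀ x, ∀ᶠ y in nhds x, b y ∣ b x

noncomputable def mvSeq (a b c e : X → ℕ) (hab : ∀ x, a x ∣ b x) (hac : ∀ x, a x ∣ c x)
    (hbe : ∀ x, b x ∣ e x) (hce : ∀ x, c x ∣ e x) : ShortComplex (CohTop.Ab X) :=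
  ShortComplex.mk (biprod.lift (incl hbe) (-(incl hce))) (biprod.desc (incl hab) (incl hac)) (by
    rw [biprod.lift_desc, Preadditive.neg_comp, incl_comp, incl_comp]
    exact add_neg_cancel _)

lemma restrict_const_mem {b : X → ℕ} {N : Opens X} (k : ℤ) (h : ∀ y ∈ N, (b y : ℤ) ∣ k) :
    (fun _ : N => k) ∈ sec b N :=
  ⟨IsLocallyConstant.const k, fun y => h y.1 y.2⟩

lemma natCast_lcm_dvd {m n : ℕ} {z : ℤ} (h1 : (m : ℤ) ∣ z) (h2 : (n : ℤ) ∣ z) :
    ((Nat.lcm m n : ℕ) : ℤ) ∣ z := by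
  rw [Int.natCast_dvd] at h1 h2 ⊢
  exact Nat.lcm_dvd h1 h2

lemma fn_restrict {g : X → ℕ} {U N : Opens X} (h : N ≤ U) (t : ToType ((pre g).obj (op U)))
    (y : N) : fn (g := g) (TopCat.Presheaf.restrictOpen (F := pre g) t N h) y =
      fn (g := g) t ⟨y.1, h y.2⟩ := rfl

lemma exists_nhd_const {g : X → ℕ} {U : Opens X} (t : ToType ((pre g).obj (op U))) (x : X)
    (hx : x ∈ U) : ∃ W : Opens X, W ≤ U ∧ x ∈ W ∧
      ∀ (y : X) (hy : y ∈ U), y ∈ W → fn (g := g) t ⟨y, hy⟩ = fn (g := g) t ⟨x, hx⟩ := by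
  obtain ⟨W, hW, hxW, hWc⟩ :=
    (IsLocallyConstant.iff_exists_open _).1 (fn_mem (g := g) t).1 ⟨x, hx⟩
  refine ⟨⟨Subtype.val '' W, U.isOpen.isOpenMap_subtype_val W hW⟩, ?_, ⟨⟨x, hx⟩, hxW, rfl⟩, ?_⟩
  · rintro y ⟨z, _, rfl⟩
    exact z.2
  · rintro y hy ⟨z, hz, rfl⟩
    exact hWc z hz

lemma Sheafy.exists_nhd {b : X → ℕ} (hb : Sheafy b) (x : X) :
    ∃ W : Opens X, x ∈ W ∧ ∀ y ∈ W, b y ∣ b x := by
  obtain ⟨O, hO, hOo, hxO⟩ := mem_nhds_iff.1 (hb x)
  exact ⟨⟨O, hOo⟩, hxO, fun y hy => hO hy⟩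

theorem mvSeq_shortExact (a b c e : X → ℕ) (hab : ∀ x, a x ∣ b x) (hac : ∀ x, a x ∣ c x)
    (hbe : ∀ x, b x ∣ e x) (hce : ∀ x, c x ∣ e x)
    (ha : ∀ x, a x = Nat.gcd (b x) (c x)) (he : ∀ x, e x = Nat.lcm (b x) (c x))
    (hb : Sheafy b) (hc : Sheafy c) : (mvSeq a b c e hab hac hbe hce).ShortExact := by
  have hmono : Mono (mvSeq a b c e hab hac hbe hce).f := by
    have : Mono ((mvSeq a b c e hab hac hbe hce).f ≫ biprod.fst) := by
      dsimp [mvSeq]
      rw [biprod.lift_fst]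
      infer_instance
    exact mono_of_mono _ biprod.fst
  have hepi : Epi (mvSeq a b c e hab hac hbe hce).g := by
    rw [← CategoryTheory.Sheaf.isLocallySurjective_iff_epi']
    change TopCat.Presheaf.IsLocallySurjective (mvSeq a b c e hab hac hbe hce).g.hom
    rw [TopCat.Presheaf.isLocallySurjective_iff]
    intro U t x hx
    change ToType ((pre a).obj (op U)) at t
    have hdvd : (a x : ℤ) ∣ fn (g := a) t ⟨x, hx⟩ := (fn_mem (g := a) t).2 ⟨x, hx⟩
    rw [ha x] at hdvd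
    obtain ⟨k, hk⟩ := hdvd
    have hbez := Nat.gcd_eq_gcd_ab (b x) (c x)
    set u : ℤ := (b x).gcdA (c x) * k with hu
    set v : ℤ := (b x).gcdB (c x) * k with hv
    have hval : fn (g := a) t ⟨x, hx⟩ = (b x : ℤ) * u + (c x : ℤ) * v := by
      rw [hk, hbez, hu, hv]
      ring
    obtain ⟨W, hWU, hxW, hWc⟩ := exists_nhd_const (g := a) t x hx
    obtain ⟨Wb, hxWb, hWb⟩ := hb.exists_nhd x
    obtain ⟨Wc, hxWc, hWc'⟩ := hc.exists_nhd x
    let N : Opens X := W ⊓ Wb ⊓ Wc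
    have hNU : N ≤ U := fun y hy => hWU hy.1.1
    have hxN : x ∈ N := ⟨⟨hxW, hxWb⟩, hxWc⟩
    let f₁ : ToType ((pre b).obj (op N)) := mk (fun _ : N => (b x : ℤ) * u)
      (restrict_const_mem _ (fun y hy =>
        Dvd.dvd.mul_right (Int.natCast_dvd_natCast.2 (hWb y hy.1.2)) u))
    let f₂ : ToType ((pre c).obj (op N)) := mk (fun _ : N => (c x : ℤ) * v)
      (restrict_const_mem _ (fun y hy =>
        Dvd.dvd.mul_right (Int.natCast_dvd_natCast.2 (hWc' y hy.2)) v))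
    refine ⟨N, hNU, ⟨(biprod.inl : K b ⟶ K b ⊞ K c).hom.app (op N) f₁ +
      (biprod.inr : K c ⟶ K b ⊞ K c).hom.app (op N) f₂, ?_⟩, hxN⟩
    apply fn_injective (g := a)
    funext y
    have e1 : fn (g := a) (TopCat.Presheaf.restrictOpen (F := pre a) t N hNU) y =
        (b x : ℤ) * u + (c x : ℤ) * v := by
      rw [fn_restrict (g := a) hNU t y, hWc y.1 (hNU y.2) y.2.1.1, hval]
    have e2 : (biprod.desc (incl hab) (incl hac)).hom.app (op N)
        ((biprod.inl : K b ⟶ K b ⊞ K c).hom.app (op N) f₁ +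
          (biprod.inr : K c ⟶ K b ⊞ K c).hom.app (op N) f₂) =
        (incl hab).hom.app (op N) f₁ + (incl hac).hom.app (op N) f₂ := by
      rw [map_add]
      exact congrArg₂ (· + ·) (desc_inl_apply (incl hab) (incl hac) N f₁)
        (desc_inr_apply (incl hab) (incl hac) N f₂)
    exact (congrArg (fun w : ToType ((pre a).obj (op N)) => fn (g := a) w y) e2).trans e1.symm
  refine ShortComplex.ShortExact.mk' ?_ hmono hepi
  apply Groth.Agent.Lib.Helper53.exact_of_sections_exact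
  intro V s hs
  let p : ToType ((pre b).obj (op V)) := (biprod.fst : K b ⊞ K c ⟶ K b).hom.app (op V) s
  let q : ToType ((pre c).obj (op V)) := (biprod.snd : K b ⊞ K c ⟶ K c).hom.app (op V) s
  have hpq : ∀ y : V, fn (g := b) p y + fn (g := c) q y = 0 := by
    intro y
    have h1 : (biprod.desc (incl hab) (incl hac)).hom.app (op V) s = 0 := hs
    rw [desc_apply] at h1
    have h2 := congrArg (fun w : ToType ((pre a).obj (op V)) => fn (g := a) w y) h1
    exact h2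
  have hmem : fn (g := b) p ∈ sec e V := by
    refine ⟨(fn_mem (g := b) p).1, fun y => ?_⟩
    rw [he y.1]
    apply natCast_lcm_dvd ((fn_mem (g := b) p).2 y)
    have h3 : fn (g := b) p y = - fn (g := c) q y := eq_neg_of_add_eq_zero_left (hpq y)
    rw [h3]
    exact (dvd_neg).2 ((fn_mem (g := c) q).2 y)
  refine ⟨mk (g := e) (fn (g := b) p) hmem, ?_⟩
  apply biprod_sec_ext
  · change (biprod.fst : K b ⊞ K c ⟶ K b).hom.app (op V)
      ((biprod.lift (incl hbe) (-(incl hce))).hom.app (op V) _) = p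
    rw [lift_fst_apply]
    apply fn_injective (g := b)
    rfl
  · change (biprod.snd : K b ⊞ K c ⟶ K c).hom.app (op V)
      ((biprod.lift (incl hbe) (-(incl hce))).hom.app (op V) _) = q
    rw [lift_snd_apply]
    apply fn_injective (g := c)
    funext y
    have h3 : fn (g := c) q y = - fn (g := b) p y := eq_neg_of_add_eq_zero_right (hpq y)
    rw [h3]
    rfl

def mulHomSec (m : ℕ) (g : X → ℕ) (O : Opens X) : sec g O →+ sec (fun x => m * g x) O where
  toFun f := ⟨fun x => (m : ℤ) * f.1 x, f.2.1.comp (fun n : ℤ => (m : ℤ) * n), fun x => by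
    push_cast
    exact mul_dvd_mul_left _ (f.2.2 x)⟩
  map_zero' := by
    apply Subtype.ext
    funext x
    exact mul_zero _
  map_add' f f' := by
    apply Subtype.ext
    funext x
    exact mul_add _ _ _

lemma dvd_of_mem_mul {m : ℕ} {g : X → ℕ} {O : Opens X} (f : sec (fun x => m * g x) O) (x : O) :
    (m : ℤ) ∣ f.1 x := by
  have h := f.2.2 x
  push_cast at h
  exact (Dvd.intro _ rfl).trans h

def divHomSec (m : ℕ) (hm : 1 ≤ m) (g : X → ℕ) (O : Opens X) :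
    sec (fun x => m * g x) O →+ sec g O where
  toFun f := ⟨fun x => f.1 x / (m : ℤ), f.2.1.comp (fun n : ℤ => n / (m : ℤ)), fun x => by
    have h := f.2.2 x
    push_cast at h
    obtain ⟨k, hk⟩ := h
    have hm0 : (m : ℤ) ≠ 0 := by exact_mod_cast (Nat.one_le_iff_ne_zero.1 hm)
    change (g x.1 : ℤ) ∣ f.1 x / (m : ℤ)
    rw [hk, mul_assoc, Int.mul_ediv_cancel_left _ hm0]
    exact Dvd.intro _ rfl⟩
  map_zero' := by
    apply Subtype.ext
    funext x
    exact Int.zero_ediv _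
  map_add' f f' := by
    apply Subtype.ext
    funext x
    exact Int.add_ediv_of_dvd_left (dvd_of_mem_mul f x)

def mulIso (m : ℕ) (hm : 1 ≤ m) (g : X → ℕ) : K g ≅ K (fun x => m * g x) where
  hom := ⟨{ app := fun O => AddCommGrpCat.ofHom (mulHomSec m g O.unop)
            naturality := fun _ _ _ => rfl }⟩
  inv := ⟨{ app := fun O => AddCommGrpCat.ofHom (divHomSec m hm g O.unop)
            naturality := fun _ _ _ => rfl }⟩
  hom_inv_id := by
    apply hom_ext_fn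
    intro O s
    funext x
    have hm0 : (m : ℤ) ≠ 0 := by exact_mod_cast (Nat.one_le_iff_ne_zero.1 hm)
    exact Int.mul_ediv_cancel_left _ hm0
  inv_hom_id := by
    apply hom_ext_fn
    intro O s
    funext x
    exact Int.mul_ediv_cancel' (dvd_of_mem_mul (show sec (fun x => m * g x) O from s) x)

end Groth.Agent.Lib.Helper4.VanB
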