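import Groth.Agent.Lib.Helper4.VanB
import Groth.Agent.Lib.Helper53.Flasque
import Mathlib.CategoryTheory.Sites.LocallySurjective
import Mathlib.GroupTheory.FreeAbelianGroup

set_option autoImplicit false
universe u

open CategoryTheory TopologicalSpace Opposite CategoryTheory.Limits TopCat

namespace Groth.Agent.Lib.Helper4.VanC

open Groth.Agent.Lib.Helper4.VanB

variable {X : TopCat.{u}}

open Classical in
noncomputable def chi (V : Opens X) : X → ℕ := fun x => if x ∈ V then 1 else 0

lemma chi_of_mem {V : Opens X} {x : X} (h : x ∈ V) : chi V x = 1 := if_pos h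
lemma chi_of_not_mem {V : Opens X} {x : X} (h : x ∉ V) : chi V x = 0 := if_neg h

noncomputable def oneSec (V : Opens X) {N : Opens X} (h : N ≤ V) : ToType ((pre (chi V)).obj (op N)) :=
  mk (fun _ => 1) ⟨IsLocallyConstant.const 1, fun x => by rw [chi_of_mem (h x.2)]; simp⟩

lemma fn_oneSec (V : Opens X) {N : Opens X} (h : N ≤ V) (y : N) :
    fn (g := chi V) (oneSec V h) y = 1 := rfl

noncomputable abbrev P (V : Opens X) : (Opens X)ᵒᵖ ⥤ AddCommGrpCat.{u} :=
  yoneda.obj V ⋙ AddCommGrpCat.free

noncomputable def betaHom (V N : Opens X) : FreeAbelianGroup (N ⟶ V) →+ sec (chi V) N :=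
  FreeAbelianGroup.lift (fun i => (oneSec V (leOfHom i) : sec (chi V) N))

lemma betaHom_of (V N : Opens X) (i : N ⟶ V) :
    betaHom V N (FreeAbelianGroup.of i) = (oneSec V (leOfHom i) : sec (chi V) N) :=
  FreeAbelianGroup.lift_apply_of _ _

def evHom (g : X → ℕ) (N : Opens X) (y : N) : sec g N →+ ℤ where
  toFun f := f.1 y
  map_zero' := rfl
  map_add' _ _ := rfl

lemma betaHom_apply (V N : Opens X) (p : FreeAbelianGroup (N ⟶ V)) (y : N) :
    (betaHom V N p).1 y = FreeAbelianGroup.lift (fun _ : N ⟶ V => (1 : ℤ)) p := by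
  have h : (evHom (chi V) N y).comp (betaHom V N) = FreeAbelianGroup.lift (fun _ : N ⟶ V => (1 : ℤ)) := by
    apply FreeAbelianGroup.lift_ext
    intro i
    rw [AddMonoidHom.comp_apply, betaHom_of, FreeAbelianGroup.lift_apply_of]
    rfl
  exact DFunLike.congr_fun h p

noncomputable def beta (V : Opens X) : P V ⟶ (K (chi V)).obj where
  app N := AddCommGrpCat.ofHom (betaHom V N.unop)
  naturality N N' j := by
    apply AddCommGrpCat.hom_ext
    apply FreeAbelianGroup.lift_ext
    intro i
    apply Subtype.ext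
    funext y
    change (betaHom V N'.unop (FreeAbelianGroup.map (fun k : N.unop ⟶ V => j.unop ≫ k)
      (FreeAbelianGroup.of i))).1 y = (betaHom V N.unop (FreeAbelianGroup.of i)).1 ⟨y.1, _⟩
    rw [betaHom_apply, betaHom_apply, FreeAbelianGroup.map_of_apply,
      FreeAbelianGroup.lift_apply_of, FreeAbelianGroup.lift_apply_of]

lemma beta_app_apply (V N : Opens X) (p : FreeAbelianGroup (N ⟶ V)) (y : N) :
    fn (g := chi V) ((beta V).app (op N) p) y =
      FreeAbelianGroup.lift (fun _ : N ⟶ V => (1 : ℤ)) p :=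
  betaHom_apply V N p y

lemma free_eq_zero_of_isEmpty {T : Type u} [IsEmpty T] (p : FreeAbelianGroup T) : p = 0 := by
  induction p using FreeAbelianGroup.induction_on with
  | zero => rfl
  | of x => exact (IsEmpty.false x).elim
  | neg x h => rw [h, neg_zero]
  | add x y hx hy => rw [hx, hy, add_zero]

lemma free_eq_zero_of_lift_one {T : Type u} [Subsingleton T]
    (p : FreeAbelianGroup T) (h : FreeAbelianGroup.lift (fun _ : T => (1 : ℤ)) p = 0) : p = 0 := by
  by_cases hT : Nonempty T
  · obtain ⟨t⟩ := hT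
    have : Unique T := ⟨⟨t⟩, fun _ => Subsingleton.elim _ _⟩
    apply (FreeAbelianGroup.uniqueEquiv T).injective
    rw [map_zero]
    exact h
  · have : IsEmpty T := not_nonempty_iff.1 hT
    exact free_eq_zero_of_isEmpty p

noncomputable def alpha (V : Opens X) : Groth.Agent.Lib.Helper53.freeSheaf V ⟶ K (chi V) :=
  ⟨sheafifyLift (Opens.grothendieckTopology X) (beta V) (K (chi V)).property⟩

lemma eta_alpha (V : Opens X) :
    toSheafify (Opens.grothendieckTopology X) (P V) ≫ (alpha V).hom = beta V :=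
  toSheafify_sheafifyLift _ _ _

lemma eta_alpha_apply (V N : Opens X) (p : FreeAbelianGroup (N ⟶ V)) :
    (alpha V).hom.app (op N) ((toSheafify (Opens.grothendieckTopology X) (P V)).app (op N) p) =
      (beta V).app (op N) p :=
  congrArg (fun θ : P V ⟶ (K (chi V)).obj => θ.app (op N) p) (eta_alpha V)

lemma eta_locSurj (V : Opens X) :
    TopCat.Presheaf.IsLocallySurjective (toSheafify (Opens.grothendieckTopology X) (P V)) :=
  Presheaf.isLocallySurjective_toSheafify' (Opens.grothendieckTopology X) (P V)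

lemma alpha_injective (V O : Opens X) : Function.Injective ((alpha V).hom.app (op O)) := by
  rw [injective_iff_map_eq_zero]
  intro σ hσ
  have hloc := (TopCat.Presheaf.isLocallySurjective_iff _).1 (eta_locSurj V) O σ
  choose N hNO hN hxN using hloc
  have hzero : ∀ (x : X) (hx : x ∈ O),
      (Groth.Agent.Lib.Helper53.freeSheaf V).obj.map (homOfLE (hNO x hx)).op σ = 0 := by
    intro x hx
    obtain ⟨p, hp⟩ := hN x hx
    have h1 : (beta V).app (op (N x hx)) p = 0 := by
      rw [← eta_alpha_apply, hp]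
      have h2 := TopCat.Presheaf.map_restrict (alpha V).hom (hNO x hx) σ
      rw [h2, hσ]
      exact map_zero _
    have h3 : FreeAbelianGroup.lift (fun _ : N x hx ⟶ V => (1 : ℤ)) p = 0 := by
      rw [← beta_app_apply V (N x hx) p ⟨x, hxN x hx⟩, h1]
      rfl
    have hsub : Subsingleton ((yoneda.obj V).obj (op (N x hx))) :=
      inferInstanceAs (Subsingleton (N x hx ⟶ V))
    have h4 : p = 0 := free_eq_zero_of_lift_one p h3
    rw [h4, map_zero] at hp
    exact hp.symm
  refine TopCat.Sheaf.eq_of_locally_eq' (Groth.Agent.Lib.Helper53.freeSheaf V)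
    (fun x : O => N x.1 x.2) O (fun x => homOfLE (hNO x.1 x.2)) ?_ σ 0 ?_
  · intro x hx
    exact Opens.mem_iSup.2 ⟨⟨x, hx⟩, hxN x hx⟩
  · intro x
    rw [map_zero]
    exact hzero x.1 x.2

instance mono_alpha (V : Opens X) : Mono (alpha V) := by
  have h1 : Mono ((sheafToPresheaf _ _).map (alpha V)) := by
    have : ∀ O, Mono ((alpha V).hom.app O) := fun O =>
      (AddCommGrpCat.mono_iff_injective _).2 (alpha_injective V O.unop)
    exact NatTrans.mono_of_mono_app (alpha V).hom
  exact (sheafToPresheaf _ _).mono_of_mono_map h1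

instance epi_alpha (V : Opens X) : Epi (alpha V) := by
  rw [← CategoryTheory.Sheaf.isLocallySurjective_iff_epi']
  change TopCat.Presheaf.IsLocallySurjective (alpha V).hom
  rw [TopCat.Presheaf.isLocallySurjective_iff]
  intro U t x hx
  change ToType ((pre (chi V)).obj (op U)) at t
  obtain ⟨W, hWU, hxW, hWc⟩ := exists_nhd_const (g := chi V) t x hx
  by_cases hxV : x ∈ V
  · let N : Opens X := W ⊓ V
    have hNU : N ≤ U := fun y hy => hWU hy.1
    refine ⟨N, hNU, ⟨(fn (g := chi V) t ⟨x, hx⟩) •
      (toSheafify (Opens.grothendieckTopology X) (P V)).app (op N)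
        (FreeAbelianGroup.of (homOfLE (inf_le_right : N ≤ V))), ?_⟩, ⟨hxW, hxV⟩⟩
    rw [map_zsmul, eta_alpha_apply]
    apply fn_injective (g := chi V)
    funext y
    have e1 : fn (g := chi V) (TopCat.Presheaf.restrictOpen (F := pre (chi V)) t N hNU) y =
        fn (g := chi V) t ⟨x, hx⟩ := by
      rw [fn_restrict (g := chi V) hNU t y]
      exact hWc y.1 (hNU y.2) y.2.1
    refine Eq.trans ?_ e1.symm
    have e2 : ∀ (n : ℤ) (w : ToType ((pre (chi V)).obj (op N))),
        fn (g := chi V) (n • w) y = n * fn (g := chi V) w y := fun n w => rfl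
    rw [e2, beta_app_apply, FreeAbelianGroup.lift_apply_of, mul_one]
  · have h0 : fn (g := chi V) t ⟨x, hx⟩ = 0 := by
      have := (fn_mem (g := chi V) t).2 ⟨x, hx⟩
      rw [chi_of_not_mem hxV] at this
      simpa using this
    refine ⟨W, hWU, ⟨0, ?_⟩, hxW⟩
    rw [map_zero]
    apply fn_injective (g := chi V)
    funext y
    have e1 : fn (g := chi V) (TopCat.Presheaf.restrictOpen (F := pre (chi V)) t W hWU) y =
        fn (g := chi V) t ⟨x, hx⟩ := by
      rw [fn_restrict (g := chi V) hWU t y]
      exact hWc y.1 (hWU y.2) y.2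
    rw [e1, h0]
    rfl

noncomputable def freeIso (V : Opens X) : Groth.Agent.Lib.Helper53.freeSheaf V ≅ K (chi V) :=
  have : IsIso (alpha V) := isIso_of_mono_of_epi _
  asIso (alpha V)

end Groth.Agent.Lib.Helper4.VanC
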