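import Groth.Agent.Lib.Helper4.VanA
import Groth.Agent.Lib.Helper4.VanC
import Mathlib.Algebra.GCDMonoid.Finset
import Mathlib.Algebra.GCDMonoid.Nat
import Mathlib.Data.Nat.Factorization.Basic
import Mathlib.Topology.QuasiSeparated

set_option autoImplicit false
universe u

open CategoryTheory TopologicalSpace Opposite CategoryTheory.Limits TopCat

namespace Groth.Agent.Lib.Helper4.VanD

open Groth.Agent.Lib.Helper4.VanA Groth.Agent.Lib.Helper4.VanB Groth.Agent.Lib.Helper4.VanC

variable {X : TopCat.{u}}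

lemma lcm_gcd_distrib (p q r : ℕ) :
    Nat.lcm (Nat.gcd p q) r = Nat.gcd (Nat.lcm p r) (Nat.lcm q r) := by
  rcases Nat.eq_zero_or_pos r with rfl | hr
  · simp
  rcases Nat.eq_zero_or_pos p with rfl | hp
  · simp
  rcases Nat.eq_zero_or_pos q with rfl | hq
  · simp
  have hg : Nat.gcd p q ≠ 0 := Nat.gcd_ne_zero_left hp.ne'
  have hpr : Nat.lcm p r ≠ 0 := Nat.lcm_ne_zero hp.ne' hr.ne'
  have hqr : Nat.lcm q r ≠ 0 := Nat.lcm_ne_zero hq.ne' hr.ne'
  apply Nat.eq_of_factorization_eq (Nat.lcm_ne_zero hg hr.ne') (Nat.gcd_ne_zero_left hpr)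
  intro ℓ
  rw [Nat.factorization_lcm hg hr.ne', Nat.factorization_gcd hp.ne' hq.ne',
    Nat.factorization_gcd hpr hqr, Nat.factorization_lcm hp.ne' hr.ne',
    Nat.factorization_lcm hq.ne' hr.ne']
  simp only [Finsupp.sup_apply, Finsupp.inf_apply]
  exact sup_inf_right _ _ _

lemma isZero_K (g : X → ℕ) (hg : ∀ x, g x = 0) : IsZero (K g) := by
  rw [IsZero.iff_id_eq_zero]
  apply hom_ext_fn
  intro O s
  funext x
  have h := (fn_mem (g := g) s).2 x
  rw [hg x.1] at h
  have h2 : fn (g := g) s x = 0 := by simpa using h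
  exact h2

lemma chi_inf (V W : Opens X) (x : X) : chi (V ⊓ W) x = chi V x * chi W x := by
  by_cases hV : x ∈ V <;> by_cases hW : x ∈ W
  · rw [chi_of_mem hV, chi_of_mem hW, chi_of_mem (show x ∈ V ⊓ W from ⟨hV, hW⟩)]
  · rw [chi_of_not_mem hW, chi_of_not_mem (show x ∉ V ⊓ W from fun h => hW h.2), mul_zero]
  · rw [chi_of_not_mem hV, chi_of_not_mem (show x ∉ V ⊓ W from fun h => hV h.1), zero_mul]
  · rw [chi_of_not_mem hV, chi_of_not_mem (show x ∉ V ⊓ W from fun h => hV h.1), zero_mul]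

lemma sheafy_mul_chi (f : X → ℕ) (W : Opens X)
    (hf : ∀ x ∈ W, ∀ᶠ y in nhds x, f y ∣ f x) : Sheafy (fun x => f x * chi W x) := by
  intro x
  by_cases hx : x ∈ W
  · filter_upwards [hf x hx, W.isOpen.mem_nhds hx] with y hy hyW
    rw [chi_of_mem hx, chi_of_mem hyW]
    exact mul_dvd_mul_right hy 1
  · refine Filter.Eventually.of_forall (fun y => ?_)
    change _ ∣ f x * chi W x
    rw [chi_of_not_mem hx, mul_zero]
    exact dvd_zero _

open Classical in
noncomputable def gA {T : Type*} (m : T → ℕ) (V : T → Opens X) (A : Finset T) (x : X) : ℕ :=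
  (A.filter (fun t => x ∈ V t)).gcd m

lemma gA_empty {T : Type*} (m : T → ℕ) (V : T → Opens X) (x : X) : gA m V ∅ x = 0 := by
  simp [gA]

open Classical in
lemma gA_insert {T : Type*} (m : T → ℕ) (V : T → Opens X) (A : Finset T) (t₀ : T) (x : X) :
    gA m V (insert t₀ A) x = Nat.gcd (if x ∈ V t₀ then m t₀ else 0) (gA m V A x) := by
  unfold gA
  rw [Finset.filter_insert]
  split_ifs with h
  · rw [Finset.gcd_insert]
    rfl
  · rw [Nat.gcd_zero_left]

lemma gA_dvd_of_subset {T : Type*} (m : T → ℕ) (V : T → Opens X) {A A' : Finset T} (h : A ⊆ A')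
    (x : X) : gA m V A' x ∣ gA m V A x := by
  classical
  exact Finset.gcd_mono (Finset.filter_subset_filter _ h)

lemma gA_dvd_of_mem {T : Type*} (m : T → ℕ) (V : T → Opens X) {A : Finset T} {t : T} (ht : t ∈ A)
    {x : X} (hx : x ∈ V t) : gA m V A x ∣ m t := by
  classical
  exact Finset.gcd_dvd (Finset.mem_filter.2 ⟨ht, hx⟩)

lemma gA_eventually {T : Type*} (m : T → ℕ) (V : T → Opens X) (A : Finset T) (x : X) :
    ∀ᶠ y in nhds x, gA m V A y ∣ gA m V A x := by
  classical
  have hO : IsOpen (⋂ t ∈ A.filter (fun t => x ∈ V t), (V t : Set X)) :=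
    isOpen_biInter_finset (fun t _ => (V t).isOpen)
  have hx : x ∈ ⋂ t ∈ A.filter (fun t => x ∈ V t), (V t : Set X) := by
    simp only [Set.mem_iInter]
    intro t ht
    exact (Finset.mem_filter.1 ht).2
  filter_upwards [hO.mem_nhds hx] with y hy
  apply Finset.gcd_mono
  intro t ht
  simp only [Set.mem_iInter] at hy
  exact Finset.mem_filter.2 ⟨(Finset.mem_filter.1 ht).1, hy t ht⟩

lemma van_of_mv {d : ℕ} (a b c e : X → ℕ) (ha : ∀ x, a x = Nat.gcd (b x) (c x))
    (he : ∀ x, e x = Nat.lcm (b x) (c x)) (hb : Sheafy b) (hc : Sheafy c)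
    (Vb : Van d (K b)) (Vc : Van d (K c)) (Ve : Van d (K e)) : Van d (K a) := by
  have hab : ∀ x, a x ∣ b x := fun x => by rw [ha x]; exact Nat.gcd_dvd_left _ _
  have hac : ∀ x, a x ∣ c x := fun x => by rw [ha x]; exact Nat.gcd_dvd_right _ _
  have hbe : ∀ x, b x ∣ e x := fun x => by rw [he x]; exact Nat.dvd_lcm_left _ _
  have hce : ∀ x, c x ∣ e x := fun x => by rw [he x]; exact Nat.dvd_lcm_right _ _
  have hS := mvSeq_shortExact a b c e hab hac hbe hce ha he hb hc
  exact Van.ext₃ hS Ve (Van.biprod Vb Vc)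

section

variable [QuasiSeparatedSpace X] {d : ℕ}
  (hfree : ∀ U : Opens X, IsCompact (U : Set X) → Van d (Groth.Agent.Lib.Helper53.freeSheaf U))

include hfree

lemma van_mul_chi (m : ℕ) (hm : 1 ≤ m) (U : Opens X) (hU : IsCompact (U : Set X)) :
    Van d (K (fun x => m * chi U x)) :=
  Van.of_iso ((freeIso U) ≪≫ mulIso m hm (chi U)) (hfree U hU)

theorem van_gA {T : Type*} (m : T → ℕ) (V : T → Opens X) (A : Finset T) :
    (∀ t ∈ A, 1 ≤ m t ∧ IsCompact (V t : Set X)) →
    ∀ (n : ℕ) (W : Opens X), 1 ≤ n → IsCompact (W : Set X) →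
      Van d (K (fun x => Nat.lcm (gA m V A x) n * chi W x)) := by
  classical
  induction A using Finset.induction_on with
  | empty =>
    intro _ n W _ _
    apply Van.of_isZero
    apply isZero_K
    intro x
    simp [gA_empty]
  | insert t₀ A' ht₀ ih =>
    intro hA n W hn hW
    have ih' := ih (fun t ht => hA t (Finset.mem_insert_of_mem ht))
    obtain ⟨hm₀, hV₀⟩ := hA t₀ (Finset.mem_insert_self _ _)
    have hn' : 1 ≤ Nat.lcm (m t₀) n :=
      Nat.pos_of_ne_zero (Nat.lcm_ne_zero (by omega) (by omega))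
    have hW' : IsCompact ((V t₀ ⊓ W : Opens X) : Set X) :=
      QuasiSeparatedSpace.inter_isCompact _ _ (V t₀).isOpen hV₀ W.isOpen hW
    refine van_of_mv _ (fun x => Nat.lcm (gA m V A' x) n * chi W x)
      (fun x => Nat.lcm (m t₀) n * chi (V t₀ ⊓ W) x)
      (fun x => Nat.lcm (gA m V A' x) (Nat.lcm (m t₀) n) * chi (V t₀ ⊓ W) x)
      ?_ ?_ ?_ ?_ (ih' n W hn hW) (van_mul_chi hfree _ hn' _ hW') (ih' _ _ hn' hW')
    · intro x
      simp only [gA_insert, chi_inf]
      by_cases hxW : x ∈ W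
      · by_cases hxV : x ∈ V t₀
        · simp only [if_pos hxV, chi_of_mem hxW, chi_of_mem hxV, mul_one]
          rw [lcm_gcd_distrib, Nat.gcd_comm]
        · simp only [if_neg hxV, chi_of_mem hxW, chi_of_not_mem hxV, mul_one, zero_mul, mul_zero,
            Nat.gcd_zero_left, Nat.gcd_zero_right]
      · simp only [chi_of_not_mem hxW, mul_zero, Nat.gcd_zero_left]
    · intro x
      simp only [chi_inf]
      by_cases hxW : x ∈ W
      · by_cases hxV : x ∈ V t₀
        · simp only [chi_of_mem hxW, chi_of_mem hxV, mul_one]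
          apply Nat.dvd_antisymm
          · exact Nat.lcm_dvd ((Nat.dvd_lcm_left _ _).trans (Nat.dvd_lcm_left _ _))
              (Nat.dvd_lcm_right _ _)
          · exact Nat.lcm_dvd (Nat.lcm_dvd (Nat.dvd_lcm_left _ _)
              ((Nat.dvd_lcm_right _ _).trans (Nat.dvd_lcm_right _ _))) (Nat.dvd_lcm_right _ _)
        · simp only [chi_of_not_mem hxV, zero_mul, mul_zero, Nat.lcm_zero_right]
      · simp only [chi_of_not_mem hxW, mul_zero, Nat.lcm_zero_right]
    · apply sheafy_mul_chi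
      intro x _
      filter_upwards [gA_eventually m V A' x] with y hy
      exact Nat.lcm_dvd (hy.trans (Nat.dvd_lcm_left _ _)) (Nat.dvd_lcm_right _ _)
    · apply sheafy_mul_chi
      intro x _
      exact Filter.Eventually.of_forall (fun _ => dvd_rfl)

end

end Groth.Agent.Lib.Helper4.VanD
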