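import Groth.Agent.Lib.Helper4.VanD
import Mathlib.CategoryTheory.Abelian.GrothendieckAxioms.Colim
import Mathlib.CategoryTheory.Abelian.GrothendieckAxioms.Sheaf
import Mathlib.Algebra.Category.Grp.AB
import Mathlib.Topology.Spectral.Prespectral

set_option autoImplicit false
universe u

open CategoryTheory TopologicalSpace Opposite CategoryTheory.Limits TopCat

namespace Groth.Agent.Lib.Helper4.VanE

open Groth.Agent.Lib.Helper4.VanA Groth.Agent.Lib.Helper4.VanB Groth.Agent.Lib.Helper4.VanC
  Groth.Agent.Lib.Helper4.VanD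

variable {X : TopCat.{u}}

attribute [local instance] IsFiltered.isConnected

theorem van_of_directed_cover [CompactSpace X] [PrespectralSpace X] [QuasiSeparatedSpace X]
    {d : ℕ} {ι : Type u} [Preorder ι] [IsDirected ι (· ≤ ·)] [Nonempty ι]
    (D : ι ⥤ CohTop.Ab X) (c : Cocone D) (hmono : ∀ i, Mono (c.ι.app i))
    (hcov : ∀ (V : Opens X), IsCompact (V : Set X) → ∀ s : ToType (c.pt.obj.obj (op V)),
      ∃ (i : ι) (t : ToType ((D.obj i).obj.obj (op V))), (c.ι.app i).hom.app (op V) t = s)
    (h : ∀ i, Van d (D.obj i)) : Van d c.pt := by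
  let φ : colimit D ⟶ c.pt := colimit.desc D c
  have hα : Mono c.ι := NatTrans.mono_of_mono_app c.ι
  have hφmono : Mono φ :=
    colim.map_mono' c.ι (colimit.isColimit D) (isColimitConstCocone ι c.pt) φ (by
      intro j
      change colimit.ι D j ≫ colimit.desc D c = c.ι.app j ≫ 𝟙 c.pt
      rw [colimit.ι_desc]
      exact (Category.comp_id _).symm)
  have hφepi : Epi φ := by
    rw [← CategoryTheory.Sheaf.isLocallySurjective_iff_epi']
    change TopCat.Presheaf.IsLocallySurjective φ.hom
    rw [TopCat.Presheaf.isLocallySurjective_iff]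
    intro U t x hx
    obtain ⟨V₀, ⟨hV₀o, hV₀c⟩, hxV₀, hV₀U⟩ :=
      PrespectralSpace.isTopologicalBasis.exists_subset_of_mem_open hx U.isOpen
    let N : Opens X := ⟨V₀, hV₀o⟩
    have hNU : N ≤ U := hV₀U
    obtain ⟨i, t', ht'⟩ := hcov N hV₀c (TopCat.Presheaf.restrictOpen t N hNU)
    refine ⟨N, hNU, ⟨(colimit.ι D i).hom.app (op N) t', ?_⟩, hxV₀⟩
    rw [← ht']
    exact congrArg (fun θ : D.obj i ⟶ c.pt => θ.hom.app (op N) t') (colimit.ι_desc c i)
  have : IsIso φ := isIso_of_mono_of_epi φ
  exact Van.of_iso (asIso φ) (Van.of_colimit D (colimit.cocone D) (colimit.isColimit D) h)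

section fg

variable {d : ℕ}
  (hquot : ∀ (U : Opens X), IsCompact (U : Set X) → ∀ (Q : CohTop.Ab X)
    (π : Groth.Agent.Lib.Helper53.freeSheaf U ⟶ Q), Epi π → Van d Q)

include hquot

theorem van_of_fg {S : Type u} (U : S → Opens X) (hU : ∀ a, IsCompact (U a : Set X))
    (A : Finset S) : ∀ (Q : CohTop.Ab X)
      (π : (∐ fun a : A => Groth.Agent.Lib.Helper53.freeSheaf (U a.1)) ⟶ Q), Epi π → Van d Q := by
  classical
  induction A using Finset.induction_on with
  | empty =>
    intro Q π hπ
    apply Van.of_isZero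
    rw [IsZero.iff_id_eq_zero, ← cancel_epi π]
    apply Sigma.hom_ext
    intro b
    exact absurd b.2 (Finset.notMem_empty _)
  | insert a₀ A' ha₀ ih =>
    intro Q π hπ
    let Z : (↥(insert a₀ A') : Type u) → CohTop.Ab X :=
      fun a => Groth.Agent.Lib.Helper53.freeSheaf (U a.1)
    let Z' : (↥A' : Type u) → CohTop.Ab X := fun a => Groth.Agent.Lib.Helper53.freeSheaf (U a.1)
    let j : (∐ Z') ⟶ ∐ Z :=
      Sigma.desc (fun b => Sigma.ι Z ⟨b.1, Finset.mem_insert_of_mem b.2⟩)
    let ρ : (∐ Z') ⟶ Q := j ≫ π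
    have hQ' : Van d (Limits.image ρ) := ih (Limits.image ρ) (factorThruImage ρ) inferInstance
    let S' : ShortComplex (CohTop.Ab X) :=
      ShortComplex.mk (Limits.image.ι ρ) (cokernel.π (Limits.image.ι ρ)) (cokernel.condition _)
    have hS' : S'.ShortExact :=
      { exact := ShortComplex.exact_cokernel _
        mono_f := by dsimp [S']; infer_instance
        epi_g := by dsimp [S']; infer_instance }
    let σ : Groth.Agent.Lib.Helper53.freeSheaf (U a₀) ⟶ cokernel (Limits.image.ι ρ) :=
      Sigma.ι Z ⟨a₀, Finset.mem_insert_self _ _⟩ ≫ π ≫ cokernel.π (Limits.image.ι ρ)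
    have hσ : Epi σ := by
      constructor
      intro R g h hgh
      have hepi : Epi (π ≫ cokernel.π (Limits.image.ι ρ)) := epi_comp _ _
      rw [← cancel_epi (π ≫ cokernel.π (Limits.image.ι ρ))]
      apply Sigma.hom_ext
      intro b
      by_cases hb : b.1 = a₀
      · have hb' : b = ⟨a₀, Finset.mem_insert_self _ _⟩ := Subtype.ext hb
        rw [hb']
        simpa [σ, Category.assoc] using hgh
      · have hbA : b.1 ∈ A' := (Finset.mem_insert.1 b.2).resolve_left hb
        have h2 : ρ ≫ cokernel.π (Limits.image.ι ρ) = 0 := by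
          have hfac := Limits.image.fac ρ
          have h3 : (factorThruImage ρ ≫ Limits.image.ι ρ) ≫ cokernel.π (Limits.image.ι ρ) = 0 := by
            rw [Category.assoc, cokernel.condition, comp_zero]
          rwa [hfac] at h3
        have h0 : Sigma.ι Z b ≫ π ≫ cokernel.π (Limits.image.ι ρ) = 0 := by
          have h1 : Sigma.ι Z b = Sigma.ι Z' ⟨b.1, hbA⟩ ≫ j := by
            simp only [j, colimit.ι_desc, Cofan.mk_ι_app]
          rw [h1, Category.assoc]
          change Sigma.ι Z' ⟨b.1, hbA⟩ ≫ ρ ≫ cokernel.π (Limits.image.ι ρ) = 0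
          rw [h2, comp_zero]
        simp only [Category.assoc]
        rw [reassoc_of% h0, reassoc_of% h0, zero_comp, zero_comp]
    exact Van.ext₂ hS' hQ' (hquot (U a₀) (hU a₀) _ σ hσ)

omit hquot in
noncomputable abbrev secIdx (F : CohTop.Ab X) : Type u :=
  Σ (V : {V : Opens X // IsCompact (V : Set X)}), ToType (F.obj.obj (op V.1))

omit hquot in
noncomputable def stil (F : CohTop.Ab X) (a : secIdx F) :
    Groth.Agent.Lib.Helper53.freeSheaf a.1.1 ⟶ F :=
  (Groth.Agent.Lib.Helper53.freeSheafHomEquiv a.1.1 F).symm a.2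

omit hquot in
noncomputable def sig (F : CohTop.Ab X) (A : Finset (secIdx F)) :
    (∐ fun a : A => Groth.Agent.Lib.Helper53.freeSheaf a.1.1.1) ⟶ F :=
  Sigma.desc (fun a => stil F a.1)

omit hquot in
noncomputable def fA (F : CohTop.Ab X) (A : Finset (secIdx F)) : Subobject F :=
  imageSubobject (sig F A)

omit hquot in
lemma fA_mono (F : CohTop.Ab X) : Monotone (fA F) := by
  intro A A' hAA'
  let jj : (∐ fun a : A => Groth.Agent.Lib.Helper53.freeSheaf a.1.1.1) ⟶
      ∐ fun a : A' => Groth.Agent.Lib.Helper53.freeSheaf a.1.1.1 :=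
    Sigma.desc (fun b => Sigma.ι (fun a : A' => Groth.Agent.Lib.Helper53.freeSheaf a.1.1.1)
      ⟨b.1, hAA' b.2⟩)
  have hfac : sig F A = jj ≫ sig F A' := by
    apply Sigma.hom_ext
    intro b
    simp only [sig, jj, colimit.ι_desc, colimit.ι_desc_assoc, Cofan.mk_ι_app]
  change imageSubobject (sig F A) ≤ imageSubobject (sig F A')
  rw [hfac]
  exact imageSubobject_comp_le _ _

omit hquot in
noncomputable def fD (F : CohTop.Ab X) : Finset (secIdx F) ⥤ CohTop.Ab X :=
  (fA_mono F).functor ⋙ Subobject.underlying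

omit hquot in
noncomputable def fC (F : CohTop.Ab X) : Cocone (fD F) where
  pt := F
  ι := { app := fun A => (fA F A).arrow
         naturality := fun A A' f =>
           (Subobject.underlying_arrow ((fA_mono F).functor.map f)).trans
             (Category.comp_id _).symm }

theorem van_all [CompactSpace X] [PrespectralSpace X] [QuasiSeparatedSpace X] (F : CohTop.Ab X) :
    Van d F := by
  classical
  refine van_of_directed_cover (fD F) (fC F)
    (fun A => inferInstanceAs (Mono (fA F A).arrow)) ?_ ?_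
  · intro V hV s
    let a : secIdx F := ⟨⟨V, hV⟩, s⟩
    refine ⟨{a}, (Sigma.ι (fun b : ({a} : Finset (secIdx F)) =>
        Groth.Agent.Lib.Helper53.freeSheaf b.1.1.1)
      ⟨a, Finset.mem_singleton_self a⟩ ≫ factorThruImageSubobject (sig F {a})).hom.app (op V)
        (Groth.Agent.Lib.Helper26.MVTop.univSec V), ?_⟩
    have h1 : (Sigma.ι (fun b : ({a} : Finset (secIdx F)) =>
        Groth.Agent.Lib.Helper53.freeSheaf b.1.1.1)
        ⟨a, Finset.mem_singleton_self a⟩ ≫ factorThruImageSubobject (sig F {a})) ≫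
          (fA F {a}).arrow = stil F a := by
      rw [Category.assoc]
      change _ ≫ factorThruImageSubobject (sig F {a}) ≫ (imageSubobject (sig F {a})).arrow = _
      rw [imageSubobject_arrow_comp]
      simp only [sig, colimit.ι_desc, Cofan.mk_ι_app]
    have h2 := congrArg (fun θ : Groth.Agent.Lib.Helper53.freeSheaf V ⟶ F =>
      θ.hom.app (op V) (Groth.Agent.Lib.Helper26.MVTop.univSec V)) h1
    refine h2.trans ?_
    have h3 := Groth.Agent.Lib.Helper26.MVTop.freeSheafHomEquiv_eq V F (stil F a)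
    rw [← h3]
    exact Equiv.apply_symm_apply _ _
  · intro A
    have hepi : Epi (factorThruImageSubobject (sig F A)) := inferInstance
    exact van_of_fg hquot (fun a : secIdx F => a.1.1) (fun a => a.1.2) A _
      (factorThruImageSubobject (sig F A)) hepi

end fg

end Groth.Agent.Lib.Helper4.VanE
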