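import Groth.Agent.Lib.Helper4.VanE
import Mathlib.GroupTheory.Archimedean

set_option autoImplicit false
universe u

open CategoryTheory TopologicalSpace Opposite CategoryTheory.Limits TopCat

namespace Groth.Agent.Lib.Helper4.VanF

open Groth.Agent.Lib.Helper4.VanA Groth.Agent.Lib.Helper4.VanB Groth.Agent.Lib.Helper4.VanC
  Groth.Agent.Lib.Helper4.VanD Groth.Agent.Lib.Helper4.VanE

variable {X : TopCat.{u}}

lemma mem_of_gcd_dvd (H : AddSubgroup ℤ) {T : Type*} (B : Finset T) (m : T → ℕ)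
    (hB : ∀ t ∈ B, (m t : ℤ) ∈ H) (n : ℤ) (hn : ((B.gcd m : ℕ) : ℤ) ∣ n) : n ∈ H := by
  obtain ⟨a, rfl⟩ := Int.subgroup_cyclic H
  rw [← AddSubgroup.zmultiples_eq_closure] at hB ⊢
  rw [Int.mem_zmultiples_iff]
  have h1 : a.natAbs ∣ B.gcd m := by
    apply Finset.dvd_gcd
    intro t ht
    have h2 := Int.mem_zmultiples_iff.1 (hB t ht)
    have h3 := Int.natAbs_dvd_natAbs.2 h2
    rwa [Int.natAbs_natCast] at h3
  have h4 : a ∣ ((B.gcd m : ℕ) : ℤ) := Int.natAbs_dvd.1 (Int.natCast_dvd_natCast.2 h1)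
  exact h4.trans hn

lemma comp_cokernel_eq_zero_of_locally {G K' L : CohTop.Ab X} (i : K' ⟶ L) (φ : G ⟶ L)
    (hloc : ∀ (O : Opens X) (s : ToType (G.obj.obj (op O))) (x : X), x ∈ O →
      ∃ (N : Opens X) (hN : N ≤ O), x ∈ N ∧ ∃ k : ToType (K'.obj.obj (op N)),
        i.hom.app (op N) k = L.obj.map (homOfLE hN).op (φ.hom.app (op O) s)) :
    φ ≫ cokernel.π i = 0 := by
  apply ObjectProperty.hom_ext
  ext O s
  obtain ⟨O⟩ := O
  change (φ ≫ cokernel.π i).hom.app (op O) s = 0
  choose N hN hxN k hk using hloc O s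
  refine TopCat.Sheaf.eq_of_locally_eq' (cokernel i) (fun x : O => N x.1 x.2) O
    (fun x => homOfLE (hN x.1 x.2)) ?_ _ _ ?_
  · intro x hx
    exact Opens.mem_iSup.2 ⟨⟨x, hx⟩, hxN x hx⟩
  · intro x
    refine Eq.trans ?_ (map_zero _).symm
    have h1 : (cokernel i).obj.map (homOfLE (hN x.1 x.2)).op ((φ ≫ cokernel.π i).hom.app (op O) s) =
        (cokernel.π i).hom.app (op (N x.1 x.2))
          (L.obj.map (homOfLE (hN x.1 x.2)).op (φ.hom.app (op O) s)) := by
      have := NatTrans.naturality_apply (cokernel.π i).hom (homOfLE (hN x.1 x.2)).op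
        (φ.hom.app (op O) s)
      exact this.symm
    have h2 : (cokernel.π i).hom.app (op (N x.1 x.2)) (i.hom.app (op (N x.1 x.2)) (k x.1 x.2)) = 0 :=
      congrArg (fun θ : K' ⟶ cokernel i => θ.hom.app (op (N x.1 x.2)) (k x.1 x.2))
        (cokernel.condition i)
    exact h1.trans ((congrArg (fun w => (cokernel.π i).hom.app (op (N x.1 x.2)) w)
      (hk x.1 x.2).symm).trans h2)

lemma gA_eq_zero_of_forall_not_mem {T : Type*} (m : T → ℕ) (V : T → Opens X) (A : Finset T)
    (x : X) (h : ∀ t ∈ A, x ∉ V t) : gA m V A x = 0 := by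
  classical
  unfold gA
  rw [Finset.filter_eq_empty_iff.2 (fun t ht => h t ht), Finset.gcd_empty]

section

variable (U : Opens X) {K' : CohTop.Ab X} (i : K' ⟶ K (chi U))

def TT : Type u :=
  {t : ℕ × Opens X // 1 ≤ t.1 ∧ IsCompact (t.2 : Set X) ∧ t.2 ≤ U ∧
    ∃ k : ToType (K'.obj.obj (op t.2)), ∀ y : t.2, fn (g := chi U) (i.hom.app (op t.2) k) y = t.1}

def mT : TT U i → ℕ := fun t => t.1.1
def VT : TT U i → Opens X := fun t => t.1.2

noncomputable def gT (A : Finset (TT U i)) : X → ℕ := gA (mT U i) (VT U i) A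

lemma chi_dvd_gT (A : Finset (TT U i)) (x : X) : chi U x ∣ gT U i A x := by
  by_cases hx : x ∈ U
  · rw [chi_of_mem hx]
    exact one_dvd _
  · have : gT U i A x = 0 :=
      gA_eq_zero_of_forall_not_mem _ _ _ _ (fun t _ hxt => hx (t.2.2.2.1 hxt))
    rw [this]
    exact dvd_zero _

noncomputable def DT : Finset (TT U i) ⥤ CohTop.Ab X where
  obj A := K (gT U i A)
  map {A A'} f := incl (gA_dvd_of_subset (mT U i) (VT U i) (leOfHom f))
  map_id _ := rfl
  map_comp _ _ := rfl

lemma incl_comp_cokernel (A : Finset (TT U i)) :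
    incl (chi_dvd_gT U i A) ≫ cokernel.π i = 0 := by
  classical
  apply comp_cokernel_eq_zero_of_locally
  intro O s x hx
  change ToType ((pre (gT U i A)).obj (op O)) at s
  obtain ⟨W, hWO, hxW, hWc⟩ := exists_nhd_const (g := gT U i A) s x hx
  let B : Finset (TT U i) := A.filter (fun t => x ∈ VT U i t)
  let N₀ : Opens X := ⟨⋂ t ∈ B, (VT U i t : Set X), isOpen_biInter_finset (fun t _ => (VT U i t).isOpen)⟩
  have hxN₀ : x ∈ N₀ := by
    change x ∈ ⋂ t ∈ B, (VT U i t : Set X)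
    simp only [Set.mem_iInter]
    intro t ht
    exact (Finset.mem_filter.1 ht).2
  have hN₀ : ∀ t ∈ B, N₀ ≤ VT U i t := by
    intro t ht y hy
    change y ∈ ⋂ t ∈ B, (VT U i t : Set X) at hy
    simp only [Set.mem_iInter] at hy
    exact hy t ht
  let N : Opens X := W ⊓ N₀
  have hNO : N ≤ O := fun y hy => hWO hy.1
  let H : AddSubgroup ℤ :=
    { carrier := {z | ∃ k : ToType (K'.obj.obj (op N)),
        ∀ y : N, fn (g := chi U) (i.hom.app (op N) k) y = z}
      zero_mem' := ⟨0, fun y => by rw [map_zero]; rfl⟩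
      add_mem' := by
        rintro a b ⟨ka, hka⟩ ⟨kb, hkb⟩
        refine ⟨ka + kb, fun y => ?_⟩
        rw [map_add, fn_add, Pi.add_apply, hka y, hkb y]
      neg_mem' := by
        rintro a ⟨ka, hka⟩
        refine ⟨-ka, fun y => ?_⟩
        rw [map_neg, fn_neg, Pi.neg_apply, hka y] }
  have hB : ∀ t ∈ B, (mT U i t : ℤ) ∈ H := by
    intro t ht
    obtain ⟨kt, hkt⟩ := t.2.2.2.2
    have hle : N ≤ VT U i t := fun y hy => hN₀ t ht hy.2
    refine ⟨K'.obj.map (homOfLE hle).op kt, fun y => ?_⟩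
    have hnat := NatTrans.naturality_apply i.hom (homOfLE hle).op kt
    rw [hnat]
    exact hkt ⟨y.1, hle y.2⟩
  have hdvd : ((B.gcd (mT U i) : ℕ) : ℤ) ∣ fn (g := gT U i A) s ⟨x, hx⟩ :=
    (fn_mem (g := gT U i A) s).2 ⟨x, hx⟩
  obtain ⟨k, hk⟩ := mem_of_gcd_dvd H B (mT U i) hB _ hdvd
  refine ⟨N, hNO, ⟨hxW, hxN₀⟩, k, ?_⟩
  apply fn_injective (g := chi U)
  funext y
  rw [hk y]
  exact (hWc y.1 (hNO y.2) y.2.1).symm

variable [Mono i]

noncomputable def psi (A : Finset (TT U i)) : K (gT U i A) ⟶ K' :=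
  Abelian.monoLift i (incl (chi_dvd_gT U i A)) (incl_comp_cokernel U i A)

lemma psi_comp (A : Finset (TT U i)) : psi U i A ≫ i = incl (chi_dvd_gT U i A) :=
  Abelian.monoLift_comp _ _ _

noncomputable def CT : Cocone (DT U i) where
  pt := K'
  ι := { app := fun A => psi U i A
         naturality := fun A A' f => by
           rw [← cancel_mono i]
           change (incl _ ≫ psi U i A') ≫ i = (psi U i A ≫ 𝟙 K') ≫ i
           rw [Category.assoc, psi_comp, Category.comp_id, psi_comp]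
           rfl }

instance (A : Finset (TT U i)) : Mono (psi U i A) := by
  have : Mono (psi U i A ≫ i) := by
    rw [psi_comp]
    infer_instance
  exact mono_of_mono _ i

lemma cover_CT (V' : Opens X) (hV' : IsCompact (V' : Set X)) (k : ToType (K'.obj.obj (op V'))) :
    ∃ (A : Finset (TT U i)) (t : ToType ((K (gT U i A)).obj.obj (op V'))),
      (psi U i A).hom.app (op V') t = k := by
  classical
  let f : V' → ℤ := fn (g := chi U) (i.hom.app (op V') k)
  have hf : IsLocallyConstant f := (fn_mem (g := chi U) (i.hom.app (op V') k)).1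
  have hfU : ∀ y : V', (chi U y.1 : ℤ) ∣ f y := (fn_mem (g := chi U) (i.hom.app (op V') k)).2
  have : CompactSpace V' := isCompact_iff_compactSpace.1 hV'
  have hfin : (Set.range f).Finite := hf.range_finite
  let Vn : ℤ → Opens X := fun n =>
    ⟨Subtype.val '' (f ⁻¹' {n}), V'.isOpen.isOpenMap_subtype_val _ (hf.isOpen_fiber n)⟩
  have hVnc : ∀ n, IsCompact (Vn n : Set X) := fun n =>
    ((hf.isClosed_fiber n).isCompact).image continuous_subtype_val
  have hVnV : ∀ n, Vn n ≤ V' := by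
    rintro n y ⟨z, _, rfl⟩
    exact z.2
  have hVnf : ∀ n (y : X) (hy : y ∈ Vn n), f ⟨y, hVnV n hy⟩ = n := by
    rintro n y ⟨z, hz, rfl⟩
    exact hz
  have hVnU : ∀ n, n ≠ 0 → Vn n ≤ U := by
    rintro n hn y hy
    by_contra hyU
    have h1 := hfU ⟨y, hVnV n hy⟩
    rw [chi_of_not_mem hyU, hVnf n y hy] at h1
    exact hn (by simpa using h1)
  have hex : ∀ n, ∃ k' : ToType (K'.obj.obj (op (Vn n))),
      ∀ y : Vn n, fn (g := chi U) (i.hom.app (op (Vn n)) k') y = (n.natAbs : ℤ) := by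
    intro n
    have hres : ∀ y : Vn n, fn (g := chi U) (i.hom.app (op (Vn n))
        (K'.obj.map (homOfLE (hVnV n)).op k)) y = n := by
      intro y
      have hnat := NatTrans.naturality_apply i.hom (homOfLE (hVnV n)).op k
      rw [hnat]
      exact hVnf n y.1 y.2
    rcases le_total 0 n with hn | hn
    · refine ⟨K'.obj.map (homOfLE (hVnV n)).op k, fun y => ?_⟩
      rw [hres y, Int.natAbs_of_nonneg hn]
    · refine ⟨-K'.obj.map (homOfLE (hVnV n)).op k, fun y => ?_⟩
      rw [map_neg, fn_neg, Pi.neg_apply, hres y, Int.ofNat_natAbs_of_nonpos hn]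
  let R : Type := {n : ℤ // n ∈ Set.range f ∧ n ≠ 0}
  have hRfin : Finite R := Set.finite_coe_iff.2 (hfin.subset (fun n hn => hn.1))
  have : Fintype R := Fintype.ofFinite R
  let τ : R → TT U i := fun n =>
    ⟨(n.1.natAbs, Vn n.1), Int.natAbs_pos.2 n.2.2, hVnc n.1, hVnU n.1 n.2.2, hex n.1⟩
  let A : Finset (TT U i) := Finset.univ.image τ
  have hmem : f ∈ sec (gT U i A) V' := by
    refine ⟨hf, fun y => ?_⟩
    by_cases hy0 : f y = 0
    · rw [hy0]
      exact dvd_zero _
    · let r : R := ⟨f y, ⟨y, rfl⟩, hy0⟩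
      have hrA : τ r ∈ A := Finset.mem_image_of_mem τ (Finset.mem_univ r)
      have hyV : y.1 ∈ VT U i (τ r) := ⟨y, rfl, rfl⟩
      have h1 : gT U i A y.1 ∣ (f y).natAbs := gA_dvd_of_mem (mT U i) (VT U i) hrA hyV
      exact (Int.natCast_dvd_natCast.2 h1).trans (Int.natAbs_dvd.2 dvd_rfl)
  refine ⟨A, mk (g := gT U i A) f hmem, ?_⟩
  apply Groth.Agent.Lib.Helper53.injective_app_of_mono i V'
  have h2 := congrArg (fun θ : K (gT U i A) ⟶ K (chi U) =>
    θ.hom.app (op V') (mk (g := gT U i A) f hmem)) (psi_comp U i A)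
  refine h2.trans ?_
  apply fn_injective (g := chi U)
  rfl

end

theorem van_sub [CompactSpace X] [PrespectralSpace X] [QuasiSeparatedSpace X] {d : ℕ}
    (U : Opens X) {K' : CohTop.Ab X} (i : K' ⟶ K (chi U)) [Mono i]
    (hfree : ∀ U : Opens X, IsCompact (U : Set X) →
      Van d (Groth.Agent.Lib.Helper53.freeSheaf U)) : Van d K' := by
  refine van_of_directed_cover (DT U i) (CT U i) (fun A => inferInstanceAs (Mono (psi U i A)))
    (cover_CT U i) ?_
  intro A
  have h := van_gA hfree (mT U i) (VT U i) A (fun t _ => ⟨t.2.1, t.2.2.1⟩) 1 ⊤ le_rfl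
    isCompact_univ
  have e : (fun x => Nat.lcm (gA (mT U i) (VT U i) A x) 1 * chi (⊤ : Opens X) x) = gT U i A := by
    funext x
    rw [Nat.lcm_one_right, chi_of_mem (Opens.mem_top x), mul_one]
    rfl
  rw [e] at h
  exact h

theorem van_quot [CompactSpace X] [PrespectralSpace X] [QuasiSeparatedSpace X] {d : ℕ}
    (hfree : ∀ U : Opens X, IsCompact (U : Set X) →
      Van d (Groth.Agent.Lib.Helper53.freeSheaf U))
    (U : Opens X) (hU : IsCompact (U : Set X)) (Q : CohTop.Ab X)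
    (π : Groth.Agent.Lib.Helper53.freeSheaf U ⟶ Q) (hπ : Epi π) : Van d Q := by
  have hK : Van d (kernel π) := van_sub U (kernel.ι π ≫ (freeIso U).hom) hfree
  let S : ShortComplex (CohTop.Ab X) := ShortComplex.mk (kernel.ι π) π (kernel.condition π)
  have hS : S.ShortExact :=
    { exact := ShortComplex.exact_kernel π
      mono_f := by dsimp [S]; infer_instance
      epi_g := hπ }
  exact Van.ext₃ hS hK (hfree U hU)

theorem van_main [CompactSpace X] [PrespectralSpace X] [QuasiSeparatedSpace X] {d : ℕ}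
    (hfree : ∀ U : Opens X, IsCompact (U : Set X) →
      Van d (Groth.Agent.Lib.Helper53.freeSheaf U)) (F : CohTop.Ab X) : Van d F :=
  van_all (van_quot hfree) F

end Groth.Agent.Lib.Helper4.VanF
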