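import Groth.Agent.Lib.Helper4.ZarEt
import Groth.Agent.Lib.Helper4.OverEt

set_option autoImplicit false
open CategoryTheory CategoryTheory.Limits AlgebraicGeometry Opposite TopologicalSpace
universe u

namespace Groth.Agent.Lib.Helper4.ZarContI

variable (S : Scheme.{u})

theorem coverPreserving :
    CoverPreserving (Opens.grothendieckTopology S) S.smallEtaleTopology (EtZar.zarToEt S) where
  cover_preserve {U R} hR := by
    rw [OverEt.mem_iff_forall_exists]
    intro x
    obtain ⟨V, f, hf, hxV⟩ := hR x.1 x.2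
    refine ⟨(EtZar.zarToEt S).obj V, (EtZar.zarToEt S).map f, ⟨x.1, hxV⟩, ?_, ?_⟩
    · exact ⟨V, f, 𝟙 _, hf, (Category.id_comp _).symm⟩
    · apply Subtype.ext
      have h := congrArg (fun g => g.base (⟨x.1, hxV⟩ : V)) (S.homOfLE_ι f.le)
      exact h

instance zarCont : EtZar.ZarCont S :=
  Functor.isContinuous_iff_coverPreserving.2 (coverPreserving S)

end Groth.Agent.Lib.Helper4.ZarContI
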