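import Groth.Prelude.Def_EtZar
import Groth.Prelude.Def_Coh
import Groth.Prelude.Def_CohTop
import Groth.Agent.Lib.Helper4.ExtShift
import Groth.Agent.Lib.Helper4.FreeRep
import Groth.Agent.Lib.Helper28.ConstZero
import Groth.Agent.Lib.Helper28.ExtLift
import Mathlib.Algebra.Category.Grp.Ulift
import Mathlib.CategoryTheory.Sites.Whiskering
import Mathlib.CategoryTheory.Sites.LocallySurjective
import Mathlib.Algebra.Homology.ShortComplex.ExactFunctor
import Mathlib.CategoryTheory.Sites.Equivalence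
import Mathlib.Topology.Sheaves.Flasque

set_option autoImplicit false
open CategoryTheory CategoryTheory.Limits AlgebraicGeometry Opposite TopologicalSpace
universe u

noncomputable section

namespace Groth.Agent.Lib.Helper4.ZarUniv

open Abelian Groth.Agent.Lib.Helper28 Groth.Agent.Lib.Helper4

variable (X : Scheme.{u})

abbrev Zu : Type (u + 1) := Sheaf (Opens.grothendieckTopology X) AddCommGrpCat.{u}

abbrev Φ : Zu X ⥤ EtZar.Ab X :=
  sheafCompose (Opens.grothendieckTopology X) AddCommGrpCat.uliftFunctor.{u + 1, u}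

instance : (Φ X).Additive where
  map_add := by
    intros
    rfl

instance preservesFiniteLimits_Φ : PreservesFiniteLimits (Φ X) := by
  constructor
  intro K _ _
  have h1 : PreservesLimitsOfShape K
      (Φ X ⋙ sheafToPresheaf (Opens.grothendieckTopology X) AddCommGrpCat.{u + 1}) :=
    inferInstanceAs (PreservesLimitsOfShape K
      (sheafToPresheaf (Opens.grothendieckTopology X) AddCommGrpCat.{u} ⋙
        (Functor.whiskeringRight _ _ _).obj AddCommGrpCat.uliftFunctor.{u + 1, u}))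
  exact preservesLimitsOfShape_of_reflects_of_preserves (Φ X)
    (sheafToPresheaf (Opens.grothendieckTopology X) AddCommGrpCat.{u + 1})

theorem epi_Φ_map {F G : Zu X} (g : F ⟶ G) [Epi g] : Epi ((Φ X).map g) := by
  have hls : Sheaf.IsLocallySurjective g := (Sheaf.isLocallySurjective_iff_epi' _ g).2 inferInstance
  have : Sheaf.IsLocallySurjective ((Φ X).map g) := by
    constructor
    intro U s
    refine (Opens.grothendieckTopology X).superset_covering ?_ (hls.imageSieve_mem s.down)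
    intro V f hf
    obtain ⟨t, ht⟩ := hf
    exact ⟨ULift.up t, congrArg ULift.up ht⟩
  exact Sheaf.epi_of_isLocallySurjective _

instance preservesFiniteColimits_Φ : PreservesFiniteColimits (Φ X) := by
  rw [Functor.preservesFiniteColimits_iff_forall_exact_map_and_epi]
  intro S hS
  have := hS.epi_g
  have h := (Functor.preservesFiniteLimits_iff_forall_exact_map_and_mono (Φ X)).1
    (preservesFiniteLimits_Φ X) S hS
  exact ⟨h.1, epi_Φ_map X S.g⟩

abbrev X' : TopCat.{u + 1} := TopCat.of (ULift.{u + 1} X)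

def oiso : Opens X ≃o Opens (X' X) := Homeomorph.opensCongr Homeomorph.ulift.symm

abbrev eqv : Opens X ≌ Opens (X' X) := (oiso X).equivalence

instance : (eqv X).inverse.IsDenseSubsite (Opens.grothendieckTopology (X' X))
    (Opens.grothendieckTopology X) where
  functorPushforward_mem_iff := by
    intro U' S
    constructor
    · intro h x' hx'
      obtain ⟨V, f, ⟨W', g, h', hg, -⟩, hxV⟩ := h x'.down hx'
      exact ⟨W', g, hg, h'.le hxV⟩
    · intro h x hx
      obtain ⟨V', f, hf, hxV⟩ := h (ULift.up x) hx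
      exact ⟨(eqv X).inverse.obj V', (eqv X).inverse.map f, ⟨V', f, 𝟙 _, hf, (Category.id_comp _).symm⟩,
        hxV⟩

abbrev EE : EtZar.Ab X ⥤ CohTop.Ab (X' X) :=
  ((eqv X).sheafCongr (Opens.grothendieckTopology X) (Opens.grothendieckTopology (X' X))
    AddCommGrpCat.{u + 1}).functor

instance : (EE X).Additive where
  map_add := by
    intros
    rfl

def Fl {X : Scheme.{u}} (F : EtZar.Ab X) : Prop :=
  ∀ ⦃U V : Opens X⦄ (i : V ⟶ U), Function.Surjective (F.obj.map i.op)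

theorem inverse_functor (U : Opens X) : (eqv X).inverse.obj ((eqv X).functor.obj U) = U :=
  (oiso X).symm_apply_apply U

theorem surjective_of_fl (S : ShortComplex (EtZar.Ab X)) (hS : S.ShortExact) (hfl : Fl S.X₁)
    (U : Opens X) : Function.Surjective (S.g.hom.app (op U)) := by
  have hS' : (S.map (EE X)).ShortExact := hS.map_of_exact (EE X)
  have : TopCat.Sheaf.IsFlasque (S.map (EE X)).X₁ := by
    constructor
    intro U' V' i
    exact (AddCommGrpCat.epi_iff_surjective _).2 (hfl ((eqv X).inverse.map i.unop))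
  have hepi := TopCat.Sheaf.IsFlasque.epi_of_shortExact (U := (eqv X).functor.obj U) hS'
  have hsurj := (AddCommGrpCat.epi_iff_surjective _).1 hepi
  have key : ∀ (W : Opens X), W = (eqv X).inverse.obj ((eqv X).functor.obj U) →
      Function.Surjective (S.g.hom.app (op W)) := by
    rintro W rfl
    exact hsurj
  exact key U (inverse_functor X U).symm

variable {X}

theorem fl_of_shortExact (S : ShortComplex (EtZar.Ab X)) (hS : S.ShortExact) (h1 : Fl S.X₁)
    (h2 : Fl S.X₂) : Fl S.X₃ := by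
  intro U V i t
  obtain ⟨s₂, hs₂⟩ := surjective_of_fl X S hS h1 V t
  obtain ⟨s₂', hs₂'⟩ := h2 i s₂
  refine ⟨S.g.hom.app (op U) s₂', ?_⟩
  rw [← hs₂, ← hs₂']
  exact (ConcreteCategory.congr_hom (S.g.hom.naturality i.op) s₂').symm

instance mono_opens {U V : Opens X} (i : V ⟶ U) : Mono i := ⟨fun _ _ _ => Subsingleton.elim _ _⟩

theorem fl_of_injective (I : EtZar.Ab X) [Injective I] : Fl I := by
  intro U V i
  exact FreeRep.surjective_map_of_injective.{u + 1} (Opens.grothendieckTopology X) i I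

theorem fl_Φ_of_injective (I : Zu X) [Injective I] : Fl ((Φ X).obj I) := by
  intro U V i s
  obtain ⟨t, ht⟩ := FreeRep.surjective_map_of_injective.{u} (Opens.grothendieckTopology X) i I s.down
  exact ⟨ULift.up t, congrArg ULift.up ht⟩

theorem ext_succ_eq_zero_of_fl (P : EtZar.Ab X)
    (hP : ∀ (S : ShortComplex (EtZar.Ab X)), S.ShortExact → Fl S.X₁ →
      ∀ g : P ⟶ S.X₃, ∃ f : P ⟶ S.X₂, f ≫ S.g = g)
    (n : ℕ) : ∀ (F : EtZar.Ab X), Fl F → ∀ x : Ext.{u + 1} P F (n + 1), x = 0 := by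
  induction n with
  | zero =>
    intro F hF x
    have hS := ExtAdj.injSC_shortExact F
    have h1 : x.comp (Ext.mk₀ (ExtAdj.injSC F).f) (add_zero 1) = 0 := Ext.eq_zero_of_injective _
    obtain ⟨y, hy⟩ := Ext.covariant_sequence_exact₁ P hS x h1 (zero_add 1)
    obtain ⟨g, rfl⟩ := (Ext.mk₀_bijective P (ExtAdj.injSC F).X₃).2 y
    obtain ⟨f, hf⟩ := hP (ExtAdj.injSC F) hS hF g
    rw [← hy, ← hf, ← Ext.mk₀_comp_mk₀, Ext.comp_assoc_of_second_deg_zero,
      hS.comp_extClass, Ext.comp_zero]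
    rfl
  | succ n ih =>
    intro F hF x
    have hS := ExtAdj.injSC_shortExact F
    have h1 : x.comp (Ext.mk₀ (ExtAdj.injSC F).f) (add_zero (n + 1 + 1)) = 0 :=
      Ext.eq_zero_of_injective _
    obtain ⟨y, hy⟩ := Ext.covariant_sequence_exact₁ P hS x h1 rfl
    have hQ : Fl (ExtAdj.injSC F).X₃ :=
      fl_of_shortExact _ hS hF (fl_of_injective (ExtAdj.injSC F).X₂)
    rw [← hy, ih (ExtAdj.injSC F).X₃ hQ y, Ext.zero_comp]
    rfl

abbrev Zc1 (X : Scheme.{u}) : EtZar.Ab X := ConstZero.Zc.{u + 1} (Opens.grothendieckTopology X)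
abbrev Zc0 (X : Scheme.{u}) : Zu X := ConstZero.Zc.{u} (Opens.grothendieckTopology X)

theorem Zc1_lift (S : ShortComplex (EtZar.Ab X)) (hS : S.ShortExact) (h1 : Fl S.X₁)
    (g : Zc1 X ⟶ S.X₃) : ∃ f : Zc1 X ⟶ S.X₂, f ≫ S.g = g :=
  ExtLift.exists_lift_of_iso _ _
    (ConstZero.zeroIso.{u + 1} (Opens.grothendieckTopology X) (isTerminalTop : IsTerminal (⊤ : Opens X)))
    S.g (surjective_of_fl X S hS h1 ⊤) g

theorem ext_Zc1_eq_zero (F : EtZar.Ab X) (hF : Fl F) (n : ℕ) (x : Ext.{u + 1} (Zc1 X) F (n + 1)) :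
    x = 0 :=
  ext_succ_eq_zero_of_fl (Zc1 X) Zc1_lift n F hF x

variable (X)

abbrev hT : IsTerminal (⊤ : Opens X) := isTerminalTop

def one0 : (Zc0 X).obj.obj (op ⊤) := Sheaf.H.equiv₀ (Zc0 X) (hT X) (Ext.mk₀ (𝟙 (Zc0 X)))

def ζ : Zc1 X ⟶ (Φ X).obj (Zc0 X) :=
  Ext.homEquiv₀ ((Sheaf.H.equiv₀ ((Φ X).obj (Zc0 X)) (hT X)).symm (ULift.up (one0 X)))

theorem mk₀_ζ : Ext.mk₀ (ζ X) =
    (Sheaf.H.equiv₀ ((Φ X).obj (Zc0 X)) (hT X)).symm (ULift.up (one0 X)) := by
  unfold ζ
  rw [Ext.mk₀_homEquiv₀_apply]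

theorem equiv₀_mk₀ (N : Zu X) (φ : Zc0 X ⟶ N) :
    Sheaf.H.equiv₀ N (hT X) (Ext.mk₀ φ) = φ.hom.app (op ⊤) (one0 X) := by
  have h := Sheaf.H.equiv₀_naturality (hT X) φ (Ext.mk₀ (𝟙 (Zc0 X)))
  rw [Sheaf.H.map_apply, Ext.mk₀_comp_mk₀, Category.id_comp] at h
  exact h.symm

theorem equiv₀_Ξ (N : Zu X) (e : Ext.{u} (Zc0 X) N 0) :
    Sheaf.H.equiv₀ ((Φ X).obj N) (hT X) (ExtShift.Ξ (Φ X) (ζ X) N 0 e) =
      ULift.up (Sheaf.H.equiv₀ N (hT X) e) := by
  obtain ⟨φ, rfl⟩ := (Ext.mk₀_bijective _ _).2 e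
  rw [ExtShift.Ξ_mk₀, ← Ext.mk₀_comp_mk₀]
  have h := Sheaf.H.equiv₀_naturality (hT X) ((Φ X).map φ) (Ext.mk₀ (ζ X))
  rw [Sheaf.H.map_apply] at h
  rw [← h, mk₀_ζ, AddEquiv.apply_symm_apply, equiv₀_mk₀]
  rfl

theorem Ξ_zero_bijective (N : Zu X) : Function.Bijective (ExtShift.Ξ (Φ X) (ζ X) N 0) := by
  constructor
  · intro e e' h
    have h' := congrArg (Sheaf.H.equiv₀ ((Φ X).obj N) (hT X)) h
    rw [equiv₀_Ξ, equiv₀_Ξ] at h'
    exact (Sheaf.H.equiv₀ N (hT X)).injective (ULift.up_injective h')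
  · intro y
    refine ⟨(Sheaf.H.equiv₀ N (hT X)).symm (Sheaf.H.equiv₀ ((Φ X).obj N) (hT X) y).down, ?_⟩
    apply (Sheaf.H.equiv₀ ((Φ X).obj N) (hT X)).injective
    rw [equiv₀_Ξ, AddEquiv.apply_symm_apply]
    rfl

def UC (N : Zu X) (n : ℕ) : Ext.{u} (Zc0 X) N n ≃+ Ext.{u + 1} (Zc1 X) ((Φ X).obj N) n :=
  ExtShift.ΞEquiv (Φ X) (ζ X) (Ξ_zero_bijective X)
    (fun I _ n x => ext_Zc1_eq_zero _ (fl_Φ_of_injective I) n x) N n

end Groth.Agent.Lib.Helper4.ZarUniv
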