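import Groth.Agent.Lib.Helper4.ZarContI
import Groth.Agent.Lib.Helper4.ExtShift
import Groth.Agent.Lib.Helper4.GaAcyclic
import Groth.Agent.Lib.Helper57.ZarHens3
import Groth.Agent.Lib.Helper4.ZarUniv
import Groth.Prelude.Def_EtGm
import Groth.Agent.Lib.Helper4.FreeRep

set_option autoImplicit false
open CategoryTheory CategoryTheory.Limits AlgebraicGeometry Opposite TopologicalSpace
universe u

noncomputable section

namespace Groth.Agent.Lib.Helper4.ZarGa

open Abelian Groth.Agent.Lib.Helper28 Groth.Agent.Lib.Helper4 Groth.Agent.Lib.Helper57.ZarHens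

section General
universe w v u'
variable {C : Type u'} [Category.{v} C] (J : GrothendieckTopology C)
  [HasSheafify J AddCommGrpCat.{max w v}]

theorem E_naturality_right (U : C) {G H : Sheaf J AddCommGrpCat.{max w v}} (g : G ⟶ H)
    (ψ : FreeRep.P.{w} J U ⟶ G) :
    FreeRep.E.{w} J U H (ψ ≫ g) = g.hom.app (op U) (FreeRep.E.{w} J U G ψ) := by
  simp only [FreeRep.E, Equiv.trans_apply]
  rw [Adjunction.homEquiv_naturality_right, Adjunction.homEquiv_naturality_right]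
  rfl

end General

variable (X : Scheme.{u})

abbrev PP (U : X.Etale) : EtCoh.Ab X := FreeRep.P.{u + 1} X.smallEtaleTopology U

abbrev EP (U : X.Etale) (I : EtCoh.Ab X) : (PP X U ⟶ I) ≃ I.obj.obj (op U) :=
  FreeRep.E.{u + 1} X.smallEtaleTopology U I

theorem PP_lift (U₀ : X.Etale) (G H : EtCoh.Ab X) (g : G ⟶ H)
    (hg : Function.Surjective (g.hom.app (op U₀))) (x : PP X U₀ ⟶ H) :
    ∃ y : PP X U₀ ⟶ G, y ≫ g = x := by
  obtain ⟨s, hs⟩ := hg (EP X U₀ H x)
  refine ⟨(EP X U₀ G).symm s, (EP X U₀ H).injective ?_⟩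
  rw [E_naturality_right, Equiv.apply_symm_apply, hs]

def 𝒢 (G : EtCoh.Ab X) : Prop :=
  ∀ (U₀ : X.Etale), IsAffine U₀.left → ∀ (n : ℕ) (x : Ext.{u + 1} (PP X U₀) G (n + 1)), x = 0

theorem 𝒢_Ga : 𝒢 X (EtCoh.Ga X) := fun U₀ hU₀ n x =>
  GaAcyclic.ext_Ga_vanish X (PP X U₀) U₀ hU₀ (PP_lift X U₀) n x

theorem 𝒢_of_injective (I : EtCoh.Ab X) (_ : Injective I) : 𝒢 X I := fun _ _ _ _ =>
  Ext.eq_zero_of_injective _

theorem 𝒢_coker (G : EtCoh.Ab X) (hG : 𝒢 X G) : 𝒢 X (ExtAdj.injSC G).X₃ := by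
  intro U₀ hU₀ n x
  have hS := ExtAdj.injSC_shortExact G
  have h0 : x.comp hS.extClass rfl = 0 := hG U₀ hU₀ (n + 1) _
  obtain ⟨w, hw⟩ := Ext.covariant_sequence_exact₃ _ hS x rfl h0
  have hw0 : w = 0 := Ext.eq_zero_of_injective _
  rw [← hw, hw0, Ext.zero_comp]

theorem exists_lift_sec (S : ShortComplex (EtCoh.Ab X)) (hS : S.ShortExact) (U₀ : X.Etale)
    (h : ∀ x : Ext.{u + 1} (PP X U₀) S.X₁ 1, x = 0) (t : S.X₃.obj.obj (op U₀)) :
    ∃ s : S.X₂.obj.obj (op U₀), S.g.hom.app (op U₀) s = t := by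
  let ψ : PP X U₀ ⟶ S.X₃ := (EP X U₀ S.X₃).symm t
  have h0 : (Ext.mk₀ ψ).comp hS.extClass (zero_add 1) = 0 := h _
  obtain ⟨w, hw⟩ := Ext.covariant_sequence_exact₃ _ hS (Ext.mk₀ ψ) (zero_add 1) h0
  obtain ⟨w', rfl⟩ := (Ext.mk₀_bijective _ _).2 w
  rw [Ext.mk₀_comp_mk₀] at hw
  have hw' : w' ≫ S.g = ψ := (Ext.mk₀_bijective _ _).1 hw
  refine ⟨EP X U₀ S.X₂ w', ?_⟩
  rw [← E_naturality_right, hw']
  exact (EP X U₀ S.X₃).apply_symm_apply t

theorem shortExact_map_resZar (S : ShortComplex (EtCoh.Ab X)) (hS : S.ShortExact)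
    (hS₁ : 𝒢 X S.X₁) : (S.map (EtZar.resZar X)).ShortExact := by
  have hlim := resZar_preservesFiniteLimits X
  have h := (Functor.preservesFiniteLimits_iff_forall_exact_map_and_mono (EtZar.resZar X)).1 hlim
    S hS
  have hmono : Mono (S.map (EtZar.resZar X)).f := h.2
  have hepi : Epi (S.map (EtZar.resZar X)).g := by
    have : Sheaf.IsLocallySurjective ((EtZar.resZar X).map S.g) := by
      constructor
      intro U s x hx
      obtain ⟨V, hVaff, hxV, hle⟩ := (Opens.isBasis_iff_nbhd.1 X.isBasis_affineOpens) hx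
      obtain ⟨t, ht⟩ := exists_lift_sec X S hS ((EtZar.zarToEt X).obj V)
        (fun y => hS₁ ((EtZar.zarToEt X).obj V) (show IsAffine (V : Scheme.{u}) from hVaff) 0 y) (S.X₃.obj.map ((EtZar.zarToEt X).map (homOfLE hle)).op s)
      exact ⟨V, homOfLE hle, ⟨t, ht⟩, hxV⟩
    exact Sheaf.epi_of_isLocallySurjective ((EtZar.resZar X).map S.g)
  exact ShortComplex.ShortExact.mk h.1


def secEquiv (U : Opens X) :
    ((EtZar.resZar X).obj (EtCoh.Ga X)).obj.obj (op U) ≃+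
      ((ZarUniv.Φ X).obj (Coh.toAb (Coh.structureModule X))).obj.obj (op U) :=
  (AddEquiv.ulift.trans ((Scheme.Opens.topIso U).commRingCatIsoToRingEquiv.toAddEquiv)).trans AddEquiv.ulift.symm

theorem secEquiv_apply (U : Opens X) (x : ((EtZar.resZar X).obj (EtCoh.Ga X)).obj.obj (op U)) :
    secEquiv X U x = ULift.up ((Scheme.Opens.topIso U).hom x.down) := rfl

theorem secEquiv_natural {U V : Opens X} (i : V ⟶ U)
    (x : ((EtZar.resZar X).obj (EtCoh.Ga X)).obj.obj (op U)) :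
    secEquiv X V (((EtZar.resZar X).obj (EtCoh.Ga X)).obj.map i.op x) =
      ((ZarUniv.Φ X).obj (Coh.toAb (Coh.structureModule X))).obj.map i.op (secEquiv X U x) := by
  rw [secEquiv_apply, secEquiv_apply]
  change ULift.up ((Scheme.Opens.topIso V).hom ((X.homOfLE i.le).appTop x.down)) =
    ULift.up (X.presheaf.map i.op ((Scheme.Opens.topIso U).hom x.down))
  congr 1
  have key : (X.homOfLE i.le).appTop ≫ (Scheme.Opens.topIso V).hom =
      (Scheme.Opens.topIso U).hom ≫ X.presheaf.map i.op := by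
    rw [Scheme.homOfLE_appTop, Scheme.Opens.topIso_hom, Scheme.Opens.topIso_hom]
    exact (X.presheaf.map_comp _ _).symm.trans
      ((congrArg X.presheaf.map (Subsingleton.elim _ _)).trans (X.presheaf.map_comp _ _))
  exact ConcreteCategory.congr_hom key x.down

def gaIso : (EtZar.resZar X).obj (EtCoh.Ga X) ≅
    (ZarUniv.Φ X).obj (Coh.toAb (Coh.structureModule X)) :=
  ObjectProperty.isoMk _ (NatIso.ofComponents (fun U => (secEquiv X U.unop).toAddCommGrpIso) (by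
    intro U V i
    ext x
    exact secEquiv_natural X i.unop x))


instance : (ZarEt.pullZar X).Additive := (ZarEt.adjZar X).left_adjoint_additive

instance : PreservesFiniteLimits (ZarEt.pullZar X) := ZarEt.preservesFiniteLimits_pullZar X

instance : PreservesFiniteColimits (ZarEt.pullZar X) := by
  have : PreservesColimitsOfSize.{u + 1, u + 1} (ZarEt.pullZar X) :=
    (ZarEt.adjZar X).leftAdjoint_preservesColimits
  exact PreservesColimitsOfSize.preservesFiniteColimits _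

def leray (G : EtCoh.Ab X) (hG : 𝒢 X G) (A₀ : EtZar.Ab X) (n : ℕ) :
    Ext.{u + 1} A₀ ((EtZar.resZar X).obj G) n ≃+ Ext.{u + 1} ((ZarEt.pullZar X).obj A₀) G n :=
  ExtShift.Θ'Equiv (ZarEt.adjZar X) (𝒢 X)
    (fun G hG => shortExact_map_resZar X _ (ExtAdj.injSC_shortExact G) hG) (𝒢_coker X)
    (𝒢_of_injective X) (fun I _ => ZarEt.injective_resZar X I) A₀ G hG n

def extPostcompEquiv {C : Type*} [Category C] [Abelian C] [HasExt.{u + 1} C] (A : C) {F F' : C}
    (β : F ≅ F') (n : ℕ) : Ext.{u + 1} A F n ≃+ Ext.{u + 1} A F' n where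
  toFun e := e.comp (Ext.mk₀ β.hom) (add_zero n)
  invFun e := e.comp (Ext.mk₀ β.inv) (add_zero n)
  left_inv e := by
    simp only [Ext.comp_assoc_of_third_deg_zero, Ext.mk₀_comp_mk₀, Iso.hom_inv_id, Ext.comp_mk₀_id]
  right_inv e := by
    simp only [Ext.comp_assoc_of_third_deg_zero, Ext.mk₀_comp_mk₀, Iso.inv_hom_id, Ext.comp_mk₀_id]
  map_add' e e' := Ext.add_comp _ _ _ _

theorem nonempty_H_Ga_equiv (p : ℕ) :
    Nonempty (EtCoh.H X (EtCoh.Ga X) p ≃+ Coh.HH X (Coh.structureModule X) p) := by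
  let α := (pullZarConstIso X).app (AddCommGrpCat.of (ULift.{u + 1} ℤ))
  let e1 := extPrecompEquiv α (EtCoh.Ga X) p
  let e2 := leray X (EtCoh.Ga X) (𝒢_Ga X) (ZarUniv.Zc1 X) p
  let e3 := extPostcompEquiv (ZarUniv.Zc1 X) (gaIso X) p
  let e4 := ZarUniv.UC X (Coh.toAb (Coh.structureModule X)) p
  exact ⟨e1.trans (e2.symm.trans (e3.trans e4.symm))⟩

end Groth.Agent.Lib.Helper4.ZarGa
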